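import Cfsg.Agent.Lib.ThreeTransp.Structure

/-!
Primitive 3-transposition groups: blocks, commuting graph, maximality of the commuting subgroup.
-/

set_option autoImplicit false

namespace Cfsg.Agent.ThreeTransp.Primitive

open Cfsg.Agent.ThreeTransp Cfsg.Agent.Components.Basic Cfsg.Agent.Components.Fitting

variable {G : Type*} [Group G] {D : Set G}

/-- The image of a set under conjugation. -/
def cB (g : G) (B : Set G) : Set G := (fun x => g * x * g⁻¹) '' B

theorem cB_mul (g h : G) (B : Set G) : cB (g * h) B = cB g (cB h B) := by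
  simp only [cB, Set.image_image]
  refine Set.image_congr fun x _ => ?_
  group

theorem cB_one (B : Set G) : cB 1 B = B := by simp [cB]

theorem cB_ncard (g : G) (B : Set G) : (cB g B).ncard = B.ncard :=
  Set.ncard_image_of_injective B fun x y h => mul_left_cancel (mul_right_cancel h)

section

variable (hD : Cfsg.IsThreeTranspositionGroup D)
  (htrans : ∀ a ∈ D, ∀ b ∈ D, ∃ g : G, g * a * g⁻¹ = b)
include hD htrans

theorem transitive_of_index [Finite G] {L : Subgroup G} [L.Normal] (hi : L.index ≤ 2) {d : G}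
    (hd : d ∈ D) {x : G} (hx : x ∈ D) : ∃ l ∈ L, l * d * l⁻¹ = x := by
  obtain ⟨g, rfl⟩ := htrans d hd x hx
  by_cases hg : g ∈ L
  · exact ⟨g, hg, rfl⟩
  have hdL : d ∉ L := by
    intro hdL
    have : L = ⊤ := by
      rw [eq_top_iff, ← hD.2.2, Subgroup.closure_le]
      intro y hy
      obtain ⟨k, rfl⟩ := htrans d hd y hy
      exact Subgroup.Normal.conj_mem inferInstance d hdL k
    exact hg (this ▸ Subgroup.mem_top g)
  have h2 : L.index = 2 := by
    have h0 : L.index ≠ 0 := Subgroup.index_ne_zero_of_finite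
    have h1 : L.index ≠ 1 := fun h => hdL (Subgroup.index_eq_one.1 h ▸ Subgroup.mem_top d)
    omega
  refine ⟨g * d, (Subgroup.mul_mem_iff_of_index_two h2).2 (iff_of_false hg hdL), ?_⟩
  rw [mul_inv_rev, mul_assoc g d d, Classes.sq hD hd, mul_one, ← mul_assoc, Classes.inv hD hd]

theorem index_le_two [Finite G] {L : Subgroup G} [L.Normal] {d : G} (hd : d ∈ D)
    (h : ∀ x ∈ D, d⁻¹ * x ∈ L) : L.index ≤ 2 := by
  classical
  let f : Bool → G ⧸ L := fun b => if b then (d : G ⧸ L) else (1 : G ⧸ L)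
  have hf : Function.Surjective f := by
    intro q
    obtain ⟨g, rfl⟩ := QuotientGroup.mk'_surjective L q
    have hg : g ∈ Subgroup.closure D := hD.2.2 ▸ Subgroup.mem_top g
    have hdd : (d : G ⧸ L) * (d : G ⧸ L) = 1 := by
      rw [← QuotientGroup.mk_mul, Classes.sq hD hd]; rfl
    have hmul : ∀ a b : Bool, ∃ c : Bool, f c = f a * f b := by
      intro a b
      cases a <;> cases b
      exacts [⟨false, by simp [f]⟩, ⟨true, by simp [f]⟩, ⟨true, by simp [f]⟩, ⟨false, by simp [f, hdd]⟩]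
    induction hg using Subgroup.closure_induction with
    | mem x hx => exact ⟨true, QuotientGroup.eq.2 (h x hx)⟩
    | one => exact ⟨false, rfl⟩
    | mul x y _ _ hx hy =>
      obtain ⟨a, ha⟩ := hx
      obtain ⟨b, hb⟩ := hy
      obtain ⟨c, hc⟩ := hmul a b
      exact ⟨c, by rw [hc, ha, hb, map_mul]⟩
    | inv x _ hx =>
      obtain ⟨a, ha⟩ := hx
      refine ⟨a, ?_⟩
      rw [map_inv, ← ha]
      cases a
      · simp [f]
      · simpa [f] using eq_inv_of_mul_eq_one_left hdd
  have := Nat.card_le_card_of_surjective f hf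
  rwa [Nat.card_eq_fintype_card (α := Bool), Fintype.card_bool] at this

/-- If the component has index at most 2, conjugation on the class is primitive. -/
theorem primitive_of_index [Finite G] (h2 : ∃ a ∈ D, ∃ b ∈ D, a ≠ b)
    (z2 : Cfsg.pCore 2 G ≤ Subgroup.center G) (z3 : Cfsg.pCore 3 G ≤ Subgroup.center G)
    {L : Subgroup G} [L.Normal] (hL : Cfsg.IsQuasisimple L)
    (hF : Cfsg.generalizedFittingSubgroup G = L ⊔ Subgroup.center G) (hi : L.index ≤ 2) :
    Cfsg.IsPrimitiveUnderConj D := by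
  refine ⟨htrans, h2, fun B hB hblock => ?_⟩
  by_contra hcon
  push_neg at hcon
  obtain ⟨hsub, hBD⟩ := hcon
  obtain ⟨d, hdB, b, hbB, hdb⟩ := hsub
  have hd := hB hdB
  have meet : ∀ g : G, ∀ x ∈ B, g * x * g⁻¹ ∈ B → cB g B = B := fun g x hx hgx =>
    (hblock g).resolve_right fun hdis => Set.disjoint_left.1 hdis ⟨x, hx, rfl⟩ hgx
  have hfix : ∀ x ∈ B, cB x B = B := fun x hx => meet x x hx (by rwa [mul_inv_cancel_right])
  have hout : ∀ e ∈ D, e ∉ B → ∀ x ∈ B, Commute e x → ∀ y ∈ B, Commute e y := by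
    intro e he heB x hx hc y hy
    by_contra hn
    have he' := meet e x hx (by rwa [hc.eq, mul_inv_cancel_right])
    have h1 : e * y * e⁻¹ ∈ B := he' ▸ ⟨y, hy, rfl⟩
    rw [Classes.braid' hD he (hB hy) hn] at h1
    have h1' : y * (y * e * y⁻¹) * y⁻¹ ∈ B := hfix y hy ▸ Set.mem_image_of_mem _ h1
    rw [Classes.inv hD (hB hy)] at h1'
    rw [show y * (y * e * y) * y = (y * y) * e * (y * y) by simp [mul_assoc],
      Classes.sq hD (hB hy), one_mul, mul_one] at h1'
    exact heB h1'
  let S : Subgroup G :=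
    { carrier := {g | cB g B = B}
      one_mem' := cB_one B
      mul_mem' := fun {x y} hx hy => by
        show cB (x * y) B = B
        rw [cB_mul, hy, hx]
      inv_mem' := fun {x} hx => by
        show cB x⁻¹ B = B
        conv_lhs => rw [← hx]
        rw [← cB_mul, inv_mul_cancel, cB_one] }
  set N := S.normalCore with hN
  have hbdN : b * d ∈ N := by
    intro g
    have hfix' : cB (b * d) (cB g⁻¹ B) = cB g⁻¹ B := by
      set e := g⁻¹ * d * g with he
      have heD : e ∈ D := Classes.inv_conj_mem hD g hd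
      have heB' : e ∈ cB g⁻¹ B := ⟨d, hdB, by rw [he, inv_inv]⟩
      by_cases heB : e ∈ B
      · have h1 : cB g⁻¹ B = B := meet g⁻¹ d hdB (by rwa [inv_inv])
        rw [h1, cB_mul, hfix d hdB, hfix b hbB]
      by_cases hc : Commute e d
      · have hcb := hout e heD heB d hdB hc b hbB
        have h1 : cB (g * (b * d) * g⁻¹) B = B := by
          refine meet _ d hdB ?_
          have e1 : g * (b * d) * g⁻¹ * d * (g * (b * d) * g⁻¹)⁻¹ =
              g * ((b * d) * e * (b * d)⁻¹) * g⁻¹ := by rw [he]; group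
          rw [e1, ← (hcb.mul_right hc).eq, mul_inv_cancel_right, he,
            show g * (g⁻¹ * d * g) * g⁻¹ = d by group]
          exact hdB
        conv_rhs => rw [← h1]
        rw [← cB_mul, ← cB_mul]
        congr 1; group
      · have hcb : ¬ Commute e b := fun h => hc (hout e heD heB b hbB h d hdB)
        have key : ∀ x ∈ B, ¬ Commute e x → cB x (cB g⁻¹ B) = cB e B := by
          intro x hx hnx
          have h1 : x * e * x⁻¹ = e * x * e⁻¹ :=
            Classes.braid' hD (hB hx) heD fun h => hnx h.symm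
          have m1 : x * e * x⁻¹ ∈ cB x (cB g⁻¹ B) := ⟨e, heB', rfl⟩
          have m2 : x * e * x⁻¹ ∈ cB e B := ⟨x, hx, h1.symm⟩
          rw [← cB_mul] at m1 ⊢
          obtain ⟨u, hu, hu'⟩ := m1
          obtain ⟨v, hv, hv'⟩ := m2
          have h3 : cB (e⁻¹ * (x * g⁻¹)) B = B := meet _ u hu (by
            rw [show e⁻¹ * (x * g⁻¹) * u * (e⁻¹ * (x * g⁻¹))⁻¹ =
              e⁻¹ * (x * g⁻¹ * u * (x * g⁻¹)⁻¹) * e by group]
            simp only at hu' hv'
            rw [hu', ← hv', show e⁻¹ * (e * v * e⁻¹) * e = v by group]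
            exact hv)
          conv_rhs => rw [← h3]
          rw [← cB_mul]; congr 1; group
        rw [cB_mul b d, key d hdB hc, ← key b hbB hcb, ← cB_mul, Classes.sq hD (hB hbB), cB_one]
    show cB (g * (b * d) * g⁻¹) B = B
    rw [cB_mul, cB_mul, hfix', ← cB_mul, mul_inv_cancel, cB_one]
  have hLN : ¬ L ≤ N := by
    intro hle
    refine hBD (Set.Subset.antisymm hB fun x hx => ?_)
    obtain ⟨l, hl, rfl⟩ := transitive_of_index hD htrans hi hd hx
    have h := Subgroup.normalCore_le S (hle hl)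
    have h' : cB l B = B := h
    exact h' ▸ Set.mem_image_of_mem _ hdB
  have hcen : (N.subgroupOf L) ≤ Subgroup.center L :=
    (quasisimple_eq_top_or_le_center_of_normal hL _).resolve_left fun h =>
      hLN (Subgroup.subgroupOf_eq_top.1 h)
  have hperf : ⁅L, L⁆ = L := by
    haveI := hL.1
    have h := congrArg (Subgroup.map L.subtype) (Group.IsPerfect.commutator_eq_top (G := L))
    rw [commutator_def, Subgroup.map_commutator, ← MonoidHom.range_eq_map, Subgroup.range_subtype] at h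
    exact h
  have hNL : ∀ n ∈ N, ∀ x ∈ L, Commute n x := fun n hn =>
    Structure.commute_of_commutator_central hperf n
      (fun x hx => L.mul_mem (by simpa using Subgroup.Normal.conj_mem inferInstance x hx n⁻¹) (L.inv_mem hx))
      (fun x hx y hy => by
        have hm : n⁻¹ * x * n * x⁻¹ ∈ L :=
          L.mul_mem (by simpa using Subgroup.Normal.conj_mem inferInstance x hx n⁻¹) (L.inv_mem hx)
        have hn' : n⁻¹ * x * n * x⁻¹ ∈ N := by
          rw [show n⁻¹ * x * n * x⁻¹ = n⁻¹ * (x * n * x⁻¹) by group]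
          exact N.mul_mem (N.inv_mem hn) (Subgroup.Normal.conj_mem inferInstance n hn x)
        exact (congrArg Subtype.val (Subgroup.mem_center_iff.1
          (hcen (show (⟨_, hm⟩ : L) ∈ N.subgroupOf L from hn')) ⟨y, hy⟩)).symm)
  -- the centralizer of the generalized Fitting subgroup is central
  set F := Cfsg.generalizedFittingSubgroup G with hFdef
  haveI : F.Characteristic := genFitting_characteristic
  have hCZ : Subgroup.centralizer (F : Set G) ≤ Subgroup.center G := by
    haveI : IsMulCommutative ↥(Subgroup.centralizer (F : Set G)) :=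
      ⟨⟨fun x y => Subtype.ext
        (Subgroup.mem_centralizer_iff.1 y.2 _ (centralizer_genFitting_le x.2))⟩⟩
    exact (le_fitting (isNilpotent_of_isMulCommutative _)).trans
      (Structure.fitting_le_center hD z2 z3)
  have hbd : b * d ∈ Subgroup.center G := by
    refine hCZ (Subgroup.mem_centralizer_iff.2 fun y hy => ?_)
    have hle : F ≤ Subgroup.centralizer ({b * d} : Set G) := by
      rw [hF]
      refine sup_le (fun x hx => Subgroup.mem_centralizer_iff.2 ?_) (Subgroup.center_le_centralizer _)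
      rintro _ rfl
      exact (hNL _ hbdN x hx).eq
    exact (Subgroup.mem_centralizer_iff.1 (hle hy) _ rfl).symm
  obtain ⟨e, he, hde⟩ := Classes.exists_noncomm hD htrans h2 hd
  have hcz := Subgroup.mem_center_iff.1 hbd e
  have hbe : ¬ Commute b e := by
    intro hc
    refine hde ?_
    have : d = b * (b * d) := by rw [← mul_assoc, Classes.sq hD (hB hbB), one_mul]
    rw [this]
    exact hc.mul_left hcz.symm
  refine hdb (Classes.eq_of_conj_eq hD hd (hB hbB) he hde hbe ?_)
  calc d * e * d⁻¹ = b * ((b * d) * e) * d⁻¹ := by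
        rw [← mul_assoc b, ← mul_assoc b, Classes.sq hD (hB hbB), one_mul]
    _ = b * e * b * (d * d⁻¹) := by rw [← hcz]; simp [mul_assoc]
    _ = b * e * b⁻¹ := by rw [mul_inv_cancel, mul_one, Classes.inv hD (hB hbB)]

theorem index_of_connected [Finite G] (h2 : ∃ a ∈ D, ∃ b ∈ D, a ≠ b) {L : Subgroup G} [L.Normal]
    (hL : Cfsg.IsComponent L) (hconn : (Cfsg.commutingGraph D).Connected) : L.index ≤ 2 := by
  obtain ⟨d, hd, -⟩ := h2
  refine index_le_two hD htrans hd fun x hx => ?_
  obtain ⟨w⟩ := hconn.preconnected ⟨d, hd⟩ ⟨x, hx⟩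
  suffices h : ∀ u v : D, (Cfsg.commutingGraph D).Walk u v → (u : G)⁻¹ * (v : G) ∈ L from h _ _ w
  intro u v w
  induction w with
  | nil => rw [inv_mul_cancel]; exact L.one_mem
  | @cons u v z huv p ih =>
    have hc : Commute (u : G) (v : G) := by
      simp only [Cfsg.commutingGraph, SimpleGraph.fromRel_adj] at huv
      exact huv.2.elim id fun h => h.symm
    have := Structure.mul_mem_component hD htrans hL u.2 v.2 (by
      rw [hc.eq, mul_inv_cancel_right, mul_inv_cancel]; exact L.one_mem)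
    rw [show (u : G)⁻¹ * (z : G) = ((u : G)⁻¹ * v) * ((v : G)⁻¹ * z) by group]
    exact L.mul_mem this ih

end

section

variable (hD : Cfsg.IsThreeTranspositionGroup D) (hprim : Cfsg.IsPrimitiveUnderConj D)
include hD hprim

theorem cores_central [Finite G] (hw : ∃ a ∈ D, ∃ b ∈ D, a ≠ b ∧ Commute a b) :
    Cfsg.pCore 2 G ≤ Subgroup.center G ∧ Cfsg.pCore 3 G ≤ Subgroup.center G := by
  obtain ⟨htrans, h2, hblk⟩ := hprim
  constructor <;> by_contra hn
  · haveI : (Cfsg.pCore 2 G).Normal := Cores.pCore_normal 2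
    obtain ⟨a, ha, -⟩ := id hw
    obtain ⟨q, hq, hqa⟩ := Structure.exists_moved hD htrans hn ha
    have hV := (Classes.sameComm_iff_mem hD ha).2
      ⟨hD.2.1 q a ha, Classes.inv_mul_conj_mem hD _ hq⟩
    refine (hblk {v | Classes.SameComm D a v} (fun v hv => hv.1) (fun g => ?_)).elim (fun hs => ?_) fun hs => ?_
    rotate_left
    · exact hqa (hs hV ⟨ha, fun _ _ => Iff.rfl⟩)
    · obtain ⟨e, he, hae⟩ := Classes.exists_noncomm hD htrans h2 ha
      exact hae (Classes.sameComm_commute hD ha (hs.symm ▸ he : e ∈ {v | Classes.SameComm D a v}))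
    · rw [or_iff_not_imp_right, Set.not_disjoint_iff]
      rintro ⟨_, ⟨u, hu, rfl⟩, hgu⟩
      have hga : Classes.SameComm D a (g * a * g⁻¹) := Classes.sameComm_trans hgu
        (Classes.sameComm_conj hD (Classes.sameComm_symm ha hu) g)
      ext x
      constructor
      · rintro ⟨v, hv, rfl⟩
        exact Classes.sameComm_trans hga (Classes.sameComm_conj hD hv g)
      · intro hx
        refine ⟨g⁻¹ * x * g, ?_, by group⟩
        have h := Classes.sameComm_conj hD
          (Classes.sameComm_trans (Classes.sameComm_symm ha hga) hx) g⁻¹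
        rw [inv_inv, show g⁻¹ * (g * a * g⁻¹) * g = a by group] at h
        exact h
  · haveI : (Cfsg.pCore 3 G).Normal := Cores.pCore_normal 3
    obtain ⟨a, ha, b, hb, hab, hc⟩ := id hw
    obtain ⟨q, hq, hqa⟩ := Structure.exists_moved hD htrans hn ha
    have hW := (Classes.samePunct_iff_mem hD ha).2
      ⟨hD.2.1 q a ha, Classes.inv_mul_conj_mem hD _ hq⟩
    refine (hblk {v | Classes.SamePunct D a v} (fun v hv => hv.1) (fun g => ?_)).elim (fun hs => ?_) fun hs => ?_
    rotate_left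
    · exact hqa (hs hW ⟨ha, fun _ _ => Iff.rfl⟩)
    · exact Classes.samePunct_not_commute ha (hs.symm ▸ hb : b ∈ {v | Classes.SamePunct D a v})
        (Ne.symm hab) hc
    · rw [or_iff_not_imp_right, Set.not_disjoint_iff]
      rintro ⟨_, ⟨u, hu, rfl⟩, hgu⟩
      have hga : Classes.SamePunct D a (g * a * g⁻¹) := Classes.samePunct_trans hgu
        (Classes.samePunct_conj hD (Classes.samePunct_symm ha hu) g)
      ext x
      constructor
      · rintro ⟨v, hv, rfl⟩
        exact Classes.samePunct_trans hga (Classes.samePunct_conj hD hv g)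
      · intro hx
        refine ⟨g⁻¹ * x * g, ?_, by group⟩
        have h := Classes.samePunct_conj hD
          (Classes.samePunct_trans (Classes.samePunct_symm ha hga) hx) g⁻¹
        rw [inv_inv, show g⁻¹ * (g * a * g⁻¹) * g = a by group] at h
        exact h

theorem component_index [Finite G] {L : Subgroup G} (hL : Cfsg.IsComponent L) : L.index ≤ 2 := by
  obtain ⟨htrans, h2, hblk⟩ := hprim
  haveI := Structure.component_normal hD hL
  obtain ⟨d, hd, -⟩ := id h2
  set O : Set G := {x | ∃ l ∈ L, l * d * l⁻¹ = x} with hO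
  refine (hblk O (by rintro x ⟨l, -, rfl⟩; exact hD.2.1 l d hd) (fun g => ?_)).elim (fun hs => ?_) fun hs => ?_
  rotate_left
  · refine absurd (fun x hx => ?_) (Structure.component_not_commute hD htrans hL hd)
    have h := hs (show x * d * x⁻¹ ∈ O from ⟨x, hx, rfl⟩) (show d ∈ O from ⟨1, L.one_mem, by simp⟩)
    exact (mul_inv_eq_iff_eq_mul.1 h).symm
  · refine index_le_two hD htrans hd fun x hx => ?_
    rw [← hs] at hx
    obtain ⟨l, hl, rfl⟩ := hx
    rw [show d⁻¹ * (l * d * l⁻¹) = (d⁻¹ * l * d) * l⁻¹ by group]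
    exact L.mul_mem (by simpa using Subgroup.Normal.conj_mem inferInstance l hl d⁻¹) (L.inv_mem hl)
  · rw [or_iff_not_imp_right, Set.not_disjoint_iff]
    rintro ⟨_, ⟨_, ⟨u, hu, rfl⟩, rfl⟩, v, hv, hgv⟩
    simp only at hgv
    have hn : ∀ x ∈ L, g * x * g⁻¹ ∈ L := fun x hx => Subgroup.Normal.conj_mem inferInstance x hx g
    have key : g * d * g⁻¹ = (g * u⁻¹ * g⁻¹ * v) * d * (g * u⁻¹ * g⁻¹ * v)⁻¹ := by
      calc g * d * g⁻¹ = g * u⁻¹ * g⁻¹ * (g * (u * d * u⁻¹) * g⁻¹) * (g * u * g⁻¹) := by group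
        _ = g * u⁻¹ * g⁻¹ * (v * d * v⁻¹) * (g * u * g⁻¹) := by rw [hgv]
        _ = _ := by group
    set m := g * u⁻¹ * g⁻¹ * v with hm
    have hmL : m ∈ L := L.mul_mem (hn _ (L.inv_mem hu)) hv
    ext x
    constructor
    · rintro ⟨_, ⟨l, hl, rfl⟩, rfl⟩
      refine ⟨g * l * g⁻¹ * m, L.mul_mem (hn l hl) hmL, ?_⟩
      calc g * l * g⁻¹ * m * d * (g * l * g⁻¹ * m)⁻¹
          = g * l * g⁻¹ * (m * d * m⁻¹) * (g * l * g⁻¹)⁻¹ := by group
        _ = g * (l * d * l⁻¹) * g⁻¹ := by rw [← key]; group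
    · rintro ⟨l, hl, rfl⟩
      refine ⟨g⁻¹ * (l * m⁻¹) * g * d * (g⁻¹ * (l * m⁻¹) * g)⁻¹, ⟨_, ?_, rfl⟩, ?_⟩
      · simpa using Subgroup.Normal.conj_mem inferInstance _ (L.mul_mem hl (L.inv_mem hmL)) g⁻¹
      · calc g * (g⁻¹ * (l * m⁻¹) * g * d * (g⁻¹ * (l * m⁻¹) * g)⁻¹) * g⁻¹
            = l * m⁻¹ * (g * d * g⁻¹) * m * l⁻¹ := by group
          _ = l * d * l⁻¹ := by rw [key]; group

/-- Conjugation as an automorphism of the commuting graph. -/
theorem connected (hw : ∃ a ∈ D, ∃ b ∈ D, a ≠ b ∧ Commute a b) :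
    (Cfsg.commutingGraph D).Connected := by
  obtain ⟨htrans, h2, hblk⟩ := hprim
  obtain ⟨a, ha, b, hb, hab, hc⟩ := hw
  haveI : Nonempty D := ⟨⟨a, ha⟩⟩
  have hconj : ∀ (g : G) (x y : D), (Cfsg.commutingGraph D).Reachable x y →
      (Cfsg.commutingGraph D).Reachable ⟨g * x * g⁻¹, hD.2.1 g x x.2⟩ ⟨g * y * g⁻¹, hD.2.1 g y y.2⟩ := by
    intro g x y h
    let f : (Cfsg.commutingGraph D) →g (Cfsg.commutingGraph D) :=
      { toFun := fun z => ⟨g * z * g⁻¹, hD.2.1 g z z.2⟩
        map_rel' := fun {u v} huv => by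
          simp only [Cfsg.commutingGraph, SimpleGraph.fromRel_adj] at huv ⊢
          refine ⟨fun h => huv.1 (Subtype.ext (mul_left_cancel (mul_right_cancel (congrArg Subtype.val h)))), ?_⟩
          exact huv.2.imp Basic.commute_conj.2 Basic.commute_conj.2 }
    exact h.map f
  set C : Set G := {x | ∃ hx : x ∈ D, (Cfsg.commutingGraph D).Reachable ⟨a, ha⟩ ⟨x, hx⟩} with hC
  refine (hblk C (fun x hx => hx.1) (fun g => ?_)).elim (fun hs => ?_) fun hs => ?_
  rotate_left
  · refine absurd (hs ⟨ha, SimpleGraph.Reachable.refl _⟩ ⟨hb, ?_⟩) hab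
    refine SimpleGraph.Adj.reachable ?_
    simp only [Cfsg.commutingGraph, SimpleGraph.fromRel_adj]
    exact ⟨fun h => hab (congrArg Subtype.val h), Or.inl hc⟩
  · refine ⟨fun x y => ?_⟩
    have hx : (x : G) ∈ C := hs.symm ▸ x.2
    have hy : (y : G) ∈ C := hs.symm ▸ y.2
    exact hx.2.symm.trans hy.2
  · rw [or_iff_not_imp_right, Set.not_disjoint_iff]
    rintro ⟨_, ⟨u, ⟨hu, hau⟩, rfl⟩, hgu, hau'⟩
    have h1 := hconj g _ _ hau
    ext x
    constructor
    · rintro ⟨v, ⟨hv, hav⟩, rfl⟩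
      exact ⟨hD.2.1 g v hv, hau'.trans (h1.symm.trans (hconj g _ _ hav))⟩
    · rintro ⟨hx, hax⟩
      have hx' : g⁻¹ * x * g ∈ D := Classes.inv_conj_mem hD g hx
      refine ⟨g⁻¹ * x * g, ⟨hx', ?_⟩, by group⟩
      have h2 := hconj g⁻¹ _ _ (h1.trans (hau'.symm.trans hax))
      simpa [mul_assoc] using h2

/-- Homogeneous sets for the commuting graph are trivial. -/
theorem module_trivial [Finite G] (hconn : (Cfsg.commutingGraph D).Connected) {M : Set G}
    (hM : M ⊆ D)
    (hmod : ∀ y ∈ D, y ∉ M → ∀ a ∈ M, ∀ b ∈ M, Commute y a → Commute y b) :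
    M.Subsingleton ∨ M = D := by
  obtain ⟨htrans, -, hblk⟩ := hprim
  by_contra hcon
  push_neg at hcon
  obtain ⟨hsub, hMD⟩ := hcon
  let P : Set (Set G) := {N | N ⊆ D ∧ M ⊆ N ∧ N ≠ D ∧
    ∀ y ∈ D, y ∉ N → ∀ a ∈ N, ∀ b ∈ N, Commute y a → Commute y b}
  obtain ⟨N, hN, hmax⟩ := Set.Finite.exists_maximalFor Set.ncard P (Set.toFinite P)
    ⟨M, hM, subset_rfl, hMD, hmod⟩
  obtain ⟨hND, hMN, hNne, hNmod⟩ := hN
  refine hNne ((hblk N hND fun g => ?_).resolve_left fun h => hsub.not_subsingleton (h.anti hMN))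
  rw [or_iff_not_imp_right, Set.not_disjoint_iff]
  rintro ⟨p, hpg, hpN⟩
  set N' := (fun x => g * x * g⁻¹) '' N with hN'
  have hN'D : N' ⊆ D := by rintro _ ⟨x, hx, rfl⟩; exact hD.2.1 g x (hND hx)
  have hN'mod : ∀ y ∈ D, y ∉ N' → ∀ a ∈ N', ∀ b ∈ N', Commute y a → Commute y b := by
    rintro y hy hyN _ ⟨a, ha, rfl⟩ _ ⟨b, hb, rfl⟩ hc
    have key : ∀ x : G, Commute y (g * x * g⁻¹) ↔ Commute (g⁻¹ * y * g) x := fun x => by
      conv_lhs => rw [show y = g * (g⁻¹ * y * g) * g⁻¹ by group]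
      exact Basic.commute_conj
    exact (key b).2 (hNmod _ (Classes.inv_conj_mem hD g hy)
      (fun h => hyN ⟨_, h, by group⟩) a ha b hb ((key a).1 hc))
  have hun : N ∪ N' ≠ D := by
    intro hun
    -- all relations between the two sides are equal
    by_cases hsubN : N' ⊆ N
    · exact hNne (by rwa [Set.union_eq_left.2 hsubN] at hun)
    obtain ⟨b, hbN', hbN⟩ := Set.not_subset.1 hsubN
    have hnle : ¬ N ⊆ N' := fun h => hbN (by
      have : N' = N := (Set.eq_of_subset_of_ncard_le h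
        (Set.ncard_image_of_injective N fun x y h => mul_left_cancel (mul_right_cancel h)).le
        (Set.toFinite _)).symm
      rwa [this] at hbN')
    obtain ⟨a, haN, haN'⟩ := Set.not_subset.1 hnle
    have rel : ∀ x ∈ N, x ∉ N' → ∀ y ∈ N', (Commute x y ↔ Commute a b) := by
      intro x hx hx' y hy
      have h1 : Commute x y ↔ Commute x b :=
        ⟨hN'mod x (hND hx) hx' y hy b hbN', hN'mod x (hND hx) hx' b hbN' y hy⟩
      have h2 : Commute x b ↔ Commute a b :=
        ⟨fun h => (hNmod b (hN'D hbN') hbN x hx a haN h.symm).symm,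
          fun h => (hNmod b (hN'D hbN') hbN a haN x hx h.symm).symm⟩
      exact h1.trans h2
    have hcov : ∀ x ∈ D, x ∉ N' → x ∈ N := fun x hx hx' =>
      ((hun.symm ▸ hx : x ∈ N ∪ N')).resolve_right hx'
    by_cases hab : Commute a b
    · have hinv : ∀ z ∈ D, ∀ x ∈ D, x ∉ N' → z * x * z⁻¹ ∈ D ∧ z * x * z⁻¹ ∉ N' := by
        intro z hz x hx hx'
        refine ⟨hD.2.1 z x hx, fun hn => ?_⟩
        by_cases hz' : z ∈ N'
        · rw [((rel x (hcov x hx hx') hx' z hz').2 hab).symm.eq, mul_inv_cancel_right] at hn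
          exact hx' hn
        · have hc := (rel z (hcov z hz hz') hz' _ hn).2 hab
          have hc' := (Basic.commute_conj (g := z⁻¹)).2 hc
          rw [show z⁻¹ * z * z⁻¹⁻¹ = z by group,
            show z⁻¹ * (z * x * z⁻¹) * z⁻¹⁻¹ = x by group] at hc'
          rw [hc'.eq, mul_inv_cancel_right] at hn
          exact hx' hn
      obtain ⟨h, hh⟩ := htrans a (hND haN) b (hN'D hbN')
      have hall : ∀ g' : G, ∀ x ∈ D, x ∉ N' → g' * x * g'⁻¹ ∈ D ∧ g' * x * g'⁻¹ ∉ N' := by
        intro g'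
        have hg : g' ∈ Subgroup.closure D := hD.2.2 ▸ Subgroup.mem_top g'
        induction hg using Subgroup.closure_induction'' with
        | one => intro x hx hx'; simpa using ⟨hx, hx'⟩
        | mem y hy => exact hinv y hy
        | inv_mem y hy => rw [Classes.inv hD hy]; exact hinv y hy
        | mul y z _ _ hy hz =>
          intro x hx hx'
          have h1 := hz x hx hx'
          have h2 := hy _ h1.1 h1.2
          rwa [show y * (z * x * z⁻¹) * y⁻¹ = y * z * x * (y * z)⁻¹ by group] at h2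
      exact (hh ▸ hall h a (hND haN) haN').2 hbN'
    · obtain ⟨w⟩ := hconn.preconnected ⟨a, hND haN⟩ ⟨b, hN'D hbN'⟩
      suffices h : ∀ u v : D, (Cfsg.commutingGraph D).Walk u v → (u : G) ∉ N' → (v : G) ∉ N' from
        h _ _ w haN' hbN'
      intro u v w
      induction w with
      | nil => exact id
      | @cons u v z huv p ih =>
        intro hu
        refine ih fun hv => hab ((rel u (hcov u u.2 hu) hu v hv).1 ?_)
        simp only [Cfsg.commutingGraph, SimpleGraph.fromRel_adj] at huv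
        exact huv.2.elim id fun h => h.symm
  have hmodU : ∀ y ∈ D, y ∉ N ∪ N' → ∀ a ∈ N ∪ N', ∀ b ∈ N ∪ N', Commute y a → Commute y b := by
    intro y hy hyU a ha b hb hc
    simp only [Set.mem_union, not_or] at hyU
    have hp : Commute y p := ha.elim (fun h => hNmod y hy hyU.1 a h p hpN hc)
      fun h => hN'mod y hy hyU.2 a h p hpg hc
    exact hb.elim (fun h => hNmod y hy hyU.1 p hpN b h hp)
      fun h => hN'mod y hy hyU.2 p hpg b h hp
  have hle := hmax (show N ∪ N' ∈ P from
    ⟨Set.union_subset hND hN'D, hMN.trans Set.subset_union_left, hun, hmodU⟩)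
    (Set.ncard_le_ncard Set.subset_union_left (Set.toFinite _))
  have h3 : N = N ∪ N' := Set.eq_of_subset_of_ncard_le Set.subset_union_left hle (Set.toFinite _)
  have h4 : N' ⊆ N := h3 ▸ Set.subset_union_right
  exact Set.eq_of_subset_of_ncard_le h4
    (Set.ncard_image_of_injective N fun x y h => mul_left_cancel (mul_right_cancel h)).ge (Set.toFinite _)

/-- The commuting subgroup of a member is maximal among `D`-subgroups. -/
theorem maximal [Finite G] (hw : ∃ a ∈ D, ∃ b ∈ D, a ≠ b ∧ Commute a b) {d : G} (hd : d ∈ D)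
    (H : Subgroup G) (hH : Cfsg.IsDSubgroup D H)
    (hle : Subgroup.closure {y : G | y ∈ D ∧ Commute d y} ≤ H) :
    H = Subgroup.closure {y : G | y ∈ D ∧ Commute d y} ∨ H = ⊤ := by
  by_cases hsub : ∀ y ∈ D, y ∈ H → Commute d y
  · refine Or.inl (le_antisymm ?_ hle)
    conv_lhs => rw [← hH]
    exact Subgroup.closure_mono fun y hy => ⟨hy.1, hsub y hy.1 hy.2⟩
  push_neg at hsub
  obtain ⟨e, he, heH, hde⟩ := hsub
  right
  set O : Set G := {x | ∃ h ∈ H, h * d * h⁻¹ = x} with hO
  have hdH : d ∈ H := hle (Subgroup.subset_closure ⟨hd, Commute.refl d⟩)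
  have hOD : O ⊆ D := by rintro _ ⟨h, -, rfl⟩; exact hD.2.1 h d hd
  have hOH : ∀ x ∈ O, x ∈ H := by
    rintro _ ⟨h, hh, rfl⟩; exact H.mul_mem (H.mul_mem hh hdH) (H.inv_mem hh)
  have hnbr : ∀ x ∈ O, ∀ y ∈ D, Commute y x → y ∈ H := by
    rintro _ ⟨h, hh, rfl⟩ y hy hc
    have h1 : h⁻¹ * y * h ∈ H := by
      refine hle (Subgroup.subset_closure ⟨Classes.inv_conj_mem hD h hy, ?_⟩)
      have h2 := (Basic.commute_conj (g := h⁻¹)).2 hc.symm
      rwa [show h⁻¹ * (h * d * h⁻¹) * h⁻¹⁻¹ = d by group, inv_inv] at h2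
    simpa [mul_assoc] using H.mul_mem (H.mul_mem hh h1) (H.inv_mem hh)
  have hjoin : ∀ x ∈ O, ∀ y ∈ D, y ∈ H → ¬ Commute x y → y ∈ O := by
    rintro _ ⟨h, hh, rfl⟩ y hy hyH hc
    have hxH := hOH _ ⟨h, hh, rfl⟩
    have hxD := hD.2.1 h d hd
    refine ⟨h * d * h⁻¹ * y * h, H.mul_mem (H.mul_mem hxH hyH) hh, ?_⟩
    set x := h * d * h⁻¹ with hx
    calc x * y * h * d * (x * y * h)⁻¹ = x * (y * x * y⁻¹) * x⁻¹ := by rw [hx]; group
      _ = x * (x * y * x⁻¹) * x⁻¹ := by rw [Classes.braid' hD hxD hy hc]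
      _ = (x * x) * y * (x * x) := by rw [Classes.inv hD hxD]; simp [mul_assoc]
      _ = y := by rw [Classes.sq hD hxD, one_mul, mul_one]
  have hdO : d ∈ O := ⟨1, H.one_mem, by simp⟩
  have heO : e ∈ O := hjoin d hdO e he heH hde
  refine (module_trivial hD hprim (connected hD hprim hw) hOD
    (fun y hy hyO a ha b hb hc => ?_)).elim (fun hs => ?_) fun hs => ?_
  rotate_left
  · exact absurd (hs hdO heO ▸ Commute.refl d) hde
  · rw [eq_top_iff, ← hD.2.2, Subgroup.closure_le]
    exact fun y hy => hOH y (hs.symm ▸ hy)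
  · by_contra hn
    exact hyO (hjoin b hb y hy (hnbr a ha y hy hc) fun h => hn h.symm)

end

end Cfsg.Agent.ThreeTransp.Primitive
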