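import Mathlib
import Cfsg.Prelude.Def_FischerSpaces
import Cfsg.Agent.S0798
import Cfsg.Agent.Lib.Classical.OrthSimple
import Cfsg.Agent.Lib.Forms.Max.OrthBase
import Cfsg.Agent.Lib.Components.Basic
import Cfsg.Agent.Lib.ThreeTransp.Primitive

/-!
Reflection classes of orthogonal groups over the field with three elements.
-/

set_option autoImplicit false

namespace Cfsg.Agent.ThreeTransp.Ortho3

open scoped commutatorElement

open Matrix Cfsg.Agent.Forms.QuadStd Cfsg.Agent.Forms.Reflections Cfsg.Agent.Forms.Spinor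

variable {n : ℕ} {Q : QuadraticForm (ZMod 3) (Fin n → ZMod 3)}

local notation "Bp" => QuadraticMap.polar Q

theorem commutator_le_of_index_two {G : Type*} [Group G] {H : Subgroup G} (h : H.index = 2) :
    commutator G ≤ H := by
  rw [commutator_def, Subgroup.commutator_le]
  intro x _ y _
  rw [commutatorElement_def]
  simp only [Subgroup.mul_mem_iff_of_index_two h, inv_mem_iff]
  tauto

theorem two_ne : (2 : ZMod 3) ≠ 0 := by decide

theorem value_cases {x c : ZMod 3} (hx : x ≠ 0) (hc : c ≠ 0) : x = c ∨ x = -c := by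
  revert x c; decide

theorem sq_ne {c : ZMod 3} (hc : c ≠ 0) : (0 : ZMod 3) ^ 2 ≠ 4 * (-c) ^ 2 := by
  revert c; decide

theorem neg_ne_self {c : ZMod 3} (hc : c ≠ 0) : -c ≠ c := by
  revert c; decide

theorem inv_reflect (v : Fin n → ZMod 3) : (reflect Q v)⁻¹ = reflect Q v :=
  inv_eq_of_mul_eq_one_right (reflect_sq v)

theorem mem_norm {c : ZMod 3} {g : Cfsg.isometryGroup (ZMod 3) ⇑Q} :
    g ∈ Cfsg.reflectionsOfNorm (⇑Q) c ↔ ∃ v, Q v = c ∧ g = reflect Q v := by
  constructor
  · rintro ⟨v, hv, hg⟩; exact ⟨v, hv, Subtype.ext (Units.ext hg)⟩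
  · rintro ⟨v, hv, rfl⟩; exact ⟨v, hv, rfl⟩

theorem reflect_mem {c : ZMod 3} {v : Fin n → ZMod 3} (hv : Q v = c) :
    reflect Q v ∈ Cfsg.reflectionSubgroup (⇑Q) c :=
  Subgroup.subset_closure (mem_norm.2 ⟨v, hv, rfl⟩)

theorem conj_mem_norm {c : ZMod 3} {x : Cfsg.isometryGroup (ZMod 3) ⇑Q}
    (hx : x ∈ Cfsg.reflectionsOfNorm (⇑Q) c) (g : Cfsg.isometryGroup (ZMod 3) ⇑Q) :
    g * x * g⁻¹ ∈ Cfsg.reflectionsOfNorm (⇑Q) c := by
  obtain ⟨v, hv, rfl⟩ := mem_norm.1 hx
  exact mem_norm.2 ⟨act g v, by rw [act_map, hv], reflect_conj g v⟩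

theorem refl_normal (c : ZMod 3) : (Cfsg.reflectionSubgroup (⇑Q) c).Normal := by
  refine ⟨fun x hx g => ?_⟩
  suffices Cfsg.reflectionSubgroup (⇑Q) c ≤
      (Cfsg.reflectionSubgroup (⇑Q) c).comap (MulAut.conj g).toMonoidHom from this hx
  exact (Subgroup.closure_le _).2 fun y hy => Subgroup.subset_closure (conj_mem_norm hy g)

section

variable (hn : 5 ≤ n) (hQ : (QuadraticMap.polarBilin Q).Nondegenerate)
include hn hQ

/-- A vector of any prescribed non-zero value orthogonal to two given anisotropic vectors. -/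
theorem exists_perp {a b : Fin n → ZMod 3} (ha : Q a ≠ 0) (d : ZMod 3) :
    ∃ e, Q e = d ∧ Bp a e = 0 ∧ Bp b e = 0 := by
  classical
  set S := Submodule.span (ZMod 3) ({a, b} : Set (Fin n → ZMod 3)) with hS
  have haS : a ∈ S := Submodule.subset_span (Set.mem_insert a _)
  have hbS : b ∈ S := Submodule.subset_span (Set.mem_insert_of_mem _ rfl)
  have hS2 : Module.finrank (ZMod 3) S ≤ 2 := by
    have h1 : S = Submodule.span (ZMod 3) {a} ⊔ Submodule.span (ZMod 3) {b} := by
      rw [hS, Submodule.span_insert]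
    have h2 := Submodule.finrank_sup_add_finrank_inf_eq (Submodule.span (ZMod 3) {a})
      (Submodule.span (ZMod 3) {b})
    rw [← h1] at h2
    have h3 := finrank_span_le_card (R := ZMod 3) ({a} : Set (Fin n → ZMod 3))
    have h4 := finrank_span_le_card (R := ZMod 3) ({b} : Set (Fin n → ZMod 3))
    simp at h3 h4
    omega
  set W := (polB Q).orthogonal S with hW
  have hWperp : (polB Q).orthogonal W = S :=
    LinearMap.BilinForm.orthogonal_orthogonal (B := polB Q) hQ polB_refl S
  have hWd : Module.finrank (ZMod 3) W = n - Module.finrank (ZMod 3) S := by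
    rw [hW, finrank_orth hQ, Fintype.card_fin]
  obtain ⟨x, hx, hQx⟩ : ∃ x ∈ W, Q x ≠ 0 := by
    by_contra hc
    push Not at hc
    have hle : W ≤ (polB Q).orthogonal W := fun p hp => mem_orth.2 fun w hw => by
      simp [QuadraticMap.polar, hc _ (W.add_mem hw hp), hc _ hp, hc _ hw]
    have := Submodule.finrank_mono hle
    rw [hWperp] at this
    omega
  obtain ⟨y, hy, hxy, hQy⟩ : ∃ y ∈ W, Bp x y = 0 ∧ Q y ≠ 0 := by
    by_contra hc
    push Not at hc
    set T := W ⊓ LinearMap.ker (polB Q x) with hT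
    have hTm : ∀ t ∈ T, t ∈ W ∧ Bp x t = 0 := fun t ht =>
      ⟨(Submodule.mem_inf.1 ht).1, LinearMap.mem_ker.1 (Submodule.mem_inf.1 ht).2⟩
    have hT0 : ∀ t ∈ T, Q t = 0 := fun t ht => hc t (hTm t ht).1 (hTm t ht).2
    have hTT : ∀ s ∈ T, ∀ t ∈ T, Bp s t = 0 := fun s hs t ht => by
      simp [QuadraticMap.polar, hT0 _ (T.add_mem hs ht), hT0 _ hs, hT0 _ ht]
    have hTS : T ≤ S := by
      rw [← hWperp]
      intro t ht
      refine mem_orth.2 fun w hw => ?_
      set k := Bp x w * (2 * Q x)⁻¹ with hk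
      have hw' : w - k • x ∈ T := by
        refine Submodule.mem_inf.2 ⟨W.sub_mem hw (W.smul_mem _ hx), LinearMap.mem_ker.2 ?_⟩
        rw [polB_apply, QuadraticMap.polar_sub_right, QuadraticMap.polar_smul_right,
          QuadraticMap.polar_self, hk, nsmul_eq_mul, smul_eq_mul]
        have h2 := two_ne
        push_cast
        field_simp
        ring
      have h1 := hTT _ hw' t ht
      rw [QuadraticMap.polar_sub_left, QuadraticMap.polar_smul_left, (hTm t ht).2, smul_zero,
        sub_zero] at h1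
      exact h1
    have h3 := finrank_inf_ker_ge hQ W x
    rw [← hT] at h3
    have heq : T = S := Submodule.eq_of_le_of_finrank_le hTS (by omega)
    exact ha (hT0 a (heq.symm ▸ haS))
  obtain ⟨s, t, hst⟩ := Forms.Bases.exists_sq_add_sq two_ne hQx hQy d
  refine ⟨s • x + t • y, by rw [S0798.val_comb hxy]; exact hst, ?_, ?_⟩
  · exact mem_orth.1 (W.add_mem (W.smul_mem s hx) (W.smul_mem t hy)) a haS
  · exact mem_orth.1 (W.add_mem (W.smul_mem s hx) (W.smul_mem t hy)) b hbS

variable {c : ZMod 3} (hc : c ≠ 0)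
include hc

/-- Products of two reflections of the other class lie in the reflection subgroup. -/
theorem pair_mem {a b : Fin n → ZMod 3} (ha : Q a = -c) (hb : Q b = -c) :
    reflect Q a * reflect Q b ∈ Cfsg.reflectionSubgroup (⇑Q) c := by
  have hd : -c ≠ 0 := neg_ne_zero.2 hc
  haveI := refl_normal (Q := Q) c
  obtain ⟨e, he, hae, hbe⟩ := exists_perp hn hQ (a := a) (b := b) (by rw [ha]; exact hd) (-c)
  have h4 := sq_ne hc
  have h1 := S0798.plane (R := Cfsg.reflectionSubgroup (⇑Q) c) two_ne hc hd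
    (fun v hv => reflect_mem hv) ha he (by rw [hae]; exact h4)
  have h3 := S0798.plane (R := Cfsg.reflectionSubgroup (⇑Q) c) two_ne hc hd
    (fun v hv => reflect_mem hv) he hb (by rw [QuadraticMap.polar_comm, hbe]; exact h4)
  have h5 := mul_mem h1 h3
  rwa [mul_assoc, ← mul_assoc (reflect Q e), reflect_sq, one_mul] at h5

/-- The reflection subgroup is the kernel of a character. -/
theorem index_two : (Cfsg.reflectionSubgroup (⇑Q) c).index = 2 := by
  classical
  set R := Cfsg.reflectionSubgroup (⇑Q) c with hR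
  let χ : ℤˣ × ℤˣ →* ℤˣ := if c = 1 then MonoidHom.fst ℤˣ ℤˣ * MonoidHom.snd ℤˣ ℤˣ else MonoidHom.snd ℤˣ ℤˣ
  let φ : Cfsg.isometryGroup (ZMod 3) ⇑Q →* ℤˣ := χ.comp (pairHom hQ two_ne)
  have hφ : ∀ v, Q v ≠ 0 → φ (reflect Q v) = if Q v = c then 1 else -1 := by
    intro v hv
    have hsq : IsSquare (Q v) ↔ Q v = 1 := by
      revert hv
      generalize Q v = x
      revert x
      unfold IsSquare
      decide
    show χ (pairHom hQ two_ne (reflect Q v)) = _
    rw [pairHom_reflect hQ two_ne hv]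
    simp only [χ, hsq]
    generalize Q v = x at hv
    fin_cases c <;> fin_cases x <;> first | exact absurd rfl hc | exact absurd rfl hv | decide
  have hRK : R ≤ φ.ker := (Subgroup.closure_le _).2 fun g hg => by
    obtain ⟨v, hv, rfl⟩ := mem_norm.1 hg
    show φ (reflect Q v) = 1
    rw [hφ v (by rw [hv]; exact hc), if_pos hv]
  obtain ⟨a, ha⟩ := exists_value hQ two_ne (by rw [Fintype.card_fin]; omega) (neg_ne_zero.2 hc)
  have hφa : φ (reflect Q a) = -1 := by
    rw [hφ a (by rw [ha]; exact neg_ne_zero.2 hc), if_neg]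
    rw [ha]; exact neg_ne_self hc
  have hall : ∀ g, g ∈ R ∨ g * reflect Q a ∈ R := by
    haveI := refl_normal (Q := Q) c
    intro g
    have hg : g ∈ refGroup Q := refGroup_eq_top hQ (Or.inr (by rw [Fintype.card_fin]; omega)) ▸ Subgroup.mem_top g
    have step : ∀ v, Q v ≠ 0 → ∀ g, (g ∈ R ∨ g * reflect Q a ∈ R) →
        (g * reflect Q v ∈ R ∨ g * reflect Q v * reflect Q a ∈ R) := by
      intro v hv g hg
      rcases value_cases hv hc with h | h
      · have hv' : reflect Q v ∈ R := reflect_mem h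
        rcases hg with hg | hg
        · exact Or.inl (mul_mem hg hv')
        · right
          have := mul_mem hg ((refl_normal (Q := Q) c).conj_mem _ hv' (reflect Q a))
          rwa [inv_reflect, ← mul_assoc, ← mul_assoc, mul_assoc g, reflect_sq, mul_one] at this
      · rcases hg with hg | hg
        · right
          rw [mul_assoc]
          exact mul_mem hg (pair_mem hn hQ hc h ha)
        · left
          have := mul_mem hg (pair_mem hn hQ hc ha h)
          rwa [← mul_assoc, mul_assoc g, reflect_sq, mul_one] at this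
    induction hg using Subgroup.closure_induction_right with
    | one => exact Or.inl (one_mem _)
    | mul_right x _ y hy ih =>
      obtain ⟨v, hv, rfl⟩ := hy
      exact step v hv x ih
    | mul_inv_cancel x _ y hy ih =>
      obtain ⟨v, hv, rfl⟩ := hy
      rw [inv_reflect]
      exact step v hv x ih
  have hKR : φ.ker ≤ R := fun g hg => (hall g).resolve_right fun h => by
    have h1 := MonoidHom.mem_ker.1 (hRK h)
    rw [map_mul, MonoidHom.mem_ker.1 hg, hφa] at h1
    exact absurd h1 (by decide)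
  rw [le_antisymm hRK hKR, Subgroup.index_ker]
  have hsurj : φ.range = ⊤ := by
    rw [eq_top_iff]
    intro x _
    rcases Int.units_eq_one_or x with rfl | rfl
    exacts [⟨1, map_one _⟩, ⟨_, hφa⟩]
  rw [hsurj, Subgroup.card_top, Nat.card_eq_fintype_card]
  rfl

/-- Two reflections of one norm are conjugate under the reflection subgroup. -/
theorem exists_conj {a b : Fin n → ZMod 3} (ha : Q a = c) (hb : Q b = c) :
    ∃ g ∈ Cfsg.reflectionSubgroup (⇑Q) c, g * reflect Q a * g⁻¹ = reflect Q b := by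
  have ha0 : Q a ≠ 0 := by rw [ha]; exact hc
  obtain ⟨w, hw, he⟩ := exists_reflect_conj two_ne ha0 (by rw [hb]; exact hc)
    ⟨1, by rw [ha, hb, div_self hc, mul_one]⟩
  rcases value_cases hw hc with h | h
  · exact ⟨_, reflect_mem h, by rw [inv_reflect, ← he]⟩
  · obtain ⟨e, hE, hae, -⟩ := exists_perp hn hQ (a := a) (b := a) ha0 (-c)
    refine ⟨_, pair_mem hn hQ hc h hE, ?_⟩
    have hfix : reflect Q e * reflect Q a * (reflect Q e)⁻¹ = reflect Q a := by
      rw [reflect_conj, act_reflect, QuadraticMap.polar_comm, hae, mul_zero, zero_smul, sub_zero]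
    rw [inv_reflect] at hfix
    rw [_root_.mul_inv_rev, inv_reflect, inv_reflect,
      show reflect Q w * reflect Q e * reflect Q a * (reflect Q e * reflect Q w) =
        reflect Q w * (reflect Q e * reflect Q a * reflect Q e) * reflect Q w by
          simp only [mul_assoc], hfix, ← he]

theorem three_class :
    Cfsg.IsThreeTranspositionClass {g : ↥(Cfsg.reflectionSubgroup (⇑Q) c) |
      (g : ↥(Cfsg.isometryGroup (ZMod 3) (⇑Q))) ∈ Cfsg.reflectionsOfNorm (⇑Q) c} := by
  refine ⟨⟨?_, ?_⟩, ?_, ?_⟩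
  · intro d hd
    obtain ⟨v, hv, hdv⟩ := mem_norm.1 hd
    refine orderOf_eq_prime ?_ ?_
    · exact Subtype.ext (by rw [sq, Subgroup.coe_mul, hdv, reflect_sq]; rfl)
    · intro h
      have h1 : reflect Q v = 1 := by rw [← hdv, h]; rfl
      have h2 : act (reflect Q v) v = v := by rw [h1, act_one]
      rw [act_apply] at h2
      have h3 : ((reflect Q v : Matrix.GeneralLinearGroup (Fin n) (ZMod 3)) :
          Matrix (Fin n) (Fin n) (ZMod 3)) *ᵥ v = -v := reflection_self Q (by rw [hv]; exact hc)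
      rw [h3] at h2
      have hv0 : v = 0 := by
        funext i
        have h4 := congrFun h2 i
        simp only [Pi.neg_apply] at h4
        have : ∀ x : ZMod 3, -x = x → x = 0 := by decide
        exact this _ h4
      exact hc (by rw [← hv, hv0, QuadraticMap.map_zero])
  · intro d hd e he
    obtain ⟨a, ha, hda⟩ := mem_norm.1 hd
    obtain ⟨b, hb, heb⟩ := mem_norm.1 he
    suffices h : (reflect Q a * reflect Q b) ^ 2 = 1 ∨ (reflect Q a * reflect Q b) ^ 3 = 1 by
      rcases h with h | h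
      · left; exact Subtype.ext (by rw [SubmonoidClass.coe_pow, Subgroup.coe_mul, hda, heb, h]; rfl)
      · right; exact Subtype.ext (by rw [SubmonoidClass.coe_pow, Subgroup.coe_mul, hda, heb, h]; rfl)
    have hab := reflect_conj (reflect Q a) b
    have hba := reflect_conj (reflect Q b) a
    rw [inv_reflect, act_reflect, ha] at hab
    rw [inv_reflect, act_reflect, hb, QuadraticMap.polar_comm _ b a] at hba
    by_cases h0 : Bp a b = 0
    · left
      rw [h0, mul_zero, zero_smul, sub_zero] at hab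
      rw [sq, ← mul_assoc, hab, reflect_sq]
    · right
      set τ := c⁻¹ * Bp a b with hτ
      have hτ0 : τ ≠ 0 := mul_ne_zero (inv_ne_zero hc) h0
      have hτ2 : τ * τ = 1 := by
        have : ∀ x : ZMod 3, x ≠ 0 → x * x = 1 := by decide
        exact this τ hτ0
      have he' : b - τ • a = (-τ) • (a - τ • b) := by
        rw [smul_sub, smul_smul, neg_mul, hτ2]; module
      rw [he', reflect_smul _ (neg_ne_zero.2 hτ0), ← hba] at hab
      calc (reflect Q a * reflect Q b) ^ 3
          = (reflect Q a * reflect Q b * reflect Q a) * (reflect Q b * reflect Q a * reflect Q b) := by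
            simp only [pow_succ, pow_zero, one_mul, mul_assoc]
        _ = 1 := by
            rw [hab]
            simp only [mul_assoc]
            rw [← mul_assoc (reflect Q b) (reflect Q b), reflect_sq, one_mul,
              ← mul_assoc (reflect Q a) (reflect Q a), reflect_sq, one_mul, reflect_sq]
  · obtain ⟨a, ha⟩ := exists_value hQ two_ne (by rw [Fintype.card_fin]; omega) hc
    refine ⟨⟨reflect Q a, reflect_mem ha⟩, mem_norm.2 ⟨a, ha, rfl⟩, Set.ext fun x => ⟨fun hx => ?_, fun hx => ?_⟩⟩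
    · obtain ⟨b, hb, hxb⟩ := mem_norm.1 hx
      obtain ⟨g, hg, hge⟩ := exists_conj hn hQ hc ha hb
      exact isConj_iff.2 ⟨⟨g, hg⟩, Subtype.ext (hge.trans hxb.symm)⟩
    · obtain ⟨g, rfl⟩ := isConj_iff.1 hx
      exact conj_mem_norm (mem_norm.2 ⟨a, ha, rfl⟩) _
  · exact Subgroup.closure_closure_coe_preimage

omit hc in
/-- A frame exists in dimension at least five. -/
theorem exists_frame : Nonempty (Classical.Orth.Frame Q) := by
  classical
  have htop : ∀ r ∈ (⊤ : Submodule (ZMod 3) (Fin n → ZMod 3)), r ≠ 0 →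
      ∃ s ∈ (⊤ : Submodule (ZMod 3) (Fin n → ZMod 3)), Bp r s ≠ 0 :=
    fun r _ hr => let ⟨s, hs⟩ := Forms.Max.Orth.exists_ne hQ hr; ⟨s, trivial, hs⟩
  obtain ⟨u, v, -, -, hp⟩ := Forms.Max.Orth.exists_pair hQ htop
    (by rw [finrank_top, Module.finrank_fintype_fun_eq_card, Fintype.card_fin]; omega)
  set S := LinearMap.ker (polB Q u) ⊓ LinearMap.ker (polB Q v) with hS
  have hd : n ≤ Module.finrank (ZMod 3) S + 2 := by
    have h1 := finrank_inf_ker_ge hQ ⊤ u
    rw [top_inf_eq, finrank_top, Module.finrank_fintype_fun_eq_card, Fintype.card_fin] at h1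
    have h2 := finrank_inf_ker_ge hQ (LinearMap.ker (polB Q u)) v
    rw [← hS] at h2
    omega
  have hmS : ∀ x, x ∈ S ↔ Bp u x = 0 ∧ Bp v x = 0 := fun x => by simp [S, polB_apply]
  have hproj : ∀ {u v : Fin n → ZMod 3}, Classical.Orth.IsPair Q u v → ∀ s,
      Bp u (Classical.Orth.proj Q u v s) = 0 ∧ Bp v (Classical.Orth.proj Q u v s) = 0 := by
    intro u v hp s
    rw [QuadraticMap.polar_comm _ u, QuadraticMap.polar_comm _ v]
    exact Classical.Orth.proj_perp hp s
  have hperp : ∀ {u v r : Fin n → ZMod 3}, Bp u r = 0 → Bp v r = 0 → ∀ s,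
      Bp r (Classical.Orth.proj Q u v s) = Bp r s := by
    intro u v r h1 h2 s
    simp [Classical.Orth.proj, QuadraticMap.polar_sub_right, QuadraticMap.polar_smul_right,
      QuadraticMap.polar_comm _ r u, QuadraticMap.polar_comm _ r v, h1, h2]
  have hSn : ∀ r ∈ S, r ≠ 0 → ∃ s ∈ S, Bp r s ≠ 0 := fun r hr hr0 => by
    obtain ⟨s, hs⟩ := Forms.Max.Orth.exists_ne hQ hr0
    exact ⟨_, (hmS _).2 (hproj hp s), by rwa [hperp ((hmS r).1 hr).1 ((hmS r).1 hr).2]⟩
  obtain ⟨u', v', hu', hv', hp'⟩ := Forms.Max.Orth.exists_pair hQ hSn (by omega)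
  set T := S ⊓ LinearMap.ker (polB Q u') ⊓ LinearMap.ker (polB Q v') with hT
  have hmT : ∀ x, x ∈ T ↔ (Bp u x = 0 ∧ Bp v x = 0) ∧ Bp u' x = 0 ∧ Bp v' x = 0 := fun x => by
    simp [T, hmS, polB_apply, and_assoc]
  obtain ⟨x₀, hx₀, hx⟩ : ∃ x ∈ T, Q x ≠ 0 := by
    by_contra hcon
    push Not at hcon
    have h2 := finrank_inf_ker_ge hQ S u'
    have h3 := finrank_inf_ker_ge hQ (S ⊓ LinearMap.ker (polB Q u')) v'
    rw [← hT] at h3
    have hTne : T ≠ ⊥ := fun h => by rw [h, finrank_bot] at h3; omega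
    obtain ⟨r, hr, hr0⟩ := Submodule.exists_mem_ne_zero_of_ne_bot hTne
    obtain ⟨s, hs⟩ := Forms.Max.Orth.exists_ne hQ hr0
    obtain ⟨⟨r1, r2⟩, r3, r4⟩ := (hmT r).1 hr
    set y := Classical.Orth.proj Q u' v' (Classical.Orth.proj Q u v s) with hy
    have hu'' := (hmS u').1 hu'
    have hv'' := (hmS v').1 hv'
    have hyT : y ∈ T := by
      refine (hmT y).2 ⟨?_, hproj hp' _⟩
      have hz := hproj hp s
      simp [hy, Classical.Orth.proj] at hz ⊢
      simp [QuadraticMap.polar_sub_right, QuadraticMap.polar_smul_right, hu''.1, hu''.2,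
        hv''.1, hv''.2] at hz ⊢
      exact hz
    refine hs ?_
    rw [← hperp r1 r2 s, ← hperp r3 r4, ← hy]
    simp [QuadraticMap.polar, hcon _ (T.add_mem hr hyT), hcon _ hr, hcon _ hyT]
  obtain ⟨⟨a1, a2⟩, a3, a4⟩ := (hmT x₀).1 hx₀
  exact ⟨⟨u, v, u', v', x₀, hp, hp', ((hmS u').1 hu').1, ((hmS v').1 hv').1, ((hmS u').1 hu').2,
    ((hmS v').1 hv').2, a1, a2, a3, a4, hx⟩⟩

omit hc in
/-- `Ω` is quasisimple in dimension at least five. -/
theorem omega_quasisimple : Cfsg.IsQuasisimple (Cfsg.Omega (ZMod 3) ⇑Q) := by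
  obtain ⟨f⟩ := exists_frame hn hQ
  have h5 : 5 ≤ Fintype.card (Fin n) := by rw [Fintype.card_fin]; exact hn
  exact ⟨⟨Classical.Orth.commutator_omega_eq_top hQ f h5⟩,
    Classical.Orth.isSimpleGroup_POmega hQ f h5⟩

/-- The derived group of the reflection subgroup is `Ω`. -/
theorem map_commutator_refl :
    (commutator ↥(Cfsg.reflectionSubgroup (⇑Q) c)).map
      (Cfsg.reflectionSubgroup (⇑Q) c).subtype = Cfsg.Omega (ZMod 3) ⇑Q := by
  set R := Cfsg.reflectionSubgroup (⇑Q) c
  rw [Subgroup.map_subtype_commutator]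
  refine le_antisymm (Subgroup.commutator_mono le_top le_top) ?_
  haveI := refl_normal (Q := Q) c
  have hOR : Cfsg.Omega (ZMod 3) ⇑Q ≤ R := commutator_le_of_index_two (index_two hn hQ hc)
  have hperf : ⁅Cfsg.Omega (ZMod 3) ⇑Q, Cfsg.Omega (ZMod 3) ⇑Q⁆ = Cfsg.Omega (ZMod 3) ⇑Q := by
    obtain ⟨f⟩ := exists_frame hn hQ
    rw [← Subgroup.map_subtype_commutator, Classical.Orth.commutator_omega_eq_top hQ f
      (by rw [Fintype.card_fin]; exact hn), ← MonoidHom.range_eq_map, Subgroup.range_subtype]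
  rw [← hperf]
  exact Subgroup.commutator_mono hOR hOR

theorem commutator_index : (commutator ↥(Cfsg.reflectionSubgroup (⇑Q) c)).index = 2 := by
  have h := Subgroup.index_map_subtype (commutator ↥(Cfsg.reflectionSubgroup (⇑Q) c))
  rw [map_commutator_refl hn hQ hc, omega_index hQ two_ne (by rw [Fintype.card_fin]; omega),
    index_two hn hQ hc] at h
  omega

theorem commutator_quasisimple :
    Cfsg.IsQuasisimple ↥(commutator ↥(Cfsg.reflectionSubgroup (⇑Q) c)) :=
  Components.Basic.quasisimple_of_mulEquiv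
    ((Subgroup.equivMapOfInjective _ _ (Subgroup.subtype_injective _)).trans
      (MulEquiv.subgroupCongr (map_commutator_refl hn hQ hc))).symm
    (omega_quasisimple hn hQ)

theorem structure_and_primitive :
    Cfsg.generalizedFittingSubgroup ↥(Cfsg.reflectionSubgroup (⇑Q) c) =
      Subgroup.center ↥(Cfsg.reflectionSubgroup (⇑Q) c) ⊔
        commutator ↥(Cfsg.reflectionSubgroup (⇑Q) c) ∧
    Cfsg.IsPrimitiveUnderConj {g : ↥(Cfsg.reflectionSubgroup (⇑Q) c) |
      (g : ↥(Cfsg.isometryGroup (ZMod 3) (⇑Q))) ∈ Cfsg.reflectionsOfNorm (⇑Q) c} := by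
  have hD := three_class hn hQ hc
  set R := Cfsg.reflectionSubgroup (⇑Q) c with hR
  set D := {g : ↥R | (g : ↥(Cfsg.isometryGroup (ZMod 3) (⇑Q))) ∈ Cfsg.reflectionsOfNorm (⇑Q) c}
  obtain ⟨hG, htrans⟩ := Classes.of_class hD
  have hK := commutator_quasisimple hn hQ hc
  have hKc : Cfsg.IsComponent (commutator ↥R) :=
    ⟨(inferInstance : (commutator ↥R).Normal).isSubnormal, hK⟩
  have hD2 : ∃ a ∈ D, ∃ b ∈ D, a ≠ b := by
    by_contra hcon
    push Not at hcon
    obtain ⟨d, hd, -⟩ := hD.2.1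
    have hle : Subgroup.closure D ≤ Subgroup.zpowers d :=
      (Subgroup.closure_le _).2 fun x hx => by rw [hcon x hx d hd]; exact Subgroup.mem_zpowers d
    rw [hG.2.2] at hle
    have habel : ∀ x y : ↥R, x * y = y * x := fun x y => by
      obtain ⟨i, rfl⟩ := Subgroup.mem_zpowers_iff.1 (hle (Subgroup.mem_top x))
      obtain ⟨j, rfl⟩ := Subgroup.mem_zpowers_iff.1 (hle (Subgroup.mem_top y))
      exact (Commute.refl d).zpow_zpow i j
    refine Components.Basic.quasisimple_center_ne_top hK (eq_top_iff.2 fun x _ => ?_)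
    exact Subgroup.mem_center_iff.2 fun y => Subtype.ext (habel y x)
  have hlayer : Cfsg.layer ↥R ≠ ⊥ := fun h => by
    have hle : commutator ↥R ≤ Cfsg.layer ↥R := le_sSup hKc
    rw [h] at hle
    refine Components.Basic.quasisimple_center_ne_top hK (eq_top_iff.2 fun x _ => ?_)
    exact Subgroup.mem_center_iff.2 fun y => Subtype.ext (by
      rw [Subgroup.coe_mul, Subgroup.coe_mul, Subgroup.mem_bot.1 (hle x.2),
        Subgroup.mem_bot.1 (hle y.2)])
  have z2 : Cfsg.pCore 2 ↥R ≤ Subgroup.center ↥R := by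
    by_contra h; exact hlayer (Structure.layer_eq_bot_of_two hG htrans h)
  have z3 : Cfsg.pCore 3 ↥R ≤ Subgroup.center ↥R := by
    by_contra h; exact hlayer (Structure.layer_eq_bot_of_three hG htrans h)
  obtain ⟨L, hLn, hL, hF⟩ := Structure.exists_component hG htrans hD2 z2 z3
  have hperf : ∀ {H : Subgroup ↥R}, Cfsg.IsQuasisimple H → ⁅H, H⁆ = H := fun {H} h => by
    haveI := h.1
    rw [← Subgroup.map_subtype_commutator, Group.IsPerfect.commutator_eq_top,
      ← MonoidHom.range_eq_map, Subgroup.range_subtype]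
  have hLK : L = commutator ↥R := by
    refine le_antisymm ?_ ?_
    · conv_lhs => rw [← hperf hL.2]
      exact Subgroup.commutator_mono le_top le_top
    · have hle : commutator ↥R ≤ L ⊔ Subgroup.center ↥R :=
        hF ▸ (le_sSup (s := {K : Subgroup ↥R | Cfsg.IsComponent K}) hKc).trans le_sup_left
      conv_lhs => rw [← hperf hK]
      refine le_trans (Subgroup.commutator_mono hle hle) (Subgroup.commutator_le.2 fun x hx y hy => ?_)
      obtain ⟨l, hl, z, hz, rfl⟩ := Subgroup.mem_sup_of_normal_left.1 hx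
      obtain ⟨l', hl', z', hz', rfl⟩ := Subgroup.mem_sup_of_normal_left.1 hy
      refine (QuotientGroup.eq_one_iff _).1 ?_
      show QuotientGroup.mk' L ⁅l * z, l' * z'⁆ = 1
      rw [map_commutatorElement, map_mul, map_mul,
        show QuotientGroup.mk' L l = 1 from (QuotientGroup.eq_one_iff _).2 hl,
        show QuotientGroup.mk' L l' = 1 from (QuotientGroup.eq_one_iff _).2 hl', one_mul, one_mul,
        ← map_commutatorElement, commutatorElement_eq_one_iff_mul_comm.2
          (Subgroup.mem_center_iff.1 hz z').symm, map_one]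
  subst hLK
  exact ⟨hF.trans (sup_comm _ _),
    Primitive.primitive_of_index hG htrans hD2 z2 z3 hL.2 hF (commutator_index hn hQ hc).le⟩

end

end Cfsg.Agent.ThreeTransp.Ortho3
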