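import Cfsg.Agent.Lib.ThreeTransp.RankThree
import Cfsg.Agent.Lib.ThreeTransp.Factor.Indep

/-!
A covering argument: in a group of 3-transpositions whose commuting graph has enough triangles, the
centraliser of a member is generated by the members it contains.
-/

set_option autoImplicit false
set_option linter.unusedSectionVars false

namespace Cfsg.Agent.ThreeTransp.Cover

open Cfsg.Agent.ThreeTransp
open Cfsg.Agent.ThreeTransp.RankThree (loc mem_loc loc_commute)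
open Cfsg.Agent.ThreeTransp.Factor (nb)

variable {G : Type*} [Group G] {D : Set G}

/-- The combinatorial hypotheses on the commuting graph. -/
structure Hyp (D : Set G) : Prop where
  key : ∀ w ∈ D, ∀ a ∈ nb D w, ∀ h ∈ loc D w, Commute h a → h ∈ loc D a
  two : ∀ a ∈ D, ∀ b ∈ nb D a, ∃ w, w ∈ nb D a ∩ nb D b
  three : ∀ a ∈ D, ∀ b ∈ nb D a, ∀ c ∈ nb D a ∩ nb D b, ∃ w, w ∈ nb D a ∩ nb D b ∩ nb D c
  mid : ∀ a ∈ D, ∀ b ∈ nb D a, ∀ w ∈ nb D a ∩ nb D b, ∀ w' ∈ nb D a ∩ nb D b, w ≠ w' →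
    Commute w w' → ∃ e, e ∈ nb D w ∩ nb D w' ∧ ¬ Commute e a ∧ ¬ Commute e b
  join : ∀ a ∈ D, ∀ b ∈ nb D a, ∀ w ∈ nb D a ∩ nb D b, ∀ w' ∈ nb D a ∩ nb D b,
    ¬ Commute w w' → ∃ z, z ∈ nb D a ∩ nb D b ∩ nb D w ∩ nb D w'
  conn : ∀ a ∈ D, ∀ c ∈ D, ¬ Commute a c → ∀ P : G → Prop,
    (∀ p ∈ nb D a ∩ nb D c, ∀ q ∈ nb D a ∩ nb D c, Commute p q → P p → P q) →
    ∀ x ∈ nb D a ∩ nb D c, P x → ∀ x' ∈ nb D a ∩ nb D c, P x'
  five : ∀ a ∈ D, ∀ y ∈ D, ∀ z ∈ D, ¬ Commute a y → ¬ Commute a z → z ≠ y → Commute y z →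
    ∃ x, x ∈ nb D a ∩ nb D y ∩ nb D z

theorem mem_nb_symm {a b : G} (ha : a ∈ D) (h : b ∈ nb D a) : a ∈ nb D b :=
  ⟨ha, h.2.1.symm, h.2.2.symm⟩

section

variable [Finite G] (hD : Cfsg.IsThreeTranspositionGroup D)
  (hprim : Cfsg.IsPrimitiveUnderConj D) (hw : ∃ a ∈ D, ∃ b ∈ D, a ≠ b ∧ Commute a b)
  (hyp : Hyp D)
include hD hprim hw hyp

theorem unique_same {a b w k k' : G} (ha : a ∈ D) (hwm : w ∈ nb D a ∩ nb D b)
    (hk : k ∈ loc D w) (hk' : k' ∈ loc D w) (e : k * a * k⁻¹ = b) (e' : k' * a * k'⁻¹ = b) :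
    k⁻¹ * k' ∈ loc D a := by
  refine hyp.key w hwm.1.1 a (mem_nb_symm ha hwm.1) _ (mul_mem (inv_mem hk) hk') ?_
  refine mul_inv_eq_iff_eq_mul.1 ?_
  rw [show k⁻¹ * k' * a * (k⁻¹ * k')⁻¹ = k⁻¹ * (k' * a * k'⁻¹) * k by group, e', ← e]
  group

theorem unique_any {a b : G} (ha : a ∈ D) (hb : b ∈ nb D a) {w w' k k' : G}
    (hwm : w ∈ nb D a ∩ nb D b) (hwm' : w' ∈ nb D a ∩ nb D b) (hk : k ∈ loc D w)
    (hk' : k' ∈ loc D w') (e : k * a * k⁻¹ = b) (e' : k' * a * k'⁻¹ = b) :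
    k⁻¹ * k' ∈ loc D a := by
  have comm : ∀ w ∈ nb D a ∩ nb D b, ∀ w' ∈ nb D a ∩ nb D b, Commute w w' → ∀ k ∈ loc D w,
      ∀ k' ∈ loc D w', k * a * k⁻¹ = b → k' * a * k'⁻¹ = b → k⁻¹ * k' ∈ loc D a := by
    intro w hwm w' hwm' hc k hk k' hk' e e'
    by_cases hne : w = w'
    · subst hne
      exact unique_same hD hprim hw hyp ha hwm hk hk' e e'
    obtain ⟨t, ⟨ht, ht'⟩, hta, htb⟩ := hyp.mid a ha b hb w hwm w' hwm' hne hc
    have hts := Classes.sq hD ht.1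
    have has := Classes.sq hD ha
    have hbs := Classes.sq hD hb.1
    have A := Basic.braid hD.1 ht.1 ha hta
    have B := Basic.braid hD.1 ht.1 hb.1 htb
    have hab := hb.2.2
    set s := t * (a * b) * t with hs
    have hsw : ∀ v ∈ D, Commute v a → Commute v b → Commute v t → s ∈ loc D v := fun v hv hva hvb hvt =>
      mul_mem (mul_mem (mem_loc ht.1 hvt) (mul_mem (mem_loc ha hva) (mem_loc hb.1 hvb)))
        (mem_loc ht.1 hvt)
    have hsa : s * a * s⁻¹ = b := by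
      have hinv : s⁻¹ = s := by
        rw [inv_eq_iff_mul_eq_one, hs]
        calc t * (a * b) * t * (t * (a * b) * t)
            = t * a * b * (t * t) * (a * b) * t := by simp [mul_assoc]
          _ = t * (a * (b * a) * b) * t := by rw [hts, mul_one]; simp [mul_assoc]
          _ = 1 := by rw [← hab.eq, ← mul_assoc a a b, has, one_mul, hbs, mul_one, hts]
      rw [hinv, hs]
      calc t * (a * b) * t * a * (t * (a * b) * t)
          = t * b * a * (t * a * t) * (a * b) * t := by rw [hab.eq]; simp [mul_assoc]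
        _ = t * b * (a * a) * t * (a * a) * b * t := by rw [A]; simp [mul_assoc]
        _ = t * (b * t * b) * t := by rw [has, mul_one, mul_one]; simp [mul_assoc]
        _ = (t * t) * b * (t * t) := by rw [← B]; simp [mul_assoc]
        _ = b := by rw [hts, one_mul, mul_one]
    have h1 := unique_same hD hprim hw hyp ha hwm hk
      (hsw w hwm.1.1 hwm.1.2.2.symm hwm.2.2.2.symm ht.2.2) e hsa
    have h2 := unique_same hD hprim hw hyp ha hwm'
      (hsw w' hwm'.1.1 hwm'.1.2.2.symm hwm'.2.2.2.symm ht'.2.2) hk' hsa e'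
    have := mul_mem h1 h2
    rwa [show k⁻¹ * s * (s⁻¹ * k') = k⁻¹ * k' by group] at this
  by_cases hc : Commute w w'
  · exact comm w hwm w' hwm' hc k hk k' hk' e e'
  obtain ⟨z, ⟨hz, hzw⟩, hzw'⟩ := hyp.join a ha b hb w hwm w' hwm' hc
  obtain ⟨m, hm, hme⟩ := RankThree.linked_inner hD hprim hw
    (Primitive.cores_central hD hprim hw).1 hz.1.1 ha hb.1 hz.1.2.2.symm hz.2.2.2.symm
    hz.1.2.1.symm hz.2.2.1.symm
  have h1 := comm w hwm z hz hzw.2.2 k hk m hm e hme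
  have h2 := comm z hz w' hwm' hzw'.2.2.symm m hm k' hk' hme e'
  have := mul_mem h1 h2
  rwa [show k⁻¹ * m * (m⁻¹ * k') = k⁻¹ * k' by group] at this

variable {d : G}

/-- Adjacency of two frames over adjacent members. -/
def Adj (D : Set G) (d g h : G) : Prop :=
  h * d * h⁻¹ ∈ nb D (g * d * g⁻¹) ∧
    ∃ w, w ∈ nb D (g * d * g⁻¹) ∩ nb D (h * d * h⁻¹) ∧ ∃ k ∈ loc D w, h⁻¹ * k * g ∈ loc D d

omit hw hyp hprim in
theorem conj_nb {a x : G} (g : G) (h : x ∈ nb D a) :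
    g * x * g⁻¹ ∈ nb D (g * a * g⁻¹) :=
  ⟨hD.2.1 g x h.1, fun e => h.2.1 (mul_left_cancel (mul_right_cancel e)),
    Basic.commute_conj.2 h.2.2⟩

omit hw hyp hprim in
theorem conj_loc {a x : G} (g : G) (h : x ∈ loc D a) : g * x * g⁻¹ ∈ loc D (g * a * g⁻¹) := by
  induction h using Subgroup.closure_induction with
  | mem y hy => exact mem_loc (hD.2.1 g y hy.1) (Basic.commute_conj.2 hy.2)
  | one => rw [mul_one, mul_inv_cancel]; exact one_mem _
  | mul y z _ _ hy hz =>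
    rw [show g * (y * z) * g⁻¹ = (g * y * g⁻¹) * (g * z * g⁻¹) by group]
    exact mul_mem hy hz
  | inv y _ hy =>
    rw [show g * y⁻¹ * g⁻¹ = (g * y * g⁻¹)⁻¹ by group]
    exact inv_mem hy

omit hw hyp hprim hD in
theorem act_eq {g h : G} (hl : g⁻¹ * h ∈ loc D d) : h * d * h⁻¹ = g * d * g⁻¹ := by
  have e : h = g * (g⁻¹ * h) := by group
  rw [e, show g * (g⁻¹ * h) * d * (g * (g⁻¹ * h))⁻¹ =
    g * ((g⁻¹ * h) * d * (g⁻¹ * h)⁻¹) * g⁻¹ by group,
    RankThree.conj_self_of_commute (loc_commute hl)]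

omit hw hyp hprim in
theorem Adj.left {g h : G} (c : G) (ha : Adj D d g h) : Adj D d (c * g) (c * h) := by
  obtain ⟨hn, w, hwm, k, hk, hl⟩ := ha
  have e : ∀ x : G, c * x * d * (c * x)⁻¹ = c * (x * d * x⁻¹) * c⁻¹ := fun x => by group
  refine ⟨?_, c * w * c⁻¹, ?_, c * k * c⁻¹, conj_loc hD c hk, ?_⟩
  · rw [e, e]; exact conj_nb hD c hn
  · rw [e, e]; exact ⟨conj_nb hD c hwm.1, conj_nb hD c hwm.2⟩
  · rwa [show (c * h)⁻¹ * (c * k * c⁻¹) * (c * g) = h⁻¹ * k * g by group]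

omit hw hyp hprim in
theorem Adj.right {g g' h h' : G} (ha : Adj D d g h) (hg : g⁻¹ * g' ∈ loc D d)
    (hh : h⁻¹ * h' ∈ loc D d) : Adj D d g' h' := by
  obtain ⟨hn, w, hwm, k, hk, hl⟩ := ha
  refine ⟨?_, w, ?_, k, hk, ?_⟩
  · rw [act_eq hg, act_eq hh]; exact hn
  · rw [act_eq hg, act_eq hh]; exact hwm
  · rw [show h'⁻¹ * k * g' = (h⁻¹ * h')⁻¹ * (h⁻¹ * k * g) * (g⁻¹ * g') by group]
    exact mul_mem (mul_mem (inv_mem hh) hl) hg

omit hw hyp hprim in
theorem Adj.act_k {g h k : G} (hl : h⁻¹ * k * g ∈ loc D d) :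
    k * (g * d * g⁻¹) * k⁻¹ = h * d * h⁻¹ := by
  have := act_eq (g := h) (h := k * g) (by rwa [← mul_assoc])
  rw [← this]; group

omit hw hyp hprim in
theorem Adj.symm (hd : d ∈ D) {g h : G} (ha : Adj D d g h) : Adj D d h g := by
  obtain ⟨hn, w, hwm, k, hk, hl⟩ := ha
  refine ⟨mem_nb_symm (hD.2.1 g d hd) hn, w, ⟨hwm.2, hwm.1⟩, k⁻¹, inv_mem hk, ?_⟩
  rw [show g⁻¹ * k⁻¹ * h = (h⁻¹ * k * g)⁻¹ by group]
  exact inv_mem hl

/-- Lifts of a neighbour are unique. -/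
theorem Adj.unique (hd : d ∈ D) {g h h' : G} (ha : Adj D d g h) (ha' : Adj D d g h')
    (he : h * d * h⁻¹ = h' * d * h'⁻¹) : h⁻¹ * h' ∈ loc D d := by
  obtain ⟨hn, w, hwm, k, hk, hl⟩ := ha
  obtain ⟨-, w', hwm', k', hk', hl'⟩ := ha'
  rw [← he] at hwm'
  have h1 := unique_any hD hprim hw hyp (hD.2.1 g d hd) hn hwm hwm' hk hk' (Adj.act_k hD hl)
    ((Adj.act_k hD hl').trans he.symm)
  have h2 := conj_loc hD g⁻¹ h1
  rw [show g⁻¹ * (g * d * g⁻¹) * g⁻¹⁻¹ = d by group] at h2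
  have := mul_mem (mul_mem hl h2) (inv_mem hl')
  rwa [show h⁻¹ * k * g * (g⁻¹ * (k⁻¹ * k') * g⁻¹⁻¹) * (h'⁻¹ * k' * g)⁻¹ = h⁻¹ * h' by group] at this

omit hyp in
/-- Lifts exist, through any common neighbour. -/
theorem exists_lift {g w z : G} (hd : d ∈ D) (hz : z ∈ nb D (g * d * g⁻¹))
    (hwm : w ∈ nb D (g * d * g⁻¹) ∩ nb D z) :
    ∃ k ∈ loc D w, k * (g * d * g⁻¹) * k⁻¹ = z ∧ Adj D d g (k * g) := by
  obtain ⟨k, hk, hke⟩ := RankThree.linked_inner hD hprim hw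
    (Primitive.cores_central hD hprim hw).1 hwm.1.1 (hD.2.1 g d hd) hz.1 hwm.1.2.2.symm
    hwm.2.2.2.symm hwm.1.2.1.symm hwm.2.2.1.symm
  have e : k * g * d * (k * g)⁻¹ = z := by rw [← hke]; group
  refine ⟨k, hk, hke, ?_, w, ?_, k, hk, ?_⟩
  · rw [e]; exact hz
  · rw [e]; exact hwm
  · rw [show (k * g)⁻¹ * k * g = 1 by group]; exact one_mem _

/-- Triangles close. -/
theorem Adj.triangle (hd : d ∈ D) {g h j : G} (ha : Adj D d g h) (hb : Adj D d h j)
    (hc : j * d * j⁻¹ ∈ nb D (g * d * g⁻¹)) : Adj D d g j := by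
  have hn := ha.1
  obtain ⟨w, ⟨hwg, hwh⟩, hwj⟩ :=
    hyp.three _ (hD.2.1 g d hd) _ hn _ ⟨hc, hb.1⟩
  obtain ⟨k, hk, hke, hk1⟩ := exists_lift hD hprim hw hd hn ⟨hwg, hwh⟩
  have h1 : (k * g)⁻¹ * h ∈ loc D d := Adj.unique hD hprim hw hyp hd hk1 ha (by rw [← hke]; group)
  obtain ⟨m, hm, hme, hm1⟩ := exists_lift hD hprim hw hd hb.1 ⟨hwh, hwj⟩
  have hb' : Adj D d (k * g) j :=
    Adj.right hD hb (by
      rw [show h⁻¹ * (k * g) = ((k * g)⁻¹ * h)⁻¹ by group]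
      exact inv_mem h1) (by rw [inv_mul_cancel]; exact one_mem _)
  have hkd : k * g * d * (k * g)⁻¹ = h * d * h⁻¹ := by rw [← hke]; group
  obtain ⟨m', hm', hme', hm2⟩ := exists_lift hD hprim hw hd
    (g := k * g) (z := j * d * j⁻¹) (by rw [hkd]; exact hb.1) (w := w)
    (by rw [hkd]; exact ⟨hwh, hwj⟩)
  have h2 : (m' * (k * g))⁻¹ * j ∈ loc D d :=
    Adj.unique hD hprim hw hyp hd hm2 hb' (by rw [← hme']; group)
  refine ⟨hc, w, ⟨hwg, hwj⟩, m' * k, mul_mem hm' hk, ?_⟩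
  rw [show j⁻¹ * (m' * k) * g = ((m' * (k * g))⁻¹ * j)⁻¹ by group]
  exact inv_mem h2

/-- The centraliser of a member is generated by its members. -/
theorem centralizer_eq_loc (hd : d ∈ D) :
    Subgroup.centralizer ({d} : Set G) = loc D d := by
  classical
  refine le_antisymm ?_ fun x hx => Subgroup.mem_centralizer_iff.2 (by
    rintro _ rfl; exact (loc_commute hx).eq)
  have one1 : ∀ g : G, g⁻¹ * g ∈ loc D d := fun g => by rw [inv_mul_cancel]; exact one_mem _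
  have hflip : ∀ g h : G, g⁻¹ * h ∈ loc D d → h⁻¹ * g ∈ loc D d := fun g h hg => by
    rw [show h⁻¹ * g = (g⁻¹ * h)⁻¹ by group]; exact inv_mem hg
  -- frames at the neighbours of `d`
  have hlift : ∀ g : G, ∀ z ∈ nb D (g * d * g⁻¹), ∃ h, h * d * h⁻¹ = z ∧ Adj D d g h := by
    intro g z hz
    obtain ⟨w, hwm⟩ := hyp.two _ (hD.2.1 g d hd) z hz
    obtain ⟨k, -, hke, hk⟩ := exists_lift hD hprim hw hd hz hwm
    exact ⟨k * g, by rw [← hke]; group, hk⟩
  have h1d : (1 : G) * d * (1 : G)⁻¹ = d := by group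
  have hnear : ∀ y : G, ∃ h, y ∈ nb D d → h * d * h⁻¹ = y ∧ Adj D d 1 h := by
    intro y
    by_cases hy : y ∈ nb D d
    · obtain ⟨h, h1, h2⟩ := hlift 1 y (by rwa [h1d])
      exact ⟨h, fun _ => ⟨h1, h2⟩⟩
    · exact ⟨1, fun h => absurd h hy⟩
  choose t ht using hnear
  have hfar : ∀ y : G, ∃ h, y ∈ D → ¬ Commute d y →
      h * d * h⁻¹ = y ∧ ∀ x ∈ nb D d ∩ nb D y, Adj D d (t x) h := by
    intro y
    by_cases hy : y ∈ D ∧ ¬ Commute d y
    · obtain ⟨hy, hdy⟩ := hy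
      obtain ⟨x, hx, hdx, hxy⟩ := RankThree.exists_common hD hprim hw hd hy hdy
      have hxd : x ≠ d := fun e => hdy (e ▸ hxy)
      have hxy' : x ≠ y := fun e => hdy (e ▸ hdx)
      have hxS : x ∈ nb D d ∩ nb D y := ⟨⟨hx, hxd, hdx⟩, hx, hxy', hxy.symm⟩
      obtain ⟨htx, htx'⟩ := ht x hxS.1
      obtain ⟨h, hh, hh'⟩ := hlift (t x) y (by rw [htx]; exact ⟨hy, Ne.symm hxy', hxy⟩)
      refine ⟨h, fun _ _ => ⟨hh, hyp.conn d hd y hy hdy (fun p => Adj D d (t p) h) ?_ x hxS hh'⟩⟩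
      intro p hp q hq hpq hph
      by_cases epq : p = q
      · subst epq; exact hph
      obtain ⟨htp, htp'⟩ := ht p hp.1
      obtain ⟨htq, htq'⟩ := ht q hq.1
      have h1 : Adj D d (t q) (t p) :=
        Adj.triangle hD hprim hw hyp hd (Adj.symm hD hd htq') htp'
          (by rw [htp, htq]; exact ⟨hp.1.1, epq, hpq.symm⟩)
      exact Adj.triangle hD hprim hw hyp hd h1 hph
        (by rw [hh, htq]; exact ⟨hy, hq.2.2.1.symm, hq.2.2.2.symm⟩)
    · exact ⟨1, fun h h' => absurd ⟨h, h'⟩ hy⟩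
  choose f hf using hfar
  set s : G → G := fun y => if y = d then 1 else if Commute d y then t y else f y with hs
  have sd : s d = 1 := by simp [hs]
  have sn : ∀ y ∈ nb D d, s y = t y := fun y hy => by simp [hs, hy.2.1, hy.2.2]
  have sf : ∀ y, ¬ Commute d y → s y = f y := fun y hy => by
    have : y ≠ d := fun e => hy (e ▸ Commute.refl d)
    simp [hs, this, hy]
  have sact : ∀ y ∈ D, s y * d * (s y)⁻¹ = y := by
    intro y hy
    by_cases e : y = d
    · subst e; rw [sd]; exact h1d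
    by_cases hc : Commute d y
    · rw [sn y ⟨hy, e, hc⟩]; exact (ht y ⟨hy, e, hc⟩).1
    · rw [sf y hc]; exact (hf y hy hc).1
  -- the frames are consistent
  have hsec : ∀ y ∈ D, ∀ z ∈ nb D y, Adj D d (s y) (s z) := by
    have hA : ∀ z ∈ nb D d, Adj D d (s d) (s z) := fun z hz => by
      rw [sd, sn z hz]; exact (ht z hz).2
    have hB : ∀ x ∈ nb D d, ∀ z ∈ D, ¬ Commute d z → z ∈ nb D x → Adj D d (s x) (s z) :=
      fun x hx z hz hdz hzx => by
        rw [sn x hx, sf z hdz]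
        exact (hf z hz hdz).2 x ⟨hx, hx.1, hzx.2.1.symm, hzx.2.2.symm⟩
    intro y hy z hz
    have hzy : y ∈ nb D z := mem_nb_symm hy hz
    by_cases ey : y = d
    · subst ey; exact hA z hz
    by_cases ez : z = d
    · subst ez; exact Adj.symm hD hd (hA y hzy)
    by_cases cy : Commute d y
    · by_cases cz : Commute d z
      · exact Adj.triangle hD hprim hw hyp hd (Adj.symm hD hd (hA y ⟨hy, ey, cy⟩))
          (hA z ⟨hz.1, ez, cz⟩) (by rw [sact z hz.1, sact y hy]; exact hz)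
      · exact hB y ⟨hy, ey, cy⟩ z hz.1 cz hz
    · by_cases cz : Commute d z
      · exact Adj.symm hD hd (hB z ⟨hz.1, ez, cz⟩ y hy cy hzy)
      · obtain ⟨x, ⟨hxd, hxy⟩, hxz⟩ := hyp.five d hd y hy z hz.1 cy cz hz.2.1 hz.2.2
        exact Adj.triangle hD hprim hw hyp hd
          (Adj.symm hD hd (hB x hxd y hy cy (mem_nb_symm hy hxy)))
          (hB x hxd z hz.1 cz (mem_nb_symm hz.1 hxz)) (by rw [sact z hz.1, sact y hy]; exact hz)
  -- equivariance
  let Eqv : G → G → Prop := fun g y => (s (g * y * g⁻¹))⁻¹ * g * s y ∈ loc D d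
  have hprop : ∀ g, ∀ y₀ ∈ D, Eqv g y₀ → ∀ y ∈ D, Eqv g y := by
    intro g y₀ hy₀ h0 y hy
    obtain ⟨w⟩ := (Primitive.connected hD hprim hw).preconnected ⟨y₀, hy₀⟩ ⟨y, hy⟩
    suffices h : ∀ u v : D, (Cfsg.commutingGraph D).Walk u v → Eqv g u → Eqv g v from h _ _ w h0
    intro u v w
    induction w with
    | nil => exact id
    | @cons u v z huv q ih =>
      intro hu
      refine ih ?_
      simp only [Cfsg.commutingGraph, SimpleGraph.fromRel_adj] at huv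
      have hv : (v : G) ∈ nb D (u : G) :=
        ⟨v.2, fun e => huv.1 (Subtype.ext e.symm), huv.2.elim id fun h => h.symm⟩
      show (s (g * v * g⁻¹))⁻¹ * g * s v ∈ loc D d
      have h1 := Adj.left hD g (hsec u u.2 v hv)
      have h2 := Adj.right hD (hsec _ (hD.2.1 g u u.2) _ (conj_nb hD g hv))
        (by rw [← mul_assoc]; exact hu) (one1 _)
      rw [mul_assoc]
      refine Adj.unique hD hprim hw hyp hd h2 h1 ?_
      rw [sact _ (hD.2.1 g v v.2)]
      conv_lhs => rw [← sact v v.2]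
      group
  have hgen : ∀ g : G, ∀ y ∈ D, Eqv g y := by
    have hone : ∀ e ∈ D, ∀ y ∈ D, Eqv e y := by
      intro e he
      by_cases hde : Commute d e
      · refine hprop e d hd ?_
        show (s (e * d * e⁻¹))⁻¹ * e * s d ∈ loc D d
        rw [RankThree.conj_self_of_commute hde, sd, inv_one, one_mul, mul_one]
        exact mem_loc he hde
      · obtain ⟨x, hx, hdx, hxe⟩ := RankThree.exists_common hD hprim hw hd he hde
        refine hprop e x hx ?_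
        show (s (e * x * e⁻¹))⁻¹ * e * s x ∈ loc D d
        rw [RankThree.conj_self_of_commute hxe]
        have := conj_loc hD (s x)⁻¹ (mem_loc he hxe)
        rwa [show (s x)⁻¹ * x * (s x)⁻¹⁻¹ = d by
          conv_lhs => arg 1; arg 2; rw [← sact x hx]
          group, inv_inv] at this
    intro g
    have hg : g ∈ Subgroup.closure D := hD.2.2 ▸ Subgroup.mem_top g
    induction hg using Subgroup.closure_induction'' with
    | mem e he => exact hone e he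
    | inv_mem e he => rw [Classes.inv hD he]; exact hone e he
    | one =>
      intro y hy
      show (s (1 * y * 1⁻¹))⁻¹ * 1 * s y ∈ loc D d
      rw [show (1 : G) * y * 1⁻¹ = y by group, mul_one]
      exact one1 _
    | mul p q _ _ hp hq =>
      intro y hy
      show (s (p * q * y * (p * q)⁻¹))⁻¹ * (p * q) * s y ∈ loc D d
      have := mul_mem (hp _ (hD.2.1 q y hy)) (hq y hy)
      rwa [show (s (p * (q * y * q⁻¹) * p⁻¹))⁻¹ * p * s (q * y * q⁻¹) *
          ((s (q * y * q⁻¹))⁻¹ * q * s y) = (s (p * (q * y * q⁻¹) * p⁻¹))⁻¹ * (p * q) * s y by group,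
        show p * (q * y * q⁻¹) * p⁻¹ = p * q * y * (p * q)⁻¹ by group] at this
  intro x hx
  have hxd : Commute d x := Subgroup.mem_centralizer_iff.1 hx d rfl
  have := hgen x d hd
  change (s (x * d * x⁻¹))⁻¹ * x * s d ∈ loc D d at this
  rwa [RankThree.conj_self_of_commute hxd, sd, inv_one, one_mul, mul_one] at this

end

end Cfsg.Agent.ThreeTransp.Cover
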