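import Cfsg.Agent.Lib.ThreeTransp.Primitive

/-!
Fischer's rank three property: the group generated by the members commuting with a member `a` is
transitive on the other members commuting with `a` and on the members not commuting with `a`.
-/

set_option autoImplicit false

namespace Cfsg.Agent.ThreeTransp.RankThree

open Cfsg.Agent.ThreeTransp

variable {G : Type*} [Group G] {D : Set G}

/-- the subgroup generated by the members commuting with `a` -/
def loc (D : Set G) (a : G) : Subgroup G := Subgroup.closure {y : G | y ∈ D ∧ Commute a y}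

/-- conjugate under the local subgroup -/
def Linked (D : Set G) (a p q : G) : Prop := ∃ h ∈ loc D a, h * p * h⁻¹ = q

theorem Linked.refl (a p : G) : Linked D a p p := ⟨1, one_mem _, by simp⟩

theorem Linked.symm {a p q : G} (h : Linked D a p q) : Linked D a q p := by
  obtain ⟨x, hx, rfl⟩ := h
  exact ⟨x⁻¹, inv_mem hx, by group⟩

theorem Linked.trans {a p q r : G} (h : Linked D a p q) (h' : Linked D a q r) : Linked D a p r := by
  obtain ⟨x, hx, rfl⟩ := h
  obtain ⟨y, hy, rfl⟩ := h'
  exact ⟨y * x, mul_mem hy hx, by group⟩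

theorem loc_commute {a h : G} (hh : h ∈ loc D a) : Commute a h := by
  induction hh using Subgroup.closure_induction with
  | mem x hx => exact hx.2
  | one => exact Commute.one_right a
  | mul x y _ _ hx hy => exact hx.mul_right hy
  | inv x _ hx => exact hx.inv_right

theorem mem_loc {a y : G} (hy : y ∈ D) (hc : Commute a y) : y ∈ loc D a :=
  Subgroup.subset_closure ⟨hy, hc⟩

theorem conj_self_of_commute {a h : G} (hc : Commute a h) : h * a * h⁻¹ = a :=
  mul_inv_eq_iff_eq_mul.2 hc.eq.symm

variable (hD : Cfsg.IsThreeTranspositionGroup D)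
include hD

theorem conj_mem_D {a : G} (g : G) (ha : a ∈ D) : g * a * g⁻¹ ∈ D := hD.2.1 g a ha

theorem braid3 {p q : G} (hp : p ∈ D) (hq : q ∈ D) (h : ¬ Commute p q) : p * q * p = q * p * q :=
  Basic.braid hD.1 hp hq h

theorem linked_preserves {a p q : G} (h : Linked D a p q) :
    (p ∈ D → q ∈ D) ∧ (Commute a p ↔ Commute a q) := by
  obtain ⟨x, hx, rfl⟩ := h
  refine ⟨conj_mem_D hD x, ?_⟩
  conv_rhs => rw [← conj_self_of_commute (loc_commute hx)]
  exact Basic.commute_conj.symm

/-- two members on a line whose third point is local are linked -/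
theorem linked_of_third {a p q : G} (hp : p ∈ D) (hq : q ∈ D) (h : ¬ Commute p q)
    (hr : Commute a (p * q * p)) : Linked D a q p := by
  have hrD : p * q * p ∈ D := Classes.conj_mem hD hp hq
  refine ⟨p * q * p, mem_loc hrD hr, ?_⟩
  rw [Classes.inv hD hrD]
  have hb := braid3 hD hp hq h
  have hp2 := Classes.sq hD hp
  have hq2 := Classes.sq hD hq
  calc p * q * p * q * (p * q * p) = q * p * q * q * (q * p * q) := by rw [hb]
    _ = q * p * (q * q) * (q * p * q) := by simp only [mul_assoc]
    _ = q * (p * q * p) * q := by rw [hq2, mul_one]; simp only [mul_assoc]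
    _ = q * (q * p * q) * q := by rw [hb]
    _ = (q * q) * p * (q * q) := by simp only [mul_assoc]
    _ = p := by rw [hq2, one_mul, mul_one]

/-- commuting members outside are linked -/
theorem linked_of_commute {a p q : G} (ha : a ∈ D) (hp : p ∈ D) (hq : q ∈ D)
    (hap : ¬ Commute a p) (haq : ¬ Commute a q) (hpq : Commute p q) : Linked D a p q := by
  have hpI := Classes.inv hD hp
  have haI := Classes.inv hD ha
  -- `q' = a q a` is linked to `q`
  set q' := a * q * a with hq'
  have hq'D : q' ∈ D := Classes.conj_mem hD ha hq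
  have hqq' : Linked D a q q' := ⟨a, mem_loc ha (Commute.refl a), by rw [haI]⟩
  have h1 : Commute (a * p * a) q' := by
    have := (Basic.commute_conj (g := a)).2 hpq
    rwa [haI] at this
  have hn : ¬ Commute p q' := by
    intro hc
    apply hap
    have h2 := (Basic.commute_conj (g := q)).2 hc
    rw [Classes.inv hD hq] at h2
    have e1 : q * p * q = p := by
      rw [← hpq.eq, mul_assoc, Classes.sq hD hq, mul_one]
    have e2 : q * q' * q = a := by
      rw [hq', braid3 hD ha hq haq, show q * (q * a * q) * q = (q * q) * a * (q * q) by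
        simp [mul_assoc], Classes.sq hD hq, one_mul, mul_one]
    rw [e1, e2] at h2
    exact h2.symm
  refine ((linked_of_third hD hp hq'D hn ?_).symm).trans hqq'.symm
  -- the third point commutes with `a`
  have h3 := (Basic.commute_conj (g := p)).2 h1
  rw [hpI] at h3
  have e : p * (a * p * a) * p = a := by
    rw [braid3 hD ha hp hap, show p * (p * a * p) * p = (p * p) * a * (p * p) by simp [mul_assoc],
      Classes.sq hD hp, one_mul, mul_one]
  rwa [e] at h3

/-- a local element commuting with exactly one of two unlinked outer points -/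
theorem linked_third_of_local {a c y x : G} (ha : a ∈ D) (hc : c ∈ D) (hy : y ∈ D) (hx : x ∈ D)
    (hay : ¬ Commute a y) (hcy : ¬ Commute c y) (hz : ¬ Commute a (y * c * y))
    (hax : Commute a x) (hxc : Commute x c) (hxy : ¬ Commute x y) :
    Linked D a y (y * c * y) := by
  set z := y * c * y with hzdef
  have hzD : z ∈ D := Classes.conj_mem hD hy hc
  have haI := Classes.inv hD ha
  set q := x * y * x with hqdef
  have hqD : q ∈ D := Classes.conj_mem hD hx hy
  have hxI := Classes.inv hD hx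
  have hyq : Linked D a y q := ⟨x, mem_loc hx hax, by rw [hxI]⟩
  have haq : ¬ Commute a q := fun h => hay ((linked_preserves hD hyq).2.2 h)
  set z' := a * z * a with hz'
  have hz'D : z' ∈ D := Classes.conj_mem hD ha hzD
  have hzz' : Linked D a z z' := ⟨a, mem_loc ha (Commute.refl a), by rw [haI]⟩
  have haz' : ¬ Commute a z' := fun h => hz ((linked_preserves hD hzz').2.2 h)
  refine hyq.trans (Linked.trans ?_ hzz'.symm)
  by_cases hc' : Commute z' q
  · exact (linked_of_commute hD ha hz'D hqD haz' haq hc').symm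
  refine linked_of_third hD hz'D hqD hc' ?_
  have h1 : Commute z q := by
    have h2 := (Basic.commute_conj (g := y)).2 hxc.symm
    rw [Classes.inv hD hy] at h2
    rwa [hqdef, braid3 hD hx hy hxy]
  have e : z' * a * z' = z := by
    have hb : z' = z * a * z := braid3 hD ha hzD hz
    have : z' * a * z' = a * z * (a * a) * a * z * a := by rw [hz']; simp only [mul_assoc]
    rw [this, Classes.sq hD ha, mul_one,
      show a * z * a * z * a = a * (z * a * z) * a by simp only [mul_assoc], ← hb, hz',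
      show a * (a * z * a) * a = (a * a) * z * (a * a) by simp only [mul_assoc],
      Classes.sq hD ha, one_mul, mul_one]
  have h3 : Commute (z' * a * z') q := by rw [e]; exact h1
  have h4 := (Basic.commute_conj (g := z')).2 h3
  rw [Classes.inv hD hz'D] at h4
  rwa [show z' * (z' * a * z') * z' = (z' * z') * a * (z' * z') by simp only [mul_assoc],
    Classes.sq hD hz'D, one_mul, mul_one] at h4

variable [Finite G] (hprim : Cfsg.IsPrimitiveUnderConj D)
  (hw : ∃ a ∈ D, ∃ b ∈ D, a ≠ b ∧ Commute a b)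
include hprim hw

/-- the local subgroup and one outer point generate -/
theorem closure_eq_top {a c : G} (ha : a ∈ D) (hc : c ∈ D) (hac : ¬ Commute a c) :
    Subgroup.closure ({y : G | y ∈ D ∧ Commute a y} ∪ {c}) = ⊤ := by
  have hS : ({y : G | y ∈ D ∧ Commute a y} ∪ {c}) ⊆ D := by
    rintro y (hy | rfl)
    exacts [hy.1, hc]
  refine (Primitive.maximal hD hprim hw ha _ ?_
    (Subgroup.closure_mono Set.subset_union_left)).resolve_left fun h => ?_
  · exact le_antisymm ((Subgroup.closure_le _).2 fun y hy => hy.2)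
      (Subgroup.closure_mono fun y hy => ⟨hS hy, Subgroup.subset_closure hy⟩)
  · apply hac
    refine loc_commute (D := D) ?_
    unfold loc
    rw [← h]
    exact Subgroup.subset_closure (Or.inr rfl)

/-- a nonempty invariant set of members fixed by an outer point is everything -/
theorem invariant_eq {a c : G} (ha : a ∈ D) (hc : c ∈ D) (hac : ¬ Commute a c) {X : Set G}
    (hX : X ⊆ D) {x : G} (hx : x ∈ X)
    (hloc : ∀ y ∈ D, Commute a y → ∀ v ∈ X, y * v * y⁻¹ ∈ X)
    (hfix : ∀ v ∈ X, c * v * c⁻¹ ∈ X) : ∀ v ∈ D, v ∈ X := by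
  intro v hv
  obtain ⟨g, rfl⟩ := hprim.1 x (hX hx) v hv
  have hg : g ∈ Subgroup.closure ({y : G | y ∈ D ∧ Commute a y} ∪ {c}) := by
    rw [closure_eq_top hD hprim hw ha hc hac]; exact Subgroup.mem_top g
  clear hv
  induction hg using Subgroup.closure_induction'' generalizing x with
  | one => simpa using hx
  | mem y hy =>
    rcases hy with hy | rfl
    exacts [hloc y hy.1 hy.2 x hx, hfix x hx]
  | inv_mem y hy =>
    rcases hy with hy | rfl
    · rw [Classes.inv hD hy.1]; exact hloc y hy.1 hy.2 x hx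
    · rw [Classes.inv hD hc]; exact hfix x hx
  | mul y z _ _ hy hz =>
    have := hy (hz hx)
    rwa [show y * (z * x * z⁻¹) * y⁻¹ = y * z * x * (y * z)⁻¹ by group] at this

/-- the common neighbours -/
theorem common_ncard {a p q : G} (h : Linked D a p q) :
    {x : G | x ∈ D ∧ Commute a x ∧ Commute x q}.ncard =
      {x : G | x ∈ D ∧ Commute a x ∧ Commute x p}.ncard := by
  obtain ⟨g, hg, rfl⟩ := h
  have hga := conj_self_of_commute (loc_commute hg)
  rw [← Primitive.cB_ncard g {x : G | x ∈ D ∧ Commute a x ∧ Commute x p}]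
  congr 1
  ext x
  constructor
  · rintro ⟨hx, hax, hxp⟩
    refine ⟨g⁻¹ * x * g, ⟨Classes.inv_conj_mem hD g hx, ?_, ?_⟩, by group⟩
    · have h1 := (Basic.commute_conj (g := g⁻¹)).2 hax
      rwa [show g⁻¹ * a * g⁻¹⁻¹ = a from conj_self_of_commute (loc_commute (inv_mem hg)), inv_inv] at h1
    · have h1 := (Basic.commute_conj (g := g⁻¹)).2 hxp
      rwa [show g⁻¹ * (g * p * g⁻¹) * g⁻¹⁻¹ = p by group, inv_inv] at h1
  · rintro ⟨u, ⟨hu, hau, hup⟩, rfl⟩
    refine ⟨hD.2.1 g u hu, ?_, Basic.commute_conj.2 hup⟩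
    conv_lhs => rw [← hga]
    exact Basic.commute_conj.2 hau

/-- every outer point has a neighbour among the local ones -/
theorem exists_common {a p : G} (ha : a ∈ D) (hp : p ∈ D) (hap : ¬ Commute a p) :
    ∃ x ∈ D, Commute a x ∧ Commute x p := by
  obtain ⟨w⟩ := (Primitive.connected hD hprim hw).preconnected ⟨a, ha⟩ ⟨p, hp⟩
  suffices h : ∀ u v : D, (Cfsg.commutingGraph D).Walk u v →
      (Commute a u ∨ ∃ x ∈ D, Commute a x ∧ Commute x (u : G)) →
      (Commute a v ∨ ∃ x ∈ D, Commute a x ∧ Commute x (v : G)) from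
    (h _ _ w (Or.inl (Commute.refl a))).resolve_left hap
  intro u v w
  induction w with
  | nil => exact id
  | @cons u v z huv q ih =>
    intro hu
    refine ih ?_
    have hc : Commute (u : G) (v : G) := by
      simp only [Cfsg.commutingGraph, SimpleGraph.fromRel_adj] at huv
      exact huv.2.elim id fun h => h.symm
    by_cases hav : Commute a (v : G)
    · exact Or.inl hav
    right
    by_cases hau : Commute a (u : G)
    · exact ⟨u, u.2, hau, hc⟩
    obtain ⟨x, hx, hax, hxu⟩ := hu.resolve_left hau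
    obtain ⟨g, hg, hgu⟩ := linked_of_commute hD ha u.2 v.2 hau hav hc
    refine ⟨g * x * g⁻¹, hD.2.1 g x hx, ?_, hgu ▸ Basic.commute_conj.2 hxu⟩
    rw [← conj_self_of_commute (loc_commute hg)]
    exact Basic.commute_conj.2 hax

/-- transitivity on the members not commuting with `a` -/
theorem linked_outer {a c y : G} (ha : a ∈ D) (hc : c ∈ D) (hy : y ∈ D) (hac : ¬ Commute a c)
    (hay : ¬ Commute a y) : Linked D a c y := by
  classical
  by_contra hne
  wlog hle : {x : G | x ∈ D ∧ Commute a x ∧ Commute x y}.ncard ≤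
      {x : G | x ∈ D ∧ Commute a x ∧ Commute x c}.ncard generalizing c y
  · exact this hy hc hay hac (fun h => hne h.symm) (le_of_not_ge hle)
  have hsub : ∀ c', Linked D a c c' → {x : G | x ∈ D ∧ Commute a x ∧ Commute x y} ⊆
      {x : G | x ∈ D ∧ Commute a x ∧ Commute x c'} := by
    intro c' hcc'
    obtain ⟨hpD, hpc⟩ := linked_preserves hD hcc'
    have hc' := hpD hc
    have hac' : ¬ Commute a c' := fun h => hac (hpc.2 h)
    have hne' : ¬ Linked D a c' y := fun h => hne (hcc'.trans h)
    have hn : ¬ Commute c' y := fun h => hne' (linked_of_commute hD ha hc' hy hac' hay h)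
    have hcard := hle.trans (common_ncard hD hprim hw hcc').ge
    set z := y * c' * y with hz
    have hzc : z = c' * y * c' := (braid3 hD hc' hy hn).symm
    have haz : ¬ Commute a z := fun h =>
      hne' (linked_of_third hD hy hc' (fun h' => hn h'.symm) h)
    by_cases hlink : Linked D a y z
    · -- then a neighbour of `y` is a neighbour of `c'`
      intro x hx
      refine ⟨hx.1, hx.2.1, ?_⟩
      by_contra hxc
      have := linked_third_of_local hD ha hy hc' hx.1 hac' (fun h => hn h.symm)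
        (show ¬ Commute a (c' * y * c') by rwa [← hzc]) hx.2.1 hx.2.2 hxc
      rw [← hzc] at this
      exact hne' (this.trans hlink.symm)
    · have hs : {x : G | x ∈ D ∧ Commute a x ∧ Commute x c'} ⊆
          {x : G | x ∈ D ∧ Commute a x ∧ Commute x y} := by
        intro x hx
        refine ⟨hx.1, hx.2.1, ?_⟩
        by_contra hxy
        exact hlink (linked_third_of_local hD ha hc' hy hx.1 hay hn haz hx.2.1 hx.2.2 hxy)
      exact (Set.eq_of_subset_of_ncard_le hs hcard (Set.toFinite _)).ge
  obtain ⟨x, hx, hax, hxy⟩ := exists_common hD hprim hw ha hy hay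
  set X : Set G := {v | v ∈ D ∧ Commute a v ∧ ∀ c', Linked D a c c' → Commute v c'} with hX
  have hall : ∀ v ∈ D, v ∈ X := by
    refine invariant_eq hD hprim hw ha hc hac (fun v hv => hv.1)
      (show x ∈ X from ⟨hx, hax, fun c' h => (hsub c' h ⟨hx, hax, hxy⟩).2.2⟩) ?_ ?_
    · rintro g hg hag v ⟨hv, hav, hvc⟩
      refine ⟨hD.2.1 g v hv, ?_, fun c' h => ?_⟩
      · rw [← conj_self_of_commute hag]
        exact Basic.commute_conj.2 hav
      · have := (Basic.commute_conj (g := g)).2 (hvc (g⁻¹ * c' * g)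
          (h.trans ⟨g⁻¹, inv_mem (mem_loc hg hag), by group⟩))
        rwa [show g * (g⁻¹ * c' * g) * g⁻¹ = c' by group] at this
    · rintro v ⟨hv, hav, hvc⟩
      rw [conj_self_of_commute (hvc c (Linked.refl a c))]
      exact ⟨hv, hav, hvc⟩
  exact hac (hall c hc).2.1

/-- transitivity on the other members commuting with `a` -/
theorem linked_inner (z2 : Cfsg.pCore 2 G ≤ Subgroup.center G) {a b b' : G} (ha : a ∈ D)
    (hb : b ∈ D) (hb' : b' ∈ D) (hab : Commute a b) (hab' : Commute a b') (hba : b ≠ a)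
    (hba' : b' ≠ a) : Linked D a b b' := by
  classical
  by_contra hne
  set O : G → Set G := fun p => {q | Linked D a p q} with hO
  set M : Set G := {p | p ∈ D ∧ Commute a p ∧ p ≠ a}
  obtain ⟨w₀, hw₀, hmax⟩ := Set.exists_max_image M (fun p => (O p).ncard) (Set.toFinite M)
    ⟨b, hb, hab, hba⟩
  obtain ⟨v, ⟨hv, hav, hva⟩, hvw⟩ : ∃ v ∈ M, ¬ Linked D a w₀ v := by
    by_cases h : Linked D a w₀ b
    · exact ⟨b', ⟨hb', hab', hba'⟩, fun h' => hne (h.symm.trans h')⟩
    · exact ⟨b, ⟨hb, hab, hba⟩, h⟩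
  have hOM : ∀ p ∈ M, ∀ q, Linked D a p q → q ∈ M := by
    rintro p ⟨hp, hap, hpa⟩ q hq
    obtain ⟨h1, h2⟩ := linked_preserves hD hq
    refine ⟨h1 hp, h2.1 hap, ?_⟩
    rintro rfl
    obtain ⟨g, hg, hgp⟩ := hq
    exact hpa (mul_left_cancel (mul_right_cancel (hgp.trans (conj_self_of_commute (loc_commute hg)).symm)))
  -- unlinked inner members commute
  have hcomm : ∀ p ∈ M, ∀ q ∈ M, ¬ Commute p q → Linked D a p q := by
    rintro p ⟨hp, hap, -⟩ q ⟨hq, haq, -⟩ h
    exact (linked_of_third hD hp hq h ((hap.mul_right haq).mul_right hap)).symm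
  have hvO : ∀ q ∈ O w₀, Commute v q := fun q hq => by
    by_contra h
    exact hvw (Linked.trans hq (hcomm v ⟨hv, hav, hva⟩ q (hOM w₀ hw₀ q hq) h).symm)
  -- an outer neighbour
  obtain ⟨c₀, hc₀, hac₀, hvc₀⟩ : ∃ c ∈ D, ¬ Commute a c ∧ Commute v c := by
    by_contra! hcon
    have hsub : {y : G | y ∈ D ∧ Commute v y} ⊆ {y : G | y ∈ D ∧ Commute a y} := fun y hy =>
      ⟨hy.1, by_contra fun h => hcon y hy.1 h hy.2⟩
    obtain ⟨g, hg⟩ := hprim.1 a ha v hv
    have hcard : {y : G | y ∈ D ∧ Commute a y}.ncard ≤ {y : G | y ∈ D ∧ Commute v y}.ncard := by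
      rw [← Primitive.cB_ncard g {y : G | y ∈ D ∧ Commute a y}]
      refine Set.ncard_le_ncard ?_ (Set.toFinite _)
      rintro _ ⟨y, ⟨hy, hay⟩, rfl⟩
      exact ⟨hD.2.1 g y hy, hg ▸ Basic.commute_conj.2 hay⟩
    have heq := Set.eq_of_subset_of_ncard_le hsub hcard (Set.toFinite _)
    have hV : Classes.SameComm D a v := ⟨hv, fun e he =>
      ⟨fun h => ((Set.ext_iff.1 heq e).1 ⟨he, h⟩).2, fun h => ((Set.ext_iff.1 heq e).2 ⟨he, h⟩).2⟩⟩
    have hz := Subgroup.mem_center_iff.1 (z2 ((Classes.sameComm_iff_mem hD ha).1 hV).2)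
    obtain ⟨e, he, hae⟩ := Classes.exists_noncomm hD hprim.1 hprim.2.1 ha
    refine hva (Classes.eq_of_conj_eq hD hv ha he (fun h => hae ((hV.2 e he).1 h)) hae ?_)
    calc v * e * v⁻¹ = a * ((a⁻¹ * v) * e) * (a⁻¹ * v)⁻¹ * a⁻¹ := by group
      _ = a * e * a⁻¹ := by rw [← hz e]; group
  -- some outer neighbour does not commute with the large orbit
  obtain ⟨c, w₁, hcD, hac, hvc, hw₁, hcw⟩ : ∃ c w₁, c ∈ D ∧ ¬ Commute a c ∧ Commute v c ∧
      w₁ ∈ O w₀ ∧ ¬ Commute c w₁ := by
    by_contra! hcon
    have hall : ∀ c ∈ D, ¬ Commute a c → ∀ w ∈ O w₀, Commute c w := by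
      intro c hc hac w hw'
      obtain ⟨g, hg, rfl⟩ := linked_outer hD hprim hw ha hc₀ hc hac₀ hac
      have h1 := hcon c₀ (g⁻¹ * w * g) hc₀ hac₀ hvc₀
        (Linked.trans hw' ⟨g⁻¹, inv_mem hg, by group⟩)
      have h2 := (Basic.commute_conj (g := g)).2 h1
      rwa [show g * (g⁻¹ * w * g) * g⁻¹ = w by group] at h2
    have hX := invariant_eq hD hprim hw ha hc₀ hac₀ (X := O w₀)
      (fun q hq => (hOM w₀ hw₀ q hq).1) (show w₀ ∈ O w₀ from Linked.refl a w₀)
      (fun y hy hay q hq => Linked.trans hq ⟨y, mem_loc hy hay, rfl⟩)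
      (fun q hq => by rwa [conj_self_of_commute (hall c₀ hc₀ hac₀ q hq).symm])
      a ha
    exact (hOM w₀ hw₀ a hX).2.2 rfl
  obtain ⟨hw₁D, haw₁, -⟩ := hOM w₀ hw₀ w₁ hw₁
  have hlv : ∀ p q, p ∈ D → q ∈ D → Commute v p → Commute v q → ¬ Commute p q → Linked D v p q :=
    fun p q hp hq h1 h2 h => (linked_of_third hD hp hq h ((h1.mul_right h2).mul_right h1)).symm
  have hw₁S : Linked D v a w₁ := (hlv a c ha hcD hav.symm hvc hac).trans
    (hlv c w₁ hcD hw₁D hvc (hvO w₁ hw₁) hcw)
  have hS : ∀ q ∈ O w₀, Linked D v a q := by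
    intro q hq
    obtain ⟨g, hg, rfl⟩ := Linked.trans hw₁.symm hq
    have step : ∀ y ∈ D, Commute a y → ∀ p ∈ O w₀, Linked D v a p → Linked D v a (y * p * y⁻¹) := by
      intro y hy hay p hp hap
      by_cases hc : Commute y p
      · rwa [conj_self_of_commute hc.symm]
      obtain ⟨hpD, hap', -⟩ := hOM w₀ hw₀ p hp
      have hya : y ≠ a := fun e => hc (by rw [e]; exact hap')
      have hyO : y ∈ O w₀ := Linked.trans hp
        (hcomm p ⟨hpD, hap', (hOM w₀ hw₀ p hp).2.2⟩ y ⟨hy, hay, hya⟩ fun h => hc h.symm)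
      exact hap.trans ⟨y, mem_loc hy (hvO y hyO), rfl⟩
    suffices h : ∀ p ∈ O w₀, Linked D v a p → Linked D v a (g * p * g⁻¹) from h w₁ hw₁ hw₁S
    clear hq
    induction hg using Subgroup.closure_induction'' with
    | one => intro p _ h; simpa using h
    | mem y hy => exact step y hy.1 hy.2
    | inv_mem y hy => rw [Classes.inv hD hy.1]; exact step y hy.1 hy.2
    | mul y z hy' hz' hy hz =>
      intro p hp hap
      have h1 := hy _ (Linked.trans hp ⟨z, hz', rfl⟩) (hz p hp hap)
      rwa [show y * (z * p * z⁻¹) * y⁻¹ = y * z * p * (y * z)⁻¹ by group] at h1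
  -- transport to `a`
  obtain ⟨g, hg⟩ := hprim.1 v hv a ha
  have hmap : ∀ p q, Linked D v p q → Linked D a (g * p * g⁻¹) (g * q * g⁻¹) := by
    rintro p _ ⟨h, hh, rfl⟩
    refine ⟨g * h * g⁻¹, ?_, by group⟩
    induction hh using Subgroup.closure_induction with
    | mem y hy => exact mem_loc (hD.2.1 g y hy.1) (hg ▸ Basic.commute_conj.2 hy.2)
    | one => simp [one_mem]
    | mul y z _ _ hy hz =>
      rw [show g * (y * z) * g⁻¹ = (g * y * g⁻¹) * (g * z * g⁻¹) by group]
      exact mul_mem hy hz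
    | inv y _ hy =>
      rw [show g * y⁻¹ * g⁻¹ = (g * y * g⁻¹)⁻¹ by group]
      exact inv_mem hy
  set a' := g * a * g⁻¹ with ha'
  have ha'M : a' ∈ M := ⟨hD.2.1 g a ha, by
    have := (Basic.commute_conj (g := g)).2 hav.symm
    rwa [hg] at this, fun e => hva (mul_left_cancel (mul_right_cancel (hg.trans e.symm)))⟩
  have hsub : (fun q => g * q * g⁻¹) '' (insert a (O w₀)) ⊆ O a' := by
    rintro _ ⟨q, hq, rfl⟩
    rcases hq with rfl | hq
    · exact Linked.refl _ _
    · exact hmap a q (hS q hq)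
  have h1 := Set.ncard_le_ncard hsub (Set.toFinite _)
  rw [Set.ncard_image_of_injective _ (fun p q h => mul_left_cancel (mul_right_cancel h)),
    Set.ncard_insert_of_notMem (show a ∉ O w₀ from fun h => (hOM w₀ hw₀ a h).2.2 rfl)
      (Set.toFinite _)] at h1
  have h2 := hmax a' ha'M
  omega

end Cfsg.Agent.ThreeTransp.RankThree
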