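import Cfsg.Agent.Lib.ThreeTransp.TwoQuotient

/-!
The shape of the quotient: `S₃` or `3^{1+2}:2`.
-/

set_option autoImplicit false

namespace Cfsg.Agent.ThreeTransp.TwoQuotient

open Cfsg.Agent.ThreeTransp
open scoped commutatorElement

variable {H : Type*} [Group H] [Finite H] {D : Set H} {P : Subgroup (H ⧸ Cfsg.pCore 2 H)} {d : H}
variable (S : Setup D P d)
include S

theorem conj_mem_P {p : H ⧸ Cfsg.pCore 2 H} (hp : p ∈ P) : pr H d * p * pr H d ∈ P := by
  have := S.nP.conj_mem p hp (pr H d)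
  rwa [pr_inv S] at this

theorem closure_inv_eq : Subgroup.closure {i | Inv P d i} = P := by
  refine le_antisymm ((Subgroup.closure_le _).2 fun i hi => hi.1) ?_
  set L := Subgroup.closure {i | Inv P d i} with hL
  have hLP : L ≤ P := (Subgroup.closure_le _).2 fun i hi => hi.1
  have hstab : ∀ x ∈ L, pr H d * x * pr H d ∈ L := by
    intro x hx
    induction hx using Subgroup.closure_induction with
    | mem y hy => rw [hy.2]; exact L.inv_mem (Subgroup.subset_closure hy)
    | one => rw [mul_one, sq_pr S]; exact one_mem _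
    | mul y w _ _ hy hw =>
      rw [show pr H d * (y * w) * pr H d = (pr H d * y * pr H d) * (pr H d * w * pr H d) by
        simp only [mul_assoc]; rw [← mul_assoc (pr H d) (pr H d), sq_pr S, one_mul]]
      exact mul_mem hy hw
    | inv y _ hy =>
      rw [show pr H d * y⁻¹ * pr H d = (pr H d * y * pr H d)⁻¹ by
        rw [_root_.mul_inv_rev, _root_.mul_inv_rev, pr_inv S, mul_assoc]]
      exact inv_mem hy
  -- every member lies over a coset of the generators
  have hall : ∀ x : H ⧸ Cfsg.pCore 2 H, x ∈ L ∨ pr H d * x ∈ L := by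
    intro x
    have htop : Subgroup.closure (pr H '' D) = ⊤ := by
      rw [← MonoidHom.map_closure, S.grp.2.2, Subgroup.map_top_of_surjective]
      exact QuotientGroup.mk'_surjective _
    have hx : x ∈ Subgroup.closure (pr H '' D) := htop ▸ Subgroup.mem_top x
    refine Basic.closure_subset_of_left_stable (S := {x | x ∈ L ∨ pr H d * x ∈ L}) ?_ ?_ ?_ hx
    · rintro _ ⟨e, he, rfl⟩; rw [← map_mul, Classes.sq S.grp he, map_one]
    · exact Or.inl (one_mem _)
    · rintro _ ⟨e, he, rfl⟩ y hy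
      set i := pr H (d * e) with hi
      have hiI : Inv P d i := by
        refine ⟨member_prod S he, ?_⟩
        rw [hi, ← map_mul, ← map_mul, ← map_inv, _root_.mul_inv_rev, Classes.inv S.grp he,
          Classes.inv S.grp S.mem, ← mul_assoc d d e, sq_d S, one_mul]
      have hiL : i ∈ L := Subgroup.subset_closure hiI
      have hee : pr H e = pr H d * i := by rw [hi, ← map_mul, ← mul_assoc, sq_d S, one_mul]
      rcases hy with hy | hy
      · right
        rw [hee, ← mul_assoc (pr H d) (pr H d * i) y, ← mul_assoc (pr H d) (pr H d) i, sq_pr S, one_mul]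
        exact mul_mem hiL hy
      · left
        rw [hee, show pr H d * i * y = (pr H d * i * pr H d) * (pr H d * y) by
          simp only [mul_assoc]; rw [← mul_assoc (pr H d) (pr H d) y, sq_pr S, one_mul]]
        exact mul_mem (hstab i hiL) hy
  intro p hp
  rcases hall p with h | h
  · exact h
  · exact absurd (by simpa using P.mul_mem (hLP h) (inv_mem hp)) S.notP

theorem closure_eq_top {T : Set (H ⧸ Cfsg.pCore 2 H)} (hT : P ≤ Subgroup.closure T) :
    Subgroup.closure (insert (pr H d) T) = ⊤ := by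
  refine eq_top_iff.2 fun x _ => ?_
  have hd : pr H d ∈ Subgroup.closure (insert (pr H d) T) := Subgroup.subset_closure (Set.mem_insert _ _)
  have hP : P ≤ Subgroup.closure (insert (pr H d) T) :=
    hT.trans (Subgroup.closure_mono (Set.subset_insert _ _))
  by_cases hx : x ∈ P
  · exact hP hx
  · have h : pr H d * x ∈ P := by
      rw [P.mul_mem_iff_of_index_two S.idx]
      exact iff_of_false S.notP hx
    have := mul_mem hd (hP h)
    rwa [← mul_assoc, sq_pr S, one_mul] at this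

theorem exists_inv_ne_one (h2 : ∃ a ∈ D, ∃ b ∈ D, a ≠ b) : ∃ i, Inv P d i ∧ i ≠ 1 := by
  by_contra hcon
  push Not at hcon
  obtain ⟨e, he, hde⟩ := Classes.exists_noncomm S.grp S.trans h2 S.mem
  have h := hcon (pr H (d * e)) ⟨member_prod S he, by
    rw [← map_mul, ← map_mul, ← map_inv, _root_.mul_inv_rev, Classes.inv S.grp he,
      Classes.inv S.grp S.mem, ← mul_assoc d d e, sq_d S, one_mul]⟩
  refine hde (Basic.commute_of_pGroup S.grp.1 Nat.prime_two (by norm_num) (Cores.pCore_isPGroup 2)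
    S.mem he (pr_eq_one.1 h))

/-- A central element of `P` which the involution inverts is trivial, unless `P` is abelian. -/
theorem fixed_of_central (hnab : ¬ ∀ a ∈ P, ∀ b ∈ P, Commute a b) {z : H ⧸ Cfsg.pCore 2 H}
    (hzP : z ∈ P) (hz : ∀ q ∈ P, Commute z q) : pr H d * z * pr H d = z := by
  set w := z * (pr H d * z * pr H d)⁻¹ with hw
  have hzc : ∀ q ∈ P, Commute (pr H d * z * pr H d) q := by
    intro q hq
    have h := (hz _ (conj_mem_P S hq)).eq
    show pr H d * z * pr H d * q = q * (pr H d * z * pr H d)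
    calc pr H d * z * pr H d * q = pr H d * (z * (pr H d * q * pr H d)) * pr H d := by
          simp only [mul_assoc]; rw [sq_pr S, mul_one]
      _ = pr H d * ((pr H d * q * pr H d) * z) * pr H d := by rw [h]
      _ = _ := by simp only [← mul_assoc]; rw [sq_pr S, one_mul]
  have hwP : w ∈ P := mul_mem hzP (inv_mem (conj_mem_P S hzP))
  have hwc : ∀ q ∈ P, Commute w q := fun q hq => (hz q hq).mul_left (hzc q hq).inv_left
  have hwi : Inv P d w := by
    refine ⟨hwP, ?_⟩
    rw [hw, _root_.mul_inv_rev z (pr H d * z * pr H d)⁻¹, inv_inv]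
    calc pr H d * (z * (pr H d * z * pr H d)⁻¹) * pr H d
        = (pr H d * z * pr H d) * (pr H d * (pr H d * z * pr H d)⁻¹ * pr H d) := by
          simp only [mul_assoc]; rw [← mul_assoc (pr H d) (pr H d), sq_pr S, one_mul]
      _ = _ := by
          rw [show pr H d * (pr H d * z * pr H d)⁻¹ * pr H d = z⁻¹ by
            rw [_root_.mul_inv_rev, _root_.mul_inv_rev, pr_inv S]
            simp only [← mul_assoc]; rw [sq_pr S, one_mul, mul_assoc, sq_pr S, mul_one]]
  have hw1 : w = 1 := by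
    by_contra hne
    refine hnab fun a ha b hb => ?_
    have hsub : P ≤ Subgroup.zpowers w := by
      conv_lhs => rw [← closure_inv_eq S]
      exact (Subgroup.closure_le _).2 fun i hi => dependent S hwi hi (hwc i hi.1) hne
    obtain ⟨m, rfl⟩ := Subgroup.mem_zpowers_iff.1 (hsub ha)
    obtain ⟨n, rfl⟩ := Subgroup.mem_zpowers_iff.1 (hsub hb)
    exact (Commute.refl w).zpow_zpow m n
  exact (mul_inv_eq_one.1 hw1).symm

/-- In the abelian case the quotient has order six. -/
theorem card_eq_six (h2 : ∃ a ∈ D, ∃ b ∈ D, a ≠ b) (hab : ∀ a ∈ P, ∀ b ∈ P, Commute a b) :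
    ∃ i, Inv P d i ∧ i ≠ 1 ∧ Nat.card (H ⧸ Cfsg.pCore 2 H) = 6 := by
  haveI : Fact (Nat.Prime 3) := ⟨Nat.prime_three⟩
  obtain ⟨i, hi, hne⟩ := exists_inv_ne_one S h2
  refine ⟨i, hi, hne, ?_⟩
  have hP : P = Subgroup.zpowers i := by
    refine le_antisymm ?_ (Subgroup.zpowers_le.2 hi.1)
    conv_lhs => rw [← closure_inv_eq S]
    exact (Subgroup.closure_le _).2 fun j hj => dependent S hi hj (hab i hi.1 j hj.1) hne
  rw [← P.card_mul_index, S.idx, hP, Nat.card_zpowers, orderOf_eq_prime (inv_cube S hi) hne]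

omit S in
/-- A nonabelian group of order six is `S₃`. -/
theorem equiv_perm_three {K : Type*} [Group K] [Finite K] (h6 : Nat.card K = 6) {b i : K}
    (hb : b * b = 1) (hb1 : b ≠ 1) (hi : b * i * b = i⁻¹) (hi1 : i ≠ 1) (hi3 : i ^ 3 = 1) :
    Nonempty (K ≃* Equiv.Perm (Fin 3)) := by
  classical
  haveI : Fact (Nat.Prime 2) := ⟨Nat.prime_two⟩
  set B₀ := Subgroup.zpowers b with hB
  have hcard : Nat.card B₀ = 2 := by
    rw [hB, Nat.card_zpowers, orderOf_eq_prime (by rw [pow_two, hb]) hb1]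
  have hidx : Nat.card (K ⧸ B₀) = 3 := by
    have h := B₀.card_mul_index
    rw [hcard, h6] at h
    show B₀.index = 3
    omega
  haveI : Fintype (K ⧸ B₀) := Fintype.ofFinite _
  have e : K ⧸ B₀ ≃ Fin 3 := Fintype.equivFinOfCardEq (by rw [← Nat.card_eq_fintype_card, hidx])
  let f : K →* Equiv.Perm (Fin 3) := e.permCongrHom.toMonoidHom.comp (MulAction.toPermHom K (K ⧸ B₀))
  have hinj : Function.Injective f := by
    refine e.permCongrHom.injective.comp ?_
    rw [injective_iff_map_eq_one]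
    intro g hg
    have h1 : ∀ x : K, x⁻¹ * g * x ∈ B₀ := fun x => by
      have := Equiv.congr_fun hg (QuotientGroup.mk x)
      have h' : (QuotientGroup.mk (g * x) : K ⧸ B₀) = QuotientGroup.mk x := this
      have h'' := inv_mem (QuotientGroup.eq.1 h')
      simpa [mul_assoc] using h''
    have hm : ∀ y ∈ B₀, y = 1 ∨ y = b := by
      intro y hy
      obtain ⟨n, rfl⟩ := Submonoid.mem_powers_iff _ _ |>.1 (mem_powers_iff_mem_zpowers.2 hy)
      rcases Nat.even_or_odd n with ⟨k, rfl⟩ | ⟨k, rfl⟩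
      · left; rw [← two_mul, pow_mul, pow_two, hb, one_pow]
      · right; rw [pow_succ, pow_mul, pow_two, hb, one_pow, one_mul]
    have hg1 : g = 1 ∨ g = b := hm g (by simpa using h1 1)
    rcases hg1 with rfl | rfl
    · rfl
    · exfalso
      rcases hm _ (h1 i) with h | h
      · exact hb1 (by rwa [mul_assoc, inv_mul_eq_one, eq_comm, mul_eq_right] at h)
      · have h' : g * i = i * g := by rwa [mul_assoc, inv_mul_eq_iff_eq_mul] at h
        rw [h', mul_assoc, hb, mul_one] at hi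
        refine hi1 ?_
        have h4 : i * i = 1 := by nth_rewrite 1 [hi]; rw [inv_mul_cancel]
        rwa [pow_succ, pow_two, h4, one_mul] at hi3
  haveI : Fintype K := Fintype.ofFinite _
  exact ⟨MulEquiv.ofBijective f ((Fintype.bijective_iff_injective_and_card _).2
    ⟨hinj, by rw [← Nat.card_eq_fintype_card, h6]; rfl⟩)⟩

/-- Normal forms in the nonabelian case. -/
theorem exists_rels (hnab : ¬ ∀ a ∈ P, ∀ b ∈ P, Commute a b) :
    ∃ u y z : H ⧸ Cfsg.pCore 2 H, Heis.Rels u y z (pr H d) ∧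
      Function.Injective (Heis.nf u y z (pr H d)) ∧
      Subgroup.closure ({u, y, pr H d} : Set (H ⧸ Cfsg.pCore 2 H)) = ⊤ := by
  classical
  haveI : Fact (Nat.Prime 3) := ⟨Nat.prime_three⟩
  set db := pr H d with hdb
  let Z : Set (H ⧸ Cfsg.pCore 2 H) := {x | x ∈ P ∧ ∀ q ∈ P, Commute x q}
  have hconj : ∀ x y : H ⧸ Cfsg.pCore 2 H, db * (x * y) * db = (db * x * db) * (db * y * db) := by
    intro x y; simp only [mul_assoc]; rw [← mul_assoc db db, sq_pr S, one_mul]
  have hconj' : ∀ x : H ⧸ Cfsg.pCore 2 H, db * x⁻¹ * db = (db * x * db)⁻¹ := by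
    intro x; rw [_root_.mul_inv_rev, _root_.mul_inv_rev, pr_inv S, mul_assoc]
  have hdd : ∀ x : H ⧸ Cfsg.pCore 2 H, db * (db * x * db) * db = x := by
    intro x; simp only [← mul_assoc]; rw [sq_pr S, one_mul, mul_assoc, sq_pr S, mul_one]
  have hfix : ∀ x ∈ Z, db * x * db = x := fun x hx => fixed_of_central S hnab hx.1 hx.2
  -- an element of the second centre
  obtain ⟨t, htP, ht2, htZ⟩ : ∃ t ∈ P, (∀ q ∈ P, ⁅t, q⁆ ∈ Z) ∧ t ∉ Z := by
    have hmemZ : ∀ x : P, x ∈ Subgroup.center P → (x : H ⧸ Cfsg.pCore 2 H) ∈ Z := fun x hx =>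
      ⟨x.2, fun q hq => (congrArg Subtype.val (Subgroup.mem_center_iff.1 hx ⟨q, hq⟩)).symm⟩
    haveI : Nontrivial (P ⧸ Subgroup.center P) := by
      by_contra hn
      rw [not_nontrivial_iff_subsingleton] at hn
      refine hnab fun a ha b hb => ?_
      have h := hmemZ ⟨a, ha⟩ ((QuotientGroup.eq_one_iff _).1 (Subsingleton.elim _ _))
      exact h.2 b hb
    haveI := (S.p3.to_quotient (Subgroup.center P)).center_nontrivial
    obtain ⟨⟨w, hw⟩, hwne⟩ := exists_ne (1 : Subgroup.center (P ⧸ Subgroup.center P))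
    obtain ⟨⟨t, ht⟩, rfl⟩ := QuotientGroup.mk'_surjective _ w
    refine ⟨t, ht, fun q hq => ?_, fun hz => hwne (Subtype.ext ((QuotientGroup.eq_one_iff _).2 ?_))⟩
    · refine hmemZ ⁅(⟨t, ht⟩ : P), ⟨q, hq⟩⁆ ((QuotientGroup.eq_one_iff _).1 ?_)
      show QuotientGroup.mk' (Subgroup.center P) ⁅(⟨t, ht⟩ : P), ⟨q, hq⟩⁆ = 1
      rw [map_commutatorElement, commutatorElement_eq_one_iff_mul_comm]
      exact (Subgroup.mem_center_iff.1 hw _).symm
    · exact Subgroup.mem_center_iff.2 fun q => Subtype.ext (hz.2 q q.2).eq.symm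
  -- commutator identities
  have cl : ∀ a b q : H ⧸ Cfsg.pCore 2 H, ⁅a * b, q⁆ = a * ⁅b, q⁆ * a⁻¹ * ⁅a, q⁆ := fun a b q => by
    simp only [commutatorElement_def]; group
  have hZc : ∀ {x a : H ⧸ Cfsg.pCore 2 H}, x ∈ Z → a ∈ P → a * x * a⁻¹ = x := fun hx ha => by
    rw [← (hx.2 _ ha).eq, mul_inv_cancel_right]
  have hZm : ∀ {x y : H ⧸ Cfsg.pCore 2 H}, x ∈ Z → y ∈ Z → x * y ∈ Z := fun hx hy =>
    ⟨mul_mem hx.1 hy.1, fun q hq => (hx.2 q hq).mul_left (hy.2 q hq)⟩
  set u := t⁻¹ * (db * t * db) with hu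
  have htd : db * t * db ∈ P := conj_mem_P S htP
  have huI : Inv P d u := ⟨mul_mem (inv_mem htP) htd, by
    rw [hu, hconj, hdd, hconj', _root_.mul_inv_rev t⁻¹ (db * t * db), inv_inv]⟩
  have hu2 : ∀ q ∈ P, ⁅u, q⁆ ∈ Z := by
    intro q hq
    have h1 : ⁅db * t * db, q⁆ ∈ Z := by
      have h := ht2 _ (conj_mem_P S hq)
      have e : ⁅db * t * db, q⁆ = db * ⁅t, db * q * db⁆ * db := by
        conv_lhs => rw [← hdd q]
        simp only [commutatorElement_def, hconj, hconj']
      rw [e, hfix _ h]; exact h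
    have h2 : ⁅t⁻¹, q⁆ = t⁻¹ * ⁅t, q⁆⁻¹ * t⁻¹⁻¹ := by simp only [commutatorElement_def]; group
    have h3 : ⁅t, q⁆⁻¹ ∈ Z := ⟨inv_mem (ht2 q hq).1, fun r hr => ((ht2 q hq).2 r hr).inv_left⟩
    rw [hu, cl, h2, hZc h3 (inv_mem htP), hZc h1 (inv_mem htP)]
    exact hZm h1 h3
  have huZ : u ∉ Z := by
    intro h
    have hfx := hfix u h
    rw [huI.2] at hfx
    have hu1 : u = 1 := eq_one_of_sq S huI.1 (by nth_rewrite 1 [← hfx]; exact inv_mul_cancel u)
    have hdt : db * t * db = t := (inv_mul_eq_one.1 hu1).symm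
    refine htZ ⟨htP, fun q hq => ?_⟩
    rw [← closure_inv_eq S] at hq
    induction hq using Subgroup.closure_induction with
    | mem i hi =>
      have hc := ht2 i hi.1
      have hi2 : db * i * db = i⁻¹ := hi.2
      have e1 : db * ⁅t, i⁆ * db = ⁅t, i⁻¹⁆ := by
        simp only [commutatorElement_def, hconj, hconj', hdt, hi2]
      rw [hfix _ hc] at e1
      have e2 : ⁅t, i⁻¹⁆ = i⁻¹ * ⁅t, i⁆⁻¹ * i⁻¹⁻¹ := by simp only [commutatorElement_def]; group
      have hc' : ⁅t, i⁆⁻¹ ∈ Z := ⟨inv_mem hc.1, fun r hr => (hc.2 r hr).inv_left⟩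
      rw [e2, hZc hc' (inv_mem hi.1)] at e1
      refine commutatorElement_eq_one_iff_mul_comm.1 (eq_one_of_sq S hc.1 ?_)
      nth_rewrite 1 [e1]
      exact inv_mul_cancel _
    | one => exact Commute.one_right t
    | mul a b _ _ ha hb => exact ha.mul_right hb
    | inv a _ ha => exact ha.inv_right
  have hu1 : u ≠ 1 := fun h => huZ (h ▸ ⟨one_mem _, fun q _ => Commute.one_left q⟩)
  -- the commutator map
  let φ : H ⧸ Cfsg.pCore 2 H → H ⧸ Cfsg.pCore 2 H := fun p => ⁅p, u⁆
  have hφZ : ∀ p ∈ P, φ p ∈ Z := fun p hp => by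
    have h := hu2 p hp
    show ⁅p, u⁆ ∈ Z
    rw [← commutatorElement_inv]
    exact ⟨inv_mem h.1, fun q hq => (h.2 q hq).inv_left⟩
  have hφm : ∀ p q, p ∈ P → q ∈ P → φ (p * q) = φ q * φ p := fun p q hp hq => by
    show ⁅p * q, u⁆ = _
    rw [cl, hZc (hφZ q hq) hp]
  have hφone : φ 1 = 1 := by simp [φ, commutatorElement_def]
  have hφpow : ∀ p ∈ P, ∀ n : ℕ, φ (p ^ n) = φ p ^ n := by
    intro p hp n
    induction n with
    | zero => simpa using hφone
    | succ n ih => rw [pow_succ, hφm _ _ (pow_mem hp n) hp, ih, pow_succ']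
  have hu3 := inv_cube S huI
  have hφ3 : ∀ p ∈ P, φ p ^ 3 = 1 := by
    intro p hp
    have h1 : p * u * p⁻¹ = φ p * u := by simp [φ, commutatorElement_def]
    have h2 : (φ p * u) ^ 3 = 1 := by rw [← h1, conj_pow, hu3, mul_one, mul_inv_cancel]
    rwa [((hφZ p hp).2 u huI.1).mul_pow, hu3, mul_one] at h2
  have hφd : ∀ p ∈ P, φ (db * p⁻¹ * db) = φ p := by
    intro p hp
    have hu2' : db * u * db = u⁻¹ := huI.2
    have e1 : db * ⁅p⁻¹, u⁻¹⁆ * db = φ (db * p⁻¹ * db) := by
      show _ = ⁅_, u⁆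
      simp only [commutatorElement_def, hconj, hconj', hu2', inv_inv]
    have e2 : ⁅p⁻¹, u⁻¹⁆ = (p⁻¹ * u⁻¹) * φ p * (p⁻¹ * u⁻¹)⁻¹ := by
      simp only [φ, commutatorElement_def]; group
    rw [← e1, e2, hZc (hφZ p hp) (mul_mem (inv_mem hp) (inv_mem huI.1)), hfix _ (hφZ p hp)]
  obtain ⟨y0, hy0, hy0ne⟩ : ∃ y, Inv P d y ∧ φ y ≠ 1 := by
    by_contra hcon
    push Not at hcon
    refine huZ ⟨huI.1, fun q hq => ?_⟩
    rw [← closure_inv_eq S] at hq
    induction hq using Subgroup.closure_induction with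
    | mem i hi => exact (commutatorElement_eq_one_iff_mul_comm.1 (hcon i hi)).symm
    | one => exact Commute.one_right u
    | mul a b _ _ ha hb => exact ha.mul_right hb
    | inv a _ ha => exact ha.inv_right
  set z := φ y0 with hz
  have hzZ := hφZ y0 hy0.1
  have hz3 := hφ3 y0 hy0.1
  have hyu : y0 * u = z * (u * y0) := by simp [hz, φ, commutatorElement_def, mul_assoc]
  -- the image of the commutator map has order three
  have hline : ∀ p ∈ P, φ p ∈ Subgroup.zpowers z := by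
    intro y1 hy1
    by_contra hind
    haveI : Fact (Nat.Prime 2) := ⟨Nat.prime_two⟩
    obtain ⟨s, hs⟩ := exists_lift S
    let zs : P := ⟨z, hzZ.1⟩
    let ws : P := ⟨φ y1, (hφZ y1 hy1).1⟩
    have hzw : Commute (s zs) (s ws) := (show Commute zs ws from Subtype.ext (hzZ.2 _ (hφZ y1 hy1).1)).map s
    have hz3' : (s zs) ^ 3 = 1 := by rw [← map_pow, show zs ^ 3 = 1 from Subtype.ext hz3, map_one]
    have hw3' : (s ws) ^ 3 = 1 := by rw [← map_pow, show ws ^ 3 = 1 from Subtype.ext (hφ3 y1 hy1), map_one]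
    set A := Subgroup.closure ({s zs, s ws} : Set H) with hA
    haveI : IsMulCommutative A := isMulCommutative_pair hzw
    have hnc : ¬ IsCyclic A := by
      refine not_isCyclic_pair hzw hz3' hw3' (fun h1 => hy0ne ?_) fun h1 => hind ?_
      · show (zs : H ⧸ Cfsg.pCore 2 H) = 1
        rw [← hs zs, h1, map_one]
      · obtain ⟨n, hn⟩ := Subgroup.mem_zpowers_iff.1 h1
        refine Subgroup.mem_zpowers_iff.2 ⟨n, ?_⟩
        show (zs : H ⧸ Cfsg.pCore 2 H) ^ n = (ws : H ⧸ Cfsg.pCore 2 H)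
        rw [← hs ws, ← hn, map_zpow, hs]
    have hAP : A ≤ s.range := by
      rw [hA, Subgroup.closure_le]
      rintro x (rfl | rfl) <;> exact ⟨_, rfl⟩
    have hgen := Coprime.fixedGen_eq hnc (K := Cfsg.pCore 2 H) Subgroup.le_normalizer_of_normal
      (IsPGroup.coprime_card_of_ne 3 2 (by norm_num) _ _
        ((IsPGroup.of_surjective S.p3 s.rangeRestrict s.rangeRestrict_surjective).to_le hAP)
        (Cores.pCore_isPGroup 2))
    let us : P := ⟨u, huI.1⟩
    have hle : Cfsg.pCore 2 H ≤ Subgroup.centralizer ({s us} : Set H) := by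
      refine hgen.ge.trans (iSup₂_le fun x ⟨hx, hx1⟩ r ⟨hr, hrx⟩ => ?_)
      obtain ⟨i, j, rfl⟩ := mem_closure_pair_iff hzw hx
      set p := (y1 ^ j * y0 ^ i) ^ 2 with hp
      have hp0 : y1 ^ j * y0 ^ i ∈ P := mul_mem (pow_mem hy1 j) (pow_mem hy0.1 i)
      have hpP : p ∈ P := pow_mem hp0 2
      set w := z ^ i * φ y1 ^ j with hw
      have hw3 : w ^ 3 = 1 := by
        rw [hw, ((hzZ.2 _ (hφZ y1 hy1).1).pow_pow i j).mul_pow, ← pow_mul, ← pow_mul, mul_comm i,
          mul_comm j, pow_mul, pow_mul, hz3, hφ3 y1 hy1, one_pow, one_pow, one_mul]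
      have hφp : φ p = w ^ 2 := by
        rw [hp, hφpow _ hp0, hφm _ _ (pow_mem hy1 j) (pow_mem hy0.1 i), hφpow _ hy0.1, hφpow _ hy1]
      let yy : P := ⟨p * (db * p⁻¹ * db), mul_mem hpP (conj_mem_P S (inv_mem hpP))⟩
      have hyI : Inv P d (yy : H ⧸ Cfsg.pCore 2 H) := ⟨yy.2, by
        show db * (p * (db * p⁻¹ * db)) * db = (p * (db * p⁻¹ * db))⁻¹
        rw [hconj, hdd, _root_.mul_inv_rev, hconj', inv_inv]⟩
      have hφy : φ yy = w := by
        show φ (p * (db * p⁻¹ * db)) = w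
        rw [hφm _ _ hpP (conj_mem_P S (inv_mem hpP)), hφd p hpP, hφp, ← pow_add,
          pow_eq_pow_mod _ hw3]
        simp
      let wz : P := zs ^ i * ws ^ j
      have hwv : (wz : H ⧸ Cfsg.pCore 2 H) = w := rfl
      have hsw : s wz = s zs ^ i * s ws ^ j := by rw [map_mul, map_pow, map_pow]
      have hwZ : w ∈ Z := hφy ▸ hφZ _ yy.2
      rw [← hsw] at hrx hx1
      refine Subgroup.mem_centralizer_singleton_iff.2 (centralises_fixed S s hs (u := us) (y := yy)
        (z := wz) huI hyI (Subtype.ext hw3) (fun h => hx1 (by rw [h, map_one]))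
        (Subtype.ext (hwZ.2 _ huI.1)) (Subtype.ext (hwZ.2 _ yy.2)) (Subtype.ext ?_) r hr
        (Subgroup.mem_centralizer_singleton_iff.1 hrx)).eq.symm
      show (yy : H ⧸ Cfsg.pCore 2 H) * u = (wz : H ⧸ Cfsg.pCore 2 H) * (u * yy)
      rw [hwv, ← hφy]
      simp [φ, commutatorElement_def, mul_assoc]
    exact hu1 (eq_one_of_centralises S s hs (a := us) fun r hr =>
      (Subgroup.mem_centralizer_singleton_iff.1 (hle hr)).symm)
  -- so two inverted elements generate
  have hgenP : P ≤ Subgroup.closure ({u, y0} : Set (H ⧸ Cfsg.pCore 2 H)) := by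
    conv_lhs => rw [← closure_inv_eq S]
    refine (Subgroup.closure_le _).2 fun i hi => ?_
    obtain ⟨b, hb⟩ := Submonoid.mem_powers_iff _ _ |>.1 (mem_powers_iff_mem_zpowers.2 (hline i hi.1))
    set c := y0 ^ b * i * y0 ^ b with hc
    have hyb := inv_pow S hy0 b
    have hcP : c ∈ P := mul_mem (mul_mem hyb.1 hi.1) hyb.1
    have hcI : Inv P d c := ⟨hcP, by
      rw [hc, hconj, hconj, hyb.2, hi.2]; group⟩
    have hφc : φ c = 1 := by
      rw [hc, hφm _ _ (mul_mem hyb.1 hi.1) hyb.1, hφm _ _ hyb.1 hi.1, hφpow _ hy0.1, ← hb,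
        ← pow_add, ← pow_add, show b + (b + b) = 3 * b by ring, pow_mul, hz3, one_pow]
    obtain ⟨k, hk⟩ := Subgroup.mem_zpowers_iff.1
      (dependent S huI hcI (commutatorElement_eq_one_iff_mul_comm.1 hφc).symm hu1)
    have mu : u ∈ Subgroup.closure ({u, y0} : Set (H ⧸ Cfsg.pCore 2 H)) :=
      Subgroup.subset_closure (Set.mem_insert _ _)
    have my : y0 ∈ Subgroup.closure ({u, y0} : Set (H ⧸ Cfsg.pCore 2 H)) :=
      Subgroup.subset_closure (Set.mem_insert_of_mem _ rfl)
    have hi' : i = (y0 ^ b)⁻¹ * c * (y0 ^ b)⁻¹ := by rw [hc]; group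
    rw [hi', ← hk]
    exact mul_mem (mul_mem (inv_mem (pow_mem my b)) (Subgroup.zpow_mem _ mu k)) (inv_mem (pow_mem my b))
  have hR : Heis.Rels u y0 z db := by
    refine ⟨hu3, inv_cube S hy0, hz3, sq_pr S, hzZ.2 _ huI.1, hzZ.2 _ hy0.1, ?_, hyu, huI.2, hy0.2⟩
    show z * db = db * z
    conv_lhs => rw [← hfix z hzZ]
    rw [mul_assoc, mul_assoc, sq_pr S, mul_one]
  have huzn : ∀ k : ℕ, u ≠ z ^ k := fun k h => huZ ⟨huI.1, fun q hq => h ▸ (hzZ.2 q hq).pow_left k⟩
  refine ⟨u, y0, z, hR, Heis.injective_nf hR hy0ne huzn ?_ (Heis.d_ne_form hR huzn), ?_⟩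
  · intro k l h
    refine hy0ne (commutatorElement_eq_one_iff_mul_comm.2 ?_)
    rw [h]
    exact (((hzZ.2 u huI.1).pow_left k).mul_left ((Commute.refl u).pow_left l)).eq
  · rw [show ({u, y0, db} : Set (H ⧸ Cfsg.pCore 2 H)) = insert db {u, y0} by
      ext x; simp only [Set.mem_insert_iff, Set.mem_singleton_iff]; tauto]
    exact closure_eq_top S hgenP

end Cfsg.Agent.ThreeTransp.TwoQuotient
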