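import Cfsg.Agent.Lib.ThreeTransp.Classes
import Cfsg.Agent.Lib.ThreeTransp.RankThree
import Cfsg.Agent.Lib.ThreeTransp.TwoQuotientShape
import Cfsg.Agent.Lib.ThreeTransp.Factor.Indep
import Cfsg.Agent.Lib.ThreeTransp.M22.Products
import Cfsg.Prelude.Def_EvenType

/-!
The normaliser of the subgroup generated by the product of two non-commuting members.
-/

set_option autoImplicit false
set_option linter.unusedSectionVars false

namespace Cfsg.Agent.ThreeTransp.FarPair

open Cfsg.Agent.ThreeTransp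
open Cfsg.Agent.ThreeTransp.Factor (nb)

variable {G : Type*} [Group G] {D : Set G} (hD : Cfsg.IsThreeTranspositionGroup D)
include hD

theorem mem_cent_pair {a d g : G} :
    g ∈ Subgroup.centralizer ({a, d} : Set G) ↔ Commute g a ∧ Commute g d := by
  rw [Subgroup.mem_centralizer_iff]
  constructor
  · exact fun h => ⟨(h a (Or.inl rfl)).symm, (h d (Or.inr rfl)).symm⟩
  · rintro ⟨h1, h2⟩ y (rfl | rfl)
    exacts [h1.eq.symm, h2.eq.symm]

variable {a d : G} (ha : a ∈ D) (hd : d ∈ D) (hnc : ¬ Commute a d)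
include ha hd hnc

theorem mul_pow_three : (a * d) ^ 3 = 1 := Basic.cube_of_not_commute hD.1 ha hd hnc

theorem inv_eq : (a * d)⁻¹ = d * a := by
  rw [mul_inv_rev, Basic.inv_eq hD.1 ha, Basic.inv_eq hD.1 hd]

theorem ne_one : a * d ≠ 1 := fun h => hnc (by
  rw [eq_inv_of_mul_eq_one_left h, Basic.inv_eq hD.1 hd])

/-- The elements of the dihedral group of order six. -/
theorem closure_pair_cases {s : G} (hs : s ∈ Subgroup.closure ({a, d} : Set G)) :
    s = 1 ∨ s = a * d ∨ s = d * a ∨ s = a ∨ s = d ∨ s = a * d * a := by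
  have ha2 := Basic.sq hD.1 ha
  have hd2 := Basic.sq hD.1 hd
  have hb := Basic.braid hD.1 ha hd hnc
  refine Basic.closure_subset_of_left_stable (T := ({a, d} : Set G))
    (S := {s | s = 1 ∨ s = a * d ∨ s = d * a ∨ s = a ∨ s = d ∨ s = a * d * a}) ?_ (Or.inl rfl) ?_ hs
  · rintro t (rfl | rfl)
    exacts [ha2, hd2]
  · rintro t (rfl | rfl) s (rfl | rfl | rfl | rfl | rfl | rfl) <;> simp only [Set.mem_setOf_eq]
    · simp
    · right; right; right; right; left; rw [← mul_assoc, ha2, one_mul]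
    · right; right; right; right; right; rw [mul_assoc]
    · left; exact ha2
    · right; left; trivial
    · right; right; left; simp [← mul_assoc, ha2]
    · simp
    · right; right; right; right; right; rw [hb, mul_assoc]
    · right; right; right; left; rw [← mul_assoc, hd2, one_mul]
    · right; right; left; trivial
    · left; exact hd2
    · right; left
      rw [hb, ← mul_assoc, ← mul_assoc, hd2, one_mul]

theorem equiv_perm [Finite G] :
    Nonempty (↥(Subgroup.closure ({a, d} : Set G)) ≃* Equiv.Perm (Fin 3)) := by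
  classical
  set S := Subgroup.closure ({a, d} : Set G) with hS
  have haS : a ∈ S := Subgroup.subset_closure (by simp)
  have hdS : d ∈ S := Subgroup.subset_closure (by simp)
  have hx1 : (⟨a * d, mul_mem haS hdS⟩ : ↥S) ≠ 1 :=
    fun h => ne_one hD ha hd hnc (congrArg Subtype.val h)
  have hx3 : (⟨a * d, mul_mem haS hdS⟩ : ↥S) ^ 3 = 1 :=
    Subtype.ext (mul_pow_three hD ha hd hnc)
  have ha1 : (⟨a, haS⟩ : ↥S) ≠ 1 :=
    fun h => Basic.ne_one hD.1 ha (congrArg Subtype.val h)
  have ha2 : (⟨a, haS⟩ : ↥S) * ⟨a, haS⟩ = 1 := Subtype.ext (Basic.sq hD.1 ha)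
  haveI : Fact (Nat.Prime 2) := ⟨Nat.prime_two⟩
  haveI : Fact (Nat.Prime 3) := ⟨Nat.prime_three⟩
  have h2 : 2 ∣ Nat.card S := by
    have := orderOf_dvd_natCard (⟨a, haS⟩ : ↥S)
    rwa [orderOf_eq_prime (by rw [pow_two, ha2]) ha1] at this
  have h3 : 3 ∣ Nat.card S := by
    have := orderOf_dvd_natCard (⟨a * d, mul_mem haS hdS⟩ : ↥S)
    rwa [orderOf_eq_prime hx3 hx1] at this
  have hle : Nat.card S ≤ 6 := by
    have hsub : (S : Set G) ⊆ ([1, a * d, d * a, a, d, a * d * a].toFinset : Finset G) := by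
      intro s hs
      simpa using closure_pair_cases hD ha hd hnc hs
    have := Set.ncard_le_ncard hsub (Set.toFinite _)
    rw [Set.ncard_coe_finset] at this
    exact (Nat.card_coe_set_eq (S : Set G)).trans_le (this.trans (List.toFinset_card_le _))
  have hpos : 0 < Nat.card S := Nat.card_pos
  refine TwoQuotient.equiv_perm_three (by omega) ha2 ha1 (i := ⟨a * d, mul_mem haS hdS⟩)
    (Subtype.ext ?_) hx1 hx3
  show a * (a * d) * a = (a * d)⁻¹
  rw [inv_eq hD ha hd hnc, ← mul_assoc, Basic.sq hD.1 ha, one_mul]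

/-- Only common neighbours commute with the product. -/
theorem commute_mul_iff {y : G} (hy : y ∈ D) :
    Commute y (a * d) ↔ Commute a y ∧ Commute d y := by
  refine ⟨fun h => ?_, fun h => h.1.symm.mul_right h.2.symm⟩
  by_cases hay : Commute a y
  · refine ⟨hay, ?_⟩
    have : d = a * (a * d) := by rw [← mul_assoc, Basic.sq hD.1 ha, one_mul]
    rw [this]
    exact hay.mul_left h.symm
  by_cases hdy : Commute d y
  · refine absurd ?_ hay
    have : a = (a * d) * d := by rw [mul_assoc, Basic.sq hD.1 hd, mul_one]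
    rw [this]
    exact h.symm.mul_left hdy
  exfalso
  have e1 := Basic.braid hD.1 hy ha fun h' => hay h'.symm
  have e2 := Basic.braid hD.1 hy hd fun h' => hdy h'.symm
  have hy2 := Basic.sq hD.1 hy
  have h1 : a * d = (y * a * y) * (y * d * y) := by
    rw [show y * a * y * (y * d * y) = y * a * (y * y) * d * y by simp [mul_assoc], hy2, mul_one,
      mul_assoc y a d, h.eq, mul_assoc, hy2, mul_one]
  rw [e1, e2, mul_assoc a y a, mul_assoc a (y * a), mul_right_inj] at h1
  have h3 : y * (a * d) * y = 1 := by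
    have h4 : d = y * (a * d) * y * d := by simpa [mul_assoc] using h1
    exact mul_right_cancel (h4.symm.trans (one_mul d).symm)
  refine ne_one hD ha hd hnc ?_
  calc a * d = y * (y * (a * d) * y) * y := by simp [← mul_assoc, hy2]; simp [mul_assoc, hy2]
    _ = 1 := by rw [h3, mul_one, hy2]

/-- The members commuting with the product. -/
theorem members_eq : D ∩ (Subgroup.centralizer ((Subgroup.zpowers (a * d) : Subgroup G) : Set G) :
    Set G) = nb D a ∩ nb D d := by
  ext y
  constructor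
  · rintro ⟨hy, hc⟩
    obtain ⟨h1, h2⟩ := (commute_mul_iff hD ha hd hnc hy).1
      (Subgroup.mem_centralizer_iff.1 hc _ (Subgroup.mem_zpowers _)).symm
    exact ⟨⟨hy, fun e => hnc (e ▸ h2).symm, h1⟩, hy, fun e => hnc (e ▸ h1), h2⟩
  · rintro ⟨⟨hy, -, h1⟩, -, -, h2⟩
    refine ⟨hy, Subgroup.mem_centralizer_iff.2 fun z hz => ?_⟩
    obtain ⟨k, rfl⟩ := Subgroup.mem_zpowers_iff.1 hz
    exact (((commute_mul_iff hD ha hd hnc hy).2 ⟨h1, h2⟩).zpow_right k).eq.symm

theorem setOf_eq : {y : G | y ∈ D ∧ Commute a y ∧ Commute d y ∧ y ≠ a ∧ y ≠ d} =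
    nb D a ∩ nb D d := by
  ext y
  exact ⟨fun ⟨h, h1, h2, h3, h4⟩ => ⟨⟨h, h3, h1⟩, h, h4, h2⟩,
    fun ⟨⟨h, h3, h1⟩, _, h4, h2⟩ => ⟨h, h1, h2, h3, h4⟩⟩

theorem cent_commute {x y : G} (hx : x ∈ Subgroup.closure ({a, d} : Set G))
    (hy : y ∈ Subgroup.centralizer ({a, d} : Set G)) : x * y = y * x := by
  obtain ⟨h1, h2⟩ := (mem_cent_pair hD).1 hy
  induction hx using Subgroup.closure_induction with
  | mem t ht => rcases ht with rfl | rfl; exacts [h1.eq.symm, h2.eq.symm]
  | one => simp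
  | mul p q _ _ hp hq => exact (Commute.mul_left hp hq).eq
  | inv p _ hp => exact (Commute.inv_left hp).eq

theorem inf_eq_bot : Subgroup.closure ({a, d} : Set G) ⊓ Subgroup.centralizer ({a, d} : Set G) =
    ⊥ := by
  rw [eq_bot_iff]
  rintro s ⟨hs, hs'⟩
  obtain ⟨h1, h2⟩ := (mem_cent_pair hD).1 hs'
  have ha2 := Basic.sq hD.1 ha
  have hd2 := Basic.sq hD.1 hd
  rcases closure_pair_cases hD ha hd hnc hs with rfl | rfl | rfl | rfl | rfl | rfl
  · exact one_mem _
  · exfalso; refine hnc ?_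
    have : d = a * (a * d) := by rw [← mul_assoc, ha2, one_mul]
    rw [this]; exact (Commute.refl a).mul_right h1.symm
  · exfalso; refine hnc ?_
    have : d = d * a * a := by rw [mul_assoc, ha2, mul_one]
    rw [this]; exact h1.symm.mul_right (Commute.refl a)
  · exact absurd h2 hnc
  · exact absurd h1.symm hnc
  · exact absurd h1.symm (Classes.triangle hD ha hd hnc).1

/-- The normaliser of the product, given that nothing else commutes with all common neighbours. -/
theorem sup_eq_normalizer (hull : ∀ b ∈ D, (∀ t ∈ nb D a ∩ nb D d, Commute b t) →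
      b = a ∨ b = d ∨ b = a * d * a) :
    Subgroup.closure ({a, d} : Set G) ⊔ Subgroup.centralizer ({a, d} : Set G) =
      Subgroup.normalizer ((Subgroup.zpowers (a * d) : Subgroup G) : Set G) := by
  have ha2 := Basic.sq hD.1 ha
  have hd2 := Basic.sq hD.1 hd
  have hzp : ∀ g : G, (g * (a * d) * g⁻¹ = a * d ∨ g * (a * d) * g⁻¹ = d * a) →
      ∀ z ∈ Subgroup.zpowers (a * d), g * z * g⁻¹ ∈ Subgroup.zpowers (a * d) := by
    intro g hg z hz
    obtain ⟨k, rfl⟩ := Subgroup.mem_zpowers_iff.1 hz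
    rw [← conj_zpow]
    refine zpow_mem ?_ k
    rcases hg with h | h <;> rw [h]
    · exact Subgroup.mem_zpowers _
    · rw [← inv_eq hD ha hd hnc]; exact inv_mem (Subgroup.mem_zpowers _)
  have hnorm : ∀ g, (g * (a * d) * g⁻¹ = a * d ∨ g * (a * d) * g⁻¹ = d * a) →
      g ∈ Subgroup.normalizer ((Subgroup.zpowers (a * d) : Subgroup G) : Set G) := by
    intro g hg
    rw [Subgroup.mem_normalizer_iff]
    refine fun z => ⟨fun hz => hzp g hg z hz, fun hz => ?_⟩
    have hg' : g⁻¹ * (a * d) * g⁻¹⁻¹ = a * d ∨ g⁻¹ * (a * d) * g⁻¹⁻¹ = d * a := by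
      rcases hg with h | h
      · left; rw [inv_inv]; nth_rewrite 1 [← h]; group
      · right
        rw [← inv_eq hD ha hd hnc] at h ⊢
        have h' := congrArg (·⁻¹) h
        simp only [inv_inv] at h'
        rw [inv_inv]
        conv_lhs => rw [← h']
        group
    simpa [mul_assoc] using hzp g⁻¹ hg' _ hz
  refine le_antisymm (sup_le ((Subgroup.closure_le _).2 ?_) fun g hg => ?_) fun g hg => ?_
  · rintro t (rfl | rfl)
    · exact hnorm _ (Or.inr (by rw [Basic.inv_eq hD.1 ha, ← mul_assoc, ha2, one_mul]))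
    · exact hnorm _ (Or.inr (by
        rw [Basic.inv_eq hD.1 hd, mul_assoc, mul_assoc a t, hd2, mul_one]))
  · obtain ⟨h1, h2⟩ := (mem_cent_pair hD).1 hg
    exact hnorm g (Or.inl (mul_inv_eq_iff_eq_mul.2 (h1.mul_right h2).eq))
  · have hP : ∀ t ∈ nb D a ∩ nb D d, g⁻¹ * t * g ∈ nb D a ∩ nb D d := by
      intro t ht
      rw [← members_eq hD ha hd hnc] at ht ⊢
      refine ⟨Classes.inv_conj_mem hD g ht.1, Subgroup.mem_centralizer_iff.2 fun z hz => ?_⟩
      have hz' := (Subgroup.mem_normalizer_iff.1 hg z).1 hz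
      have := Subgroup.mem_centralizer_iff.1 ht.2 _ hz'
      calc z * (g⁻¹ * t * g) = g⁻¹ * ((g * z * g⁻¹) * t) * g := by group
        _ = g⁻¹ * t * g * z := by rw [this]; group
    have key : ∀ e ∈ D, (∀ t ∈ nb D a ∩ nb D d, Commute e t) →
        g * e * g⁻¹ = a ∨ g * e * g⁻¹ = d ∨ g * e * g⁻¹ = a * d * a := by
      intro e he hc
      refine hull _ (hD.2.1 g e he) fun t ht => ?_
      have := (Basic.commute_conj (g := g)).2 (hc _ (hP t ht))
      rwa [show g * (g⁻¹ * t * g) * g⁻¹ = t by group] at this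
    obtain ⟨b, hb⟩ : ∃ b, b = g * a * g⁻¹ := ⟨_, rfl⟩
    obtain ⟨e, he⟩ : ∃ e, e = g * d * g⁻¹ := ⟨_, rfl⟩
    have hb' := hb ▸ key a ha fun t ht => ht.1.2.2
    have he' := he ▸ key d hd fun t ht => ht.2.2.2
    have hbe : b ≠ e := fun h => hnc (by
      rw [hb, he] at h
      rw [mul_left_cancel (mul_right_cancel h)])
    obtain ⟨-, -, t1, t2, t3, t4⟩ := Classes.triangle hD ha hd hnc
    set S := Subgroup.closure ({a, d} : Set G)
    have haS : a ∈ S := Subgroup.subset_closure (by simp)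
    have hdS : d ∈ S := Subgroup.subset_closure (by simp)
    have hbr := Basic.braid hD.1 ha hd hnc
    obtain ⟨s, hs, hsa, hsd⟩ : ∃ s ∈ S, s * a * s⁻¹ = b ∧ s * d * s⁻¹ = e := by
      have ia := Basic.inv_eq hD.1 ha
      have id' := Basic.inv_eq hD.1 hd
      rcases hb' with h | h | h <;> rcases he' with h' | h' | h' <;> rw [h, h'] at hbe ⊢
      · exact absurd rfl hbe
      · exact ⟨1, one_mem _, by simp, by simp⟩
      · exact ⟨a, haS, by rw [mul_inv_cancel_right], by rw [ia]⟩
      · exact ⟨a * d * a, mul_mem (mul_mem haS hdS) haS,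
          by rw [show (a * d * a)⁻¹ = a * d * a by simp [ia, id', mul_assoc], t3],
          by rw [show (a * d * a)⁻¹ = a * d * a by simp [ia, id', mul_assoc], t4]⟩
      · exact absurd rfl hbe
      · refine ⟨a * d, mul_mem haS hdS, ?_, ?_⟩
        · rw [mul_inv_rev, ia, id', show a * d * a * (d * a) = a * (d * a * d) * a by
            simp [mul_assoc], ← hbr, t1]
        · rw [mul_inv_rev, ia, id', ← mul_assoc, mul_assoc a d d, hd2, mul_one]
      · refine ⟨d * a, mul_mem hdS haS, ?_, ?_⟩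
        · rw [mul_inv_rev, ia, id', ← mul_assoc, mul_assoc d a a, ha2, mul_one, hbr]
        · rw [mul_inv_rev, ia, id', show d * a * d * (a * d) = d * (a * d * a) * d by
            simp [mul_assoc], t2]
      · exact ⟨d, hdS, by rw [id', ← hbr], by rw [mul_inv_cancel_right]⟩
      · exact absurd rfl hbe
    have hc : s⁻¹ * g ∈ Subgroup.centralizer ({a, d} : Set G) := by
      refine (mem_cent_pair hD).2 ⟨?_, ?_⟩
      · refine mul_inv_eq_iff_eq_mul.1 ?_
        rw [show s⁻¹ * g * a * (s⁻¹ * g)⁻¹ = s⁻¹ * (g * a * g⁻¹) * s by group, ← hb, ← hsa]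
        group
      · refine mul_inv_eq_iff_eq_mul.1 ?_
        rw [show s⁻¹ * g * d * (s⁻¹ * g)⁻¹ = s⁻¹ * (g * d * g⁻¹) * s by group, ← he, ← hsd]
        group
    rw [show g = s * (s⁻¹ * g) by group]
    exact mul_mem (Subgroup.mem_sup_left hs) (Subgroup.mem_sup_right hc)

end Cfsg.Agent.ThreeTransp.FarPair
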