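import Cfsg.Agent.Lib.ThreeTransp.Ortho3
import Cfsg.Agent.Lib.SylowAb.Forms
import Cfsg.Agent.Lib.Forms.Elusive.OrthUnipotent
import Cfsg.Agent.Lib.Classical.SmallIso
import Cfsg.Agent.S0292

/-!
The projective reflection group of a seven-dimensional space over the field with three elements.
-/

set_option autoImplicit false

namespace Cfsg.Agent.ThreeTransp.Ortho7

open Cfsg.Agent.Classical.OrthForms

/-- `PΩ` of similar forms. -/
theorem pomega_congr {F : Type*} [Field F] [Finite F] {ι κ : Type} [Fintype ι] [DecidableEq ι]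
    [Fintype κ] [DecidableEq κ] {Q : (ι → F) → F} {R : (κ → F) → F} (c : F) (hc : c ≠ 0)
    (e : (ι → F) ≃ₗ[F] (κ → F)) (he : ∀ x, R (e x) = c * Q x) :
    Nonempty (Cfsg.POmega F Q ≃* Cfsg.POmega F R) := by
  have heq : Cfsg.isometryGroup F Q = Cfsg.isometryGroup F (fun x => c * Q x) := by
    ext g
    simp only [Cfsg.isometryGroup, Cfsg.preserving]
    exact ⟨fun h u v => congrArg (c * ·) (h u v), fun h u v => mul_left_cancel₀ hc (h u v)⟩
  let φ : Cfsg.isometryGroup F Q ≃* Cfsg.isometryGroup F R :=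
    (MulEquiv.subgroupCongr heq).trans (SylowAb.isoCongr e he)
  have hmap : (commutator (Cfsg.isometryGroup F Q)).map φ.toMonoidHom =
      commutator (Cfsg.isometryGroup F R) := by
    rw [commutator_def, Subgroup.map_commutator, Subgroup.map_top_of_surjective _ φ.surjective,
      ← commutator_def]
  exact ⟨Classical.SmallIso.centerQuotientCongr
    ((φ.subgroupMap _).trans (MulEquiv.subgroupCongr hmap))⟩

theorem card_std : Nat.card (Cfsg.POmega (ZMod 3) (Cfsg.quadFormOdd 3 (ZMod 3))) = 4585351680 := by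
  have h := S0292.result (F := ZMod 3) (q := 3) (ZMod.card 3) (by decide) 3 le_rfl
  norm_num [Finset.prod_range_succ, Finset.prod_Icc_succ_top] at h
  omega

/-- A group isomorphic to the projective reflection group has order at least that of `PΩ(7,3)`,
and is isomorphic to it in case of equality. -/
theorem proj_refl {X : Type*} [Group X] [Finite X] {μ c : ZMod 3} (hc : c ≠ 0)
    (h : Cfsg.IsProjReflectionGroupModThree X 7 μ c) :
    4585351680 ≤ Nat.card X ∧ (Nat.card X ≤ 4585351680 →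
      Nonempty (X ≃* Cfsg.POmega (ZMod 3) (Cfsg.quadFormOdd 3 (ZMod 3)))) := by
  classical
  obtain ⟨Q, hQ, -, ⟨ψ⟩⟩ := h
  set R := Cfsg.reflectionSubgroup (⇑Q) c with hR
  set K := commutator ↥R with hK
  set f : ↥K →* ↥R ⧸ Subgroup.center ↥R :=
    (QuotientGroup.mk' (Subgroup.center ↥R)).comp K.subtype with hf
  have hker : f.ker ≤ Subgroup.center ↥K := fun k hk => by
    have hz : (k : ↥R) ∈ Subgroup.center ↥R := (QuotientGroup.eq_one_iff _).1 hk
    exact Subgroup.mem_center_iff.2 fun m => Subtype.ext (Subgroup.mem_center_iff.1 hz m)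
  obtain ⟨c₁, hc₁, e, he⟩ := Forms.Elusive.OrthUnipotent.odd_similar (ι := Fin 7)
    (κ := Unit ⊕ (Fin 3 ⊕ Fin 3)) (m := 3) (by simp) (by simp) Q (oddQ (ZMod 3) 3) hQ
    (oddQ_nondeg Ortho3.two_ne 3)
  obtain ⟨ω⟩ := pomega_congr (Q := ⇑Q) (R := ⇑(oddQ (ZMod 3) 3)) c₁ hc₁ e he
  have e₀ : ↥K ≃* Cfsg.Omega (ZMod 3) ⇑Q :=
    (Subgroup.equivMapOfInjective _ _ (Subgroup.subtype_injective _)).trans
      (MulEquiv.subgroupCongr (Ortho3.map_commutator_refl (n := 7) (by norm_num) hQ hc))
  have iK : ↥K ⧸ Subgroup.center ↥K ≃* Cfsg.POmega (ZMod 3) (Cfsg.quadFormOdd 3 (ZMod 3)) := by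
    rw [← oddQ_eq]
    exact (Classical.SmallIso.centerQuotientCongr e₀).trans ω
  have hcardK : Nat.card (↥K ⧸ Subgroup.center ↥K) = 4585351680 :=
    (Nat.card_congr iK.toEquiv).trans card_std
  have hkerdvd : Nat.card f.ker ∣ Nat.card (Subgroup.center ↥K) := Subgroup.card_dvd_of_le hker
  have h1 := f.ker.card_mul_index
  have h2 := (Subgroup.center ↥K).card_mul_index
  rw [Subgroup.index_ker] at h1
  rw [Subgroup.index, hcardK] at h2
  have hrle : Nat.card f.range ≤ Nat.card X :=
    (Subgroup.card_le_card_group _).trans_eq (Nat.card_congr ψ.toEquiv).symm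
  have hpos : 0 < Nat.card f.ker := Nat.card_pos
  have hkle : Nat.card f.ker ≤ Nat.card (Subgroup.center ↥K) := Nat.le_of_dvd Nat.card_pos hkerdvd
  have hge : 4585351680 ≤ Nat.card f.range := by
    refine Nat.le_of_mul_le_mul_left ?_ hpos
    rw [h1, ← h2]
    exact Nat.mul_le_mul_right _ hkle
  refine ⟨hge.trans hrle, fun hle => ?_⟩
  have hreq : Nat.card f.range = Nat.card (↥R ⧸ Subgroup.center ↥R) := by
    rw [← Nat.card_congr ψ.toEquiv]
    omega
  have htop : f.range = ⊤ := Subgroup.eq_top_of_card_eq _ hreq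
  have hkeq : f.ker = Subgroup.center ↥K := by
    refine Subgroup.eq_of_le_of_card_ge hker ?_
    have hr : Nat.card f.range = 4585351680 := by omega
    rw [hr, ← h2] at h1
    exact (Nat.eq_of_mul_eq_mul_right (by norm_num) h1).ge
  exact ⟨ψ.trans (((QuotientGroup.quotientMulEquivOfEq hkeq.symm).trans
    (QuotientGroup.quotientKerEquivOfSurjective f (MonoidHom.range_eq_top.1 htop))).symm.trans iK)⟩

end Cfsg.Agent.ThreeTransp.Ortho7
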