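import Mathlib

/-!
Triangle-free strongly regular graphs: the discriminant is a square, and for 3-power parameters
only the Petersen parameters survive.
-/

set_option autoImplicit false

namespace Cfsg.Agent.ThreeTransp.OddSRG

open Matrix

theorem trace_idem {V : Type*} [Fintype V] [DecidableEq V] {E : Matrix V V ℝ} (hE : E * E = E) :
    ∃ r : ℕ, E.trace = r := by
  have h : IsIdempotentElem (Matrix.toLin' E) := by
    show Matrix.toLin' E * Matrix.toLin' E = Matrix.toLin' E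
    rw [Module.End.mul_eq_comp, ← Matrix.toLin'_mul, hE]
  obtain ⟨p, hp⟩ := (LinearMap.isProj_iff_isIdempotentElem _).2 h
  exact ⟨Module.finrank ℝ p, by rw [← Matrix.trace_toLin'_eq, hp.trace]⟩

/-- The discriminant of a triangle-free strongly regular graph is a square. -/
theorem discr_square {V : Type*} [Fintype V] (Γ : SimpleGraph V) [DecidableRel Γ.Adj] {n k μ : ℕ}
    (h : Γ.IsSRGWith n k 0 μ) (hn : 0 < n) (hμk : μ < k) (hkn : k < n) (h3 : μ + k ≠ 3) :
    ∃ j : ℕ, μ ^ 2 + 4 * (k - μ) = j ^ 2 := by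
  classical
  set Δ := μ ^ 2 + 4 * (k - μ) with hΔ
  have hΔpos : 0 < Δ := by omega
  set A := Γ.adjMatrix ℝ with hA
  set P : Matrix V V ℝ := Matrix.of fun _ _ => (1 : ℝ) / n with hP
  have hn0 : (n : ℝ) ≠ 0 := by positivity
  have hPP : P * P = P := by
    ext v w
    simp only [hP, Matrix.mul_apply, Matrix.of_apply, Finset.sum_const, Finset.card_univ, h.card,
      nsmul_eq_mul]
    field_simp
  have hAP : A * P = (k : ℝ) • P := by
    ext v w
    simp [hA, hP, SimpleGraph.adjMatrix_mul_apply, h.regular v]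
  have hPA : P * A = (k : ℝ) • P := by
    ext v w
    simp [hA, hP, SimpleGraph.mul_adjMatrix_apply, h.regular w]
  have hsq : A * A = ((k : ℝ) - μ) • (1 : Matrix V V ℝ) - (μ : ℝ) • A + ((μ : ℝ) * n) • P := by
    rw [← pow_two, hA, h.matrix_eq, ← Nat.cast_smul_eq_nsmul ℝ k, ← Nat.cast_smul_eq_nsmul ℝ μ,
      zero_smul, add_zero]
    ext v w
    simp only [Matrix.add_apply, Matrix.sub_apply, Matrix.smul_apply, SimpleGraph.adjMatrix_apply,
      SimpleGraph.compl_adj, hP, Matrix.of_apply, smul_eq_mul, nsmul_eq_mul, Matrix.one_apply]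
    by_cases e : v = w
    · subst e
      simp only [if_true, SimpleGraph.irrefl, if_false, ne_eq, not_true_eq_false, false_and]
      push_cast
      field_simp
      ring
    · by_cases ha : Γ.Adj v w <;>
        simp only [e, ha, if_true, if_false, ne_eq, not_false_eq_true, not_true_eq_false,
          and_self, and_false] <;> push_cast <;> field_simp <;> ring
  have hpar : (k : ℝ) * ((k : ℝ) - 1) = ((n : ℝ) - k - 1) * μ := by
    have h1 := h.param_eq Γ hn
    rw [Nat.sub_zero] at h1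
    have h2 : k + 1 ≤ n := hkn
    have h4 : ((k * (k - 1) : ℕ) : ℝ) = (((n - k - 1) * μ : ℕ) : ℝ) := by rw [h1]
    rw [Nat.cast_mul, Nat.cast_mul, Nat.cast_sub (by omega), Nat.cast_sub (by omega),
      Nat.cast_sub (by omega)] at h4
    push_cast at h4
    linarith
  set c : ℝ := 2 * k + μ with hc
  set M := (2 : ℝ) • A + (μ : ℝ) • (1 : Matrix V V ℝ) - c • P with hM
  have hMP : M * P = 0 := by
    rw [hM, sub_mul, add_mul, smul_mul_assoc, smul_mul_assoc, smul_mul_assoc, hAP, one_mul, hPP,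
      hc]
    module
  have hPM : P * M = 0 := by
    rw [hM, mul_sub, mul_add, mul_smul_comm, mul_smul_comm, mul_smul_comm, hPA, mul_one, hPP, hc]
    module
  have hMM : M * M = (Δ : ℝ) • (1 - P) := by
    have hΔ' : (Δ : ℝ) = (μ : ℝ) ^ 2 + 4 * ((k : ℝ) - μ) := by
      rw [hΔ]; push_cast [Nat.cast_sub hμk.le]; ring
    calc M * M = M * ((2 : ℝ) • A + (μ : ℝ) • 1) - c • (M * P) := by
          conv_lhs => arg 2; rw [hM]
          rw [mul_sub, mul_smul_comm]
      _ = M * ((2 : ℝ) • A + (μ : ℝ) • 1) := by rw [hMP, smul_zero, sub_zero]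
      _ = (4 : ℝ) • (A * A) + (4 * (μ : ℝ)) • A + ((μ : ℝ) ^ 2) • 1 -
            ((2 * c) • (P * A) + (c * μ) • P) := by
          rw [hM]
          simp only [sub_mul, add_mul, mul_add, smul_mul_assoc, mul_smul_comm, one_mul, mul_one,
            smul_add, smul_sub, smul_smul]
          module
      _ = (Δ : ℝ) • (1 - P) := by
          rw [hsq, hPA, hΔ', hc]
          match_scalars
          · ring
          · ring
          · linear_combination (-4 : ℝ) * hpar
  set s := Real.sqrt Δ with hs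
  have hs0 : s ≠ 0 := by positivity
  have hss : s * s = Δ := Real.mul_self_sqrt (by positivity)
  have hEE : ((1 / 2 : ℝ) • (1 - P + s⁻¹ • M)) * ((1 / 2 : ℝ) • (1 - P + s⁻¹ • M)) =
      (1 / 2 : ℝ) • (1 - P + s⁻¹ • M) := by
    simp only [mul_add, add_mul, mul_sub, sub_mul, smul_mul_assoc, mul_smul_comm, one_mul, mul_one,
      smul_add, smul_sub, smul_smul, hPP, hPM, hMP, hMM, smul_zero]
    match_scalars
    all_goals field_simp
    all_goals nlinarith [hss]
  obtain ⟨r, hr⟩ := trace_idem hEE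
  have htrP : P.trace = 1 := by
    simp [hP, Matrix.trace, h.card]
    field_simp
  have htrM : M.trace = ((n : ℝ) - 1) * μ - 2 * k := by
    rw [hM, Matrix.trace_sub, Matrix.trace_add, Matrix.trace_smul, Matrix.trace_smul,
      Matrix.trace_smul, htrP, Matrix.trace_one, hA, SimpleGraph.trace_adjMatrix, h.card, hc]
    simp only [smul_eq_mul]
    ring
  rw [Matrix.trace_smul, Matrix.trace_add, Matrix.trace_sub, Matrix.trace_smul, htrP,
    Matrix.trace_one, h.card, htrM] at hr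
  set z : ℤ := 2 * (r : ℤ) - ((n : ℤ) - 1) with hz
  set T : ℤ := ((n : ℤ) - 1) * μ - 2 * k with hT
  have hzs : (z : ℝ) * s = (T : ℝ) := by
    rw [hz, hT]
    push_cast
    simp only [smul_eq_mul] at hr
    field_simp at hr
    linarith
  have hz0 : z ≠ 0 := by
    intro e
    rw [e, Int.cast_zero, zero_mul] at hzs
    have hT0 : ((T : ℤ) : ℝ) = 0 := hzs.symm
    rw [hT] at hT0
    push_cast at hT0
    have h5 : ((k : ℝ) + μ - 3) * k = 0 := by linarith [hpar]
    have hk : (k : ℝ) ≠ 0 := by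
      have : 0 < k := by omega
      positivity
    have h6 : ((k + μ : ℕ) : ℝ) = ((3 : ℕ) : ℝ) := by
      push_cast
      linarith [(mul_eq_zero.1 h5).resolve_right hk]
    have := Nat.cast_injective h6
    omega
  have hsq2 : z ^ 2 * (Δ : ℤ) = T ^ 2 := by
    have : ((z : ℝ)) ^ 2 * (Δ : ℝ) = (T : ℝ) ^ 2 := by rw [← hzs, ← hss]; ring
    exact_mod_cast this
  obtain ⟨q, hq⟩ := (Int.pow_dvd_pow_iff two_ne_zero).1 ⟨(Δ : ℤ), hsq2.symm⟩
  refine ⟨q.natAbs, ?_⟩
  have h7 : (Δ : ℤ) = q ^ 2 := by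
    rw [hq, mul_pow] at hsq2
    exact mul_left_cancel₀ (pow_ne_zero 2 hz0) hsq2
  zify
  rw [sq_abs]
  exact h7

theorem not_sq : ∀ s x j : ℕ, x % 3 = 2 → 3 ^ s * x ≠ j ^ 2 := by
  intro s
  induction s using Nat.strong_induction_on with
  | _ s ih =>
    intro x j hx h
    have hd : ∀ i : ℕ, 3 ∣ i ^ 2 → 3 ∣ i := fun i => Nat.prime_three.dvd_of_dvd_pow
    rcases s with _ | _ | s
    · have h1 : j ^ 2 % 3 = 0 ∨ j ^ 2 % 3 = 1 := by
        rw [Nat.pow_mod]
        have := Nat.mod_lt j (show 0 < 3 by norm_num)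
        interval_cases j % 3 <;> simp
      rw [pow_zero, one_mul] at h
      omega
    · obtain ⟨i, rfl⟩ := hd j ⟨x, by rw [← h]; ring⟩
      have : x = 3 * i ^ 2 := by ring_nf at h ⊢; omega
      omega
    · obtain ⟨i, rfl⟩ := hd j ⟨3 ^ (s + 1) * x, by rw [← h]; ring⟩
      refine ih s (by omega) x i hx (Nat.eq_of_mul_eq_mul_left (show 0 < 9 by norm_num) ?_)
      calc 9 * (3 ^ s * x) = 3 ^ (s + 1 + 1) * x := by ring
        _ = (3 * i) ^ 2 := h
        _ = 9 * i ^ 2 := by ring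

theorem pow_params {r s j : ℕ} (hsr : s < r)
    (h : (3 ^ s) ^ 2 + 4 * (3 ^ r - 3 ^ s) = j ^ 2) : r = 1 := by
  obtain ⟨t, rfl⟩ : ∃ t, r = s + (t + 1) := ⟨r - s - 1, by omega⟩
  have ht : 1 ≤ 3 ^ t := Nat.one_le_pow _ _ (by norm_num)
  rcases s with _ | s
  · rcases t with _ | t
    · rfl
    exfalso
    have h1 : (3 : ℕ) ^ (0 + (t + 1 + 1)) = 9 * 3 ^ t := by ring
    rw [h1, pow_zero, one_pow] at h
    obtain ⟨i, rfl⟩ : 3 ∣ j := Nat.prime_three.dvd_of_dvd_pow (n := 2)
      ⟨12 * 3 ^ t - 1, by omega⟩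
    have : (3 * i) ^ 2 = 9 * i ^ 2 := by ring
    omega
  · exfalso
    refine not_sq (s + 1) (3 * 3 ^ s + 4 * (3 * 3 ^ t) - 4) j (by omega) ?_
    rw [← h]
    have h1 : (3 : ℕ) ^ (s + 1 + (t + 1)) = 3 ^ (s + 1) * (3 * 3 ^ t) := by ring
    have h2 : (3 : ℕ) ^ (s + 1) = 3 * 3 ^ s := by ring
    rw [h1, ← h2]
    obtain ⟨Y, hY⟩ : ∃ Y, 3 * 3 ^ t = Y + 1 := ⟨3 * 3 ^ t - 1, by omega⟩
    rw [hY, show 3 ^ (s + 1) * (Y + 1) - 3 ^ (s + 1) = 3 ^ (s + 1) * Y by
        rw [mul_add, mul_one, Nat.add_sub_cancel],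
      show 3 ^ (s + 1) + 4 * (Y + 1) - 4 = 3 ^ (s + 1) + 4 * Y by omega]
    ring

end Cfsg.Agent.ThreeTransp.OddSRG
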