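import Cfsg.Agent.Lib.ThreeTransp.OddLocal
import Cfsg.Agent.Lib.ThreeTransp.OddSRG

/-!
A 3-transposition group in which some odd core of a commuting group is noncentral is `S₅`.
-/

set_option autoImplicit false

namespace Cfsg.Agent.ThreeTransp.OddMain

open Cfsg.Agent.ThreeTransp
open Cfsg.Agent.ThreeTransp.LocalSThree (Nb)

variable {G : Type*} [Group G] [Finite G] {D : Set G}

/-- the commuting graph on the members -/
def graph (D : Set G) : SimpleGraph ↥D :=
  SimpleGraph.fromRel fun a b => Commute (a : G) (b : G)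

omit [Finite G] in
theorem graph_adj {a b : ↥D} : (graph D).Adj a b ↔ (b : G) ∈ Nb D (a : G) := by
  simp only [graph, SimpleGraph.fromRel_adj]
  exact ⟨fun h => ⟨b.2, fun e => h.1 (Subtype.ext e.symm), h.2.elim id fun h => h.symm⟩,
    fun h => ⟨fun e => h.2.1 (congrArg Subtype.val e).symm, Or.inl h.2.2⟩⟩

omit [Finite G] in
theorem nbset_image (v : ↥D) : Subtype.val '' (graph D).neighborSet v = Nb D (v : G) := by
  ext y
  exact ⟨fun ⟨w, hw, e⟩ => e ▸ graph_adj.1 hw,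
    fun hy => ⟨⟨y, hy.1⟩, graph_adj.2 hy, rfl⟩⟩

theorem main (hsol : ∀ N : Subgroup G, N.Normal → Group.IsSolvable ↥N → N = ⊥)
    (hperf : ⁅commutator G, commutator G⁆ = commutator G)
    (hD : Cfsg.IsThreeTranspositionClass D) {x : G} (hx : x ∈ D)
    (h : ¬ Cfsg.oddCore ↥(Subgroup.closure (Nb D x)) ≤
      Subgroup.center ↥(Subgroup.closure (Nb D x))) :
    Nonempty (G ≃* Equiv.Perm (Fin 5)) := by
  classical
  obtain ⟨hG, htrans⟩ := Classes.of_class hD
  obtain ⟨hprim, hw, -⟩ := Radical.primitive hsol hperf hD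
  obtain ⟨a0, b0, htw⟩ := OddLocal.exists_twin hG hx h
  have hA := fun {d p q : G} => OddLocal.eq_of_commute hsol hD hperf hx htw (d := d) (p := p) (q := q)
  set k := (Nb D x).ncard with hk
  set μ := (Nb D a0 ∩ Nb D b0).ncard with hμ
  obtain ⟨ha0, hb0, hab0, -⟩ := htw
  have hkc : ∀ d ∈ D, (Nb D d).ncard = k := by
    intro d hd
    obtain ⟨g, rfl⟩ := htrans x hx d hd
    exact OddLocal.nb_ncard_conj hG g x
  have hμc : ∀ a ∈ D, ∀ c ∈ D, ¬ Commute a c → (Nb D a ∩ Nb D c).ncard = μ := by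
    intro a ha c hc hac
    obtain ⟨g, rfl⟩ := htrans a0 ha0.1 a ha
    obtain ⟨l, hl, hlc⟩ := RankThree.linked_outer hG hprim hw ha (hG.2.1 g b0 hb0.1) hc
      (fun e => hab0 (Basic.commute_conj.1 e)) hac
    rw [← hlc]
    conv_lhs => rw [← RankThree.conj_self_of_commute (RankThree.loc_commute hl)]
    rw [OddLocal.inter_ncard_conj hG, OddLocal.inter_ncard_conj hG]
  have hclx : ∀ a ∈ Nb D x, ∀ b ∈ Nb D x, a * b * a ∈ Nb D x := fun a ha b hb =>
    OddLocal.nb_closed hG hx ha hb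
  obtain ⟨r, hr⟩ := OddLocal.exists_pow_three hG (fun y hy => hy.1) ⟨a0, ha0⟩ hclx
    fun a ha b hb => hA hx ha hb
  have hμne : (Nb D a0 ∩ Nb D b0).Nonempty := by
    obtain ⟨y, hy, h1, h2⟩ := RankThree.exists_common hG hprim hw ha0.1 hb0.1 hab0
    exact ⟨y, ⟨hy, fun e => hab0 (e ▸ h2), h1⟩, ⟨hy, fun e => hab0 (e ▸ h1), h2.symm⟩⟩
  obtain ⟨s, hs⟩ := OddLocal.exists_pow_three hG (S := Nb D a0 ∩ Nb D b0) (fun y hy => hy.1.1) hμne
    (fun p hp q hq => ⟨OddLocal.nb_closed hG ha0.1 hp.1 hq.1, OddLocal.nb_closed hG hb0.1 hp.2 hq.2⟩)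
    fun p hp q hq => hA ha0.1 hp.1 hq.1
  rw [← hk] at hr
  rw [← hμ] at hs
  have hμk : μ < k := by
    rw [← hkc a0 ha0.1, hμ]
    obtain ⟨v, hv, hvb⟩ := OddLocal.nb_not_subset hsol hD ha0.1 hb0.1 hab0
    exact Set.ncard_lt_ncard ⟨Set.inter_subset_left, fun e => hvb (e hv).2.2.2⟩ (Set.toFinite _)
  haveI : Fintype ↥D := Fintype.ofFinite _
  have hcard : ∀ (S : Set ↥D) [Fintype ↥S], Fintype.card ↥S = (Subtype.val '' S).ncard := fun S _ => by
    rw [Set.ncard_image_of_injective _ Subtype.val_injective, ← Nat.card_coe_set_eq,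
      Nat.card_eq_fintype_card]
  have hsrg : (graph D).IsSRGWith (Fintype.card ↥D) k 0 μ := by
    refine ⟨rfl, fun v => ?_, fun v w hvw => ?_, fun v w hne hvw => ?_⟩
    · rw [← SimpleGraph.card_neighborSet_eq_degree, hcard, nbset_image, hkc v v.2]
    · rw [hcard, SimpleGraph.commonNeighbors, Set.image_inter Subtype.val_injective, nbset_image,
        nbset_image, Set.ncard_eq_zero (Set.toFinite _), Set.eq_empty_iff_forall_notMem]
      rintro y ⟨hy1, hy2⟩
      exact hy2.2.1 (hA v.2 hy1 (graph_adj.1 hvw) hy2.2.2.symm)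
    · rw [hcard, SimpleGraph.commonNeighbors, Set.image_inter Subtype.val_injective, nbset_image,
        nbset_image]
      exact hμc v v.2 w w.2 fun e => hvw (graph_adj.2 ⟨w.2, fun e' => hne (Subtype.ext e'.symm), e⟩)
  have hkn : k < Fintype.card ↥D := by
    rw [← hsrg.regular ⟨x, hx⟩]
    exact SimpleGraph.degree_lt_card_verts _
  have h3 : μ + k ≠ 3 := by
    intro e
    rcases r with _ | r
    · simp at hr; omega
    · have h1 : 1 ≤ μ := hs ▸ Nat.one_le_pow _ _ (by norm_num)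
      have h2 : 3 ≤ k := hr ▸ Nat.le_self_pow (by omega) 3
      omega
  obtain ⟨j, hj⟩ := OddSRG.discr_square (graph D) hsrg (Fintype.card_pos_iff.2 ⟨⟨x, hx⟩⟩) hμk hkn h3
  rw [hr, hs] at hj
  have hsr : s < r := (Nat.pow_lt_pow_iff_right (by norm_num)).1 (hr ▸ hs ▸ hμk)
  have hr1 := OddSRG.pow_params hsr hj
  have hk3 : k = 3 := by rw [hr, hr1, pow_one]
  have hT : LocalSThree.Tri D := by
    intro d hd
    have h := hkc d hd
    rw [hk3, Set.ncard_eq_three] at h
    obtain ⟨p, q, t, hpq, hpt, hqt, he⟩ := h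
    have hp : p ∈ Nb D d := he ▸ Set.mem_insert p _
    have hq : q ∈ Nb D d := he ▸ Set.mem_insert_of_mem p (Set.mem_insert q _)
    have hnc : ¬ Commute p q := fun e => hpq (hA hd hp hq e)
    obtain ⟨t1, t2, -⟩ := Classes.triangle hG hp.1 hq.1 hnc
    refine ⟨p, q, hnc, ?_⟩
    have hm := OddLocal.nb_closed hG hd hp hq
    rw [he] at hm ⊢
    rcases hm with e | e | e
    · exact absurd (Commute.refl p) (by rwa [e] at t1)
    · exact absurd (Commute.refl q) (by rwa [e] at t2)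
    · rw [Set.mem_singleton_iff] at e
      rw [e]
  refine LocalSThree.petersen hG hT (fun d hd a ha b hb hne e => ?_) hx
  obtain ⟨v, hv, hvb⟩ := OddLocal.nb_not_subset hsol hD ha.1 hb.1 fun h => hne (hA hd ha hb h)
  exact hvb (e ▸ hv).2.2

end Cfsg.Agent.ThreeTransp.OddMain
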