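import Mathlib

/-!
A certificate for an identity in groups generated by four involutions all of whose conjugates have
pairwise products of order dividing 3: with `x = oa`, `y = ob`, `z = oc` and `w = [x, y]`, the
element `[z, z^w]` commutes with `a`.

The right cosets of `⟨o, a, b⟩` (whose elements have the normal form `x^i y^j w^k o^s`) are
represented by words; an edge `(c, g, d, h)` records `rep c * g = h * rep d`. Starting from the
edges of a tree of representatives, each scan of a relator yields one further edge.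
-/

set_option autoImplicit false

namespace Cfsg.Agent.ThreeTransp.WidthOneCert

/-- Normal forms `x^i y^j w^k o^s`. -/
structure NF where
  s : Bool
  i : ℕ
  j : ℕ
  k : ℕ
deriving DecidableEq

def NF.one : NF := ⟨false, 0, 0, 0⟩

/-- Right multiplication by a generator. -/
def mulGen (m : NF) (g : ℕ) : NF :=
  let e := if m.s then 1 else 2
  if g = 0 then ⟨!m.s, m.i, m.j, m.k⟩
  else if g = 1 then ⟨!m.s, (m.i + e) % 3, m.j, (m.k + 2 * m.j * e) % 3⟩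
  else ⟨!m.s, m.i, (m.j + e) % 3, m.k⟩

/-- The word of a normal form. -/
def nfWord (m : NF) : List ℕ :=
  (List.replicate m.i [0, 1]).flatten ++ ((List.replicate m.j [0, 2]).flatten ++
    ((List.replicate m.k [1, 0, 2, 0, 0, 1, 0, 2]).flatten ++ if m.s then [0] else []))

def nfMul (m n : NF) : NF := (nfWord n).foldl mulGen m

def nfInv (m : NF) : NF := (nfWord m).reverse.foldl mulGen NF.one

/-- Free reduction for involutory letters. -/
def reduce : List ℕ → List ℕ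
  | [] => []
  | g :: w =>
    match reduce w with
    | [] => [g]
    | h :: v => if g = h then v else g :: h :: v

structure Edge where
  c : ℕ
  g : ℕ
  d : ℕ
  h : NF

def relWord (g : ℕ) (u : List ℕ) (i : ℕ) : List ℕ :=
  let t := g :: (u ++ i :: u.reverse)
  reduce (t ++ (t ++ t))

/-- Follow known edges as far as possible. -/
def walk (E : List Edge) : ℕ → NF → List ℕ → ℕ × NF × List ℕ
  | c, h, [] => (c, h, [])
  | c, h, g :: w =>
    match E.find? (fun e => decide (e.c = c ∧ e.g = g)) with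
    | none => (c, h, g :: w)
    | some e => walk E e.d (nfMul h e.h) w

def scan (E : List Edge) (x g : ℕ) (u : List ℕ) (i : ℕ) : List Edge :=
  match walk E x NF.one (relWord g u i) with
  | (c, P, rest) =>
    match walk E x NF.one rest.reverse with
    | (d, Q, [l]) =>
      ⟨c, l, d, nfMul (nfInv P) Q⟩ :: ⟨d, l, c, nfInv (nfMul (nfInv P) Q)⟩ :: E
    | _ => E

/-- Representatives of the right cosets of ⟨o, a, b⟩ used by the certificate. -/
def verts : List (List ℕ) :=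
  [
    [], [3], [3, 2], [3, 0], [3, 1], [3, 0, 1], [3, 0, 2], [3, 1, 0], [3, 2, 0], [3, 1, 2],
    [3, 2, 1], [3, 1, 0, 1], [3, 2, 0, 2], [3, 1, 0, 3], [3, 2, 0, 3], [3, 1, 2, 1],
    [3, 2, 1, 3], [3, 2, 1, 0], [3, 2, 0, 1], [3, 1, 2, 3], [3, 0, 2, 3], [3, 0, 1, 3],
    [3, 1, 2, 0], [3, 0, 2, 1], [3, 2, 1, 0, 1], [3, 1, 2, 3, 0], [3, 1, 2, 0, 1],
    [3, 0, 1, 3, 2], [3, 2, 0, 1, 3], [3, 2, 0, 2, 1], [3, 2, 0, 1, 2], [3, 2, 1, 0, 2],
    [3, 0, 2, 1, 3], [3, 2, 1, 3, 0], [3, 0, 2, 3, 1], [3, 2, 0, 3, 1], [3, 2, 1, 0, 3],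
    [3, 1, 0, 3, 2], [3, 2, 1, 0, 1, 2], [3, 2, 1, 0, 1, 3], [3, 0, 1, 3, 2, 3],
    [3, 2, 0, 3, 1, 3], [3, 2, 0, 1, 2, 1], [3, 2, 0, 2, 1, 3], [3, 0, 2, 3, 1, 3],
    [3, 2, 1, 3, 0, 2], [3, 1, 2, 0, 1, 2], [3, 2, 1, 3, 0, 1], [3, 2, 1, 3, 0, 3],
    [3, 2, 1, 0, 3, 1], [3, 1, 2, 3, 0, 3], [3, 1, 0, 3, 2, 3], [3, 0, 2, 3, 1, 0],
    [3, 1, 2, 3, 0, 2], [3, 1, 2, 0, 1, 3], [3, 1, 0, 3, 2, 1], [3, 0, 2, 1, 3, 0],
    [3, 2, 1, 0, 2, 3], [3, 2, 1, 0, 3, 2], [3, 0, 1, 3, 2, 3, 1], [3, 2, 0, 3, 1, 3, 0],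
    [3, 2, 0, 2, 1, 3, 0], [3, 0, 2, 3, 1, 3, 2], [3, 2, 1, 3, 0, 2, 1], [3, 1, 2, 0, 1, 2, 1],
    [3, 2, 1, 3, 0, 2, 3], [3, 2, 1, 3, 0, 1, 3], [3, 2, 1, 3, 0, 3, 1], [3, 2, 1, 0, 3, 1, 3],
    [3, 0, 2, 3, 1, 3, 0], [3, 1, 2, 3, 0, 3, 2], [3, 2, 0, 2, 1, 3, 2], [3, 1, 2, 3, 0, 3, 1],
    [3, 1, 0, 3, 2, 3, 0], [3, 0, 2, 3, 1, 0, 3], [3, 1, 2, 3, 0, 2, 3], [3, 1, 0, 3, 2, 1, 3],
    [3, 1, 0, 3, 2, 3, 1], [3, 0, 2, 1, 3, 0, 1], [3, 2, 0, 3, 1, 3, 2], [3, 2, 1, 0, 3, 2, 3],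
    [3, 1, 2, 0, 1, 2, 3], [3, 2, 1, 3, 0, 1, 2], [3, 1, 2, 0, 1, 3, 2], [3, 1, 2, 3, 0, 2, 1],
    [3, 2, 1, 0, 2, 3, 1], [3, 2, 1, 0, 3, 1, 2], [3, 0, 1, 3, 2, 3, 1, 0],
    [3, 2, 0, 3, 1, 3, 0, 2], [3, 0, 2, 3, 1, 3, 2, 0], [3, 2, 1, 3, 0, 2, 1, 3],
    [3, 2, 1, 3, 0, 2, 3, 1], [3, 0, 2, 3, 1, 3, 0, 2], [3, 1, 2, 3, 0, 3, 2, 1],
    [3, 1, 0, 3, 2, 3, 0, 1], [3, 0, 2, 3, 1, 0, 3, 2], [3, 1, 0, 3, 2, 1, 3, 0],
    [3, 2, 1, 3, 0, 3, 1, 2], [3, 1, 0, 3, 2, 3, 1, 0], [3, 1, 0, 3, 2, 3, 1, 3],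
    [3, 2, 0, 2, 1, 3, 0, 3], [3, 0, 2, 3, 1, 3, 0, 3], [3, 2, 0, 2, 1, 3, 0, 1],
    [3, 0, 2, 3, 1, 3, 0, 1], [3, 2, 0, 3, 1, 3, 2, 1], [3, 2, 0, 2, 1, 3, 2, 1],
    [3, 1, 2, 0, 1, 3, 2, 3], [3, 2, 1, 3, 0, 1, 2, 3], [3, 2, 1, 3, 0, 1, 3, 2],
    [3, 1, 2, 3, 0, 3, 1, 3], [3, 2, 1, 0, 3, 1, 3, 2], [3, 2, 1, 0, 2, 3, 1, 3],
    [3, 1, 2, 3, 0, 2, 3, 1], [3, 2, 1, 0, 3, 1, 2, 1], [3, 2, 1, 3, 0, 1, 2, 1],
    [3, 1, 2, 3, 0, 2, 1, 3], [3, 2, 1, 0, 3, 1, 2, 3], [3, 1, 2, 0, 1, 2, 3, 1],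
    [3, 1, 2, 0, 1, 2, 3, 0], [3, 0, 2, 1, 3, 0, 1, 2], [3, 2, 1, 3, 0, 2, 3, 1, 3],
    [3, 1, 0, 3, 2, 3, 1, 0, 1], [3, 1, 0, 3, 2, 1, 3, 0, 3], [3, 1, 0, 3, 2, 3, 1, 3, 0],
    [3, 1, 2, 0, 1, 3, 2, 3, 1], [3, 2, 1, 3, 0, 1, 3, 2, 3], [3, 1, 2, 3, 0, 3, 1, 3, 2],
    [3, 1, 2, 3, 0, 2, 3, 1, 3], [3, 2, 1, 0, 3, 1, 2, 1, 3], [3, 2, 1, 3, 0, 1, 2, 1, 3],
    [3, 2, 1, 0, 2, 3, 1, 3, 2], [3, 2, 1, 0, 3, 1, 3, 2, 3], [3, 2, 0, 2, 1, 3, 2, 1, 0],
    [3, 2, 1, 0, 3, 1, 2, 3, 0], [3, 1, 2, 0, 1, 2, 3, 1, 0], [3, 1, 2, 0, 1, 2, 3, 0, 1],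
    [3, 0, 2, 3, 1, 3, 2, 0, 1], [3, 2, 0, 3, 1, 3, 0, 2, 3], [3, 0, 1, 3, 2, 3, 1, 0, 3],
    [3, 0, 2, 3, 1, 3, 2, 0, 3], [3, 1, 0, 3, 2, 3, 0, 1, 3], [3, 1, 2, 3, 0, 3, 2, 1, 3],
    [3, 2, 1, 3, 0, 2, 1, 3, 2], [3, 2, 1, 3, 0, 3, 1, 2, 3], [3, 1, 2, 3, 0, 2, 1, 3, 2],
    [3, 1, 0, 3, 2, 1, 3, 0, 1], [3, 2, 1, 3, 0, 1, 2, 3, 1], [3, 2, 0, 2, 1, 3, 0, 1, 2],
    [3, 1, 2, 3, 0, 2, 1, 3, 0], [3, 0, 2, 3, 1, 3, 0, 1, 2], [3, 0, 2, 1, 3, 0, 1, 2, 0],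
    [3, 1, 2, 0, 1, 3, 2, 3, 1, 0], [3, 1, 2, 3, 0, 2, 3, 1, 3, 0],
    [3, 1, 2, 3, 0, 2, 3, 1, 3, 2], [3, 2, 0, 2, 1, 3, 2, 1, 0, 3],
    [3, 2, 1, 0, 3, 1, 3, 2, 3, 0], [3, 1, 2, 3, 0, 3, 1, 3, 2, 3],
    [3, 1, 2, 3, 0, 3, 1, 3, 2, 1], [3, 2, 0, 3, 1, 3, 0, 2, 3, 0],
    [3, 1, 0, 3, 2, 3, 0, 1, 3, 0], [3, 1, 2, 3, 0, 3, 2, 1, 3, 2],
    [3, 2, 1, 3, 0, 2, 1, 3, 2, 1], [3, 1, 2, 3, 0, 2, 1, 3, 2, 1],
    [3, 1, 0, 3, 2, 1, 3, 0, 1, 3], [3, 2, 1, 3, 0, 1, 2, 3, 1, 2],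
    [3, 1, 0, 3, 2, 1, 3, 0, 1, 2], [3, 1, 2, 0, 1, 2, 3, 1, 0, 1],
    [3, 2, 1, 3, 0, 1, 2, 3, 1, 0], [3, 2, 0, 2, 1, 3, 0, 1, 2, 0],
    [3, 2, 0, 2, 1, 3, 2, 1, 0, 2], [3, 0, 2, 3, 1, 3, 0, 1, 2, 0],
    [3, 0, 2, 1, 3, 0, 1, 2, 0, 1], [3, 1, 0, 3, 2, 3, 1, 3, 0, 1],
    [3, 2, 1, 0, 3, 1, 2, 3, 0, 2], [3, 2, 1, 0, 3, 1, 2, 3, 0, 3],
    [3, 1, 2, 3, 0, 2, 1, 3, 0, 2], [3, 1, 2, 3, 0, 2, 1, 3, 0, 1],
    [3, 0, 2, 1, 3, 0, 1, 2, 0, 3], [3, 2, 1, 0, 3, 1, 3, 2, 3, 0, 3],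
    [3, 2, 0, 2, 1, 3, 2, 1, 0, 3, 1], [3, 1, 2, 3, 0, 3, 1, 3, 2, 3, 1],
    [3, 1, 2, 3, 0, 3, 2, 1, 3, 2, 1], [3, 1, 2, 3, 0, 3, 1, 3, 2, 1, 3],
    [3, 1, 0, 3, 2, 3, 0, 1, 3, 0, 1], [3, 1, 0, 3, 2, 1, 3, 0, 1, 3, 2],
    [3, 1, 2, 3, 0, 2, 1, 3, 2, 1, 0], [3, 2, 1, 0, 3, 1, 3, 2, 3, 0, 1],
    [3, 1, 2, 3, 0, 3, 2, 1, 3, 2, 0], [3, 2, 1, 3, 0, 1, 2, 3, 1, 2, 0],
    [3, 1, 2, 0, 1, 2, 3, 1, 0, 1, 2], [3, 2, 0, 2, 1, 3, 0, 1, 2, 0, 3],
    [3, 2, 1, 3, 0, 2, 1, 3, 2, 1, 0], [3, 2, 1, 0, 3, 1, 3, 2, 3, 0, 2],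
    [3, 1, 2, 3, 0, 2, 3, 1, 3, 0, 1], [3, 0, 2, 1, 3, 0, 1, 2, 0, 3, 2],
    [3, 1, 2, 3, 0, 2, 1, 3, 0, 1, 2], [3, 2, 1, 0, 3, 1, 2, 3, 0, 2, 1],
    [3, 2, 1, 0, 3, 1, 3, 2, 3, 0, 3, 1], [3, 1, 2, 3, 0, 2, 1, 3, 2, 1, 0, 2],
    [3, 2, 1, 0, 3, 1, 3, 2, 3, 0, 1, 2], [3, 2, 1, 0, 3, 1, 3, 2, 3, 0, 2, 1],
    [3, 2, 1, 0, 3, 1, 2, 3, 0, 2, 1, 3]]

/-- Edges along which one representative extends another by a letter. -/
def treeEdges : List (ℕ × ℕ × ℕ) :=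
  [
    (0, 3, 1), (1, 0, 3), (1, 1, 4), (1, 2, 2), (2, 0, 8), (2, 1, 10), (3, 1, 5), (3, 2, 6),
    (4, 0, 7), (4, 2, 9), (5, 3, 21), (7, 1, 11), (6, 1, 23), (6, 3, 20), (12, 1, 29),
    (8, 2, 12), (7, 3, 13), (13, 2, 37), (8, 1, 18), (8, 3, 14), (14, 1, 35), (9, 0, 22),
    (9, 1, 15), (9, 3, 19), (10, 0, 17), (10, 3, 16), (16, 0, 33), (17, 1, 24), (17, 2, 31),
    (17, 3, 36), (24, 2, 38), (24, 3, 39), (18, 2, 30), (18, 3, 28), (19, 0, 25), (20, 1, 34),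
    (21, 2, 27), (22, 1, 26), (23, 3, 32), (40, 1, 59), (27, 3, 40), (59, 0, 87), (87, 3, 138),
    (25, 2, 53), (25, 3, 50), (26, 2, 46), (26, 3, 54), (60, 2, 88), (88, 3, 137), (41, 0, 60),
    (41, 2, 79), (35, 3, 41), (29, 3, 43), (30, 1, 42), (43, 0, 61), (43, 2, 71), (61, 1, 102),
    (61, 3, 100), (31, 3, 57), (32, 0, 56), (44, 0, 69), (44, 2, 62), (34, 3, 44), (62, 0, 89),
    (89, 1, 136), (89, 3, 139), (91, 3, 120), (90, 2, 142), (63, 3, 90), (45, 1, 63),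
    (33, 2, 45), (45, 3, 65), (33, 1, 47), (33, 3, 48), (46, 1, 64), (46, 3, 81), (34, 0, 52),
    (65, 1, 91), (66, 2, 108), (47, 3, 66), (47, 2, 82), (48, 1, 67), (67, 2, 97),
    (68, 2, 110), (49, 3, 68), (36, 1, 49), (49, 2, 86), (36, 2, 58), (69, 1, 103),
    (69, 2, 92), (69, 3, 101), (70, 1, 93), (93, 3, 141), (50, 2, 70), (50, 1, 72),
    (71, 1, 105), (72, 3, 109), (51, 0, 73), (51, 1, 77), (37, 3, 51), (73, 1, 94),
    (94, 3, 140), (98, 1, 121), (52, 3, 74), (37, 1, 55), (74, 2, 95), (75, 1, 112),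
    (53, 3, 75), (53, 1, 84), (54, 2, 83), (55, 3, 76), (76, 0, 96), (96, 1, 145),
    (96, 3, 122), (97, 3, 143), (77, 0, 98), (77, 3, 99), (99, 0, 123), (123, 1, 172),
    (102, 2, 147), (103, 2, 149), (56, 1, 78), (78, 2, 119), (79, 1, 104), (105, 0, 132),
    (57, 1, 85), (58, 3, 80), (81, 0, 118), (81, 1, 117), (106, 1, 124), (83, 3, 106),
    (124, 0, 151), (108, 3, 125), (107, 1, 146), (82, 3, 107), (82, 1, 114), (109, 2, 126),
    (84, 3, 115), (126, 1, 157), (126, 3, 156), (110, 3, 131), (85, 3, 111), (111, 2, 130),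
    (127, 0, 152), (152, 1, 193), (127, 2, 153), (112, 3, 127), (86, 1, 113), (113, 3, 128),
    (114, 3, 129), (115, 0, 148), (115, 2, 144), (86, 3, 116), (116, 0, 133), (131, 0, 155),
    (132, 2, 169), (132, 3, 154), (154, 1, 179), (178, 1, 197), (155, 3, 178), (155, 1, 186),
    (155, 2, 192), (133, 2, 173), (133, 3, 174), (117, 0, 134), (118, 1, 135), (134, 1, 166),
    (156, 1, 180), (157, 3, 182), (119, 0, 150), (137, 0, 158), (140, 0, 159), (159, 1, 183),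
    (141, 2, 160), (160, 0, 187), (160, 1, 181), (142, 1, 161), (161, 0, 191), (162, 0, 185),
    (144, 1, 162), (163, 2, 184), (145, 3, 163), (145, 2, 165), (185, 2, 198), (186, 2, 199),
    (164, 0, 188), (146, 2, 164), (146, 0, 167), (166, 2, 189), (147, 0, 168), (168, 3, 190),
    (148, 1, 176), (148, 2, 175), (149, 0, 170), (150, 1, 171), (150, 3, 177), (173, 1, 196),
    (192, 1, 200), (176, 2, 195), (177, 2, 194), (196, 3, 201)]

/-- Scans: start vertex and the relator `(g * u i u⁻¹)^3`. -/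
def scans : List (ℕ × ℕ × List ℕ × ℕ) :=
  [
    (2, 1, [], 0), (51, 1, [], 0), (81, 1, [], 0), (1, 2, [], 0), (0, 3, [], 0), (1, 2, [], 1),
    (12, 2, [], 1), (0, 3, [], 1), (6, 3, [], 1), (8, 3, [], 1), (17, 3, [], 1),
    (120, 3, [], 1), (51, 3, [], 1), (75, 3, [], 1), (0, 3, [], 2), (17, 3, [], 2),
    (26, 3, [], 2), (66, 3, [], 2), (68, 3, [], 2), (0, 3, [1], 0), (0, 3, [1], 2),
    (0, 3, [2], 0), (25, 2, [3], 1), (0, 0, [1, 2], 3), (32, 1, [], 0), (76, 1, [], 0),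
    (152, 1, [], 0), (116, 2, [], 0), (2, 3, [], 1), (11, 3, [], 1), (12, 3, [], 1),
    (126, 3, [], 1), (4, 3, [], 2), (24, 3, [], 2), (15, 2, [1], 0), (2, 1, [3], 0),
    (0, 2, [3], 0), (4, 2, [3], 0), (1, 2, [3], 1), (3, 2, [3], 1), (2, 0, [2, 3], 1),
    (43, 1, [], 0), (71, 1, [], 0), (103, 2, [], 0), (59, 3, [], 0), (43, 2, [], 1),
    (93, 3, [], 1), (25, 3, [], 2), (88, 3, [], 2), (2, 3, [1], 0), (38, 3, [2], 1),
    (12, 1, [3], 0), (1, 0, [2, 3], 1), (44, 2, [], 0), (102, 2, [], 0), (105, 2, [], 0),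
    (39, 2, [], 1), (127, 2, [], 1), (61, 3, [], 1), (94, 3, [0], 1), (18, 3, [1], 2),
    (49, 2, [3], 0), (1, 1, [0, 3], 2), (1, 2, [1, 3], 0), (16, 2, [1, 3], 0),
    (17, 3, [2, 3], 1), (89, 2, [], 1), (133, 3, [], 2), (33, 3, [1], 2), (113, 1, [3], 0),
    (17, 2, [3], 1), (88, 2, [3], 1), (9, 0, [1, 3], 2), (10, 0, [2, 3], 1), (107, 3, [], 1),
    (173, 3, [], 1), (94, 3, [1], 2), (93, 1, [3], 0), (44, 2, [3], 0), (163, 3, [], 2),
    (43, 2, [0], 1), (81, 2, [1], 0), (158, 2, [], 0), (89, 1, [2], 0), (133, 2, [3], 1),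
    (41, 2, [1, 3], 0), (130, 1, [], 0), (127, 2, [0], 1), (116, 0, [2, 3], 1),
    (182, 2, [], 0), (132, 3, [1], 2), (155, 2, [], 1), (158, 2, [0], 1), (89, 3, [1, 2], 0),
    (148, 2, [], 1), (102, 3, [2], 0), (181, 3, [], 0)]

def rep (v : ℕ) : List ℕ := verts.getD v []

def treeOk : Bool := treeEdges.all fun t => decide (rep t.2.2 = rep t.1 ++ [t.2.1])

def initial : List Edge :=
  [⟨0, 0, 0, mulGen NF.one 0⟩, ⟨0, 1, 0, mulGen NF.one 1⟩, ⟨0, 2, 0, mulGen NF.one 2⟩] ++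
    treeEdges.flatMap fun t => [⟨t.1, t.2.1, t.2.2, NF.one⟩, ⟨t.2.2, t.2.1, t.1, NF.one⟩]

def edges : List Edge := scans.foldl (fun E t => scan E t.1 t.2.1 t.2.2.1 t.2.2.2) initial

def wWord : List ℕ := [1, 0, 2, 0, 0, 1, 0, 2]

/-- The word `[z, z^w]`. -/
def nuWord : List ℕ :=
  [3, 0] ++ (wWord.reverse ++ [3, 0] ++ wWord) ++ [0, 3] ++ (wWord.reverse ++ [0, 3] ++ wWord)

def goalWord : List ℕ := reduce (nuWord ++ [1] ++ nuWord.reverse ++ [1])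

def goalOk : Bool :=
  match walk edges 0 NF.one goalWord with
  | (c, h, []) => decide (c = 0 ∧ h = NF.one)
  | _ => false

theorem treeOk_eq : treeOk = true := by decide +kernel

theorem goalOk_eq : goalOk = true := by decide +kernel

section Group

variable {G : Type*} [Group G]

/-- The value of a letter. -/
def gen (o a b c : G) (g : ℕ) : G := if g = 0 then o else if g = 1 then a else if g = 2 then b else c

/-- The value of a word. -/
def ev (o a b c : G) (w : List ℕ) : G := (w.map (gen o a b c)).prod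

/-- The value of a normal form. -/
def nfVal (o a b : G) (m : NF) : G :=
  (o * a) ^ m.i * ((o * b) ^ m.j * ((a * o * b * o * (o * a) * (o * b)) ^ m.k * if m.s then o else 1))

variable (o a b c : G)

theorem ev_nil : ev o a b c [] = 1 := rfl

theorem ev_cons (g : ℕ) (w : List ℕ) : ev o a b c (g :: w) = gen o a b c g * ev o a b c w := by
  simp [ev]

theorem ev_append (v w : List ℕ) : ev o a b c (v ++ w) = ev o a b c v * ev o a b c w := by
  simp [ev]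

theorem ev_replicate (n : ℕ) (w : List ℕ) :
    ev o a b c (List.replicate n w).flatten = ev o a b c w ^ n := by
  induction n with
  | zero => simp [ev]
  | succ n ih => rw [List.replicate_succ, List.flatten_cons, ev_append, ih, pow_succ']

theorem ev_nfWord (m : NF) : ev o a b c (nfWord m) = nfVal o a b m := by
  simp only [nfWord, ev_append, ev_replicate, nfVal]
  congr 1
  · simp [ev, gen]
  congr 1
  · simp [ev, gen]
  congr 1
  · simp [ev, gen, mul_assoc]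
  · cases m.s <;> simp [ev, gen]

/-- A set of involutions, closed under conjugation by its members, whose products have order
dividing 3. -/
structure Hyp (D : Set G) : Prop where
  sq : ∀ d ∈ D, d * d = 1
  conj : ∀ d ∈ D, ∀ e ∈ D, d * e * d ∈ D
  cube : ∀ d ∈ D, ∀ e ∈ D, (d * e) ^ 3 = 1

variable {o a b c} {D : Set G}

theorem Hyp.inv (hD : Hyp D) {d : G} (hd : d ∈ D) : d⁻¹ = d :=
  inv_eq_of_mul_eq_one_left (hD.sq d hd)

/-- If `x`, `y`, `x y` and `x y⁻¹` have order dividing 3, then `x` commutes with `[x, y]`. -/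
theorem commute_comm {x y : G} (h1 : (y * x) ^ 3 = 1) (h2 : (y⁻¹ * x) ^ 3 = 1)
    (hy : y ^ 3 = 1) : Commute x (x⁻¹ * y⁻¹ * x * y) := by
  have e1 : x * y * x = y⁻¹ * x⁻¹ * y⁻¹ := by
    calc x * y * x = y⁻¹ * (y * x) ^ 3 * x⁻¹ * y⁻¹ := by simp [pow_succ, mul_assoc]
      _ = y⁻¹ * x⁻¹ * y⁻¹ := by rw [h1, mul_one]
  have e2 : x * y⁻¹ * x = y * x⁻¹ * y := by
    calc x * y⁻¹ * x = y * (y⁻¹ * x) ^ 3 * x⁻¹ * y := by simp [pow_succ, mul_assoc]
      _ = y * x⁻¹ * y := by rw [h2, mul_one]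
  have hy2 : y * y = y⁻¹ := eq_inv_of_mul_eq_one_left (by rw [← hy]; simp [pow_succ, mul_assoc])
  have hy3 : y⁻¹ * y⁻¹ = y := by rw [← mul_inv_rev, hy2, inv_inv]
  have key : Commute x (y⁻¹ * x * y) := by
    show x * (y⁻¹ * x * y) = y⁻¹ * x * y * x
    calc x * (y⁻¹ * x * y) = x * y⁻¹ * x * y := by group
      _ = y * x⁻¹ * (y * y) := by rw [e2]; group
      _ = (y⁻¹ * y⁻¹) * x⁻¹ * y⁻¹ := by rw [hy2, hy3]
      _ = y⁻¹ * (x * y * x) := by rw [e1]; group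
      _ = y⁻¹ * x * y * x := by group
  have h : x⁻¹ * y⁻¹ * x * y = x⁻¹ * (y⁻¹ * x * y) := by group
  rw [h]
  exact ((Commute.refl x).inv_right).mul_right key

theorem Hyp.gen_mem (hD : Hyp D) (ho : o ∈ D) (ha : a ∈ D) (hb : b ∈ D) (hc : c ∈ D) (g : ℕ) :
    gen o a b c g ∈ D := by
  unfold gen; split_ifs <;> assumption

theorem Hyp.conj_word (hD : Hyp D) (ho : o ∈ D) (ha : a ∈ D) (hb : b ∈ D) (hc : c ∈ D)
    (u : List ℕ) (i : ℕ) : ev o a b c (u ++ i :: u.reverse) ∈ D := by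
  induction u with
  | nil => simpa [ev] using hD.gen_mem ho ha hb hc i
  | cons g u ih =>
    have h : ev o a b c ((g :: u) ++ i :: (g :: u).reverse) =
        gen o a b c g * ev o a b c (u ++ i :: u.reverse) * gen o a b c g := by
      simp [ev, mul_assoc]
    rw [h]
    exact hD.conj _ (hD.gen_mem ho ha hb hc g) _ ih

theorem Hyp.ev_reverse (hD : Hyp D) (ho : o ∈ D) (ha : a ∈ D) (hb : b ∈ D) (hc : c ∈ D)
    (w : List ℕ) : ev o a b c w.reverse = (ev o a b c w)⁻¹ := by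
  induction w with
  | nil => simp [ev]
  | cons g w ih =>
    rw [List.reverse_cons, ev_append, ih, ev_cons, ev_cons, ev_nil, mul_one, mul_inv_rev,
      hD.inv (hD.gen_mem ho ha hb hc g)]

theorem Hyp.ev_reduce (hD : Hyp D) (ho : o ∈ D) (ha : a ∈ D) (hb : b ∈ D) (hc : c ∈ D)
    (w : List ℕ) : ev o a b c (reduce w) = ev o a b c w := by
  induction w with
  | nil => rfl
  | cons g w ih =>
    rw [ev_cons, ← ih, reduce]
    cases reduce w with
    | nil => rfl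
    | cons h v =>
      dsimp only
      split_ifs with e
      · rw [ev_cons, e, ← mul_assoc, hD.sq _ (hD.gen_mem ho ha hb hc h), one_mul]
      · rw [ev_cons]

theorem Hyp.ev_relWord (hD : Hyp D) (ho : o ∈ D) (ha : a ∈ D) (hb : b ∈ D) (hc : c ∈ D)
    (g : ℕ) (u : List ℕ) (i : ℕ) : ev o a b c (relWord g u i) = 1 := by
  have h := hD.cube _ (hD.gen_mem ho ha hb hc g) _ (hD.conj_word ho ha hb hc u i)
  rw [relWord, hD.ev_reduce ho ha hb hc, ev_append, ev_append, ev_cons, ← h]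
  simp [pow_succ, mul_assoc]

theorem Hyp.mulGen_spec (hD : Hyp D) (ho : o ∈ D) (ha : a ∈ D) (hb : b ∈ D) (hc : c ∈ D)
    (m : NF) (g : ℕ) (hg : g < 3) :
    nfVal o a b (mulGen m g) = nfVal o a b m * gen o a b c g := by
  have hoo : o * o = 1 := hD.sq o ho
  have haa : a * a = 1 := hD.sq a ha
  have hbb : b * b = 1 := hD.sq b hb
  set x := o * a with hx
  set y := o * b with hy
  set W := a * o * b * o * x * y with hW
  have hxi : x⁻¹ = a * o := by rw [hx, mul_inv_rev, hD.inv ha, hD.inv ho]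
  have hyi : y⁻¹ = b * o := by rw [hy, mul_inv_rev, hD.inv hb, hD.inv ho]
  have x3 : x ^ 3 = 1 := hD.cube o ho a ha
  have y3 : y ^ 3 = 1 := hD.cube o ho b hb
  have hWd : W = x⁻¹ * y⁻¹ * x * y := by rw [hW, hxi, hyi]; simp [mul_assoc]
  have cx : Commute x W := by
    rw [hWd]
    refine commute_comm ?_ ?_ y3
    · rw [hy, hx, ← hD.cube (o * b * o) (hD.conj o ho b hb) a ha]; simp [mul_assoc]
    · rw [hyi, hx]
      rw [show b * o * (o * a) = b * a by rw [mul_assoc, ← mul_assoc o, hoo, one_mul]]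
      exact hD.cube b hb a ha
  have cy : Commute y W := by
    have h : Commute y (y⁻¹ * x⁻¹ * y * x) := by
      refine commute_comm ?_ ?_ x3
      · rw [hy, hx, ← hD.cube (o * a * o) (hD.conj o ho a ha) b hb]; simp [mul_assoc]
      · rw [hxi, hy]
        rw [show a * o * (o * b) = a * b by rw [mul_assoc, ← mul_assoc o, hoo, one_mul]]
        exact hD.cube a ha b hb
    have h2 : W = (y⁻¹ * x⁻¹ * y * x)⁻¹ := by rw [hWd]; group
    rw [h2]; exact h.inv_right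
  have hxy : x * y = y * x * W := by rw [hWd]; group
  have W3 : W ^ 3 = 1 := by
    have h1 : y⁻¹ * x * y = x * W := by rw [mul_assoc, hxy]; group
    have h2 : (y⁻¹ * x * y) ^ 3 = 1 := by
      have := conj_pow (a := y⁻¹) (b := x) (i := 3)
      rw [inv_inv, x3, mul_one, inv_mul_cancel] at this
      exact this
    rw [h1, cx.mul_pow, x3, one_mul] at h2
    exact h2
  have hyx : y * x = x * y * W ^ 2 := by
    rw [hxy, mul_assoc (y * x), ← pow_succ', W3, mul_one]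
  have mod3 : ∀ (t : G), t ^ 3 = 1 → ∀ n : ℕ, t ^ (n % 3) = t ^ n :=
    fun t ht n => (pow_eq_pow_mod n ht).symm
  have ox : o * x = x ^ 2 * o := by
    have h : x ^ 2 = x⁻¹ := eq_inv_of_mul_eq_one_left (by rw [← pow_succ]; exact x3)
    rw [h, hxi, hx]; simp [mul_assoc, hoo]; rw [← mul_assoc, hoo, one_mul]
  have oy : o * y = y ^ 2 * o := by
    have h : y ^ 2 = y⁻¹ := eq_inv_of_mul_eq_one_left (by rw [← pow_succ]; exact y3)
    rw [h, hyi, hy]; simp [mul_assoc, hoo]; rw [← mul_assoc, hoo, one_mul]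
  have yj : ∀ j : ℕ, y ^ j * x = x * (y ^ j * W ^ (2 * j)) := by
    intro j
    induction j with
    | zero => simp
    | succ j ih =>
      calc y ^ (j + 1) * x = y ^ j * (y * x) := by rw [pow_succ, mul_assoc]
        _ = (y ^ j * x) * (y * W ^ 2) := by rw [hyx]; simp [mul_assoc]
        _ = x * (y ^ j * (W ^ (2 * j) * y) * W ^ 2) := by rw [ih]; simp [mul_assoc]
        _ = x * (y ^ (j + 1) * W ^ (2 * (j + 1))) := by
          rw [← (cy.pow_right (2 * j)).eq, show 2 * (j + 1) = 2 * j + 2 by omega, pow_add W,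
            pow_succ y]
          simp only [mul_assoc]
  have yje : ∀ j e : ℕ, y ^ j * x ^ e = x ^ e * (y ^ j * W ^ (2 * j * e)) := by
    intro j e
    induction e with
    | zero => simp
    | succ e ih =>
      calc y ^ j * x ^ (e + 1) = (y ^ j * x ^ e) * x := by rw [pow_succ, mul_assoc]
        _ = x ^ e * ((y ^ j * x) * W ^ (2 * j * e)) := by
          rw [ih, mul_assoc, mul_assoc, ← (cx.pow_right (2 * j * e)).eq]; simp [mul_assoc]
        _ = x ^ (e + 1) * (y ^ j * W ^ (2 * j * (e + 1))) := by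
          rw [yj, pow_succ, mul_add, mul_one, add_comm (2 * j * e), pow_add]
          simp [mul_assoc]
  have wx : ∀ k e : ℕ, W ^ k * x ^ e = x ^ e * W ^ k :=
    fun k e => (cx.pow_pow e k).eq.symm
  have wy : ∀ k e : ℕ, W ^ k * y ^ e = y ^ e * W ^ k :=
    fun k e => (cy.pow_pow e k).eq.symm
  have stepx : ∀ (i j k e : ℕ) (t : G), x ^ i * (y ^ j * (W ^ k * (x ^ e * t))) =
      x ^ ((i + e) % 3) * (y ^ j * (W ^ ((k + 2 * j * e) % 3) * t)) := by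
    intro i j k e t
    rw [mod3 x x3, mod3 W W3, ← mul_assoc (W ^ k), wx, mul_assoc, ← mul_assoc (y ^ j), yje,
      pow_add, add_comm k, pow_add]
    simp [mul_assoc]
  have stepy : ∀ (i j k e : ℕ) (t : G), x ^ i * (y ^ j * (W ^ k * (y ^ e * t))) =
      x ^ i * (y ^ ((j + e) % 3) * (W ^ k * t)) := by
    intro i j k e t
    rw [mod3 y y3, ← mul_assoc (W ^ k), wy, pow_add]
    simp [mul_assoc]
  have e1 : a = o * x := by rw [hx, ← mul_assoc, hoo, one_mul]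
  have e2 : b = o * y := by rw [hy, ← mul_assoc, hoo, one_mul]
  have hga : gen o a b c 1 = a := rfl
  have hgb : gen o a b c 2 = b := rfl
  interval_cases g
  · obtain ⟨s, i, j, k⟩ := m
    cases s <;> simp [mulGen, nfVal, gen, mul_assoc, hoo]
  · obtain ⟨s, i, j, k⟩ := m
    rw [hga]
    cases s
    · simp only [mulGen, nfVal, Nat.one_ne_zero, ↓reduceIte, Bool.false_eq_true, Bool.not_false,
        ← hx, ← hy, ← hW]
      rw [← stepx]; conv_rhs => rw [e1]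
      simp [mul_assoc, ox]
    · simp only [mulGen, nfVal, Nat.one_ne_zero, ↓reduceIte, Bool.not_true, Bool.false_eq_true,
        ← hx, ← hy, ← hW]
      rw [← stepx]
      simp [mul_assoc, hx]
  · obtain ⟨s, i, j, k⟩ := m
    rw [hgb]
    cases s
    · simp only [mulGen, nfVal, show (2 : ℕ) ≠ 0 by decide, show (2 : ℕ) ≠ 1 by decide, ↓reduceIte,
        Bool.false_eq_true, Bool.not_false, ← hx, ← hy, ← hW]
      rw [← stepy]; conv_rhs => rw [e2]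
      simp [mul_assoc, oy]
    · simp only [mulGen, nfVal, show (2 : ℕ) ≠ 0 by decide, show (2 : ℕ) ≠ 1 by decide, ↓reduceIte,
        Bool.not_true, Bool.false_eq_true, ← hx, ← hy, ← hW]
      rw [← stepy]
      simp [mul_assoc, hy]

theorem nfVal_one : nfVal o a b NF.one = 1 := by simp [nfVal, NF.one]

theorem nfWord_lt (m : NF) : ∀ g ∈ nfWord m, g < 3 := by
  intro g hg
  simp only [nfWord, List.mem_append, List.mem_flatten, List.mem_replicate] at hg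
  rcases hg with ⟨l, ⟨-, rfl⟩, h⟩ | ⟨l, ⟨-, rfl⟩, h⟩ | ⟨l, ⟨-, rfl⟩, h⟩ | h
  all_goals first
    | (fin_cases h <;> omega)
    | (split at h <;> simp at h <;> omega)

theorem Hyp.foldl_spec (hD : Hyp D) (ho : o ∈ D) (ha : a ∈ D) (hb : b ∈ D) (hc : c ∈ D)
    (w : List ℕ) (hw : ∀ g ∈ w, g < 3) (m : NF) :
    nfVal o a b (w.foldl mulGen m) = nfVal o a b m * ev o a b c w := by
  induction w generalizing m with
  | nil => simp [ev]
  | cons g w ih =>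
    rw [List.foldl_cons, ih (fun k hk => hw k (List.mem_cons_of_mem _ hk)),
      hD.mulGen_spec ho ha hb hc m g (hw g List.mem_cons_self), ev_cons, mul_assoc]

theorem Hyp.nfMul_spec (hD : Hyp D) (ho : o ∈ D) (ha : a ∈ D) (hb : b ∈ D) (hc : c ∈ D)
    (m n : NF) : nfVal o a b (nfMul m n) = nfVal o a b m * nfVal o a b n := by
  rw [nfMul, hD.foldl_spec ho ha hb hc _ (nfWord_lt n), ev_nfWord]

theorem Hyp.nfInv_spec (hD : Hyp D) (ho : o ∈ D) (ha : a ∈ D) (hb : b ∈ D) (hc : c ∈ D)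
    (m : NF) : nfVal o a b (nfInv m) = (nfVal o a b m)⁻¹ := by
  rw [nfInv, hD.foldl_spec (c := c) ho ha hb hc _ (fun g hg => nfWord_lt m g (List.mem_reverse.1 hg)),
    nfVal_one, one_mul, hD.ev_reverse ho ha hb hc, ev_nfWord]

/-- The meaning of an edge. -/
def Good (o a b c : G) (E : List Edge) : Prop :=
  ∀ e ∈ E, ev o a b c (rep e.c) * gen o a b c e.g = nfVal o a b e.h * ev o a b c (rep e.d)

theorem Hyp.walk_spec (hD : Hyp D) (ho : o ∈ D) (ha : a ∈ D) (hb : b ∈ D) (hc : c ∈ D)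
    {E : List Edge} (hE : Good o a b c E) (w : List ℕ) (v : ℕ) (h : NF) :
    nfVal o a b h * ev o a b c (rep v) * ev o a b c w =
      nfVal o a b (walk E v h w).2.1 * ev o a b c (rep (walk E v h w).1) *
        ev o a b c (walk E v h w).2.2 := by
  induction w generalizing v h with
  | nil => rfl
  | cons g w ih =>
    unfold walk
    cases hf : E.find? (fun e => decide (e.c = v ∧ e.g = g)) with
    | none => rfl
    | some e =>
      have h1 := List.find?_some hf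
      rw [decide_eq_true_eq] at h1
      have h2 := hE e (List.mem_of_find?_eq_some hf)
      rw [h1.1, h1.2] at h2
      have h3 := ih e.d (nfMul h e.h)
      dsimp only
      rw [← h3, hD.nfMul_spec ho ha hb hc, ev_cons, mul_assoc (nfVal o a b h) (nfVal o a b e.h),
        ← h2]
      simp [mul_assoc]

theorem Hyp.scan_spec (hD : Hyp D) (ho : o ∈ D) (ha : a ∈ D) (hb : b ∈ D) (hc : c ∈ D)
    {E : List Edge} (hE : Good o a b c E) (x g : ℕ) (u : List ℕ) (i : ℕ) :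
    Good o a b c (scan E x g u i) := by
  unfold scan
  have h1 := hD.walk_spec ho ha hb hc hE (relWord g u i) x NF.one
  rw [nfVal_one, one_mul, hD.ev_relWord ho ha hb hc, mul_one] at h1
  generalize walk E x NF.one (relWord g u i) = r1 at h1 ⊢
  obtain ⟨v, P, rest⟩ := r1
  dsimp only at h1 ⊢
  have h2 := hD.walk_spec ho ha hb hc hE rest.reverse x NF.one
  rw [nfVal_one, one_mul, hD.ev_reverse ho ha hb hc] at h2
  generalize walk E x NF.one rest.reverse = r2 at h2 ⊢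
  obtain ⟨d, Q, rl⟩ := r2
  match rl with
  | [] => exact hE
  | _ :: _ :: _ => exact hE
  | [l] =>
    dsimp only at h2 ⊢
    rw [ev_cons, ev_nil, mul_one] at h2
    have hl := hD.sq _ (hD.gen_mem ho ha hb hc l)
    have key : ev o a b c (rep v) * gen o a b c l =
        nfVal o a b (nfMul (nfInv P) Q) * ev o a b c (rep d) := by
      rw [hD.nfMul_spec ho ha hb hc, hD.nfInv_spec ho ha hb hc]
      have h3 : ev o a b c (rep v) = (nfVal o a b P)⁻¹ *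
          (ev o a b c (rep x) * (ev o a b c rest)⁻¹) := by
        rw [h1]; simp [mul_assoc]
      rw [h3, h2]
      simp [mul_assoc, hl]
    intro e he
    rcases List.mem_cons.1 he with rfl | he
    · exact key
    rcases List.mem_cons.1 he with rfl | he
    · show ev o a b c (rep d) * gen o a b c l = _ * ev o a b c (rep v)
      rw [hD.nfInv_spec ho ha hb hc, eq_inv_mul_iff_mul_eq, ← mul_assoc, ← key, mul_assoc, hl,
        mul_one]
    · exact hE e he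

theorem Hyp.initial_spec (hD : Hyp D) (ho : o ∈ D) (ha : a ∈ D) (hb : b ∈ D) (hc : c ∈ D) :
    Good o a b c initial := by
  have h0 : rep 0 = [] := rfl
  intro e he
  rw [initial, List.mem_append, List.mem_flatMap] at he
  rcases he with he | ⟨t, ht, he⟩
  · fin_cases he <;>
      (dsimp only; rw [hD.mulGen_spec ho ha hb hc _ _ (by decide), nfVal_one, h0, ev_nil, mul_one,
        one_mul])
  · have h := treeOk_eq
    rw [treeOk, List.all_eq_true] at h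
    have h2 := h t ht
    rw [decide_eq_true_eq] at h2
    fin_cases he <;> dsimp only <;> rw [h2, ev_append, ev_cons, ev_nil, mul_one, nfVal_one, one_mul]
    rw [mul_assoc, hD.sq _ (hD.gen_mem ho ha hb hc _), mul_one]

theorem Hyp.edges_spec (hD : Hyp D) (ho : o ∈ D) (ha : a ∈ D) (hb : b ∈ D) (hc : c ∈ D) :
    Good o a b c edges := by
  suffices h : ∀ (l : List (ℕ × ℕ × List ℕ × ℕ)) (E : List Edge), Good o a b c E →
      Good o a b c (l.foldl (fun E t => scan E t.1 t.2.1 t.2.2.1 t.2.2.2) E) from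
    h scans initial (hD.initial_spec ho ha hb hc)
  intro l
  induction l with
  | nil => exact fun E h => h
  | cons t l ih => exact fun E h => ih _ (hD.scan_spec ho ha hb hc h _ _ _ _)

/-- The element `[z, z^w]`, where `w = [oa, ob]` and `z = oc`. -/
def nu (o a b c : G) : G :=
  c * o * ((a * o * b * o * (o * a) * (o * b))⁻¹ * (c * o) * (a * o * b * o * (o * a) * (o * b))) *
    (o * c) * ((a * o * b * o * (o * a) * (o * b))⁻¹ * (o * c) * (a * o * b * o * (o * a) * (o * b)))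

theorem Hyp.nu_commute (hD : Hyp D) (ho : o ∈ D) (ha : a ∈ D) (hb : b ∈ D) (hc : c ∈ D) :
    Commute (nu o a b c) a := by
  have hw : ev o a b c wWord = a * o * b * o * (o * a) * (o * b) := by
    simp [wWord, ev, gen, mul_assoc]
  have hnu : ev o a b c nuWord = nu o a b c := by
    simp only [nuWord, ev_append, hD.ev_reverse ho ha hb hc, hw, nu]
    simp [ev, gen, mul_assoc]
  have h := goalOk_eq
  unfold goalOk at h
  have h2 := hD.walk_spec ho ha hb hc (hD.edges_spec ho ha hb hc) goalWord 0 NF.one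
  have h0 : ev o a b c (rep 0) = 1 := rfl
  rw [nfVal_one, one_mul, h0, one_mul] at h2
  generalize walk edges 0 NF.one goalWord = r at h h2
  obtain ⟨v, m, rest⟩ := r
  match rest with
  | _ :: _ => simp at h
  | [] =>
    simp only [decide_eq_true_eq] at h
    rw [h.1, h.2, nfVal_one, h0, ev_nil, one_mul, mul_one, goalWord, hD.ev_reduce ho ha hb hc,
      ev_append, ev_append, ev_append, hD.ev_reverse ho ha hb hc, hnu, ev_cons, ev_nil,
      mul_one] at h2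
    have h3 : gen o a b c 1 = a := rfl
    rw [h3] at h2
    have h4 : nu o a b c * a * (nu o a b c)⁻¹ = a := by
      have := eq_inv_of_mul_eq_one_left h2
      rwa [hD.inv ha] at this
    exact mul_inv_eq_iff_eq_mul.1 h4

end Group

end Cfsg.Agent.ThreeTransp.WidthOneCert
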