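import Cfsg.Agent.Lib.ThreeTransp.Basic
import Cfsg.Agent.Lib.ThreeTransp.WidthOneCert
import Cfsg.Agent.Lib.Cores.Basic
import Cfsg.Agent.Lib.Involutions.BaerSuzuki

/-!
Sets of 3-transpositions in which no two distinct members commute: all products of two members lie
in `O₃(G)`. Baer–Suzuki reduces this to groups generated by four members, where the certified
identity of `WidthOneCert` gives that the group is a 2-element extension of a 3-group.
-/

set_option autoImplicit false

namespace Cfsg.Agent.ThreeTransp.WidthOne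

open Cfsg.Agent.ThreeTransp.WidthOneCert Cfsg.Agent.Cores

variable {G : Type*} [Group G] {D : Set G}

/-- The commutator of `o * a` and `o * b`. -/
def wc (o a b : G) : G := a * o * b * o * (o * a) * (o * b)

theorem mul_mul_cancel_left {o : G} (ho : o * o = 1) (t : G) : o * (o * t) = t := by
  rw [← mul_assoc, ho, one_mul]

/-- The plane through three points: the commutator centralizes all three. -/
theorem plane (hD : Hyp D) {o a b : G} (ho : o ∈ D) (ha : a ∈ D) (hb : b ∈ D) :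
    Commute (wc o a b) o ∧ Commute (wc o a b) a ∧ Commute (wc o a b) b ∧ wc o a b ^ 3 = 1 := by
  have hoo := hD.sq o ho
  set x := o * a with hx
  set y := o * b with hy
  have hxi : x⁻¹ = a * o := by rw [hx, mul_inv_rev, hD.inv ha, hD.inv ho]
  have hyi : y⁻¹ = b * o := by rw [hy, mul_inv_rev, hD.inv hb, hD.inv ho]
  have x3 : x ^ 3 = 1 := hD.cube o ho a ha
  have y3 : y ^ 3 = 1 := hD.cube o ho b hb
  have hw : wc o a b = x⁻¹ * y⁻¹ * x * y := by
    rw [hxi, hyi, hx, hy, wc]; simp [mul_assoc]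
  have cx : Commute x (wc o a b) := by
    rw [hw]
    refine commute_comm ?_ ?_ y3
    · rw [hy, hx, ← hD.cube (o * b * o) (hD.conj o ho b hb) a ha]; simp [mul_assoc]
    · rw [hyi, hx, show b * o * (o * a) = b * a by rw [mul_assoc, mul_mul_cancel_left hoo]]
      exact hD.cube b hb a ha
  have cy : Commute y (wc o a b) := by
    have h : Commute y (y⁻¹ * x⁻¹ * y * x) := by
      refine commute_comm ?_ ?_ x3
      · rw [hy, hx, ← hD.cube (o * a * o) (hD.conj o ho a ha) b hb]; simp [mul_assoc]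
      · rw [hxi, hy, show a * o * (o * b) = a * b by rw [mul_assoc, mul_mul_cancel_left hoo]]
        exact hD.cube a ha b hb
    have h2 : wc o a b = (y⁻¹ * x⁻¹ * y * x)⁻¹ := by rw [hw]; group
    rw [h2]; exact h.inv_right
  have w3 : wc o a b ^ 3 = 1 := by
    have h1 : y⁻¹ * x * y = x * wc o a b := by rw [hw]; group
    have h2 : (y⁻¹ * x * y) ^ 3 = 1 := by
      have := conj_pow (a := y⁻¹) (b := x) (i := 3)
      rw [inv_inv, x3, mul_one, inv_mul_cancel] at this
      exact this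
    rw [h1, cx.mul_pow, x3, one_mul] at h2
    exact h2
  have co : Commute (wc o a b) o := by
    have h1 : o * wc o a b = x * y * x⁻¹ * y⁻¹ * o := by
      rw [hxi, hyi, hx, hy, wc]; simp [mul_assoc, hoo, mul_mul_cancel_left hoo]
    have h2 : x * y * x⁻¹ * y⁻¹ = wc o a b := by
      calc x * y * x⁻¹ * y⁻¹ = (x * y) * (x⁻¹ * y⁻¹ * x * y) * (x * y)⁻¹ := by group
        _ = wc o a b := by rw [← hw, (cx.mul_left cy).eq, mul_inv_cancel_right]
    rw [h2] at h1
    exact h1.symm
  have ca : Commute (wc o a b) a := by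
    have h := co.mul_right cx.symm
    rwa [hx, mul_mul_cancel_left hoo] at h
  have cb : Commute (wc o a b) b := by
    have h := co.mul_right cy.symm
    rwa [hy, mul_mul_cancel_left hoo] at h
  exact ⟨co, ca, cb, w3⟩

theorem wc_swap (hD : Hyp D) {o a b : G} (ho : o ∈ D) (ha : a ∈ D) (hb : b ∈ D) :
    wc o b a = (wc o a b)⁻¹ := by
  simp [wc, hD.inv ho, hD.inv ha, hD.inv hb, mul_assoc]

/-- The same commutator seen from `a`. -/
theorem wc_rotate (hD : Hyp D) {o a b : G} (ho : o ∈ D) (ha : a ∈ D) (hb : b ∈ D) :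
    wc a b o = wc o a b := by
  obtain ⟨co, ca, -, -⟩ := plane hD ho ha hb
  have h : wc a b o = o * a * wc o a b * (o * a)⁻¹ := by
    simp [wc, hD.inv ho, hD.inv ha, mul_assoc, mul_mul_cancel_left (hD.sq o ho),
      mul_mul_cancel_left (hD.sq a ha)]
  rw [h, ← (co.mul_right ca).eq, mul_inv_cancel_right]

theorem nu_eq_wc {o a b c : G} (h : Commute (wc o a b) o) :
    nu o a b c = wc o c ((wc o a b)⁻¹ * c * wc o a b) := by
  have key : ∀ w : G, w * o = o * w →
      c * o * (w⁻¹ * (c * o) * w) * (o * c) * (w⁻¹ * (o * c) * w) =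
        c * o * (w⁻¹ * c * w) * o * (o * c) * (o * (w⁻¹ * c * w)) := by
    intro w hw
    have hwi : w⁻¹ * o = o * w⁻¹ := ((show Commute w o from hw).inv_left).eq
    have e1 : w⁻¹ * (c * o) * w = w⁻¹ * c * w * o := by simp [mul_assoc, hw]
    have e2 : w⁻¹ * (o * c) * w = o * (w⁻¹ * c * w) := by
      rw [← mul_assoc, hwi]; simp [mul_assoc]
    rw [e1, e2]; simp [mul_assoc]
  exact key (wc o a b) h.eq

section Core

variable [Finite G] (hcore : Cfsg.pCore 3 G = ⊥) (hD : Hyp D) {o a b c : G}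
  (ho : o ∈ D) (ha : a ∈ D) (hb : b ∈ D) (hc : c ∈ D)
  (hgen : ∀ K : Subgroup G, o ∈ K → a ∈ K → b ∈ K → c ∈ K → K = ⊤)

include hcore hgen in
/-- An element of order 3 whose subgroup is normalized by the generators is trivial. -/
theorem eq_one_of_norm {t : G} (ht : t ^ 3 = 1)
    (h : ∀ g ∈ ({o, a, b, c} : Set G), g * t * g⁻¹ ∈ Subgroup.zpowers t) : t = 1 := by
  have hn : ∀ g ∈ ({o, a, b, c} : Set G), g ∈ Subgroup.normalizer (Subgroup.zpowers t : Set G) := by
    intro g hg
    refine Subgroup.mem_normalizer_iff_map_conj_eq.2 ?_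
    refine Subgroup.eq_of_le_of_card_ge ?_ (Subgroup.card_map_of_injective
      (MulAut.conj g).injective).ge
    rw [MonoidHom.map_zpowers, Subgroup.zpowers_le]
    exact h g hg
  have hN := hgen _ (hn o (by simp)) (hn a (by simp)) (hn b (by simp)) (hn c (by simp))
  haveI : (Subgroup.zpowers t).Normal := Subgroup.normalizer_eq_top_iff.1 hN
  have hp : IsPGroup 3 (Subgroup.zpowers t) := by
    intro g
    refine ⟨1, ?_⟩
    obtain ⟨g, k, rfl⟩ := g
    ext
    simp only [pow_one, SubgroupClass.coe_pow, OneMemClass.coe_one]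
    rw [← zpow_natCast (t ^ k), ← zpow_mul, mul_comm, zpow_mul, zpow_natCast, ht, one_zpow]
  have h1 : Subgroup.zpowers t ≤ Cfsg.pCore 3 G := le_pCore hp
  rw [hcore, le_bot_iff, Subgroup.zpowers_eq_bot] at h1
  exact h1

include hcore hgen hD ho ha hb hc

theorem nu_eq_one : nu o a b c = 1 := by
  obtain ⟨co, ca, cb, -⟩ := plane hD ho ha hb
  have hne := nu_eq_wc (c := c) co
  have hc' : (wc o a b)⁻¹ * c * wc o a b ∈ D := by
    have h : ∀ d e : G, d ∈ D → e ∈ D → d⁻¹ * e * d ∈ D := fun d e hd he => by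
      rw [hD.inv hd]; exact hD.conj d hd e he
    have key : (wc o a b)⁻¹ * c * wc o a b =
        b⁻¹ * (o⁻¹ * (a⁻¹ * (o⁻¹ * (o⁻¹ * (b⁻¹ * (o⁻¹ * (a⁻¹ * c * a) * o) * b) * o) * o) * a) *
          o) * b := by
      simp [wc, mul_assoc]
    rw [key]
    exact h _ _ hb (h _ _ ho (h _ _ ha (h _ _ ho (h _ _ ho (h _ _ hb (h _ _ ho (h _ _ ha hc)))))))
  obtain ⟨no, nc, -, n3⟩ := plane hD ho hc hc'
  rw [← hne] at no nc n3
  have na := hD.nu_commute ho ha hb hc
  have nb : Commute (nu o a b c) b := by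
    have h1 := hD.nu_commute ho hb ha hc
    have e : nu o b a c = wc o a b * (nu o a b c)⁻¹ * (wc o a b)⁻¹ := by
      have e1 : nu o b a c = c * o * ((wc o b a)⁻¹ * (c * o) * wc o b a) * (o * c) *
          ((wc o b a)⁻¹ * (o * c) * wc o b a) := rfl
      have e2 : nu o a b c = c * o * ((wc o a b)⁻¹ * (c * o) * wc o a b) * (o * c) *
          ((wc o a b)⁻¹ * (o * c) * wc o a b) := rfl
      rw [e1, e2, wc_swap hD ho ha hb]
      generalize wc o a b = w
      simp [mul_assoc, hD.inv ho, hD.inv hc]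
    rw [e] at h1
    have h2 := (Commute.conj_iff (wc o a b)⁻¹).2 h1
    rw [inv_inv, ← mul_assoc, ← mul_assoc, inv_mul_cancel, one_mul, inv_mul_cancel_right,
      mul_assoc _ b, ← cb.eq, ← mul_assoc, inv_mul_cancel, one_mul] at h2
    exact Commute.inv_left_iff.1 h2
  refine eq_one_of_norm hcore hgen n3 fun g hg => ?_
  have hg' : Commute (nu o a b c) g := by
    rcases hg with rfl | rfl | rfl | rfl <;> assumption
  rw [← hg'.eq, mul_inv_cancel_right]
  exact Subgroup.mem_zpowers _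

theorem conj_wc_mem : (wc o a b)⁻¹ * c * wc o a b ∈ D := by
  have h : ∀ d e : G, d ∈ D → e ∈ D → d⁻¹ * e * d ∈ D := fun d e hd he => by
    rw [hD.inv hd]; exact hD.conj d hd e he
  have key : (wc o a b)⁻¹ * c * wc o a b =
      b⁻¹ * (o⁻¹ * (a⁻¹ * (o⁻¹ * (o⁻¹ * (b⁻¹ * (o⁻¹ * (a⁻¹ * c * a) * o) * b) * o) * o) * a) *
        o) * b := by
    simp [wc, mul_assoc]
  rw [key]
  exact h _ _ hb (h _ _ ho (h _ _ ha (h _ _ ho (h _ _ ho (h _ _ hb (h _ _ ho (h _ _ ha hc)))))))

theorem wc_eq_one : wc o a b = 1 := by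
  obtain ⟨co, ca, cb, w3⟩ := plane hD ho ha hb
  have he := conj_wc_mem hcore hD ho ha hb hc hgen
  have n1 : wc o c ((wc o a b)⁻¹ * c * wc o a b) = 1 :=
    nu_eq_wc (c := c) co ▸ nu_eq_one hcore hD ho ha hb hc hgen
  have r1 : wc a b o = wc o a b := wc_rotate hD ho ha hb
  have r2 : wc b o a = wc o a b := (wc_rotate hD ha hb ho).trans r1
  have n2 : wc a c ((wc o a b)⁻¹ * c * wc o a b) = 1 := by
    have h1 : nu a b o c = 1 := nu_eq_one hcore hD ha hb ho hc fun K x y z w => hgen K z x y w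
    rw [nu_eq_wc (by rw [r1]; exact ca), r1] at h1
    exact h1
  have n3 : wc b c ((wc o a b)⁻¹ * c * wc o a b) = 1 := by
    have h1 : nu b o a c = 1 := nu_eq_one hcore hD hb ho ha hc fun K x y z w => hgen K y z x w
    rw [nu_eq_wc (by rw [r2]; exact cb), r2] at h1
    exact h1
  set w := wc o a b with hw
  set e := w⁻¹ * c * w with hedef
  have hinv : ∀ g ∈ D, wc g c e = 1 → g * (c * e) * g = (c * e)⁻¹ := by
    intro g hg h
    have h2 : Commute (g * c) (g * e) := by
      have h3 : c * g * e * g * (g * c * (g * e)) = 1 := by rw [← h, wc]; simp [mul_assoc]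
      show g * c * (g * e) = g * e * (g * c)
      rw [eq_inv_of_mul_eq_one_right h3]
      simp [hD.inv hg, hD.inv hc, hD.inv he, mul_assoc]
    have h4 := h2.inv_right.eq
    rw [mul_inv_rev, hD.inv hg, hD.inv he] at h4
    rw [mul_inv_rev, hD.inv he, hD.inv hc]
    calc g * (c * e) * g = g * c * (e * g) := by simp [mul_assoc]
      _ = e * g * (g * c) := h4
      _ = e * c := by rw [mul_assoc, mul_mul_cancel_left (hD.sq g hg)]
  have hτ : c * e = 1 := by
    refine eq_one_of_norm hcore hgen (hD.cube c hc e he) fun g hg => ?_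
    have hg' : g ∈ D ∧ g * (c * e) * g = (c * e)⁻¹ := by
      rcases hg with rfl | rfl | rfl | rfl
      · exact ⟨ho, hinv _ ho n1⟩
      · exact ⟨ha, hinv _ ha n2⟩
      · exact ⟨hb, hinv _ hb n3⟩
      · exact ⟨hc, by
          rw [mul_inv_rev, hD.inv he, hD.inv hc, mul_mul_cancel_left (hD.sq _ hc)]⟩
    rw [hD.inv hg'.1, hg'.2]
    exact Subgroup.inv_mem _ (Subgroup.mem_zpowers _)
  have cc : Commute w c := by
    have h1 : e = c := by rw [← one_mul e, ← hD.sq c hc, mul_assoc, hτ, mul_one]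
    show w * c = c * w
    conv_lhs => rw [← h1, hedef]
    simp [mul_assoc]
  refine eq_one_of_norm hcore hgen w3 fun g hg => ?_
  have hg' : Commute w g := by
    rcases hg with rfl | rfl | rfl | rfl <;> assumption
  rw [← hg'.eq, mul_inv_cancel_right]
  exact Subgroup.mem_zpowers _

/-- The four generators coincide. -/
theorem eq_base : a = o := by
  have h1 := wc_eq_one hcore hD ho ha hb hc hgen
  have h2 := wc_eq_one hcore hD ho ha hc hb fun K x y z w => hgen K x y w z
  have hoo := hD.sq o ho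
  have key : ∀ d ∈ D, wc o a d = 1 → d * (o * a) * d = (o * a)⁻¹ := by
    intro d hd h
    rw [mul_inv_rev, hD.inv ho, hD.inv ha]
    have h3 : a * o * d * o * (o * a * (o * d)) = 1 := by rw [← h, wc]; simp [mul_assoc]
    have h4 := eq_inv_of_mul_eq_one_right h3
    simp only [mul_inv_rev, hD.inv ho, hD.inv ha, hD.inv hd] at h4
    calc d * (o * a) * d = o * ((o * d) * (o * a)) * d := by
          simp [mul_assoc, mul_mul_cancel_left hoo]
      _ = o * (o * a * (o * d)) * d := by rw [h4]; simp [mul_assoc]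
      _ = a * o := by simp [mul_assoc, mul_mul_cancel_left hoo, hD.sq d hd]
  have hx : o * a = 1 := by
    refine eq_one_of_norm hcore hgen (hD.cube o ho a ha) fun g hg => ?_
    have hg' : g ∈ D ∧ g * (o * a) * g = (o * a)⁻¹ := by
      rcases hg with rfl | rfl | rfl | rfl
      · exact ⟨ho, by rw [mul_inv_rev, hD.inv ho, hD.inv ha, mul_mul_cancel_left (hD.sq _ ho)]⟩
      · exact ⟨ha, by rw [mul_inv_rev, hD.inv ho, hD.inv ha]; simp [mul_assoc, hD.sq _ ha]⟩
      · exact ⟨hb, key _ hb h1⟩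
      · exact ⟨hc, key _ hc h2⟩
    rw [hD.inv hg'.1, hg'.2]
    exact Subgroup.inv_mem _ (Subgroup.mem_zpowers _)
  rw [← one_mul a, ← hD.sq o ho, mul_assoc, hx, mul_one]

end Core

/-- In a finite group whose members of `D` have no two commuting, products of members lie in
`O₃` of the subgroup that four of them generate. -/
theorem pair_isPGroup [Finite G] (hD : Hyp D) {a b e f : G} (ha : a ∈ D) (hb : b ∈ D)
    (he : e ∈ D) (hf : f ∈ D) : IsPGroup 3 (Subgroup.closure ({a * b, e * f} : Set G)) := by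
  set H := Subgroup.closure ({a, b, e, f} : Set G) with hH
  have mem : ∀ g ∈ ({a, b, e, f} : Set G), g ∈ H := fun g hg => Subgroup.subset_closure hg
  set P := Cfsg.pCore 3 H with hP
  haveI : P.Normal := pCore_normal 3 H
  set π := QuotientGroup.mk' P with hπ
  have hQ : Hyp (π '' {h : H | (h : G) ∈ D}) := by
    constructor
    · rintro _ ⟨h, hh, rfl⟩
      rw [← map_mul, show h * h = 1 from Subtype.ext (hD.sq _ hh), map_one]
    · rintro _ ⟨h, hh, rfl⟩ _ ⟨k, hk, rfl⟩
      exact ⟨h * k * h, hD.conj _ hh _ hk, by simp⟩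
    · rintro _ ⟨h, hh, rfl⟩ _ ⟨k, hk, rfl⟩
      rw [← map_mul, ← map_pow, show (h * k) ^ 3 = 1 from Subtype.ext (hD.cube _ hh _ hk), map_one]
  let A : H := ⟨a, mem a (by simp)⟩
  let B : H := ⟨b, mem b (by simp)⟩
  let E : H := ⟨e, mem e (by simp)⟩
  let F : H := ⟨f, mem f (by simp)⟩
  have mA : π A ∈ π '' {h : H | (h : G) ∈ D} := ⟨A, ha, rfl⟩
  have mB : π B ∈ π '' {h : H | (h : G) ∈ D} := ⟨B, hb, rfl⟩
  have mE : π E ∈ π '' {h : H | (h : G) ∈ D} := ⟨E, he, rfl⟩
  have mF : π F ∈ π '' {h : H | (h : G) ∈ D} := ⟨F, hf, rfl⟩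
  have hgen : ∀ K : Subgroup (H ⧸ P), π A ∈ K → π B ∈ K → π E ∈ K → π F ∈ K → K = ⊤ := by
    intro K h1 h2 h3 h4
    have h5 : H ≤ (K.comap π).map H.subtype := by
      refine (Subgroup.closure_le _).2 ?_
      rintro g (rfl | rfl | rfl | rfl)
      exacts [⟨A, h1, rfl⟩, ⟨B, h2, rfl⟩, ⟨E, h3, rfl⟩, ⟨F, h4, rfl⟩]
    rw [eq_top_iff]
    intro q _
    obtain ⟨x, rfl⟩ := QuotientGroup.mk'_surjective P q
    obtain ⟨y, hy, hyx⟩ := h5 x.2
    rwa [← Subtype.ext (show (y : G) = (x : G) from hyx)]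
  have hc : Cfsg.pCore 3 (H ⧸ P) = ⊥ := pCore_quotient_self 3
  have e1 := eq_base hc hQ mA mB mE mF hgen
  have e2 := eq_base hc hQ mA mE mB mF fun K x y z w => hgen K x z y w
  have e3 := eq_base hc hQ mA mF mB mE fun K x y z w => hgen K x z w y
  have q : ∀ u v : H, π u = π v → u⁻¹ * v ∈ P := fun u v h => QuotientGroup.eq.1 h
  refine IsPGroup.to_le ((pCore_isPGroup (G := H) 3).map H.subtype) ?_
  rw [Subgroup.closure_le]
  rintro g (rfl | rfl)
  · refine ⟨A⁻¹ * B, q _ _ e1.symm, ?_⟩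
    show a⁻¹ * b = a * b
    rw [hD.inv ha]
  · refine ⟨E⁻¹ * F, q _ _ (e2.trans e3.symm), ?_⟩
    show e⁻¹ * f = e * f
    rw [hD.inv he]

/-- The hypothesis from a set of 3-transpositions without two distinct commuting members. -/
theorem hyp_of_width_one (hD : Cfsg.IsThreeTranspositionSet D)
    (hconj : ∀ g : G, ∀ d ∈ D, g * d * g⁻¹ ∈ D)
    (hw : ∀ a ∈ D, ∀ b ∈ D, Commute a b → a = b) : Hyp D := by
  refine ⟨fun d hd => Basic.sq hD hd, fun d hd e he => ?_, fun d hd e he => ?_⟩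
  · have := hconj d e he
    rwa [Basic.inv_eq hD hd] at this
  · by_cases h : Commute d e
    · rw [hw d hd e he h, Basic.sq hD he, one_pow]
    · exact Basic.cube_of_not_commute hD hd he h

/-- Products of two members lie in `O₃(G)`. -/
theorem mul_mem_pCore [Finite G] (hD : Cfsg.IsThreeTranspositionSet D)
    (hconj : ∀ g : G, ∀ d ∈ D, g * d * g⁻¹ ∈ D)
    (hw : ∀ a ∈ D, ∀ b ∈ D, Commute a b → a = b) {a b : G} (ha : a ∈ D) (hb : b ∈ D) :
    a * b ∈ Cfsg.pCore 3 G := by
  haveI : Fact (Nat.Prime 3) := ⟨Nat.prime_three⟩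
  have hH := hyp_of_width_one hD hconj hw
  have hp : ∀ g : G, IsPGroup 3 ↥(Subgroup.zpowers (a * b) ⊔
      (Subgroup.zpowers (a * b)).map (MulAut.conj g).toMonoidHom) := by
    intro g
    refine (pair_isPGroup hH ha hb (hconj g a ha) (hconj g b hb)).to_le ?_
    rw [MonoidHom.map_zpowers, sup_le_iff, Subgroup.zpowers_le, Subgroup.zpowers_le]
    refine ⟨Subgroup.subset_closure (by simp), Subgroup.subset_closure (Or.inr ?_)⟩
    simp [mul_assoc]
  obtain ⟨N, hN, hNp, hle⟩ := Involutions.BaerSuzuki.baer_suzuki (Subgroup.zpowers (a * b))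
    ((hp 1).to_le le_sup_left) hp
  exact le_pCore hNp (hle (Subgroup.mem_zpowers _))

end Cfsg.Agent.ThreeTransp.WidthOne
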