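import Cfsg.Agent.Lib.ThreeTransp.RankThree
import Cfsg.Agent.Lib.ThreeTransp.WidthOne

/-!
Fischer's standing hypothesis: no solvable normal subgroup and perfect derived group.
The class is then primitive, so the rank three property applies.
-/

set_option autoImplicit false

namespace Cfsg.Agent.ThreeTransp.Radical

open Cfsg.Agent.ThreeTransp
open scoped commutatorElement

variable {G : Type*} [Group G] [Finite G] {D : Set G}
  (hsol : ∀ N : Subgroup G, N.Normal → Group.IsSolvable ↥N → N = ⊥)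

include hsol

theorem pCore_eq_bot (p : ℕ) [Fact p.Prime] : Cfsg.pCore p G = ⊥ := by
  haveI := (Cores.pCore_isPGroup (G := G) p).isNilpotent
  exact hsol _ (Cores.pCore_normal p) inferInstance

/-- two members commute and differ -/
theorem exists_commuting (hD : Cfsg.IsThreeTranspositionClass D) :
    ∃ a ∈ D, ∃ b ∈ D, a ≠ b ∧ Commute a b := by
  obtain ⟨hG, -⟩ := Classes.of_class hD
  obtain ⟨d, hd, -⟩ := hD.2.1
  by_contra! hno
  haveI : Fact (Nat.Prime 3) := ⟨Nat.prime_three⟩
  have hone : ∀ x ∈ D, x = d := by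
    intro x hx
    have h := WidthOne.mul_mem_pCore hG.1 hG.2.1
      (fun a ha b hb h => by_contra fun hne => hno a ha b hb hne h) hx hd
    rw [pCore_eq_bot hsol 3, Subgroup.mem_bot] at h
    rw [eq_inv_of_mul_eq_one_left h, Classes.inv hG hd]
  have htop : Subgroup.zpowers d = ⊤ := by
    rw [eq_top_iff, ← hG.2.2, Subgroup.closure_le]
    intro x hx
    rw [hone x hx]
    exact Subgroup.mem_zpowers d
  haveI : Group.IsSolvable ↥(Subgroup.zpowers d) :=
    Group.isSolvable_of_comm fun a b => mul_comm' a b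
  have hnorm : (Subgroup.zpowers d).Normal := by rw [htop]; exact ⟨fun _ _ _ => trivial⟩
  have := hsol _ hnorm inferInstance
  exact Basic.ne_one hG.1 hd
    ((Subgroup.zpowers_eq_bot).1 this)

/-- the class is primitive and the 2-core is trivial -/
theorem primitive (hperf : ⁅commutator G, commutator G⁆ = commutator G)
    (hD : Cfsg.IsThreeTranspositionClass D) :
    Cfsg.IsPrimitiveUnderConj D ∧ (∃ a ∈ D, ∃ b ∈ D, a ≠ b ∧ Commute a b) ∧
      Cfsg.pCore 2 G ≤ Subgroup.center G := by
  classical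
  obtain ⟨hG, htrans⟩ := Classes.of_class hD
  obtain ⟨a, ha, b, hb, hab, hc⟩ := exists_commuting hsol hD
  have h2 : ∃ a ∈ D, ∃ b ∈ D, a ≠ b := ⟨a, ha, b, hb, hab⟩
  have f2 : Fact (Nat.Prime 2) := ⟨Nat.prime_two⟩
  have f3 : Fact (Nat.Prime 3) := ⟨Nat.prime_three⟩
  have z2 : Cfsg.pCore 2 G ≤ Subgroup.center G := by rw [pCore_eq_bot hsol 2]; exact bot_le
  have z3 : Cfsg.pCore 3 G ≤ Subgroup.center G := by rw [pCore_eq_bot hsol 3]; exact bot_le
  obtain ⟨L, hLn, hL, hF⟩ := Structure.exists_component hG htrans h2 z2 z3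
  haveI := hLn
  refine ⟨Primitive.primitive_of_index hG htrans h2 z2 z3 hL.2 hF ?_, ⟨a, ha, b, hb, hab, hc⟩, z2⟩
  by_cases haL : a ∈ L
  · refine Primitive.index_le_two hG htrans ha fun x hx => ?_
    obtain ⟨g, rfl⟩ := htrans a ha x hx
    exact L.mul_mem (L.inv_mem haL) (hLn.conj_mem a haL g)
  -- the image in the quotient has width one
  set π := QuotientGroup.mk' L with hπ
  set D' : Set (G ⧸ L) := π '' D with hD'
  have hout : ∀ x ∈ D, x ∉ L := by
    intro x hx hxL
    obtain ⟨g, rfl⟩ := htrans x hx a ha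
    exact haL (hLn.conj_mem x hxL g)
  have hset : Cfsg.IsThreeTranspositionSet D' := by
    refine ⟨?_, ?_⟩
    · rintro _ ⟨x, hx, rfl⟩
      refine orderOf_eq_prime (p := 2) ?_ fun h => hout x hx ((QuotientGroup.eq_one_iff x).1 h)
      rw [← map_pow, pow_two, Classes.sq hG hx, map_one]
    · rintro _ ⟨x, hx, rfl⟩ _ ⟨y, hy, rfl⟩
      rw [← map_mul]
      rcases hG.1.2 x hx y hy with h | h
      · exact Or.inl (by rw [← map_pow, h, map_one])
      · exact Or.inr (by rw [← map_pow, h, map_one])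
  have hconj : ∀ g : G ⧸ L, ∀ x ∈ D', g * x * g⁻¹ ∈ D' := by
    intro g
    obtain ⟨g, rfl⟩ := QuotientGroup.mk'_surjective L g
    rintro _ ⟨x, hx, rfl⟩
    exact ⟨g * x * g⁻¹, hG.2.1 g x hx, by simp [hπ]⟩
  have hw1 : ∀ x ∈ D', ∀ y ∈ D', Commute x y → x = y := by
    rintro _ ⟨x, hx, rfl⟩ _ ⟨y, hy, rfl⟩ h
    refine QuotientGroup.eq.2 (Structure.mul_mem_component hG htrans hL hx hy ?_)
    refine (QuotientGroup.eq_one_iff _).1 ?_
    show π (x * y * x⁻¹ * y⁻¹) = 1
    rw [map_mul, map_mul, map_mul, map_inv, map_inv, h.eq, mul_inv_cancel_right, mul_inv_cancel]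
  -- so the derived group lies in the component
  set K : Subgroup (G ⧸ L) := Cfsg.pCore 3 (G ⧸ L) with hK
  haveI : K.Normal := Cores.pCore_normal 3
  have hgen : ∀ x : G, π x ∈ K ∨ π x * (π a)⁻¹ ∈ K := by
    intro x
    have hx : x ∈ Subgroup.closure D := hG.2.2 ▸ Subgroup.mem_top x
    have hab' : ∀ y ∈ D, π y * (π a)⁻¹ ∈ K := fun y hy => by
      rw [Basic.inv_eq hset ⟨a, ha, rfl⟩]
      exact WidthOne.mul_mem_pCore hset hconj hw1 ⟨y, hy, rfl⟩ ⟨a, ha, rfl⟩
    have haa : π a * π a = 1 := Basic.sq hset ⟨a, ha, rfl⟩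
    have hai : (π a)⁻¹ = π a := inv_eq_of_mul_eq_one_right haa
    have hcl : ∀ k ∈ K, π a * k * (π a)⁻¹ ∈ K := fun k hk =>
      (inferInstance : K.Normal).conj_mem k hk _
    induction hx using Subgroup.closure_induction with
    | mem y hy => exact Or.inr (hab' y hy)
    | one => exact Or.inl (by rw [map_one]; exact K.one_mem)
    | mul y z _ _ hy hz =>
      rcases hy with hy | hy <;> rcases hz with hz | hz
      · exact Or.inl (by rw [map_mul]; exact K.mul_mem hy hz)
      · exact Or.inr (by rw [map_mul, mul_assoc]; exact K.mul_mem hy hz)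
      · refine Or.inr ?_
        rw [map_mul, show π y * π z * (π a)⁻¹ = (π y * (π a)⁻¹) * (π a * π z * (π a)⁻¹) by group]
        exact K.mul_mem hy (hcl _ hz)
      · refine Or.inl ?_
        have e : π y * π z = (π y * (π a)⁻¹) * (π a * (π z * (π a)⁻¹) * (π a)⁻¹) * (π a * π a) := by
          group
        rw [map_mul, e, haa, mul_one]
        exact K.mul_mem hy (hcl _ hz)
    | inv y _ hy =>
      rcases hy with hy | hy
      · exact Or.inl (by rw [map_inv]; exact K.inv_mem hy)
      · refine Or.inr ?_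
        have e : (π y)⁻¹ * (π a)⁻¹ = (π a)⁻¹ * (π y * (π a)⁻¹)⁻¹ * π a * (π a * π a)⁻¹ := by group
        rw [map_inv, e, haa, inv_one, mul_one]
        simpa using (inferInstance : K.Normal).conj_mem _ (K.inv_mem hy) (π a)⁻¹
  set ψ := (QuotientGroup.mk' K).comp π with hψ
  have hψ1 : ∀ x : G, ψ x = 1 ∨ ψ x = ψ a := by
    intro x
    refine (hgen x).imp (fun h => (QuotientGroup.eq_one_iff _).2 h) fun h => ?_
    show QuotientGroup.mk' K (π x) = QuotientGroup.mk' K (π a)
    rw [← mul_inv_eq_one, ← map_inv, ← map_mul]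
    exact (QuotientGroup.eq_one_iff _).2 h
  have hψc : ∀ x y : G, Commute (ψ x) (ψ y) := fun x y => by
    rcases hψ1 x with h | h <;> rcases hψ1 y with h' | h' <;> rw [h, h'] <;>
      first | exact Commute.refl _ | exact Commute.one_left _ | exact Commute.one_right _
  set M := (commutator G).map π with hM
  have hMK : M ≤ K := by
    rw [hM, Subgroup.map_le_iff_le_comap, commutator_def, Subgroup.commutator_le]
    intro x _ y _
    show π ⁅x, y⁆ ∈ K
    refine (QuotientGroup.eq_one_iff _).1 ?_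
    show ψ ⁅x, y⁆ = 1
    rw [map_commutatorElement, commutatorElement_eq_one_iff_commute]
    exact hψc x y
  have hMsol : Group.IsSolvable M := by
    haveI := ((Cores.pCore_isPGroup (G := G ⧸ L) 3).to_le hMK).isNilpotent
    infer_instance
  have hM1 : M = ⊥ := by
    by_contra hne
    refine (?_ : ⁅M, M⁆ ≠ M) (by rw [hM, ← Subgroup.map_commutator, hperf])
    haveI := hMsol
    intro hMM
    haveI : Nontrivial M := M.nontrivial_iff_ne_bot.2 hne
    have hlt := Group.IsSolvable.commutator_lt_top_of_nontrivial M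
    refine hlt.ne (Subgroup.map_injective M.subtype_injective ?_)
    rw [Subgroup.map_subtype_commutator, hMM, ← MonoidHom.range_eq_map, Subgroup.range_subtype]
  refine Primitive.index_le_two hG htrans ha fun x hx => ?_
  obtain ⟨g, rfl⟩ := htrans a ha x hx
  rw [show a⁻¹ * (g * a * g⁻¹) = ⁅a⁻¹, g⁆ by rw [commutatorElement_def]; group]
  have hm : π ⁅a⁻¹, g⁆ ∈ M := Subgroup.mem_map_of_mem π
    (by rw [commutator_def]
        exact Subgroup.commutator_mem_commutator (Subgroup.mem_top _) (Subgroup.mem_top _))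
  rw [hM1, Subgroup.mem_bot] at hm
  exact (QuotientGroup.eq_one_iff _).1 hm

/-- transitivity on ordered commuting pairs -/
theorem exists_pair (hperf : ⁅commutator G, commutator G⁆ = commutator G)
    (hD : Cfsg.IsThreeTranspositionClass D) {a b c d : G} (ha : a ∈ D) (hb : b ∈ D) (hc : c ∈ D)
    (hd : d ∈ D) (hab : Commute a b) (hcd : Commute c d) (hne : b ≠ a) (hne' : d ≠ c) :
    ∃ g : G, g * a * g⁻¹ = c ∧ g * b * g⁻¹ = d := by
  obtain ⟨hG, htrans⟩ := Classes.of_class hD
  obtain ⟨hprim, hw, z2⟩ := primitive hsol hperf hD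
  obtain ⟨g, rfl⟩ := htrans a ha c hc
  obtain ⟨h, hh, hh'⟩ := RankThree.linked_inner hG hprim hw z2 hc (hG.2.1 g b hb) hd
    (Basic.commute_conj.2 hab) hcd (fun e => hne (mul_left_cancel (mul_right_cancel e))) hne'
  refine ⟨h * g, ?_, ?_⟩
  · rw [show h * g * a * (h * g)⁻¹ = h * (g * a * g⁻¹) * h⁻¹ by group]
    exact RankThree.conj_self_of_commute (RankThree.loc_commute hh)
  · rw [show h * g * b * (h * g)⁻¹ = h * (g * b * g⁻¹) * h⁻¹ by group]
    exact hh'

omit hsol in
/-- A commuting set of members lies in a Sylow 2-subgroup of any subgroup containing it. -/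
theorem isPGroup_closure (hD : Cfsg.IsThreeTranspositionSet D) {E : Set G} (hE : E ⊆ D)
    (hc : ∀ a ∈ E, ∀ b ∈ E, Commute a b) : IsPGroup 2 ↥(Subgroup.closure E) := by
  letI := Subgroup.isMulCommutative_closure hc
  rintro ⟨x, hx⟩
  refine ⟨1, Subtype.ext ?_⟩
  show x ^ 2 ^ 1 = 1
  rw [pow_one]
  induction hx using Subgroup.closure_induction with
  | mem y hy => rw [pow_two]; exact Basic.sq hD (hE hy)
  | one => exact one_pow 2
  | mul y z hy hz h1 h2 =>
    have : Commute y z := congrArg Subtype.val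
      (mul_comm' (⟨y, hy⟩ : Subgroup.closure E) ⟨z, hz⟩)
    rw [this.mul_pow, h1, h2, one_mul]
  | inv y _ h => rw [inv_pow, h, inv_one]

end Cfsg.Agent.ThreeTransp.Radical
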