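import Mathlib
import Cfsg.Agent.GroupStructure3.ThreeTransUnitary

/-!
Isotropic points of the unitary space over the field with four elements and the group generated by
the transvections orthogonal to a point.
-/

set_option autoImplicit false
set_option linter.unusedSectionVars false

namespace Cfsg.Agent.ThreeTransp.UnitaryPoints

open Matrix Cfsg.Agent.Classical.Unitary
open Cfsg.Agent.Forms
open Cfsg.Agent.GroupStructure3.ThreeTransUnitary

variable {F : Type*} [Field F] [Fintype F] {n : ℕ}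

local notation "Vec" => (Fin n → F)
local notation "H" => Cfsg.hermForm n F 2

/-- The subgroup generated by the transvections with centre orthogonal to `v`. -/
noncomputable def near (hF : Fintype.card F = 2 ^ 2) (v : Fin n → F) :
    Subgroup (Cfsg.SU n F 2) :=
  Subgroup.closure {g | ∃ (w : Fin n → F) (hw : Cfsg.hermForm n F 2 w w = 0),
    Cfsg.hermForm n F 2 w v = 0 ∧ g = tr hF hw}

variable (hF : Fintype.card F = 2 ^ 2)
include hF

theorem tr_mem_near {v w : Vec} (hw : H w w = 0) (h : H w v = 0) : tr hF hw ∈ near hF v :=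
  Subgroup.subset_closure ⟨w, hw, h, rfl⟩

theorem exists_omega : ∃ ω : F, ω ^ 3 = 1 ∧ ω ^ 2 + ω + 1 = 0 ∧ ω ≠ 0 := by
  obtain ⟨ω, h3, h, -⟩ := exists_zeta hF (q := 2) rfl
  exact ⟨ω, h3, h, fun e => by simp [e] at h3⟩

theorem norm_cases (x : Vec) : H x x = 0 ∨ H x x = 1 := by
  by_cases h : H x x = 0
  · exact Or.inl h
  · have h2 : H x x * H x x = 1 * H x x := by
      rw [one_mul, ← pow_two]; exact H_conj hF x x
    exact Or.inr (mul_right_cancel₀ h h2)

theorem near_fix {v : Vec} {g : Cfsg.SU n F 2} (hg : g ∈ near hF v) : mat g *ᵥ v = v := by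
  induction hg using Subgroup.closure_induction with
  | mem g hg =>
    obtain ⟨w, hw, h, rfl⟩ := hg
    rw [tr_mulVec, (H_eq_zero_comm hF).1 h, zero_smul, add_zero]
  | one => rw [mat_one, one_mulVec]
  | mul a b _ _ ha hb => rw [mul_mulVec, hb, ha]
  | inv a _ ha => exact inv_mulVec a ha

theorem tr_commute_iff {u v : Vec} (hu : H u u = 0) (hv : H v v = 0) (hu0 : u ≠ 0) (hv0 : v ≠ 0) :
    Commute (tr hF hu) (tr hF hv) ↔ H u v = 0 := by
  constructor
  · intro h
    by_contra hne
    have hne' : H v u ≠ 0 := fun e => hne ((H_eq_zero_comm hF).1 e)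
    obtain ⟨x, hx⟩ : ∃ x, H x v ≠ 0 := by
      by_contra hc
      push Not at hc
      exact hv0 (eq_zero_of_H hF fun y => (H_eq_zero_comm hF).1 (hc y))
    have e := congrArg (fun g => mat g *ᵥ x) h.eq
    simp only [mul_mulVec, tr_mulVec, H_add_left, H_smul_left, add_smul] at e
    have e2 : (H x v * H v u) • u = (H x u * H u v) • v := by
      linear_combination (norm := module) e
    have e3 := congrArg (fun y => H y u) e2
    simp only [H_smul_left, hu, mul_zero] at e3
    rcases mul_eq_zero.1 e3.symm with h1 | h1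
    · have e4 : (H x v * H v u) • u = 0 := by rw [e2, h1, zero_smul]
      exact mul_ne_zero hx hne' ((smul_eq_zero.1 e4).resolve_right hu0)
    · exact hne' h1
  · intro h
    refine SU_ext fun x => ?_
    simp only [mul_mulVec, tr_mulVec, H_add_left, H_smul_left, h, (H_eq_zero_comm hF).1 h,
      mul_zero, add_zero]
    module

/-- The vectors orthogonal to two given ones. -/
def perp2 (u v : Vec) : Submodule F (Fin n → F) :=
  LinearMap.ker ((hlin 2 u).prod (hlin 2 v))

theorem mem_perp2 {u v x : Vec} : x ∈ perp2 u v ↔ H x u = 0 ∧ H x v = 0 := by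
  simp [perp2]

/-- Two vectors of a pair with form value one give a projection onto their common perp. -/
theorem proj_mem {u v : Vec} (hu : H u u = 0) (hv : H v v = 0) (huv : H u v = 1) (x : Vec) :
    x - H x v • u - H x u • v ∈ perp2 u v := by
  have hvu : H v u = 1 := by rw [← H_conj hF, huv, one_pow]
  rw [mem_perp2 hF]
  simp [H_sub_left, H_smul_left, hu, hv, huv, hvu]

theorem exists_perp3 (hn : 4 ≤ n) (u v q : Vec) :
    ∃ x : Vec, x ≠ 0 ∧ H x u = 0 ∧ H x v = 0 ∧ H x q = 0 := by
  have h : LinearMap.ker ((hlin 2 u).prod ((hlin 2 v).prod (hlin 2 q))) ≠ ⊥ := by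
    refine LinearMap.ker_ne_bot_of_finrank_lt ?_
    simp only [Module.finrank_prod, Module.finrank_self, Module.finrank_fin_fun]
    omega
  obtain ⟨x, hx, hx0⟩ := Submodule.exists_mem_ne_zero_of_ne_bot h
  simp [LinearMap.mem_ker] at hx
  exact ⟨x, hx0, hx.1, hx.2.1, hx.2.2⟩

/-- A unit vector orthogonal to three vectors spanning a nondegenerate space. -/
theorem exists_unit_perp (hn : 4 ≤ n) {u v q : Vec} (hu : H u u = 0) (hv : H v v = 0)
    (huv : H u v = 1) (hqu : H q u = 0) (hqv : H q v = 0) (hq : H q q = 1) :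
    ∃ s : Vec, H s u = 0 ∧ H s v = 0 ∧ H s q = 0 ∧ H s s = 1 := by
  by_contra hcon
  push Not at hcon
  obtain ⟨ω, h3, hω, hω0⟩ := exists_omega hF
  have hiso : ∀ x, H x u = 0 → H x v = 0 → H x q = 0 → H x x = 0 := fun x a b c =>
    (norm_cases hF x).resolve_right (hcon x a b c)
  have hzero : ∀ x y, H x u = 0 → H x v = 0 → H x q = 0 → H y u = 0 → H y v = 0 → H y q = 0 →
      H x y = 0 := by
    intro x y xu xv xq yu yv yq
    have h1 : ∀ a : F, a ^ 2 * H x y + a * H y x = 0 := fun a => by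
      have := hiso (x + a • y) (by simp [H_add_left, H_smul_left, xu, yu])
        (by simp [H_add_left, H_smul_left, xv, yv]) (by simp [H_add_left, H_smul_left, xq, yq])
      simp only [H_add_left, H_add_right hF, H_smul_left, H_smul_right, hiso x xu xv xq,
        hiso y yu yv yq] at this
      linear_combination this
    linear_combination (-(1 : F)) * h1 ω + ω * h1 1 + (H x y) * hω - (ω * H x y) * two_zero hF
  obtain ⟨s, hs0, su, sv, sq⟩ := exists_perp3 hF hn u v q
  refine hs0 (eq_zero_of_H hF fun x => ?_)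
  have hvu : H v u = 1 := by rw [← H_conj hF, huv, one_pow]
  have huq : H u q = 0 := (H_eq_zero_comm hF).1 hqu
  have hvq : H v q = 0 := (H_eq_zero_comm hF).1 hqv
  have h0 := hzero s (x - H x v • u - H x u • v - H x q • q) su sv sq
    (by simp [H_sub_left, H_smul_left, hu, hvu, hqu])
    (by simp [H_sub_left, H_smul_left, hv, huv, hqv])
    (by simp [H_sub_left, H_smul_left, huq, hvq, hq])
  rw [H_sub_right hF, H_sub_right hF, H_sub_right hF, H_smul_right, H_smul_right, H_smul_right, su,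
    sv, sq] at h0
  linear_combination h0

theorem exists_iso_perp (hn : 4 ≤ n) {u v : Vec} (hu : H u u = 0) (hv : H v v = 0)
    (huv : H u v = 1) : ∃ w : Vec, w ≠ 0 ∧ H w w = 0 ∧ H w u = 0 ∧ H w v = 0 := by
  obtain ⟨x, hx0, xu, xv, -⟩ := exists_perp3 hF hn u v u
  rcases norm_cases hF x with h | h
  · exact ⟨x, hx0, h, xu, xv⟩
  obtain ⟨s, su, sv, sq, ss⟩ := exists_unit_perp hF hn hu hv huv xu xv h
  have hxs : H x s = 0 := (H_eq_zero_comm hF).1 sq
  refine ⟨x + s, fun e => ?_, ?_, by rw [H_add_left, xu, su, add_zero],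
    by rw [H_add_left, xv, sv, add_zero]⟩
  · have := congrArg (fun y => H y s) e
    simp only [H_add_left, hxs, ss, zero_add, H_zero_left] at this
    exact one_ne_zero this
  · simp only [H_add_left, H_add_right hF, h, ss, sq, hxs]
    linear_combination two_zero hF

/-- The element moving a partner of `v` by an isotropic vector. -/
theorem near_move {v p : Vec} (hv : H v v = 0) (hp : H p p = 0) (hpv : H p v = 0) :
    ∃ k ∈ near hF v, ∀ x : Vec, mat k *ᵥ x = x + H x v • p + H x p • v := by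
  have hvp : H v p = 0 := (H_eq_zero_comm hF).1 hpv
  have hs : H (p + v) (p + v) = 0 := by
    simp [H_add_left, H_add_right hF, hv, hp, hpv, hvp]
  refine ⟨tr hF hs * tr hF hp * tr hF hv, mul_mem (mul_mem (tr_mem_near hF hs
    (by rw [H_add_left, hpv, hv, add_zero])) (tr_mem_near hF hp hpv)) (tr_mem_near hF hv hv),
    fun y => ?_⟩
  simp only [mul_mulVec, tr_mulVec, H_add_left, H_add_right hF, H_smul_left, hv, hp, hpv, hvp,
    mul_zero, add_zero, smul_add, add_smul]
  have e := two_zero hF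
  linear_combination (norm := module) e • (H y v • v + H y p • p)

/-- The transvections orthogonal to `v` permute the partners of `v` transitively. -/
theorem near_transitive (hn : 4 ≤ n) {v u w : Vec} (hv : H v v = 0) (hu : H u u = 0)
    (huv : H u v = 1) (hw : H w w = 0) (hwv : H w v = 1) :
    ∃ k ∈ near hF v, mat k *ᵥ u = w := by
  obtain ⟨ω, h3, hω, hω0⟩ := exists_omega hF
  have h2 := two_zero hF
  obtain ⟨q, hqdef⟩ : ∃ q, q = w - H w v • u - H w u • v := ⟨_, rfl⟩
  have hqm := proj_mem hF hu hv huv w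
  rw [← hqdef, mem_perp2 hF] at hqm
  obtain ⟨hqu, hqv⟩ := hqm
  obtain ⟨k, hk, t, hku⟩ : ∃ k ∈ near hF v, ∃ t : F, mat k *ᵥ u = u + q + t • v := by
    rcases norm_cases hF q with h | h
    · obtain ⟨k, hk, hkx⟩ := near_move hF hv h hqv
      exact ⟨k, hk, H u q, by rw [hkx, huv, one_smul]⟩
    · obtain ⟨s, su, sv, sq, ss⟩ := exists_unit_perp hF hn hu hv huv hqu hqv h
      have hqs : H q s = 0 := (H_eq_zero_comm hF).1 sq
      obtain ⟨p, hp⟩ : ∃ p, p = ω ^ 2 • (q + s) := ⟨_, rfl⟩
      have hpp : H p p = 0 := by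
        rw [hp]
        simp only [H_smul_left, H_smul_right, H_add_left, H_add_right hF, h, ss, sq, hqs]
        linear_combination (ω ^ 2 * (ω ^ 2) ^ 2) * h2
      have hpv : H p v = 0 := by rw [hp, H_smul_left, H_add_left, hqv, sv]; simp
      have hqp : H q p = ω := by
        rw [hp, H_smul_right, H_add_right hF, h, hqs]
        linear_combination ω * h3
      have hpq : H p q = ω ^ 2 := by rw [← H_conj hF, hqp]
      have hr : H (q + p) (q + p) = 0 := by
        simp only [H_add_left, H_add_right hF, h, hpp, hqp, hpq]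
        linear_combination hω
      obtain ⟨k1, hk1, hk1x⟩ := near_move hF hv hpp hpv
      obtain ⟨k2, hk2, hk2x⟩ := near_move hF hv hr
        (by rw [H_add_left, hqv, hpv, add_zero])
      refine ⟨k2 * k1, mul_mem hk2 hk1, H (u + p + H u p • v) (q + p) + H u p, ?_⟩
      rw [mul_mulVec, hk1x, huv, one_smul, hk2x, show H (u + p + H u p • v) v = 1 by
        simp [H_add_left, H_smul_left, huv, hpv, hv]]
      linear_combination (norm := module) h2 • p
  have hkw : mat k *ᵥ u = w + (t + H w u) • v := by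
    rw [hku, hqdef, hwv]
    linear_combination (norm := module) -(h2 • (H w u • v))
  obtain ⟨c, hc⟩ : ∃ c, c = t + H w u := ⟨_, rfl⟩
  rw [← hc] at hkw
  have hvw : H v w = 1 := by rw [← H_conj hF, hwv, one_pow]
  have hcc : c + c ^ 2 = 0 := by
    have h := SU_H k u u
    rw [hkw, hu] at h
    simp only [H_add_left, H_add_right hF, H_smul_left, H_smul_right, hw, hv, hwv, hvw] at h
    linear_combination h
  rcases mul_eq_zero.1 (show c * (1 + c) = 0 by linear_combination hcc) with h0 | h0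
  · exact ⟨k, hk, by rw [hkw, h0, zero_smul, add_zero]⟩
  · refine ⟨tr hF hv * k, mul_mem (tr_mem_near hF hv hv) hk, ?_⟩
    rw [mul_mulVec, hkw, tr_mulVec, H_add_left, H_smul_left, hwv, hv]
    linear_combination (norm := module) h0 • v

/-- The scaled vector has the same transvection. -/
theorem tr_scale {v : Vec} (hv : H v v = 0) {a : F} (ha : a ≠ 0) :
    ∃ h : H (a • v) (a • v) = 0, tr hF h = tr hF hv := by
  have h : H (a • v) (a • v) = 0 := by rw [H_smul_left, H_smul_right, hv]; simp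
  exact ⟨h, tr_smul hF hv ha h⟩

theorem gen_top (hn : 4 ≤ n) {v u : Vec} (hv : H v v = 0) (hu : H u u = 0) (huv : H u v ≠ 0) :
    near hF v ⊔ Subgroup.zpowers (tr hF hu) = ⊤ := by
  rw [eq_top_iff, ← (three_class hF hn).2.2, Subgroup.closure_le]
  intro g hg
  obtain ⟨w, hw, -, rfl⟩ := (rank_one_iff hF g).1 hg
  by_cases hwv : H w v = 0
  · exact Subgroup.mem_sup_left (tr_mem_near hF hw hwv)
  obtain ⟨hu', eu⟩ := tr_scale hF hu (inv_ne_zero huv)
  obtain ⟨hw', ew⟩ := tr_scale hF hw (inv_ne_zero hwv)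
  obtain ⟨k, hk, hku⟩ := near_transitive hF hn hv hu' (by rw [H_smul_left, inv_mul_cancel₀ huv])
    hw' (by rw [H_smul_left, inv_mul_cancel₀ hwv])
  rw [← ew, ← tr_conj hF k hu' hw' hku, eu]
  exact mul_mem (mul_mem (Subgroup.mem_sup_left hk)
    (Subgroup.mem_sup_right (Subgroup.mem_zpowers _))) (inv_mem (Subgroup.mem_sup_left hk))

theorem exists_common (hn : 4 ≤ n) {u v : Vec} (hu : H u u = 0) (hv : H v v = 0)
    (huv : H u v ≠ 0) : ∃ w : Vec, w ≠ 0 ∧ H w w = 0 ∧ H w u = 0 ∧ H w v = 0 := by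
  obtain ⟨hu', -⟩ := tr_scale hF hu (inv_ne_zero huv)
  obtain ⟨w, hw0, hw, h1, h2⟩ := exists_iso_perp hF hn hu' hv
    (by rw [H_smul_left, inv_mul_cancel₀ huv])
  rw [H_smul_right] at h1
  exact ⟨w, hw0, hw, (mul_eq_zero.1 h1).resolve_left (pow_ne_zero _ (inv_ne_zero huv)), h2⟩

theorem exists_partner' {v : Vec} (hv : H v v = 0) (hv0 : v ≠ 0) :
    ∃ u : Vec, H u u = 0 ∧ H u v = 1 := by
  obtain ⟨s, hs, hvs⟩ := exists_partner hF hv0 hv
  exact ⟨s, hs, by rw [← H_conj hF, hvs, one_pow]⟩

/-- An odd relation between transvections orthogonal to `v`. -/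
theorem exists_odd_relation (hn : 4 ≤ n) {v : Vec} (hv : H v v = 0) (hv0 : v ≠ 0) :
    ∃ l : List (Cfsg.SU n F 2), Odd l.length ∧ l.prod = 1 ∧
      ∀ g ∈ l, ∃ (w : Vec) (hw : H w w = 0), w ≠ 0 ∧ H w v = 0 ∧ g = tr hF hw := by
  obtain ⟨ω, h3, hω, hω0⟩ := exists_omega hF
  have h2 := two_zero hF
  obtain ⟨u, hu, huv⟩ := exists_partner' hF hv hv0
  obtain ⟨w, hw0, hw, hwu, hwv⟩ := exists_iso_perp hF hn hu hv huv
  have hvw : H v w = 0 := (H_eq_zero_comm hF).1 hwv
  have hiso : ∀ a : F, H (v + a • w) (v + a • w) = 0 := fun a => by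
    simp [H_add_left, H_add_right hF, H_smul_left, H_smul_right, hv, hw, hvw, hwv]
  have hne : ∀ a : F, v + a • w ≠ 0 := fun a e => by
    have h1 := congrArg (fun y => H y u) e
    simp only [H_add_left, H_smul_left, hwu, mul_zero, add_zero, H_zero_left] at h1
    rw [← H_conj hF, huv, one_pow] at h1
    exact one_ne_zero h1
  have horth : ∀ a : F, H (v + a • w) v = 0 := fun a => by
    simp [H_add_left, H_smul_left, hv, hwv]
  refine ⟨[tr hF hv, tr hF hw, tr hF (hiso 1), tr hF (hiso ω), tr hF (hiso (ω ^ 2))],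
    ⟨2, rfl⟩, ?_, ?_⟩
  · refine SU_ext fun x => ?_
    simp only [List.prod_cons, List.prod_nil, mul_one, mul_mulVec, mat_one, one_mulVec, tr_mulVec,
      H_add_left, H_add_right hF, H_smul_left, H_smul_right, hv, hw, hvw, hwv, mul_zero, add_zero,
      smul_add, smul_smul]
    have hs : (1 : F) + ω + ω ^ 2 = 0 := by linear_combination hω
    have hs2 : (1 : F) ^ 2 + ω ^ 2 + (ω ^ 2) ^ 2 = 0 := by linear_combination hω + ω * h3
    have h3' : (1 : F) ^ 2 * 1 + ω ^ 2 * ω + (ω ^ 2) ^ 2 * ω ^ 2 = 1 := by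
      linear_combination (1 + (ω ^ 3 + 1)) * h3 + h2
    match_scalars
    · ring
    · linear_combination (H x w) * hs2 + (2 * H x v) * h2
    · linear_combination (H x v) * hs + (H x w) * (h3' + h2)
  · intro g hg
    simp only [List.mem_cons, List.not_mem_nil, or_false] at hg
    rcases hg with rfl | rfl | rfl | rfl | rfl
    exacts [⟨v, hv, hv0, hv, rfl⟩, ⟨w, hw, hw0, hwv, rfl⟩, ⟨_, hiso _, hne _, horth _, rfl⟩,
      ⟨_, hiso _, hne _, horth _, rfl⟩, ⟨_, hiso _, hne _, horth _, rfl⟩]

end Cfsg.Agent.ThreeTransp.UnitaryPoints
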