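import Mathlib
import Cfsg.Agent.Lib.CharTheory.AltPresentation

/-!
The map of `S₅` onto a group generated by four involutions with the braid relations of type `A₄`,
and a small certificate used for the three-coloured Petersen configuration.
-/

set_option autoImplicit false

namespace Cfsg.Agent.ThreeTransp.SymFive

open CharTheory.AltPresentation

variable {G : Type*} [Group G]

theorem conj_pow_three {g h : G} (hg : g * g = 1) : (g * h * g) ^ 3 = g * h ^ 3 * g := by
  have hc : ∀ y : G, g * (g * y) = y := fun y => by rw [← mul_assoc, hg, one_mul]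
  simp [pow_succ, mul_assoc, hc]

/-- An adjacent transposition. -/
abbrev adjSwap (i : Fin 4) : Equiv.Perm (Fin 5) := Equiv.swap i.castSucc i.succ

theorem sw_rels : (adjSwap 0 * adjSwap 1) ^ 3 = 1 ∧ (adjSwap 1 * adjSwap 2) ^ 3 = 1 ∧
    (adjSwap 2 * adjSwap 3) ^ 3 = 1 ∧ adjSwap 0 * adjSwap 2 = adjSwap 2 * adjSwap 0 ∧
    adjSwap 0 * adjSwap 3 = adjSwap 3 * adjSwap 0 ∧
    adjSwap 1 * adjSwap 3 = adjSwap 3 * adjSwap 1 := by decide +kernel

theorem exists_hom (s : Fin 4 → G) (hsq : ∀ i, s i * s i = 1)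
    (h01 : (s 0 * s 1) ^ 3 = 1) (h12 : (s 1 * s 2) ^ 3 = 1) (h23 : (s 2 * s 3) ^ 3 = 1)
    (h02 : Commute (s 0) (s 2)) (h03 : Commute (s 0) (s 3)) (h13 : Commute (s 1) (s 3)) :
    ∃ f : Equiv.Perm (Fin 5) →* G, ∀ i : Fin 4, f (Equiv.swap i.castSucc i.succ) = s i := by
  classical
  set g : Fin 4 → Equiv.Perm (Fin 5) × G := fun i => (Equiv.swap i.castSucc i.succ, s i) with hg
  have gsq : ∀ i, g i * g i = 1 := fun i => Prod.ext (Equiv.swap_mul_self _ _) (hsq i)
  obtain ⟨p01, p12, p23, p02, p03, p13⟩ := sw_rels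
  have g01 : (g 0 * g 1) ^ 3 = 1 := Prod.ext p01 h01
  have g12 : (g 1 * g 2) ^ 3 = 1 := Prod.ext p12 h12
  have g23 : (g 2 * g 3) ^ 3 = 1 := Prod.ext p23 h23
  have g02 : Commute (g 0) (g 2) := Prod.ext p02 h02
  have g03 : Commute (g 0) (g 3) := Prod.ext p03 h03
  have g13 : Commute (g 1) (g 3) := Prod.ext p13 h13
  have gc : ∀ i (y : Equiv.Perm (Fin 5) × G), g i * (g i * y) = y := fun i y => by
    rw [← mul_assoc, gsq, one_mul]
  let x : ℕ → Equiv.Perm (Fin 5) × G := fun i =>
    if i = 0 then g 0 * g 1 else if i = 1 then g 0 * g 2 else g 0 * g 3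
  have sqc : ∀ {a b : Equiv.Perm (Fin 5) × G}, a * a = 1 → b * b = 1 → Commute a b →
      (a * b) ^ 2 = 1 := fun {a b} ha hb hc => by rw [hc.mul_pow, sq, sq, ha, hb, one_mul]
  have hrels : Rels x 3 := by
    refine ⟨fun _ => g01, fun i h1 h3 => ?_, fun i hi => ?_, fun i j hij hj => ?_⟩
    · rcases (show i = 1 ∨ i = 2 by omega) with rfl | rfl
      · exact sqc (gsq 0) (gsq 2) g02
      · exact sqc (gsq 0) (gsq 3) g03
    · rcases (show i = 0 ∨ i = 1 by omega) with rfl | rfl
      · show (g 0 * g 1 * (g 0 * g 2)) ^ 3 = 1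
        rw [show g 0 * g 1 * (g 0 * g 2) = g 0 * (g 1 * g 2) * g 0 by
          rw [g02.eq]; simp [mul_assoc], conj_pow_three (gsq 0), g12, mul_one, gsq]
      · show (g 0 * g 2 * (g 0 * g 3)) ^ 3 = 1
        rw [show g 0 * g 2 * (g 0 * g 3) = g 0 * (g 2 * g 3) * g 0 by
          rw [g03.eq]; simp [mul_assoc], conj_pow_three (gsq 0), g23, mul_one, gsq]
    · obtain rfl : i = 0 := by omega
      obtain rfl : j = 2 := by omega
      show (g 0 * g 1 * (g 0 * g 3)) ^ 2 = 1
      rw [show g 0 * g 1 * (g 0 * g 3) = g 0 * (g 1 * g 3) * g 0 by rw [g03.eq]; simp [mul_assoc]]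
      rw [sq, show g 0 * (g 1 * g 3) * g 0 * (g 0 * (g 1 * g 3) * g 0) =
          g 0 * ((g 1 * g 3) * (g 1 * g 3)) * g 0 by simp [mul_assoc, gc], ← sq (g 1 * g 3),
        sqc (gsq 1) (gsq 3) g13, mul_one, gsq]
  set R := Subgroup.closure (x '' Set.Iio 3) with hR
  obtain ⟨hfin, hcard⟩ := card_closure_le hrels 3 (by omega) le_rfl
  rw [← hR] at hfin hcard
  set Γ := Subgroup.closure (Set.range g) with hΓ
  have hx : ∀ i : Fin 4, g 0 * g i ∈ R := fun i => by
    fin_cases i
    · simp [gsq]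
    · exact Subgroup.subset_closure ⟨0, by norm_num, rfl⟩
    · exact Subgroup.subset_closure ⟨1, by norm_num, rfl⟩
    · exact Subgroup.subset_closure ⟨2, by norm_num, rfl⟩
  have hx' : ∀ i : Fin 4, g i * g 0 ∈ R := fun i => by
    have := R.inv_mem (hx i)
    rwa [mul_inv_rev, inv_eq_of_mul_eq_one_right (gsq i), inv_eq_of_mul_eq_one_right (gsq 0)] at this
  have hΓR : ∀ y ∈ Γ, y ∈ R ∨ y * g 0 ∈ R := by
    intro y hy
    have step : ∀ (y : Equiv.Perm (Fin 5) × G) (i : Fin 4), (y ∈ R ∨ y * g 0 ∈ R) →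
        (y * g i ∈ R ∨ y * g i * g 0 ∈ R) := by
      intro y i h
      rcases h with h | h
      · right; rw [mul_assoc]; exact R.mul_mem h (hx' i)
      · left
        have := R.mul_mem h (hx i)
        rwa [← mul_assoc, mul_assoc y, gsq, mul_one] at this
    induction hy using Subgroup.closure_induction_right with
    | one => exact Or.inl R.one_mem
    | mul_right z _ w hw ih => obtain ⟨i, rfl⟩ := hw; exact step z i ih
    | mul_inv_cancel z _ w hw ih =>
      obtain ⟨i, rfl⟩ := hw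
      rw [inv_eq_of_mul_eq_one_right (gsq i)]
      exact step z i ih
  let enc : Γ → R × Bool := fun y =>
    if h : (y : Equiv.Perm (Fin 5) × G) ∈ R then (⟨y, h⟩, true)
    else (⟨y * g 0, (hΓR y y.2).resolve_left h⟩, false)
  have henc : Function.Injective enc := fun a b h => by
    apply Subtype.ext
    simp only [enc] at h
    split_ifs at h
    · simpa using h
    · simp at h
    · simp at h
    · simpa using h
  haveI := hfin
  haveI : Finite Γ := Finite.of_injective enc henc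
  have hΓcard : Nat.card Γ ≤ 120 := by
    have := Nat.card_le_card_of_injective enc henc
    rw [Nat.card_prod, Nat.card_eq_fintype_card (α := Bool), Fintype.card_bool] at this
    simp only [Nat.factorial] at hcard
    omega
  let p : Γ →* Equiv.Perm (Fin 5) := (MonoidHom.fst _ _).comp Γ.subtype
  have hp : Function.Surjective p := by
    intro σ
    have hσ : σ ∈ Submonoid.closure (Set.range fun i : Fin 4 => Equiv.swap i.castSucc i.succ) := by
      rw [Equiv.Perm.mclosure_swap_castSucc_succ 4]; exact Submonoid.mem_top σ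
    have : σ ∈ p.range := by
      induction hσ using Submonoid.closure_induction with
      | mem y hy => obtain ⟨i, rfl⟩ := hy; exact ⟨⟨g i, Subgroup.subset_closure ⟨i, rfl⟩⟩, rfl⟩
      | one => exact one_mem _
      | mul a b _ _ ha hb => exact mul_mem ha hb
    exact this
  have h120 : Nat.card (Equiv.Perm (Fin 5)) = 120 := by
    rw [Nat.card_eq_fintype_card, Fintype.card_perm, Fintype.card_fin]; decide
  have hbij : Function.Bijective p := (Nat.bijective_iff_surjective_and_card p).2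
    ⟨hp, le_antisymm (h120 ▸ hΓcard) (Nat.card_le_card_of_surjective p hp)⟩
  refine ⟨((MonoidHom.snd _ _).comp Γ.subtype).comp (MulEquiv.ofBijective p hbij).symm.toMonoidHom,
    fun i => ?_⟩
  have : (MulEquiv.ofBijective p hbij).symm (Equiv.swap i.castSucc i.succ) =
      ⟨g i, Subgroup.subset_closure ⟨i, rfl⟩⟩ :=
    (MulEquiv.ofBijective p hbij).symm_apply_eq.2 rfl
  simp [this, hg]

theorem inj_check : ∀ g : Equiv.Perm (Fin 5),
    g * (Equiv.swap 0 1 * Equiv.swap 1 2) = (Equiv.swap 0 1 * Equiv.swap 1 2) * g →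
    g * (Equiv.swap 2 3 * Equiv.swap 3 4) = (Equiv.swap 2 3 * Equiv.swap 3 4) * g → g = 1 := by
  decide +kernel

theorem even012 : (Equiv.swap 0 1 * Equiv.swap 1 2 : Equiv.Perm (Fin 5)) ∈ alternatingGroup (Fin 5) :=
  Equiv.Perm.mem_alternatingGroup.2 (by decide)

theorem even234 : (Equiv.swap 2 3 * Equiv.swap 3 4 : Equiv.Perm (Fin 5)) ∈ alternatingGroup (Fin 5) :=
  Equiv.Perm.mem_alternatingGroup.2 (by decide)

/-- A homomorphism of `S₅` separating two transpositions that do not commute is injective. -/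
theorem injective_of {f : Equiv.Perm (Fin 5) →* G}
    (h : f (Equiv.swap 0 1) ≠ f (Equiv.swap 1 2)) : Function.Injective f := by
  classical
  rw [← MonoidHom.ker_eq_bot_iff, eq_bot_iff]
  have := alternatingGroup.isSimpleGroup (α := Fin 5) (by simp)
  set A := alternatingGroup (Fin 5)
  have h012 : (Equiv.swap 0 1 * Equiv.swap 1 2 : Equiv.Perm (Fin 5)) ∈ A := even012
  have h234 : (Equiv.swap 2 3 * Equiv.swap 3 4 : Equiv.Perm (Fin 5)) ∈ A := even234
  have hbot : f.ker.subgroupOf A = ⊥ := by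
    refine (Subgroup.Normal.eq_bot_or_eq_top (inferInstance : (f.ker.subgroupOf A).Normal)).resolve_right
      fun ht => h ?_
    have h1 : (Equiv.swap 0 1 * Equiv.swap 1 2 : Equiv.Perm (Fin 5)) ∈ f.ker :=
      (Subgroup.subgroupOf_eq_top.1 ht) h012
    rw [MonoidHom.mem_ker, map_mul] at h1
    rw [eq_inv_of_mul_eq_one_left h1, ← map_inv, Equiv.swap_inv]
  intro g hg
  have key : ∀ a ∈ A, g * a = a * g := by
    intro a ha
    have hm : g * a * g⁻¹ * a⁻¹ ∈ f.ker := by
      simp [MonoidHom.mem_ker, MonoidHom.mem_ker.1 hg]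
    have hA : g * a * g⁻¹ * a⁻¹ ∈ A :=
      A.mul_mem ((inferInstance : A.Normal).conj_mem a ha g) (A.inv_mem ha)
    have : (⟨_, hA⟩ : A) ∈ f.ker.subgroupOf A := hm
    rw [hbot, Subgroup.mem_bot] at this
    have h1 : g * a * g⁻¹ * a⁻¹ = 1 := congrArg Subtype.val this
    calc g * a = (g * a * g⁻¹ * a⁻¹) * a * g := by group
      _ = a * g := by rw [h1, one_mul]
  exact Subgroup.mem_bot.2 (inj_check g (key _ h012) (key _ h234))

/-- Nine double transpositions. -/
def dbl : Fin 9 → (Fin 5 × Fin 5) × (Fin 5 × Fin 5) :=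
  ![((0, 1), (2, 3)), ((0, 1), (2, 4)), ((0, 1), (3, 4)), ((0, 2), (1, 3)), ((0, 2), (1, 4)),
    ((0, 2), (3, 4)), ((0, 3), (1, 2)), ((0, 3), (1, 4)), ((0, 3), (2, 4))]

/-- Pairs that cannot get the same colour. -/
def edges : List (Fin 9 × Fin 9) :=
  [(0, 1), (0, 2), (0, 3), (0, 6), (1, 2), (1, 4), (1, 8), (2, 5), (2, 7), (3, 4), (3, 5), (3, 6),
    (4, 5), (4, 7), (5, 8), (6, 7), (6, 8), (7, 8)]

/-- The permutation of a double transposition. -/
def dperm (i : Fin 9) : Equiv.Perm (Fin 5) :=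
  Equiv.swap (dbl i).1.1 (dbl i).1.2 * Equiv.swap (dbl i).2.1 (dbl i).2.2

theorem dbl_spec : ∀ i, (dbl i).1.1 ≠ (dbl i).1.2 ∧ (dbl i).2.1 ≠ (dbl i).2.2 ∧
    Equiv.swap (dbl i).1.1 (dbl i).1.2 ≠ Equiv.swap (dbl i).2.1 (dbl i).2.2 ∧
    Equiv.swap (dbl i).1.1 (dbl i).1.2 * Equiv.swap (dbl i).2.1 (dbl i).2.2 =
      Equiv.swap (dbl i).2.1 (dbl i).2.2 * Equiv.swap (dbl i).1.1 (dbl i).1.2 := by
  decide +kernel

theorem edge_spec : ∀ e ∈ edges, ∃ a b c d : Fin 5, a ≠ b ∧ c ≠ d ∧
    Equiv.swap a b ≠ Equiv.swap c d ∧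
    dperm e.1 * dperm e.2 = Equiv.swap a b * Equiv.swap c d := by
  decide +kernel

/-- A colouring as the digits of a number. -/
def digit (n : ℕ) (i : Fin 9) : ℕ := n / 3 ^ i.1 % 3

theorem colour_check : ((List.range 19683).all fun n =>
    edges.any fun e => digit n e.1 == digit n e.2) = true := by decide +kernel

theorem no_colouring (c : Fin 9 → Fin 3) : ∃ e ∈ edges, c e.1 = c e.2 := by
  set n := ∑ i : Fin 9, (c i : ℕ) * 3 ^ i.1 with hn
  have hd : ∀ i, digit n i = (c i : ℕ) := by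
    intro i
    have h := fun j => (c j).2
    simp only [digit, hn, Fin.sum_univ_succ, Fin.sum_univ_zero]
    have := h 0; have := h 1; have := h 2; have := h 3; have := h 4
    have := h 5; have := h 6; have := h 7; have := h 8
    fin_cases i <;> simp <;> omega
  have hlt : n < 19683 := by
    have h := fun j => (c j).2
    simp only [hn, Fin.sum_univ_succ, Fin.sum_univ_zero]
    have := h 0; have := h 1; have := h 2; have := h 3; have := h 4
    have := h 5; have := h 6; have := h 7; have := h 8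
    simp; omega
  obtain ⟨e, he, h⟩ := List.any_eq_true.1 (List.all_eq_true.1 colour_check n (List.mem_range.2 hlt))
  exact ⟨e, he, Fin.ext (by rw [← hd, ← hd]; simpa using h)⟩

end Cfsg.Agent.ThreeTransp.SymFive
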