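import Cfsg.Agent.Lib.ThreeTransp.Classes
import Cfsg.Agent.Lib.Components.Layer
import Cfsg.Agent.Lib.Components.Fitting
import Cfsg.Agent.Lib.Characters.Burnside
import Cfsg.Prelude.Def_Local

/-!
Normal structure of a transitive 3-transposition group: at most one of `O₂`, `O₃` is noncentral,
and if both are central there is exactly one component.
-/

set_option autoImplicit false

namespace Cfsg.Agent.ThreeTransp.Structure

open Cfsg.Agent.ThreeTransp Cfsg.Agent.Components.Basic Cfsg.Agent.Components.Fitting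

variable {G : Type*} [Group G] {D : Set G}

/-- The intersection of a normal subgroup with a `p`-subgroup it normalizes lies in `O_p`. -/
theorem inf_le_pCore [Finite G] {p : ℕ} (L A : Subgroup G) [L.Normal] (hA : IsPGroup p A)
    (hn : L ≤ Subgroup.normalizer (A : Set G)) : A ⊓ L ≤ Cfsg.pCore p G := by
  haveI : ((A ⊓ L).subgroupOf L).Normal := by
    refine ⟨fun x hx g => ?_⟩
    rw [Subgroup.mem_subgroupOf] at hx ⊢
    exact ⟨(Subgroup.mem_normalizer_iff.1 (hn g.2) _).1 hx.1,
      L.mul_mem (L.mul_mem g.2 x.2) (L.inv_mem g.2)⟩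
  have h1 : (A ⊓ L).subgroupOf L ≤ Cfsg.pCore p L :=
    Cores.le_pCore ((hA.to_le inf_le_left).comap_subtype)
  intro x hx
  exact Cores.map_pCore_subtype_le p L ⟨⟨x, hx.2⟩, h1 hx, rfl⟩

/-- An element whose commutators with a perfect subgroup are central in it centralizes it. -/
theorem commute_of_commutator_central {L : Subgroup G} (hL : ⁅L, L⁆ = L) (d : G)
    (hmem : ∀ x ∈ L, d⁻¹ * x * d * x⁻¹ ∈ L)
    (hcomm : ∀ x ∈ L, ∀ y ∈ L, Commute (d⁻¹ * x * d * x⁻¹) y) : ∀ x ∈ L, Commute d x := by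
  let f : G → G := fun x => d⁻¹ * x * d * x⁻¹
  have hf : ∀ x ∈ L, ∀ y ∈ L, f (x * y) = f x * f y := by
    intro x hx y hy
    calc f (x * y) = f x * (x * f y * x⁻¹) := by simp only [f]; group
      _ = f x * f y := by rw [← (hcomm y hy x hx).eq, mul_inv_cancel_right]
  have hone : f 1 = 1 := by simp [f]
  let C : Subgroup G :=
    { carrier := {x | x ∈ L ∧ f x = 1}
      one_mem' := ⟨L.one_mem, hone⟩
      mul_mem' := fun {x y} hx hy => ⟨L.mul_mem hx.1 hy.1, by rw [hf x hx.1 y hy.1, hx.2, hy.2, one_mul]⟩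
      inv_mem' := fun {x} hx => ⟨L.inv_mem hx.1, by
        have := hf x hx.1 x⁻¹ (L.inv_mem hx.1)
        rwa [mul_inv_cancel, hone, hx.2, one_mul, eq_comm] at this⟩ }
  have hle : ⁅L, L⁆ ≤ C := by
    rw [Subgroup.commutator_le]
    intro x hx y hy
    refine ⟨hL ▸ Subgroup.commutator_mem_commutator hx hy, ?_⟩
    have h1 : ∀ z ∈ L, f z⁻¹ = (f z)⁻¹ := by
      intro z hz
      refine eq_inv_of_mul_eq_one_right ?_
      rw [← hf z hz z⁻¹ (L.inv_mem hz), mul_inv_cancel, hone]
    have hc : Commute (f x) (f y) := hcomm x hx _ (hmem y hy)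
    rw [commutatorElement_def, hf _ (L.mul_mem (L.mul_mem hx hy) (L.inv_mem hx)) _ (L.inv_mem hy),
      hf _ (L.mul_mem hx hy) _ (L.inv_mem hx), hf x hx y hy, h1 x hx, h1 y hy, hc.eq]
    group
  intro x hx
  have h := (hle (hL.symm ▸ hx : x ∈ ⁅L, L⁆)).2
  simp only [f] at h
  show d * x = x * d
  calc d * x = d * (d⁻¹ * x * d * x⁻¹) * x := by rw [h, mul_one]
    _ = x * d := by group

section

variable (hD : Cfsg.IsThreeTranspositionGroup D)
include hD

theorem le_center_of_fix {N : Subgroup G} (h : ∀ g ∈ N, ∀ d ∈ D, g * d * g⁻¹ = d) :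
    N ≤ Subgroup.center G := by
  intro g hg
  rw [← Subgroup.centralizer_univ, ← Subgroup.coe_top, ← hD.2.2, Subgroup.centralizer_closure]
  exact Subgroup.mem_centralizer_iff.2 fun d hd => (mul_inv_eq_iff_eq_mul.1 (h g hg d hd)).symm

theorem pCore_le_center [Finite G] {p : ℕ} (hp : p.Prime) (h3 : 3 < p) :
    Cfsg.pCore p G ≤ Subgroup.center G := by
  haveI : (Cfsg.pCore p G).Normal := Cores.pCore_normal p
  refine le_center_of_fix hD fun g hg d hd => ?_
  have hm := Classes.inv_mul_conj_mem hD (Cfsg.pCore p G) (d := d) hg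
  rw [Classes.mul_inv_of_mem hD hd] at hm
  have hv := hD.2.1 g d hd
  have hc := Basic.commute_of_pGroup hD.1 hp (by omega) (Cores.pCore_isPGroup p) hd hv hm
  have h1 := Classes.eq_one_of_mem_pGroup hp (Cores.pCore_isPGroup p) hm
    ((Basic.sq_prod_eq_one_iff (Classes.sq hD hd) (Classes.sq hD hv)).2 hc)
    (fun h => absurd (Nat.le_of_dvd two_pos h) (by omega))
  exact (eq_inv_of_mul_eq_one_right h1).trans (Classes.inv hD hd)

variable (htrans : ∀ a ∈ D, ∀ b ∈ D, ∃ g : G, g * a * g⁻¹ = b)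
include htrans

theorem exists_moved {N : Subgroup G} [N.Normal] (h : ¬ N ≤ Subgroup.center G) {d : G} (hd : d ∈ D) :
    ∃ g ∈ N, g * d * g⁻¹ ≠ d := by
  by_contra hcon
  push_neg at hcon
  refine h (le_center_of_fix hD fun g hg e he => ?_)
  obtain ⟨x, rfl⟩ := htrans d hd e he
  have h1 := hcon (x⁻¹ * g * x) (by simpa using Subgroup.Normal.conj_mem inferInstance g hg x⁻¹)
  calc g * (x * d * x⁻¹) * g⁻¹ = x * ((x⁻¹ * g * x) * d * (x⁻¹ * g * x)⁻¹) * x⁻¹ := by group
    _ = x * d * x⁻¹ := by rw [h1]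

theorem not_both [Finite G] (h2 : ∃ a ∈ D, ∃ b ∈ D, a ≠ b)
    (n2 : ¬ Cfsg.pCore 2 G ≤ Subgroup.center G) : Cfsg.pCore 3 G ≤ Subgroup.center G := by
  by_contra n3
  haveI : (Cfsg.pCore 2 G).Normal := Cores.pCore_normal 2
  haveI : (Cfsg.pCore 3 G).Normal := Cores.pCore_normal 3
  obtain ⟨a, ha, b, hb, hab⟩ := h2
  obtain ⟨q, hq, hqd⟩ := exists_moved hD htrans n2 ha
  obtain ⟨r, hr, hrd⟩ := exists_moved hD htrans n3 ha
  have hv := (Classes.sameComm_iff_mem hD ha).2
    ⟨hD.2.1 q a ha, Classes.inv_mul_conj_mem hD _ hq⟩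
  have he := (Classes.samePunct_iff_mem hD ha).2
    ⟨hD.2.1 r a ha, Classes.inv_mul_conj_mem hD _ hr⟩
  have hc := ((he.2 _ hv.1).1 ⟨hqd, Classes.sameComm_commute hD ha hv⟩).2
  exact Classes.samePunct_not_commute ha he hrd ((hv.2 _ he.1).1 hc.symm)

/-- A perfect normal subgroup centralized by one member is central. -/
theorem le_center_of_commute {L : Subgroup G} [L.Normal] {d : G} (hd : d ∈ D)
    (h : ∀ x ∈ L, Commute d x) : L ≤ Subgroup.center G := by
  refine le_center_of_fix hD fun g hg e he => ?_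
  obtain ⟨x, rfl⟩ := htrans d hd e he
  have h1 := h (x⁻¹ * g * x) (by simpa using Subgroup.Normal.conj_mem inferInstance g hg x⁻¹)
  calc g * (x * d * x⁻¹) * g⁻¹ = x * ((x⁻¹ * g * x) * d * (x⁻¹ * g * x)⁻¹) * x⁻¹ := by group
    _ = x * d * x⁻¹ := by rw [← h1.eq, mul_inv_cancel_right]

omit htrans in
/-- If the orbit of `d` under a perfect normal subgroup is commutative, `d` centralizes it. -/
theorem commute_of_orbit_commute [Finite G] {L : Subgroup G} [L.Normal] (hL : ⁅L, L⁆ = L)
    (hcent : ∀ x ∈ L, ∀ y ∈ Cfsg.pCore 2 G, Commute x y) {d : G} (hd : d ∈ D)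
    (h : ∀ x ∈ L, Commute d (x * d * x⁻¹)) : ∀ x ∈ L, Commute d x := by
  set A := Subgroup.closure {y : G | ∃ x ∈ L, y = x * d * x⁻¹} with hA
  have hgen : ∀ a ∈ {y : G | ∃ x ∈ L, y = x * d * x⁻¹}, ∀ b ∈ {y : G | ∃ x ∈ L, y = x * d * x⁻¹},
      a * b = b * a := by
    rintro _ ⟨x, hx, rfl⟩ _ ⟨y, hy, rfl⟩
    have h1 := (Basic.commute_conj (g := x)).2 (h (x⁻¹ * y) (L.mul_mem (L.inv_mem hx) hy))
    rw [show x * (x⁻¹ * y * d * (x⁻¹ * y)⁻¹) * x⁻¹ = y * d * y⁻¹ by group] at h1
    exact h1.eq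
  haveI := Subgroup.isMulCommutative_closure hgen
  have hA2 : IsPGroup 2 A := by
    intro a
    refine ⟨1, ?_⟩
    obtain ⟨a, ha⟩ := a
    apply Subtype.ext
    rw [SubgroupClass.coe_pow, OneMemClass.coe_one, pow_one, pow_two]
    dsimp only
    induction ha using Subgroup.closure_induction with
    | mem z hz => obtain ⟨x, hx, rfl⟩ := hz; exact Classes.sq hD (hD.2.1 x d hd)
    | one => exact one_mul 1
    | mul y z hy hz hy2 hz2 =>
      have hc : z * y = y * z := congrArg Subtype.val (mul_comm' (⟨z, hz⟩ : A) ⟨y, hy⟩)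
      calc y * z * (y * z) = y * (z * y) * z := by simp [mul_assoc]
        _ = y * y * (z * z) := by rw [hc]; simp [mul_assoc]
        _ = 1 := by rw [hy2, hz2, one_mul]
    | inv y hy hy2 => rw [← mul_inv_rev, hy2, inv_one]
  have hn : L ≤ Subgroup.normalizer (A : Set G) := by
    intro x hx
    refine Subgroup.mem_normalizer_iff_map_conj_eq.2 (Subgroup.eq_of_le_of_card_ge ?_
      (Subgroup.card_map_of_injective (MulAut.conj x).injective).ge)
    rw [hA, MonoidHom.map_closure, Subgroup.closure_le]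
    rintro _ ⟨_, ⟨y, hy, rfl⟩, rfl⟩
    exact Subgroup.subset_closure ⟨x * y, L.mul_mem hx hy, by simp [mul_assoc]⟩
  have hmem : ∀ x ∈ L, d⁻¹ * x * d * x⁻¹ ∈ A ⊓ L := by
    intro x hx
    refine ⟨?_, L.mul_mem (by simpa using Subgroup.Normal.conj_mem inferInstance x hx d⁻¹) (L.inv_mem hx)⟩
    rw [show d⁻¹ * x * d * x⁻¹ = d⁻¹ * (x * d * x⁻¹) by group]
    exact A.mul_mem (A.inv_mem (Subgroup.subset_closure ⟨1, L.one_mem, by simp⟩))
      (Subgroup.subset_closure ⟨x, hx, rfl⟩)
  exact commute_of_commutator_central hL d (fun x hx => (hmem x hx).2) fun x hx y hy =>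
    (hcent y hy _ (inf_le_pCore L A hA2 hn (hmem x hx))).symm

omit htrans in
/-- If no two members of the orbit of `d` under a perfect normal subgroup commute, `d` centralizes
it. -/
theorem commute_of_orbit_noncommute [Finite G] {L : Subgroup G} [L.Normal] (hL : ⁅L, L⁆ = L)
    (hcent : ∀ x ∈ L, ∀ y ∈ Cfsg.pCore 3 G, Commute x y) {d : G} (hd : d ∈ D)
    (h : ∀ x ∈ L, Commute d (x * d * x⁻¹) → x * d * x⁻¹ = d) : ∀ x ∈ L, Commute d x := by
  let K : Subgroup G := L ⊔ Subgroup.zpowers d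
  let U : Set K := {u | ∃ x ∈ L, (u : G) = x * d * x⁻¹}
  have hU : Cfsg.IsThreeTranspositionSet U := by
    refine ⟨?_, ?_⟩
    · rintro u ⟨x, hx, hu⟩
      rw [← Subgroup.orderOf_coe, hu]; exact hD.1.1 _ (hD.2.1 x d hd)
    · rintro u ⟨x, hx, hu⟩ v ⟨y, hy, hv⟩
      rcases hD.1.2 _ (hD.2.1 x d hd) _ (hD.2.1 y d hd) with h2 | h3
      · exact Or.inl (Subtype.ext (by simp [hu, hv]; simpa using h2))
      · exact Or.inr (Subtype.ext (by simp [hu, hv]; simpa using h3))
  have hconj : ∀ g : K, ∀ u ∈ U, g * u * g⁻¹ ∈ U := by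
    rintro ⟨g, hg⟩ u ⟨x, hx, hu⟩
    obtain ⟨l, hl, z, hz, rfl⟩ := Subgroup.mem_sup_of_normal_left.1 hg
    obtain ⟨k, rfl⟩ := Subgroup.mem_zpowers_iff.1 hz
    refine ⟨l * (d ^ k * x * (d ^ k)⁻¹), L.mul_mem hl (Subgroup.Normal.conj_mem inferInstance x hx _), ?_⟩
    simp only [Subgroup.coe_mul, Subgroup.coe_inv, hu]
    have e : d ^ k * d * (d ^ k)⁻¹ = d := by group
    calc l * d ^ k * (x * d * x⁻¹) * (l * d ^ k)⁻¹
        = l * (d ^ k * x * (d ^ k)⁻¹) * (d ^ k * d * (d ^ k)⁻¹) *
            (l * (d ^ k * x * (d ^ k)⁻¹))⁻¹ := by group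
      _ = _ := by rw [e]
  have hw : ∀ a ∈ U, ∀ b ∈ U, Commute a b → a = b := by
    rintro a ⟨x, hx, ha⟩ b ⟨y, hy, hb⟩ hc
    have hc' : Commute (x * d * x⁻¹) (y * d * y⁻¹) := by
      rw [← ha, ← hb]; exact congrArg Subtype.val hc.eq
    have h1 := (Basic.commute_conj (g := x⁻¹)).2 hc'
    rw [show x⁻¹ * (x * d * x⁻¹) * x⁻¹⁻¹ = d by group,
      show x⁻¹ * (y * d * y⁻¹) * x⁻¹⁻¹ = (x⁻¹ * y) * d * (x⁻¹ * y)⁻¹ by group] at h1
    have h2 := h _ (L.mul_mem (L.inv_mem hx) hy) h1
    apply Subtype.ext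
    rw [ha, hb]
    calc x * d * x⁻¹ = x * ((x⁻¹ * y) * d * (x⁻¹ * y)⁻¹) * x⁻¹ := by rw [h2]
      _ = y * d * y⁻¹ := by group
  let A := (Cfsg.pCore 3 K).map K.subtype
  have hn : L ≤ Subgroup.normalizer (A : Set G) := by
    intro x hx
    refine Subgroup.mem_normalizer_iff_map_conj_eq.2 (Subgroup.eq_of_le_of_card_ge ?_
      (Subgroup.card_map_of_injective (MulAut.conj x).injective).ge)
    rintro _ ⟨_, ⟨y, hy, rfl⟩, rfl⟩
    haveI : (Cfsg.pCore 3 K).Normal := Cores.pCore_normal 3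
    exact ⟨⟨x, Subgroup.mem_sup_left hx⟩ * y * ⟨x, Subgroup.mem_sup_left hx⟩⁻¹,
      Subgroup.Normal.conj_mem inferInstance y hy _, by simp⟩
  have hmem : ∀ x ∈ L, d⁻¹ * x * d * x⁻¹ ∈ A ⊓ L := by
    intro x hx
    refine ⟨?_, L.mul_mem (by simpa using Subgroup.Normal.conj_mem inferInstance x hx d⁻¹) (L.inv_mem hx)⟩
    have m1 : d ∈ K := Subgroup.mem_sup_right (Subgroup.mem_zpowers d)
    have m2 : x * d * x⁻¹ ∈ K :=
      K.mul_mem (K.mul_mem (Subgroup.mem_sup_left hx) m1) (K.inv_mem (Subgroup.mem_sup_left hx))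
    have := WidthOne.mul_mem_pCore hU hconj hw (a := ⟨d, m1⟩) (b := ⟨x * d * x⁻¹, m2⟩)
      ⟨1, L.one_mem, by simp⟩ ⟨x, hx, rfl⟩
    refine ⟨_, this, ?_⟩
    show d * (x * d * x⁻¹) = d⁻¹ * x * d * x⁻¹
    rw [Classes.inv hD hd]; group
  exact commute_of_commutator_central hL d (fun x hx => (hmem x hx).2) fun x hx y hy =>
    (hcent y hy _ (inf_le_pCore L A ((Cores.pCore_isPGroup 3).map _) hn (hmem x hx))).symm

omit htrans hD in
theorem layer_commute_pCore [Finite G] {p : ℕ} (hp : p.Prime) :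
    ∀ x ∈ Cfsg.layer G, ∀ y ∈ Cfsg.pCore p G, Commute x y := fun _x hx y hy => by
  haveI : Fact p.Prime := ⟨hp⟩
  exact (Subgroup.mem_centralizer_iff.1 (layer_le_centralizer_fitting hx) y
    (pCore_le_fitting p hy)).symm

theorem layer_eq_bot_of_two [Finite G] (n2 : ¬ Cfsg.pCore 2 G ≤ Subgroup.center G) :
    Cfsg.layer G = ⊥ := by
  haveI : (Cfsg.pCore 2 G).Normal := Cores.pCore_normal 2
  haveI : (Cfsg.layer G).Normal := inferInstance
  have hcz : Cfsg.layer G ≤ Subgroup.center G := by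
    refine le_center_of_fix hD fun g hg d hd => ?_
    obtain ⟨q, hq, hqd⟩ := exists_moved hD htrans n2 hd
    have hcent := layer_commute_pCore (G := G) Nat.prime_two
    have key : ∀ x ∈ Cfsg.layer G, Commute d (x * d * x⁻¹) := by
      intro x hx
      by_contra hne
      set v := q * d * q⁻¹ with hv
      have hV := (Classes.sameComm_iff_mem hD hd).2 ⟨hD.2.1 q d hd, Classes.inv_mul_conj_mem hD _ hq⟩
      have ht : d * v ∈ Cfsg.pCore 2 G := by
        rw [← Classes.mul_inv_of_mem hD hd]; exact Classes.inv_mul_conj_mem hD _ hq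
      have hxt := hcent x hx _ ht
      have hd' : x * d * x⁻¹ ∈ D := hD.2.1 x d hd
      have c1 : Commute (x * (d * v) * x⁻¹) (x * d * x⁻¹) :=
        Basic.commute_conj.2 ((Commute.refl d).mul_left (Classes.sameComm_commute hD hd hV).symm)
      rw [hxt.eq, mul_inv_cancel_right] at c1
      have hv' : ¬ Commute v (x * d * x⁻¹) := fun hc => hne ((hV.2 _ hd').1 hc)
      have c2 : d * (x * d * x⁻¹) * d⁻¹ = v * (x * d * x⁻¹) * v⁻¹ := by
        calc d * (x * d * x⁻¹) * d⁻¹ = v * (d * v) * (x * d * x⁻¹) * d⁻¹ := by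
              rw [(Classes.sameComm_commute hD hd hV).eq, ← mul_assoc v v, Classes.sq hD hV.1, one_mul]
          _ = v * ((d * v) * (x * d * x⁻¹)) * d⁻¹ := by simp [mul_assoc]
          _ = v * (x * d * x⁻¹) * ((d * v) * d⁻¹) := by rw [c1.eq]; simp [mul_assoc]
          _ = v * (x * d * x⁻¹) * v⁻¹ := by
            rw [(Classes.sameComm_commute hD hd hV).eq, mul_inv_cancel_right, Classes.inv hD hV.1]
      exact hqd (Classes.eq_of_conj_eq hD hd hV.1 hd' hne hv' c2).symm
    have := commute_of_orbit_commute hD commutator_layer_self hcent hd key g hg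
    rw [← this.eq, mul_inv_cancel_right]
  rw [← commutator_layer_self, Subgroup.commutator_eq_bot_iff_le_centralizer]
  exact hcz.trans (Subgroup.center_le_centralizer _)

theorem layer_eq_bot_of_three [Finite G] (n3 : ¬ Cfsg.pCore 3 G ≤ Subgroup.center G) :
    Cfsg.layer G = ⊥ := by
  haveI : (Cfsg.pCore 3 G).Normal := Cores.pCore_normal 3
  haveI : (Cfsg.layer G).Normal := inferInstance
  have hcz : Cfsg.layer G ≤ Subgroup.center G := by
    refine le_center_of_fix hD fun g hg d hd => ?_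
    obtain ⟨r, hr, hrd⟩ := exists_moved hD htrans n3 hd
    have hcent := layer_commute_pCore (G := G) Nat.prime_three
    set w := r * d * r⁻¹ with hw
    have hW := (Classes.samePunct_iff_mem hD hd).2 ⟨hD.2.1 r d hd, Classes.inv_mul_conj_mem hD _ hr⟩
    have ht : d * w ∈ Cfsg.pCore 3 G := by
      rw [← Classes.mul_inv_of_mem hD hd]; exact Classes.inv_mul_conj_mem hD _ hr
    have hinv : d * (d * w) * d = (d * w)⁻¹ := by
      rw [mul_inv_rev, Classes.inv hD hd, Classes.inv hD hW.1, ← mul_assoc, Classes.sq hD hd, one_mul]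
    have key : ∀ x ∈ Cfsg.layer G, Commute d (x * d * x⁻¹) → x * d * x⁻¹ = d := by
      intro x hx hc
      by_contra hne
      have hwc := ((hW.2 _ (hD.2.1 x d hd)).1 ⟨hne, hc⟩).2
      have c1 : Commute (x * d * x⁻¹) (d * w) := hc.symm.mul_right hwc.symm
      have c2 : x * (d * w) * x⁻¹ = d * w := by rw [(hcent x hx _ ht).eq, mul_inv_cancel_right]
      rw [← c2, Basic.commute_conj] at c1
      have h1 : d * w = (d * w)⁻¹ := by
        rw [← hinv, c1.eq, mul_assoc, Classes.sq hD hd, mul_one]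
      exact Classes.samePunct_not_commute hd hW hrd
        ((Basic.sq_prod_eq_one_iff (Classes.sq hD hd) (Classes.sq hD hW.1)).1 (by
          rw [pow_two]; nth_rewrite 2 [h1]; rw [mul_inv_cancel]))
    have := commute_of_orbit_noncommute hD commutator_layer_self hcent hd key g hg
    rw [← this.eq, mul_inv_cancel_right]
  rw [← commutator_layer_self, Subgroup.commutator_eq_bot_iff_le_centralizer]
  exact hcz.trans (Subgroup.center_le_centralizer _)

omit htrans in
theorem fitting_le_center [Finite G] (z2 : Cfsg.pCore 2 G ≤ Subgroup.center G)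
    (z3 : Cfsg.pCore 3 G ≤ Subgroup.center G) : Cfsg.fittingSubgroup G ≤ Subgroup.center G := by
  rw [fitting_eq_coreJoin]
  refine iSup_le fun p => ?_
  by_cases h : (p : ℕ) = 2
  · rw [h]; exact z2
  by_cases h' : (p : ℕ) = 3
  · rw [h']; exact z3
  exact pCore_le_center hD p.2 (by have := p.2.two_le; omega)

theorem layer_ne_bot [Finite G] (h2 : ∃ a ∈ D, ∃ b ∈ D, a ≠ b)
    (z2 : Cfsg.pCore 2 G ≤ Subgroup.center G) (z3 : Cfsg.pCore 3 G ≤ Subgroup.center G) :
    Cfsg.layer G ≠ ⊥ := by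
  intro hbot
  have hF : Cfsg.generalizedFittingSubgroup G ≤ Subgroup.center G := by
    unfold Cfsg.generalizedFittingSubgroup
    rw [hbot, bot_sup_eq]
    exact fitting_le_center hD z2 z3
  have hall : ∀ x : G, x ∈ Subgroup.center G := fun x =>
    hF (centralizer_genFitting_le (Subgroup.mem_centralizer_iff.2 fun y hy =>
      (Subgroup.mem_center_iff.1 (hF hy) x).symm))
  obtain ⟨a, ha, b, hb, hab⟩ := h2
  obtain ⟨g, rfl⟩ := htrans a ha b hb
  exact hab (by rw [Subgroup.mem_center_iff.1 (hall a) g, mul_inv_cancel_right])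

omit htrans in
/-- Members normalize every component. -/
theorem conj_component_eq [Finite G] {K : Subgroup G} (hK : Cfsg.IsComponent K) {d : G} (hd : d ∈ D) :
    K.map (MulAut.conj d).toMonoidHom = K := by
  by_contra hne
  have hK' := component_conj hK d
  have hcomm : ∀ x ∈ K, ∀ y ∈ K.map (MulAut.conj d).toMonoidHom, Commute x y := fun x hx y hy =>
    (Subgroup.mem_centralizer_iff.1 (Subgroup.commutator_eq_bot_iff_le_centralizer.1
      (component_commutator_eq_bot_of_ne hK hK' (Ne.symm hne)) hx) y hy).symm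
  have hpow : ∀ x : K, x ^ 2 ∈ Subgroup.center K ∨ x ^ 3 ∈ Subgroup.center K := by
    intro x
    have hy : d * (x : G)⁻¹ * d⁻¹ ∈ K.map (MulAut.conj d).toMonoidHom := ⟨_, K.inv_mem x.2, rfl⟩
    have hc := hcomm _ x.2 _ hy
    have e : (x : G) * d * (x : G)⁻¹ * d = (x : G) * (d * (x : G)⁻¹ * d⁻¹) := by
      rw [Classes.inv hD hd]; simp [mul_assoc]
    have hcen : ∀ n : ℕ, ((x : G) * d * (x : G)⁻¹ * d) ^ n = 1 → x ^ n ∈ Subgroup.center K := by
      intro n hn
      rw [e, hc.mul_pow] at hn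
      refine Subgroup.mem_center_iff.2 fun k => Subtype.ext ?_
      show (k : G) * (x : G) ^ n = (x : G) ^ n * k
      rw [eq_inv_of_mul_eq_one_left hn]
      exact ((hcomm _ k.2 _ (Subgroup.pow_mem _ hy n)).inv_right).eq
    exact (hD.1.2 _ (hD.2.1 (x : G) d hd) d hd).imp (hcen 2) (hcen 3)
  have hq := hK.2
  haveI : IsSimpleGroup (K ⧸ Subgroup.center K) := hq.2
  set Q := K ⧸ Subgroup.center K
  have hQ : ∀ q : Q, q ^ 2 = 1 ∨ q ^ 3 = 1 := by
    intro q
    obtain ⟨x, rfl⟩ := QuotientGroup.mk'_surjective _ q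
    rcases hpow x with h | h
    · exact Or.inl (by rw [← map_pow]; exact (QuotientGroup.eq_one_iff _).2 h)
    · exact Or.inr (by rw [← map_pow]; exact (QuotientGroup.eq_one_iff _).2 h)
  have h23 : ∀ r : ℕ, r.Prime → r ∣ Nat.card Q → r = 2 ∨ r = 3 := by
    intro r hr hdvd
    haveI : Fact r.Prime := ⟨hr⟩
    obtain ⟨q, hq'⟩ := exists_prime_orderOf_dvd_card' r hdvd
    rcases hQ q with h | h
    · left; exact (Nat.prime_dvd_prime_iff_eq hr Nat.prime_two).1 (hq' ▸ orderOf_dvd_of_pow_eq_one h)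
    · right; exact (Nat.prime_dvd_prime_iff_eq hr Nat.prime_three).1 (hq' ▸ orderOf_dvd_of_pow_eq_one h)
  have h0 : Nat.card Q ≠ 0 := Nat.card_pos.ne'
  have hcard : Nat.card Q = 2 ^ (Nat.card Q).factorization 2 * 3 ^ (Nat.card Q).factorization 3 := by
    refine Nat.eq_of_factorization_eq h0 (mul_ne_zero (by simp) (by simp)) fun r => ?_
    rw [Nat.factorization_mul (by simp) (by simp), Finsupp.add_apply,
      Nat.Prime.factorization_pow Nat.prime_two, Nat.Prime.factorization_pow Nat.prime_three,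
      Finsupp.single_apply, Finsupp.single_apply]
    by_cases hr : r.Prime ∧ r ∣ Nat.card Q
    · rcases h23 r hr.1 hr.2 with rfl | rfl <;> simp
    · have : (Nat.card Q).factorization r = 0 := by
        rw [Nat.factorization_eq_zero_iff]; tauto
      rw [this]
      split_ifs with a b b <;> subst_vars <;> omega
  have hsolv : Group.IsSolvable Q := Characters.burnside_pa_qb Nat.prime_two Nat.prime_three hcard
  haveI := hq.1
  haveI : Group.IsPerfect Q := inferInstance
  exact Group.IsPerfect.not_isSolvable Q hsolv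

omit htrans in
theorem component_normal [Finite G] {K : Subgroup G} (hK : Cfsg.IsComponent K) : K.Normal := by
  have h : Subgroup.normalizer (K : Set G) = ⊤ := by
    rw [eq_top_iff, ← hD.2.2, Subgroup.closure_le]
    exact fun d hd => Subgroup.mem_normalizer_iff_map_conj_eq.2 (conj_component_eq hD hK hd)
  exact Subgroup.normalizer_eq_top_iff.1 h

theorem component_not_commute [Finite G] {K : Subgroup G} (hK : Cfsg.IsComponent K) {d : G}
    (hd : d ∈ D) : ¬ ∀ x ∈ K, Commute d x := by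
  intro h
  haveI := component_normal hD hK
  refine component_ne_bot hK ?_
  rw [← component_commutator_self hK, Subgroup.commutator_eq_bot_iff_le_centralizer]
  exact (le_center_of_commute hD htrans hd h).trans (Subgroup.center_le_centralizer _)

theorem component_unique [Finite G] {K K' : Subgroup G} (hK : Cfsg.IsComponent K)
    (hK' : Cfsg.IsComponent K') {d : G} (hd : d ∈ D) : K = K' := by
  by_contra hne
  haveI := component_normal hD hK
  haveI := component_normal hD hK'
  have hc : ∀ x ∈ K, ∀ y ∈ K', Commute x y := fun x hx y hy =>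
    (Subgroup.mem_centralizer_iff.1 (Subgroup.commutator_eq_bot_iff_le_centralizer.1
      (component_commutator_eq_bot_of_ne hK hK' hne) hx) y hy).symm
  -- in each component both kinds of products occur
  obtain ⟨x, hx, hxc⟩ : ∃ x ∈ K, ¬ Commute d (x * d * x⁻¹) := by
    by_contra h
    exact component_not_commute hD htrans hK hd (commute_of_orbit_commute hD
      (component_commutator_self hK)
      (fun z hz y hy => layer_commute_pCore Nat.prime_two z (le_layer hK hz) y hy) hd
      fun z hz => by_contra fun hn => h ⟨z, hz, hn⟩)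
  obtain ⟨y, hy, hyc, hyd⟩ : ∃ y ∈ K', Commute d (y * d * y⁻¹) ∧ y * d * y⁻¹ ≠ d := by
    by_contra h
    exact component_not_commute hD htrans hK' hd (commute_of_orbit_noncommute hD
      (component_commutator_self hK')
      (fun z hz w hw => layer_commute_pCore Nat.prime_three z (le_layer hK' hz) w hw) hd
      fun z hz hzc => by_contra fun hn => h ⟨z, hz, hzc, hn⟩)
  set a := d * (x * d * x⁻¹) with ha
  set b := d * (y * d * y⁻¹) with hb
  have haK : a ∈ K := by
    rw [ha, show d * (x * d * x⁻¹) = d * x * d * x⁻¹ by group]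
    refine K.mul_mem ?_ (K.inv_mem hx)
    have := Subgroup.Normal.conj_mem (inferInstance : K.Normal) x hx d
    rwa [Classes.inv hD hd] at this
  have hbK : b ∈ K' := by
    rw [hb, show d * (y * d * y⁻¹) = d * y * d * y⁻¹ by group]
    refine K'.mul_mem ?_ (K'.inv_mem hy)
    have := Subgroup.Normal.conj_mem (inferInstance : K'.Normal) y hy d
    rwa [Classes.inv hD hd] at this
  have hb2 : b ^ 2 = 1 :=
    (Basic.sq_prod_eq_one_iff (Classes.sq hD hd) (Classes.sq hD (hD.2.1 y d hd))).2 hyc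
  have ha3 : a ^ 3 = 1 := Basic.cube_of_not_commute hD.1 hd (hD.2.1 x d hd) hxc
  have ha2 : a ^ 2 ≠ 1 := fun h =>
    hxc ((Basic.sq_prod_eq_one_iff (Classes.sq hD hd) (Classes.sq hD (hD.2.1 x d hd))).1 h)
  have hb1 : b ≠ 1 := fun h =>
    hyd ((eq_inv_of_mul_eq_one_right h).trans (Classes.inv hD hd))
  have hab : d * ((x * y) * d * (x * y)⁻¹) = a * b := by
    calc d * ((x * y) * d * (x * y)⁻¹) = d * x * d * ((d⁻¹ * (y * d * y⁻¹)) * x⁻¹) := by group
      _ = d * x * d * (b * x⁻¹) := by rw [Classes.inv hD hd]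
      _ = d * x * d * (x⁻¹ * b) := by rw [((hc x hx b hbK).inv_left).eq]
      _ = a * b := by rw [ha]; group
  have hcab := hc a haK b hbK
  rcases hD.1.2 d hd _ (hD.2.1 (x * y) d hd) with h | h <;> rw [hab, hcab.mul_pow] at h
  · rw [hb2, mul_one] at h; exact ha2 h
  · rw [ha3, one_mul, pow_succ, hb2, one_mul] at h; exact hb1 h

/-- The generalized Fitting subgroup when both cores are central. -/
theorem exists_component [Finite G] (h2 : ∃ a ∈ D, ∃ b ∈ D, a ≠ b)
    (z2 : Cfsg.pCore 2 G ≤ Subgroup.center G) (z3 : Cfsg.pCore 3 G ≤ Subgroup.center G) :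
    ∃ L : Subgroup G, L.Normal ∧ Cfsg.IsComponent L ∧
      Cfsg.generalizedFittingSubgroup G = L ⊔ Subgroup.center G := by
  obtain ⟨d, hd, -⟩ := id h2
  have hne := layer_ne_bot hD htrans h2 z2 z3
  rw [ne_eq, layer_eq_bot_iff] at hne
  push_neg at hne
  obtain ⟨L, hL⟩ := hne
  refine ⟨L, component_normal hD hL, hL, ?_⟩
  have hlay : Cfsg.layer G = L :=
    le_antisymm (layer_le fun K hK => (component_unique hD htrans hK hL hd).le) (le_layer hL)
  have hF : Cfsg.fittingSubgroup G = Subgroup.center G :=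
    le_antisymm (fitting_le_center hD z2 z3)
      (le_fitting (isNilpotent_of_isMulCommutative (Subgroup.center G)))
  unfold Cfsg.generalizedFittingSubgroup
  rw [hlay, hF]

/-- Commuting members are congruent modulo the component. -/
theorem mul_mem_component [Finite G] {L : Subgroup G} (hL : Cfsg.IsComponent L) {a b : G}
    (ha : a ∈ D) (hb : b ∈ D) (h : a * b * a⁻¹ * b⁻¹ ∈ L) : a⁻¹ * b ∈ L := by
  haveI := component_normal hD hL
  rw [Classes.mul_inv_of_mem hD ha]
  have h2 : (a * b) ^ 2 ∈ L := by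
    rw [Classes.inv hD ha, Classes.inv hD hb] at h
    rw [pow_two, ← mul_assoc]; exact h
  by_cases hc : Commute a b
  swap
  · have h3 := Basic.cube_of_not_commute hD.1 ha hb hc
    have e : a * b = ((a * b) ^ 2)⁻¹ := eq_inv_of_mul_eq_one_left (by rw [← pow_succ']; exact h3)
    rw [e]; exact L.inv_mem h2
  by_contra hab
  set π := QuotientGroup.mk' L with hπ
  have hπL : ∀ x ∈ L, π x = 1 := fun x hx => (QuotientGroup.eq_one_iff x).2 hx
  -- the two orbits commute elementwise
  have key : ∀ x ∈ L, ∀ y ∈ L, Commute (x * a * x⁻¹) (y * b * y⁻¹) := by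
    intro x hx y hy
    by_contra hn
    have h3 : π (a * b) ^ 3 = 1 := by
      have := congrArg π (Basic.cube_of_not_commute hD.1 (hD.2.1 x a ha) (hD.2.1 y b hb) hn)
      simpa [hπL x hx, hπL y hy] using this
    have h4 : π (a * b) ^ 2 = 1 := by rw [← map_pow]; exact hπL _ h2
    have h5 : π (a * b) = 1 := by
      have := pow_gcd_eq_one.2 ⟨h4, h3⟩
      rwa [show Nat.gcd 2 3 = 1 from rfl, pow_one] at this
    exact hab ((QuotientGroup.eq_one_iff _).1 h5)
  have hle : ∀ c ∈ D, L ≤ Subgroup.closure {y : G | ∃ x ∈ L, y = x * c * x⁻¹} := by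
    intro c hcD
    set P := Subgroup.closure {y : G | ∃ x ∈ L, y = x * c * x⁻¹} with hP
    have hnorm : L ≤ Subgroup.normalizer (P : Set G) := by
      intro x hx
      refine Subgroup.mem_normalizer_iff_map_conj_eq.2 (Subgroup.eq_of_le_of_card_ge ?_
        (Subgroup.card_map_of_injective (MulAut.conj x).injective).ge)
      rw [hP, MonoidHom.map_closure, Subgroup.closure_le]
      rintro _ ⟨_, ⟨y, hy, rfl⟩, rfl⟩
      exact Subgroup.subset_closure ⟨x * y, L.mul_mem hx hy, by simp [mul_assoc]⟩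
    haveI : (P.subgroupOf L).Normal := by
      refine ⟨fun x hx g => ?_⟩
      rw [Subgroup.mem_subgroupOf] at hx ⊢
      exact (Subgroup.mem_normalizer_iff.1 (hnorm g.2) _).1 hx
    rcases quasisimple_eq_top_or_le_center_of_normal hL.2 (P.subgroupOf L) with h' | h'
    · exact Subgroup.subgroupOf_eq_top.1 h'
    · exfalso
      refine component_not_commute hD htrans hL hcD ?_
      refine commute_of_commutator_central (component_commutator_self hL) c (fun x hx => ?_) ?_
      · exact L.mul_mem (by simpa using Subgroup.Normal.conj_mem inferInstance x hx c⁻¹) (L.inv_mem hx)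
      · intro x hx y hy
        have hm : c⁻¹ * x * c * x⁻¹ ∈ L :=
          L.mul_mem (by simpa using Subgroup.Normal.conj_mem inferInstance x hx c⁻¹) (L.inv_mem hx)
        have hp : c⁻¹ * x * c * x⁻¹ ∈ P := by
          rw [show c⁻¹ * x * c * x⁻¹ = c⁻¹ * (x * c * x⁻¹) by group]
          exact P.mul_mem (P.inv_mem (Subgroup.subset_closure ⟨1, L.one_mem, by simp⟩))
            (Subgroup.subset_closure ⟨x, hx, rfl⟩)
        have := Subgroup.mem_center_iff.1 (h' (show (⟨_, hm⟩ : L) ∈ P.subgroupOf L from hp)) ⟨y, hy⟩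
        exact (congrArg Subtype.val this).symm
  have hPQ : ∀ p ∈ Subgroup.closure {y : G | ∃ x ∈ L, y = x * a * x⁻¹},
      ∀ q ∈ Subgroup.closure {y : G | ∃ x ∈ L, y = x * b * x⁻¹}, Commute q p := by
    intro p hp q hq
    have h1 : Subgroup.closure {y : G | ∃ x ∈ L, y = x * a * x⁻¹} ≤
        Subgroup.centralizer (Subgroup.closure {y : G | ∃ x ∈ L, y = x * b * x⁻¹} : Set G) := by
      rw [Subgroup.centralizer_closure, Subgroup.closure_le]
      rintro _ ⟨x, hx, rfl⟩
      refine Subgroup.mem_centralizer_iff.2 ?_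
      rintro _ ⟨y, hy, rfl⟩
      exact (key x hx y hy).eq.symm
    exact Subgroup.mem_centralizer_iff.1 (h1 hp) q hq
  refine component_ne_bot hL ?_
  rw [← component_commutator_self hL, Subgroup.commutator_eq_bot_iff_le_centralizer]
  exact fun x hx => Subgroup.mem_centralizer_iff.2 fun y hy =>
    (hPQ x (hle a ha hx) y (hle b hb hy)).eq

end

end Cfsg.Agent.ThreeTransp.Structure
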