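import Mathlib
import Cfsg.Prelude.Def_SporadicB

/-! Elementary facts on involutions and on sets of 3-transpositions. -/

set_option autoImplicit false

namespace Cfsg.Agent.ThreeTransp.Basic

variable {G : Type*} [Group G]

theorem mul_self_of_orderOf_two {a : G} (ha : orderOf a = 2) : a * a = 1 := by
  have h := pow_orderOf_eq_one a
  rwa [ha, pow_two] at h

theorem inv_eq_of_orderOf_two {a : G} (ha : orderOf a = 2) : a⁻¹ = a :=
  inv_eq_of_mul_eq_one_left (mul_self_of_orderOf_two ha)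

theorem ne_one_of_orderOf_two {a : G} (ha : orderOf a = 2) : a ≠ 1 := by
  intro h; rw [h, orderOf_one] at ha; omega

theorem sq_prod_eq_one_iff {a b : G} (ha : a * a = 1) (hb : b * b = 1) :
    (a * b) ^ 2 = 1 ↔ Commute a b := by
  have ha' : a⁻¹ = a := inv_eq_of_mul_eq_one_left ha
  have hb' : b⁻¹ = b := inv_eq_of_mul_eq_one_left hb
  constructor
  · intro h
    rw [pow_two] at h
    have h2 : a * b = (a * b)⁻¹ := eq_inv_of_mul_eq_one_left h
    rwa [mul_inv_rev, ha', hb'] at h2
  · intro h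
    have h2 : a * b = (a * b)⁻¹ := by rw [mul_inv_rev, ha', hb']; exact h
    rw [pow_two]
    calc (a * b) * (a * b) = (a * b) * (a * b)⁻¹ := by rw [← h2]
      _ = 1 := mul_inv_cancel _

theorem braid_of_cube {a b : G} (ha : a * a = 1) (hb : b * b = 1) (h : (a * b) ^ 3 = 1) :
    a * b * a = b * a * b := by
  have ha' : a⁻¹ = a := inv_eq_of_mul_eq_one_left ha
  have hb' : b⁻¹ = b := inv_eq_of_mul_eq_one_left hb
  have h2 : (a * b * a) * (b * a * b) = 1 := by
    rw [← h]; simp [pow_succ, mul_assoc]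
  have h3 := eq_inv_of_mul_eq_one_left h2
  rw [mul_inv_rev, mul_inv_rev, ha', hb', ← mul_assoc] at h3
  exact h3

section Set

variable {D : Set G}

theorem sq (hD : Cfsg.IsThreeTranspositionSet D) {a : G} (ha : a ∈ D) : a * a = 1 :=
  mul_self_of_orderOf_two (hD.1 a ha)

theorem inv_eq (hD : Cfsg.IsThreeTranspositionSet D) {a : G} (ha : a ∈ D) : a⁻¹ = a :=
  inv_eq_of_orderOf_two (hD.1 a ha)

theorem ne_one (hD : Cfsg.IsThreeTranspositionSet D) {a : G} (ha : a ∈ D) : a ≠ 1 :=
  ne_one_of_orderOf_two (hD.1 a ha)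

theorem cube_of_not_commute (hD : Cfsg.IsThreeTranspositionSet D) {a b : G} (ha : a ∈ D)
    (hb : b ∈ D) (h : ¬ Commute a b) : (a * b) ^ 3 = 1 := by
  rcases hD.2 a ha b hb with h2 | h3
  · exact absurd ((sq_prod_eq_one_iff (sq hD ha) (sq hD hb)).1 h2) h
  · exact h3

theorem orderOf_eq_three (hD : Cfsg.IsThreeTranspositionSet D) {a b : G} (ha : a ∈ D)
    (hb : b ∈ D) (h : ¬ Commute a b) : orderOf (a * b) = 3 := by
  haveI : Fact (Nat.Prime 3) := ⟨Nat.prime_three⟩
  refine orderOf_eq_prime (cube_of_not_commute hD ha hb h) ?_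
  intro h1
  exact h ((sq_prod_eq_one_iff (sq hD ha) (sq hD hb)).1 (by rw [h1, one_pow]))

theorem braid (hD : Cfsg.IsThreeTranspositionSet D) {a b : G} (ha : a ∈ D) (hb : b ∈ D)
    (h : ¬ Commute a b) : a * b * a = b * a * b :=
  braid_of_cube (sq hD ha) (sq hD hb) (cube_of_not_commute hD ha hb h)

theorem mono (hD : Cfsg.IsThreeTranspositionSet D) {E : Set G} (hE : E ⊆ D) :
    Cfsg.IsThreeTranspositionSet E :=
  ⟨fun d hd => hD.1 d (hE hd), fun d hd e he => hD.2 d (hE hd) e (hE he)⟩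

/-- Two members whose product lies in a subgroup of order prime to 3 commute. -/
theorem commute_of_pGroup (hD : Cfsg.IsThreeTranspositionSet D) {p : ℕ} (hp : p.Prime)
    (hp3 : p ≠ 3) {P : Subgroup G} (hP : IsPGroup p P) {a b : G} (ha : a ∈ D) (hb : b ∈ D)
    (hab : a * b ∈ P) : Commute a b := by
  by_contra h
  haveI : Fact p.Prime := ⟨hp⟩
  obtain ⟨k, hk⟩ := (IsPGroup.iff_orderOf.1 hP) ⟨a * b, hab⟩
  rw [Subgroup.orderOf_mk, orderOf_eq_three hD ha hb h] at hk
  rcases Nat.eq_zero_or_pos k with h0 | h0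
  · rw [h0, pow_zero] at hk; omega
  · have : p ∣ 3 := hk ▸ dvd_pow_self p h0.ne'
    exact hp3 ((Nat.prime_dvd_prime_iff_eq hp Nat.prime_three).1 this)

end Set

/-- A set containing 1 and stable under left multiplication by a set of involutions contains the
subgroup these generate. -/
theorem closure_subset_of_left_stable {T S : Set G} (hT : ∀ t ∈ T, t * t = 1) (h1 : (1 : G) ∈ S)
    (hS : ∀ t ∈ T, ∀ s ∈ S, t * s ∈ S) : (Subgroup.closure T : Set G) ⊆ S := by
  intro x hx
  induction hx using Subgroup.closure_induction_left with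
  | one => exact h1
  | mul_left t ht y _ ih => exact hS t ht y ih
  | inv_mul_cancel t ht y _ ih =>
    rw [inv_eq_of_mul_eq_one_left (hT t ht)]
    exact hS t ht y ih

theorem commute_conj {g a b : G} : Commute (g * a * g⁻¹) (g * b * g⁻¹) ↔ Commute a b := by
  simp [Commute.conj_iff]

end Cfsg.Agent.ThreeTransp.Basic
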