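import Cfsg.Prelude.Def_FischerSpaces
import Cfsg.Agent.Lib.ThreeTransp.WidthOne
import Cfsg.Agent.Lib.Involutions.Basic

/-!
The two equivalence relations on a generating set of 3-transpositions (same commuting sets, same
punctured commuting sets) and their description by `O₂` and `O₃`.
-/

set_option autoImplicit false

namespace Cfsg.Agent.ThreeTransp.Classes

variable {G : Type*} [Group G] {D : Set G}

/-- Two involutions whose product has order dividing 4 generate a 2-group. -/
theorem isPGroup_closure_pair {a b : G} (ha : a * a = 1) (hb : b * b = 1) (h4 : (a * b) ^ 4 = 1) :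
    IsPGroup 2 (Subgroup.closure ({a, b} : Set G)) := by
  have hai : a⁻¹ = a := inv_eq_of_mul_eq_one_left ha
  have hbi : b⁻¹ = b := inv_eq_of_mul_eq_one_left hb
  have hba : b * a = (a * b)⁻¹ := by rw [mul_inv_rev, hai, hbi]
  set S : Set G := {x | ∃ k : ℤ, x = (a * b) ^ k ∨ x = a * (a * b) ^ k} with hS
  have hsub : (Subgroup.closure ({a, b} : Set G) : Set G) ⊆ S := by
    refine Basic.closure_subset_of_left_stable ?_ ⟨0, Or.inl (by simp)⟩ ?_
    · rintro t (rfl | rfl) <;> assumption
    · rintro t (rfl | rfl) s ⟨k, rfl | rfl⟩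
      · exact ⟨k, Or.inr rfl⟩
      · exact ⟨k, Or.inl (by rw [← mul_assoc, ha, one_mul])⟩
      · exact ⟨k + 1, Or.inr (by rw [add_comm, zpow_one_add, ← mul_assoc, ← mul_assoc, ha, one_mul])⟩
      · exact ⟨k - 1, Or.inl (by rw [← mul_assoc, hba, sub_eq_neg_add, zpow_add, zpow_neg_one])⟩
  intro x
  refine ⟨2, ?_⟩
  apply Subtype.ext
  rw [SubgroupClass.coe_pow, OneMemClass.coe_one]
  obtain ⟨k, h | h⟩ := hsub x.2
  · rw [h, ← zpow_natCast ((a * b) ^ k), ← zpow_mul, mul_comm, zpow_mul, zpow_natCast,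
      show 2 ^ 2 = 4 by norm_num, h4, one_zpow]
  · have hc : a * (a * b) ^ k * a = (a * b) ^ (-k) := by
      calc a * (a * b) ^ k * a = a * (a * b) ^ k * a⁻¹ := by rw [hai]
        _ = (a * (a * b) * a⁻¹) ^ k := conj_zpow.symm
        _ = ((a * b)⁻¹) ^ k := by rw [← hba, ← mul_assoc, ha, one_mul, hai]
        _ = (a * b) ^ (-k) := by rw [inv_zpow, zpow_neg]
    have h2 : (x : G) * (x : G) = 1 := by
      rw [h, ← mul_assoc, hc, ← zpow_add, neg_add_cancel, zpow_zero]
    rw [show 2 ^ 2 = 2 * 2 from rfl, pow_mul, pow_two (x : G), h2, one_pow]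

/-- A 3-transposition class is a transitive 3-transposition group. -/
theorem of_class (hD : Cfsg.IsThreeTranspositionClass D) :
    Cfsg.IsThreeTranspositionGroup D ∧ ∀ a ∈ D, ∀ b ∈ D, ∃ g : G, g * a * g⁻¹ = b := by
  obtain ⟨h1, ⟨d, -, rfl⟩, h3⟩ := hD
  refine ⟨⟨h1, fun g a ha => ?_, h3⟩, fun a ha b hb => ?_⟩
  · exact IsConj.trans ha (isConj_iff.2 ⟨g, rfl⟩)
  · exact isConj_iff.1 ((IsConj.symm ha).trans hb)

/-- `v` commutes with the same members as `d`. -/
def SameComm (D : Set G) (d v : G) : Prop := v ∈ D ∧ ∀ e ∈ D, Commute v e ↔ Commute d e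

/-- `w` commutes with the same other members as `d`. -/
def SamePunct (D : Set G) (d w : G) : Prop :=
  w ∈ D ∧ ∀ y ∈ D, (y ≠ d ∧ Commute d y) ↔ (y ≠ w ∧ Commute w y)

section

variable (hD : Cfsg.IsThreeTranspositionGroup D)
include hD

theorem sq {a : G} (ha : a ∈ D) : a * a = 1 := Basic.sq hD.1 ha

theorem inv {a : G} (ha : a ∈ D) : a⁻¹ = a := Basic.inv_eq hD.1 ha

theorem conj_mem {a b : G} (ha : a ∈ D) (hb : b ∈ D) : a * b * a ∈ D := by
  have := hD.2.1 a b hb
  rwa [inv hD ha] at this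

theorem inv_conj_mem (g : G) {a : G} (ha : a ∈ D) : g⁻¹ * a * g ∈ D := by
  simpa using hD.2.1 g⁻¹ a ha

theorem exists_noncomm (htrans : ∀ a ∈ D, ∀ b ∈ D, ∃ g : G, g * a * g⁻¹ = b)
    (h2 : ∃ a ∈ D, ∃ b ∈ D, a ≠ b) {d : G} (hd : d ∈ D) : ∃ e ∈ D, ¬ Commute d e := by
  by_contra hcon
  push_neg at hcon
  have hZ : d ∈ Subgroup.center G := by
    rw [← Subgroup.centralizer_univ, ← Subgroup.coe_top, ← hD.2.2, Subgroup.centralizer_closure]
    exact Subgroup.mem_centralizer_iff.2 fun e he => (hcon e he).eq.symm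
  obtain ⟨a, ha, b, hb, hne⟩ := h2
  have h : ∀ x ∈ D, x = d := fun x hx => by
    obtain ⟨g, rfl⟩ := htrans d hd x hx
    rw [Subgroup.mem_center_iff.1 hZ g, mul_inv_cancel_right]
  exact hne ((h a ha).trans (h b hb).symm)

omit hD in
theorem sameComm_iff {d : G} :
    {v : G | v ∈ D ∧ ∀ e ∈ D, Commute v e ↔ Commute d e} = {v : G | SameComm D d v} := rfl

theorem samePunct_iff {d : G} (hd : d ∈ D) :
    {w : G | w ∈ D ∧ {y : G | y ∈ D ∧ y ≠ d ∧ Commute d y} = {y : G | y ∈ D ∧ y ≠ w ∧ Commute w y}}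
      = {w : G | SamePunct D d w} := by
  ext w
  refine and_congr Iff.rfl ?_
  simp only [Set.ext_iff, Set.mem_setOf_eq]
  constructor
  · intro h y hy
    simpa [hy] using h y
  · intro h y
    by_cases hy : y ∈ D
    · simpa [hy] using h y hy
    · simp [hy]

theorem sameComm_conj {d v : G} (h : SameComm D d v) (g : G) :
    SameComm D (g * d * g⁻¹) (g * v * g⁻¹) := by
  refine ⟨hD.2.1 g v h.1, fun e he => ?_⟩
  have h1 := h.2 (g⁻¹ * e * g) (inv_conj_mem hD g he)
  have key : ∀ x : G, Commute (g * x * g⁻¹) e ↔ Commute x (g⁻¹ * e * g) := fun x => by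
    conv_lhs => rw [show e = g * (g⁻¹ * e * g) * g⁻¹ by group]
    exact Basic.commute_conj
  rw [key, key, h1]

theorem samePunct_conj {d w : G} (h : SamePunct D d w) (g : G) :
    SamePunct D (g * d * g⁻¹) (g * w * g⁻¹) := by
  refine ⟨hD.2.1 g w h.1, fun e he => ?_⟩
  have h1 := h.2 (g⁻¹ * e * g) (inv_conj_mem hD g he)
  have key : ∀ x : G, Commute (g * x * g⁻¹) e ↔ Commute x (g⁻¹ * e * g) := fun x => by
    conv_lhs => rw [show e = g * (g⁻¹ * e * g) * g⁻¹ by group]
    exact Basic.commute_conj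
  have key2 : ∀ x : G, e = g * x * g⁻¹ ↔ g⁻¹ * e * g = x := fun x => by
    constructor <;> rintro rfl <;> group
  simp only [key, ne_eq, key2, h1]

omit hD in
theorem sameComm_symm {d v : G} (hd : d ∈ D) (h : SameComm D d v) : SameComm D v d :=
  ⟨hd, fun e he => (h.2 e he).symm⟩

theorem sameComm_commute {d v : G} (hd : d ∈ D) (h : SameComm D d v) : Commute d v :=
  ((h.2 d hd).2 (Commute.refl d)).symm

omit hD in
theorem sameComm_trans {d v w : G} (h : SameComm D d v) (h' : SameComm D v w) : SameComm D d w :=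
  ⟨h'.1, fun e he => (h'.2 e he).trans (h.2 e he)⟩

omit hD in
theorem samePunct_symm {d w : G} (hd : d ∈ D) (h : SamePunct D d w) : SamePunct D w d :=
  ⟨hd, fun y hy => (h.2 y hy).symm⟩

omit hD in
theorem samePunct_trans {d v w : G} (h : SamePunct D d v) (h' : SamePunct D v w) :
    SamePunct D d w :=
  ⟨h'.1, fun e he => (h.2 e he).trans (h'.2 e he)⟩

omit hD in
theorem samePunct_not_commute {d w : G} (hd : d ∈ D) (h : SamePunct D d w) (hne : w ≠ d) :
    ¬ Commute d w := fun hc => ((h.2 w h.1).1 ⟨hne, hc⟩).1 rfl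

/-- The conjugates of a member by two noncommuting members agree. -/
theorem braid' {a b : G} (ha : a ∈ D) (hb : b ∈ D) (h : ¬ Commute a b) :
    a * b * a⁻¹ = b * a * b⁻¹ := by
  rw [inv hD ha, inv hD hb]; exact Basic.braid hD.1 ha hb h

theorem eq_of_conj_eq {d v e : G} (hd : d ∈ D) (hv : v ∈ D) (he : e ∈ D) (h1 : ¬ Commute d e)
    (h2 : ¬ Commute v e) (h : d * e * d⁻¹ = v * e * v⁻¹) : d = v := by
  rw [braid' hD hd he h1, braid' hD hv he h2] at h
  exact mul_left_cancel (mul_right_cancel h)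

/-- `v * d` fixes every class. -/
theorem sameComm_fix {d v e : G} (hd : d ∈ D) (h : SameComm D d v) (he : e ∈ D) :
    SameComm D e ((v * d) * e * (v * d)⁻¹) := by
  by_cases hde : Commute d e
  · have hve : Commute v e := (h.2 e he).2 hde
    rw [(hve.mul_left hde).eq, mul_inv_cancel_right]
    exact ⟨he, fun _ _ => Iff.rfl⟩
  · have hve : ¬ Commute v e := fun hc => hde ((h.2 e he).1 hc)
    -- the two images of `e` are equivalent
    have h1 : SameComm D (v * e * v⁻¹) (d * e * d⁻¹) := by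
      rw [braid' hD hd he hde, braid' hD h.1 he hve]
      exact sameComm_conj hD (sameComm_symm hd h) e
    have h2 := sameComm_conj hD h1 v
    have e1 : v * (v * e * v⁻¹) * v⁻¹ = e := by
      rw [inv hD h.1]
      simp [mul_assoc, sq hD h.1]
      rw [← mul_assoc, sq hD h.1, one_mul]
    have e2 : v * (d * e * d⁻¹) * v⁻¹ = v * d * e * (v * d)⁻¹ := by group
    rwa [e1, e2] at h2

theorem sameComm_mul_sq {d v : G} (hd : d ∈ D) (h : SameComm D d v) : (v * d) * (v * d) = 1 := by
  rw [mul_assoc, ← mul_assoc d, (sameComm_commute hD hd h).eq, mul_assoc, sq hD hd, mul_one,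
    sq hD h.1]

/-- A product of equivalent members commutes with its conjugate by another one. -/
theorem commute_conj_of_sameComm {d v e w : G} (hd : d ∈ D) (hdv : SameComm D d v) (he : e ∈ D)
    (hew : SameComm D e w) :
    Commute (w * e) ((v * d) * (w * e) * (v * d)⁻¹) := by
  have h1 := sameComm_fix hD hd hdv he
  have h2 := sameComm_trans hew (sameComm_fix hD hd hdv hew.1)
  have c : ∀ x y : G, SameComm D e x → SameComm D e y → Commute x y := fun x y hx hy =>
    sameComm_commute hD hx.1 (sameComm_trans (sameComm_symm he hx) hy)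
  have e0 : SameComm D e e := ⟨he, fun _ _ => Iff.rfl⟩
  have e1 : (v * d) * (w * e) * (v * d)⁻¹ =
      ((v * d) * w * (v * d)⁻¹) * ((v * d) * e * (v * d)⁻¹) := by group
  rw [e1]
  exact ((c _ _ hew h2).mul_right (c _ _ hew h1)).mul_left ((c _ _ e0 h2).mul_right (c _ _ e0 h1))

/-- Products of equivalent members lie in `O₂`. -/
theorem mul_mem_pCore_two [Finite G] {d v : G} (hd : d ∈ D) (h : SameComm D d v) :
    v * d ∈ Cfsg.pCore 2 G := by
  haveI : Fact (Nat.Prime 2) := ⟨Nat.prime_two⟩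
  have pair : ∀ g : G, IsPGroup 2 (Subgroup.closure ({v * d, g * (v * d) * g⁻¹} : Set G)) := by
    intro g
    set a := v * d with ha
    set b := g * a * g⁻¹ with hb
    have hb2 : b = (g * v * g⁻¹) * (g * d * g⁻¹) := by rw [hb, ha]; group
    have hV := sameComm_conj hD h g
    have ha2 : a * a = 1 := sameComm_mul_sq hD hd h
    have hbb : b * b = 1 := by rw [hb2]; exact sameComm_mul_sq hD (hD.2.1 g d hd) hV
    have hai : a⁻¹ = a := inv_eq_of_mul_eq_one_left ha2
    have hbi : b⁻¹ = b := inv_eq_of_mul_eq_one_left hbb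
    have hc : Commute b (a * b * a⁻¹) := by
      rw [hb2]; exact commute_conj_of_sameComm hD hd h (hD.2.1 g d hd) hV
    have h4 : (a * b) ^ 4 = 1 := by
      rw [hai] at hc
      have h5 : b * (a * b * a) * (b * (a * b * a)) = 1 := by
        calc b * (a * b * a) * (b * (a * b * a))
            = (a * b * a) * b * (b * (a * b * a)) := by rw [hc.eq]
          _ = a * b * a * ((b * b) * (a * b * a)) := by simp [mul_assoc]
          _ = a * b * (a * a) * (b * a) := by rw [hbb, one_mul]; simp [mul_assoc]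
          _ = a * (b * b) * a := by rw [ha2, mul_one]; simp [mul_assoc]
          _ = 1 := by rw [hbb, mul_one, ha2]
      calc (a * b) ^ 4 = b * (b * (a * b * a) * (b * (a * b * a))) * b := by
            simp [pow_succ, mul_assoc]; rw [← mul_assoc b b, hbb, one_mul]
        _ = 1 := by rw [h5, mul_one, hbb]
    exact isPGroup_closure_pair ha2 hbb h4
  obtain ⟨N, hN, hNp, hle⟩ := Involutions.BaerSuzuki.baer_suzuki (p := 2)
    (Subgroup.zpowers (v * d)) ((pair 1).to_le (by
      rw [Subgroup.zpowers_le]; exact Subgroup.subset_closure (by simp))) fun g => by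
    refine (pair g).to_le ?_
    rw [MonoidHom.map_zpowers, sup_le_iff, Subgroup.zpowers_le, Subgroup.zpowers_le]
    exact ⟨Subgroup.subset_closure (by simp), Subgroup.subset_closure (Or.inr rfl)⟩
  exact Cores.le_pCore hNp (hle (Subgroup.mem_zpowers _))

omit hD in
/-- Membership in a normal `p`-subgroup passes from a product of coprime exponents. -/
theorem mem_of_coprime_pow (N : Subgroup G) [N.Normal] {x y : G} (hxy : x⁻¹ * y ∈ N) {m n : ℕ}
    (hx : x ^ m = 1) (hy : y ^ n = 1) (hmn : Nat.Coprime m n) : x ∈ N ∧ y ∈ N := by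
  have h : QuotientGroup.mk' N x = QuotientGroup.mk' N y := QuotientGroup.eq.2 hxy
  have h1 : QuotientGroup.mk' N x ^ m = 1 := by rw [← map_pow, hx, map_one]
  have h2 : QuotientGroup.mk' N x ^ n = 1 := by rw [h, ← map_pow, hy, map_one]
  have h3 : QuotientGroup.mk' N x = 1 := by
    have := pow_gcd_eq_one.2 ⟨h1, h2⟩
    rwa [hmn.gcd_eq_one, pow_one] at this
  exact ⟨(QuotientGroup.eq_one_iff x).1 h3, (QuotientGroup.eq_one_iff y).1 (h.symm.trans h3)⟩

omit hD in
theorem eq_one_of_mem_pGroup {p n : ℕ} (hp : p.Prime) {N : Subgroup G} (hN : IsPGroup p N) {x : G}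
    (hx : x ∈ N) (hn : x ^ n = 1) (hpn : ¬ p ∣ n) : x = 1 := by
  haveI : Fact p.Prime := ⟨hp⟩
  obtain ⟨k, hk⟩ := IsPGroup.iff_orderOf.1 hN ⟨x, hx⟩
  rw [Subgroup.orderOf_mk] at hk
  have h := orderOf_dvd_of_pow_eq_one hn
  rw [hk] at h
  rcases Nat.eq_zero_or_pos k with h0 | h0
  · rwa [h0, pow_zero, orderOf_eq_one_iff] at hk
  · exact absurd ((dvd_pow_self p h0.ne').trans h) hpn

theorem mul_inv_of_mem {x y : G} (hx : x ∈ D) : x⁻¹ * y = x * y := by rw [inv hD hx]

/-- Congruence modulo a normal 2-subgroup respects commuting. -/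
theorem commute_congr_two {N : Subgroup G} [N.Normal] (hN : IsPGroup 2 N) {d v e : G} (hd : d ∈ D)
    (hv : v ∈ D) (he : e ∈ D) (hdv : d⁻¹ * v ∈ N) (h : Commute d e) : Commute v e := by
  by_contra hne
  have h2 : (e * d) ^ 2 = 1 := (Basic.sq_prod_eq_one_iff (sq hD he) (sq hD hd)).2 h.symm
  have h3 : (e * v) ^ 3 = 1 := Basic.cube_of_not_commute hD.1 he hv fun hc => hne hc.symm
  have hm := mem_of_coprime_pow N (x := e * d) (y := e * v)
    (by rwa [mul_inv_rev, mul_assoc, inv_mul_cancel_left]) h2 h3 (by norm_num)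
  exact hne (Basic.commute_of_pGroup hD.1 Nat.prime_two (by norm_num) hN he hv hm.2).symm

/-- The class of `d` modulo `O₂`. -/
theorem sameComm_iff_mem [Finite G] {d v : G} (hd : d ∈ D) :
    SameComm D d v ↔ v ∈ D ∧ d⁻¹ * v ∈ Cfsg.pCore 2 G := by
  constructor
  · intro h
    refine ⟨h.1, ?_⟩
    rw [mul_inv_of_mem hD hd, (sameComm_commute hD hd h).eq]
    exact mul_mem_pCore_two hD hd h
  · rintro ⟨hv, h⟩
    haveI : (Cfsg.pCore 2 G).Normal := Cores.pCore_normal 2
    have h' : v⁻¹ * d ∈ Cfsg.pCore 2 G := by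
      have := Subgroup.inv_mem _ h
      rwa [mul_inv_rev, inv_inv] at this
    exact ⟨hv, fun e he => ⟨commute_congr_two hD (Cores.pCore_isPGroup 2) hv hd he h',
      commute_congr_two hD (Cores.pCore_isPGroup 2) hd hv he h⟩⟩

/-- Equivalent members are conjugate by an explicit element of `O₂`. -/
theorem sameComm_conj_elt {d v e : G} (hd : d ∈ D) (h : SameComm D d v) (he : e ∈ D)
    (hde : ¬ Commute d e) : (e * (v * d) * e⁻¹) * d * (e * (v * d) * e⁻¹)⁻¹ = v := by
  have hve : ¬ Commute v e := fun hc => hde ((h.2 e he).1 hc)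
  have c := sameComm_commute hD hd h
  calc (e * (v * d) * e⁻¹) * d * (e * (v * d) * e⁻¹)⁻¹
      = e * (v * d) * (e⁻¹ * d * e) * (v * d)⁻¹ * e⁻¹ := by group
    _ = e * (v * d) * (d * e * d) * (d * v) * e := by
        rw [inv hD he, mul_inv_rev, inv hD hd, inv hD h.1, Basic.braid hD.1 hd he hde]
    _ = e * (v * (d * d) * e * (d * d) * v) * e := by simp [mul_assoc]
    _ = e * (v * e * v) * e := by simp [sq hD hd]
    _ = e * (e * v * e) * e := by rw [Basic.braid hD.1 h.1 he hve]
    _ = (e * e) * v * (e * e) := by simp [mul_assoc]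
    _ = v := by simp [sq hD he]

theorem sameComm_exists_conj [Finite G] {d v : G} (hd : d ∈ D) (h : SameComm D d v)
    (he : ∃ e ∈ D, ¬ Commute d e) : ∃ g ∈ Cfsg.pCore 2 G, g * d * g⁻¹ = v := by
  obtain ⟨e, he, hde⟩ := he
  haveI : (Cfsg.pCore 2 G).Normal := Cores.pCore_normal 2
  exact ⟨_, Subgroup.Normal.conj_mem inferInstance _ (mul_mem_pCore_two hD hd h) e,
    sameComm_conj_elt hD hd h he hde⟩

theorem inv_mul_conj_mem (N : Subgroup G) [N.Normal] {d g : G} (hg : g ∈ N) :
    d⁻¹ * (g * d * g⁻¹) ∈ N := by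
  rw [show d⁻¹ * (g * d * g⁻¹) = (d⁻¹ * g * d) * g⁻¹ by group]
  refine N.mul_mem ?_ (N.inv_mem hg)
  simpa using Subgroup.Normal.conj_mem (inferInstance : N.Normal) g hg d⁻¹

/-- Commuting members of two `SamePunct` classes of noncommuting or equal representatives. -/
theorem samePunct_eq_of_commute {p q x y : G} (hp : p ∈ D) (hq : q ∈ D)
    (hpq : p = q ∨ ¬ Commute p q) (hx : SamePunct D p x) (hy : SamePunct D q y) (hc : Commute x y) :
    x = y := by
  by_contra hne
  rcases hpq with rfl | hpq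
  · exact samePunct_not_commute hx.1 (samePunct_trans (samePunct_symm hp hx) hy) (Ne.symm hne) hc
  · obtain ⟨h1, h2⟩ := (hx.2 y hy.1).2 ⟨Ne.symm hne, hc⟩
    exact hpq ((hy.2 p hp).2 ⟨Ne.symm h1, h2.symm⟩).2.symm

/-- The three members of a line. -/
theorem triangle {a b : G} (ha : a ∈ D) (hb : b ∈ D) (h : ¬ Commute a b) :
    ¬ Commute a (a * b * a) ∧ ¬ Commute b (a * b * a) ∧ a * (a * b * a) * a = b ∧
      b * (a * b * a) * b = a ∧ a * b * a * a * (a * b * a) = b ∧
      a * b * a * b * (a * b * a) = a := by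
  have hb' := Basic.braid hD.1 ha hb h
  have ca : ∀ t : G, a * (a * t) = t := WidthOne.mul_mul_cancel_left (sq hD ha)
  have cb : ∀ t : G, b * (b * t) = t := WidthOne.mul_mul_cancel_left (sq hD hb)
  have e1 : a * (a * b * a) * a = b := by simp [mul_assoc, ca, sq hD ha]
  have e2 : b * (a * b * a) * b = a := by rw [hb']; simp [mul_assoc, cb, sq hD hb]
  refine ⟨fun hc => h ?_, fun hc => h ?_, e1, e2, ?_, ?_⟩
  · have h1 := (Basic.commute_conj (g := a)).2 hc
    rwa [mul_inv_cancel_right, inv hD ha, e1] at h1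
  · have h1 := (Basic.commute_conj (g := b)).2 hc
    rw [mul_inv_cancel_right, inv hD hb, e2] at h1
    exact h1.symm
  · calc a * b * a * a * (a * b * a) = a * (b * a * b) * a := by simp [mul_assoc, ca]
      _ = b := by rw [← hb', e1]
  · calc a * b * a * b * (a * b * a) = b * a * b * b * (b * a * b) := by rw [hb']
      _ = b * (a * b * a) * b := by simp [mul_assoc, cb]
      _ = a := e2

/-- Products of members with the same punctured commuting sets lie in `O₃`. -/
theorem mul_mem_pCore_three [Finite G] {d w : G} (hd : d ∈ D) (h : SamePunct D d w) :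
    d * w ∈ Cfsg.pCore 3 G := by
  haveI : Fact (Nat.Prime 3) := ⟨Nat.prime_three⟩
  by_cases hne : w = d
  · rw [hne, sq hD hd]; exact one_mem _
  have h3 : ∀ a b : G, a ∈ D → SamePunct D a b → (a * b) ^ 3 = 1 := by
    intro a b ha hab
    by_cases he : b = a
    · rw [he, sq hD ha, one_pow]
    · exact Basic.cube_of_not_commute hD.1 ha hab.1 (samePunct_not_commute ha hab he)
  have pair : ∀ g : G,
      IsPGroup 3 (Subgroup.closure ({d * w, (g * d * g⁻¹) * (g * w * g⁻¹)} : Set G)) := by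
    intro g
    have hef := samePunct_conj hD h g
    have he : g * d * g⁻¹ ∈ D := hD.2.1 g d hd
    generalize g * d * g⁻¹ = e at hef he ⊢
    generalize g * w * g⁻¹ = f at hef ⊢
    by_cases hc : e ≠ d ∧ Commute d e
    · obtain ⟨hfd, hdf⟩ := (hef.2 d hd).1 ⟨Ne.symm hc.1, hc.2.symm⟩
      have hwe := ((h.2 e he).1 hc).2
      have hwf := ((h.2 f hef.1).1 ⟨Ne.symm hfd, hdf.symm⟩).2
      have hab : Commute (d * w) (e * f) :=
        (hc.2.mul_right hdf.symm).mul_left (hwe.mul_right hwf)
      have ha := h3 d w hd h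
      have hb := h3 e f he hef
      intro x
      refine ⟨1, ?_⟩
      apply Subtype.ext
      rw [SubgroupClass.coe_pow, OneMemClass.coe_one, pow_one]
      have hcl : ∀ y ∈ Subgroup.closure ({d * w, e * f} : Set G),
          ∃ i j : ℤ, y = (d * w) ^ i * (e * f) ^ j := by
        intro y hy
        induction hy using Subgroup.closure_induction with
        | mem z hz =>
          rcases hz with rfl | rfl
          exacts [⟨1, 0, by simp⟩, ⟨0, 1, by simp⟩]
        | one => exact ⟨0, 0, by simp⟩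
        | mul y z _ _ hy hz =>
          obtain ⟨i, j, rfl⟩ := hy
          obtain ⟨i', j', rfl⟩ := hz
          refine ⟨i + i', j + j', ?_⟩
          rw [zpow_add, zpow_add, mul_assoc, ← mul_assoc ((e * f) ^ j),
            (hab.zpow_zpow i' j).eq.symm]
          simp [mul_assoc]
        | inv y _ hy =>
          obtain ⟨i, j, rfl⟩ := hy
          exact ⟨-i, -j, by rw [mul_inv_rev, ← zpow_neg, ← zpow_neg, (hab.zpow_zpow (-i) (-j)).eq]⟩
      obtain ⟨i, j, hx⟩ := hcl x x.2
      rw [hx, (hab.zpow_zpow i j).mul_pow, ← zpow_natCast ((d * w) ^ i), ← zpow_mul, mul_comm,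
        zpow_mul, zpow_natCast, ha, one_zpow, ← zpow_natCast ((e * f) ^ j), ← zpow_mul, mul_comm j,
        zpow_mul, zpow_natCast, hb, one_zpow, one_mul]
    · -- the points involved have no two distinct commuting
      have hde : d = e ∨ ¬ Commute d e := by
        by_cases he2 : d = e
        · exact Or.inl he2
        · exact Or.inr fun hcc => hc ⟨Ne.symm he2, hcc⟩
      let R : Set G := {d, e, d * e * d}
      let U : Set G := {x | ∃ p ∈ R, SamePunct D p x}
      have hR : ∀ p ∈ R, p ∈ D := by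
        rintro p (rfl | rfl | rfl)
        exacts [hd, he, conj_mem hD hd he]
      have hRR : ∀ p ∈ R, ∀ q ∈ R, (p = q ∨ ¬ Commute p q) ∧ p * q * p ∈ R := by
        rcases hde with rfl | hde
        · have hdd : d * d * d = d := by rw [sq hD hd, one_mul]
          rintro p (rfl | rfl | rfl) q (rfl | rfl | rfl) <;> simp [R, hdd]
        · obtain ⟨n1, n2, i4, i5, i6, i7⟩ := triangle hD hd he hde
          have hb := Basic.braid hD.1 hd he hde
          have i1 : d * d * d = d := by rw [sq hD hd, one_mul]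
          have i2 : e * e * e = e := by rw [sq hD he, one_mul]
          have i3 : d * e * d * (d * e * d) * (d * e * d) = d * e * d := by
            rw [sq hD (conj_mem hD hd he), one_mul]
          rintro p (rfl | rfl | rfl) q (rfl | rfl | rfl)
          · exact ⟨Or.inl rfl, by simp [R, i1]⟩
          · exact ⟨Or.inr hde, by simp [R]⟩
          · exact ⟨Or.inr n1, by simp [R, i4]⟩
          · exact ⟨Or.inr fun hcc => hde hcc.symm, by simp [R, hb]⟩
          · exact ⟨Or.inl rfl, by simp [R, i2]⟩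
          · exact ⟨Or.inr n2, by simp [R, i5]⟩
          · exact ⟨Or.inr fun hcc => n1 hcc.symm, by simp [R, i6]⟩
          · exact ⟨Or.inr fun hcc => n2 hcc.symm, by simp [R, i7]⟩
          · exact ⟨Or.inl rfl, by simp [R, i3]⟩
      have hU : WidthOneCert.Hyp U := by
        have hUD : ∀ x ∈ U, x ∈ D := by rintro x ⟨p, -, hp⟩; exact hp.1
        refine ⟨fun x hx => sq hD (hUD x hx), ?_, ?_⟩
        · rintro x ⟨p, hp, hx⟩ y ⟨q, hq, hy⟩
          refine ⟨p * q * p, (hRR p hp q hq).2, ?_⟩
          have h1 := samePunct_conj hD hy x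
          rw [inv hD hx.1] at h1
          refine samePunct_trans ?_ h1
          by_cases hcq : Commute x q
          · have hxq : x = q := samePunct_eq_of_commute hD (hR p hp) (hR q hq) (hRR p hp q hq).1 hx
              ⟨hR q hq, fun _ _ => Iff.rfl⟩ hcq
            subst hxq
            have h2 := samePunct_conj hD hx p
            rw [inv hD (hR p hp), sq hD (hR p hp), one_mul] at h2
            rw [sq hD hx.1, one_mul]
            exact samePunct_trans (samePunct_symm (hR p hp) h2) hx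
          · rw [Basic.braid hD.1 hx.1 (hR q hq) hcq]
            have h2 := samePunct_conj hD hx q
            rw [inv hD (hR q hq)] at h2
            rcases (hRR p hp q hq).1 with rfl | hpq
            · exact h2
            · rw [Basic.braid hD.1 (hR p hp) (hR q hq) hpq]; exact h2
        · rintro x ⟨p, hp, hx⟩ y ⟨q, hq, hy⟩
          by_cases hcxy : Commute x y
          · rw [samePunct_eq_of_commute hD (hR p hp) (hR q hq) (hRR p hp q hq).1 hx hy hcxy,
              sq hD hy.1, one_pow]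
          · exact Basic.cube_of_not_commute hD.1 hx.1 hy.1 hcxy
      exact WidthOne.pair_isPGroup hU ⟨d, Or.inl rfl, hd, fun _ _ => Iff.rfl⟩
        ⟨d, Or.inl rfl, h⟩ ⟨e, Or.inr (Or.inl rfl), he, fun _ _ => Iff.rfl⟩
        ⟨e, Or.inr (Or.inl rfl), hef⟩
  obtain ⟨N, hN, hNp, hle⟩ := Involutions.BaerSuzuki.baer_suzuki (p := 3)
    (Subgroup.zpowers (d * w)) ((pair 1).to_le (by
      rw [Subgroup.zpowers_le]; exact Subgroup.subset_closure (by simp))) fun g => by
    refine (pair g).to_le ?_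
    rw [MonoidHom.map_zpowers, sup_le_iff, Subgroup.zpowers_le, Subgroup.zpowers_le]
    refine ⟨Subgroup.subset_closure (by simp), Subgroup.subset_closure (Or.inr ?_)⟩
    simp [mul_assoc]
  exact Cores.le_pCore hNp (hle (Subgroup.mem_zpowers _))

/-- Congruence modulo a normal 3-subgroup respects punctured commuting. -/
theorem punct_congr_three {N : Subgroup G} [N.Normal] (hN : IsPGroup 3 N) {d w y : G} (hd : d ∈ D)
    (hw : w ∈ D) (hy : y ∈ D) (hdw : d⁻¹ * w ∈ N) (h : y ≠ d ∧ Commute d y) :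
    y ≠ w ∧ Commute w y := by
  have eq' : ∀ a b : G, a ∈ D → b ∈ D → Commute a b → a * b ∈ N → a = b := by
    intro a b ha hb hab hm
    have h1 := eq_one_of_mem_pGroup Nat.prime_three hN hm
      ((Basic.sq_prod_eq_one_iff (sq hD ha) (sq hD hb)).2 hab) (by norm_num)
    rw [← inv hD hb]; exact eq_inv_of_mul_eq_one_left h1
  refine ⟨?_, ?_⟩
  · rintro rfl
    exact h.1 (eq' d y hd hy h.2 (mul_inv_of_mem hD hd ▸ hdw)).symm
  · by_contra hne
    have h2 : (y * d) ^ 2 = 1 := (Basic.sq_prod_eq_one_iff (sq hD hy) (sq hD hd)).2 h.2.symm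
    have h3 : (y * w) ^ 3 = 1 := Basic.cube_of_not_commute hD.1 hy hw fun hc => hne hc.symm
    have hm := mem_of_coprime_pow N (x := y * d) (y := y * w)
      (by rwa [mul_inv_rev, mul_assoc, inv_mul_cancel_left]) h2 h3 (by norm_num)
    exact h.1 (eq' y d hy hd h.2.symm hm.1)

/-- The class of `d` modulo `O₃`. -/
theorem samePunct_iff_mem [Finite G] {d w : G} (hd : d ∈ D) :
    SamePunct D d w ↔ w ∈ D ∧ d⁻¹ * w ∈ Cfsg.pCore 3 G := by
  constructor
  · intro h
    exact ⟨h.1, by rw [mul_inv_of_mem hD hd]; exact mul_mem_pCore_three hD hd h⟩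
  · rintro ⟨hw, h⟩
    haveI : (Cfsg.pCore 3 G).Normal := Cores.pCore_normal 3
    have h' : w⁻¹ * d ∈ Cfsg.pCore 3 G := by
      have := Subgroup.inv_mem _ h
      rwa [mul_inv_rev, inv_inv] at this
    exact ⟨hw, fun y hy => ⟨punct_congr_three hD (Cores.pCore_isPGroup 3) hd hw hy h,
      punct_congr_three hD (Cores.pCore_isPGroup 3) hw hd hy h'⟩⟩

theorem samePunct_exists_conj [Finite G] {d w : G} (hd : d ∈ D) (h : SamePunct D d w) :
    ∃ g ∈ Cfsg.pCore 3 G, g * d * g⁻¹ = w := by
  by_cases hne : w = d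
  · exact ⟨1, one_mem _, by simp [hne]⟩
  refine ⟨d * w, mul_mem_pCore_three hD hd h, ?_⟩
  calc d * w * d * (d * w)⁻¹ = d * (w * d * w) * d := by
        rw [mul_inv_rev, inv hD hd, inv hD h.1]; simp [mul_assoc]
    _ = d * (d * w * d) * d := by
        rw [Basic.braid hD.1 hd h.1 (samePunct_not_commute hd h hne)]
    _ = (d * d) * w * (d * d) := by simp [mul_assoc]
    _ = w := by simp [sq hD hd]

end

end Cfsg.Agent.ThreeTransp.Classes
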