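import Mathlib
import Cfsg.Prelude.Def_Sporadic_a

/-! Counting in Steiner systems S(5, 8, 24). -/

set_option autoImplicit false

namespace Cfsg.Agent.ThreeTransp.Steiner

variable {α : Type*} [Fintype α] [DecidableEq α]

/-- The blocks through a set `s` of at most five points, counted against five-element sets. -/
theorem count_through {B : Finset (Finset α)} (hB : Cfsg.IsSteinerSystem 5 8 (B : Set (Finset α)))
    (hα : Fintype.card α = 24) (s : Finset α) (hs : s.card ≤ 5) :
    {b ∈ B | s ⊆ b}.card * (8 - s.card).choose (5 - s.card) =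
      (24 - s.card).choose (5 - s.card) := by
  classical
  have hU : (Finset.univ \ s).powersetCard (5 - s.card) =
      {b ∈ B | s ⊆ b}.biUnion fun b => (b \ s).powersetCard (5 - s.card) := by
    ext T
    simp only [Finset.mem_powersetCard, Finset.mem_biUnion, Finset.mem_filter]
    constructor
    · rintro ⟨hT, hTc⟩
      have hd : Disjoint s T := (Finset.subset_sdiff.1 hT).2.symm
      have hc : (s ∪ T).card = 5 := by rw [Finset.card_union_of_disjoint hd]; omega
      obtain ⟨b, ⟨hb, hsub⟩, -⟩ := hB.2 _ hc
      refine ⟨b, ⟨hb, Finset.union_subset_left hsub⟩, ?_, hTc⟩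
      exact Finset.subset_sdiff.2 ⟨Finset.union_subset_right hsub, hd.symm⟩
    · rintro ⟨b, -, hT, hTc⟩
      exact ⟨hT.trans (Finset.sdiff_subset_sdiff (Finset.subset_univ _) le_rfl), hTc⟩
  have h := congrArg Finset.card hU
  rw [Finset.card_powersetCard, Finset.card_univ_diff, hα] at h
  rw [h, Finset.card_biUnion]
  · rw [Finset.sum_congr rfl (g := fun _ => (8 - s.card).choose (5 - s.card)) ?_]
    · simp
    · intro b hb
      rw [Finset.mem_filter] at hb
      rw [Finset.card_powersetCard, Finset.card_sdiff_of_subset hb.2, hB.1 b hb.1]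
  · intro b hb b' hb' hne
    rw [Finset.mem_coe, Finset.mem_filter] at hb hb'
    rw [Function.onFun, Finset.disjoint_left]
    intro T hT hT'
    rw [Finset.mem_powersetCard] at hT hT'
    have hd : Disjoint s T := (Finset.subset_sdiff.1 hT.1).2.symm
    have hc : (s ∪ T).card = 5 := by rw [Finset.card_union_of_disjoint hd]; omega
    exact hne ((hB.2 _ hc).unique
      ⟨hb.1, Finset.union_subset hb.2 (hT.1.trans Finset.sdiff_subset)⟩
      ⟨hb'.1, Finset.union_subset hb'.2 (hT'.1.trans Finset.sdiff_subset)⟩)

/-- The number of blocks through a point set of size `k ≤ 5`. -/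
def lam : ℕ → ℕ
  | 0 => 759
  | 1 => 253
  | 2 => 77
  | 3 => 21
  | 4 => 5
  | _ => 1

theorem count_through_eq {B : Finset (Finset α)}
    (hB : Cfsg.IsSteinerSystem 5 8 (B : Set (Finset α))) (hα : Fintype.card α = 24) (s : Finset α)
    (hs : s.card ≤ 5) : {b ∈ B | s ⊆ b}.card = lam s.card := by
  have h := count_through hB hα s hs
  generalize {b ∈ B | s ⊆ b}.card = N at *
  generalize s.card = k at *
  interval_cases k <;>
    (norm_num [Nat.choose_eq_descFactorial_div_factorial, Nat.descFactorial, Nat.factorial, lam]
       at h ⊢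
     try omega)

/-- Binomial moments of the intersection numbers with a small set `Y`. -/
theorem moment {B : Finset (Finset α)} (hB : Cfsg.IsSteinerSystem 5 8 (B : Set (Finset α)))
    (hα : Fintype.card α = 24) (Y : Finset α) (k : ℕ) (hk : k ≤ 5) :
    ∑ j ∈ Finset.range (Y.card + 1), {b ∈ B | (b ∩ Y).card = j}.card * j.choose k =
      Y.card.choose k * lam k := by
  classical
  have h1 : ∑ b ∈ B, (b ∩ Y).card.choose k = Y.card.choose k * lam k := by
    calc ∑ b ∈ B, (b ∩ Y).card.choose k
        = ∑ b ∈ B, {S ∈ Y.powersetCard k | S ⊆ b}.card := by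
          refine Finset.sum_congr rfl fun b _ => ?_
          rw [← Finset.card_powersetCard]
          congr 1
          ext S
          simp only [Finset.mem_powersetCard, Finset.mem_filter, Finset.subset_inter_iff]
          tauto
      _ = ∑ S ∈ Y.powersetCard k, {b ∈ B | S ⊆ b}.card :=
          by
          simp only [Finset.card_filter]
          exact Finset.sum_comm
      _ = ∑ _S ∈ Y.powersetCard k, lam k := by
          refine Finset.sum_congr rfl fun S hS => ?_
          rw [Finset.mem_powersetCard] at hS
          rw [count_through_eq hB hα S (by omega), hS.2]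
      _ = _ := by simp
  rw [← h1, ← Finset.sum_fiberwise_of_maps_to (g := fun b => (b ∩ Y).card)
    (t := Finset.range (Y.card + 1)) (fun b _ => Finset.mem_range.2
      (Nat.lt_succ_of_le (Finset.card_le_card Finset.inter_subset_right)))]
  refine Finset.sum_congr rfl fun j _ => ?_
  rw [Finset.sum_congr rfl (g := fun _ => j.choose k) (fun b hb => by
    rw [(Finset.mem_filter.1 hb).2])]
  simp

/-- No non-empty set of at most four points meets every block evenly. -/
theorem exists_odd_inter {B : Finset (Finset α)}
    (hB : Cfsg.IsSteinerSystem 5 8 (B : Set (Finset α))) (hα : Fintype.card α = 24) (Y : Finset α)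
    (h1 : 1 ≤ Y.card) (h4 : Y.card ≤ 4) : ∃ b ∈ B, ¬ Even (b ∩ Y).card := by
  by_contra hcon
  push Not at hcon
  have h0 : ∀ j, ¬ Even j → {b ∈ B | (b ∩ Y).card = j}.card = 0 := by
    intro j hj
    rw [Finset.card_eq_zero, Finset.filter_eq_empty_iff]
    intro b hb e
    exact hj (e ▸ hcon b hb)
  have m := fun k hk => moment hB hα Y k hk
  have m1 := m 1 (by omega)
  have m2 := m 2 (by omega)
  have m3 := m 3 (by omega)
  have m4 := m 4 (by omega)
  have o1 := h0 1 (by decide)
  have o3 := h0 3 (by decide)
  generalize Y.card = y at *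
  interval_cases y <;>
    simp [Finset.sum_range_succ, Finset.sum_range_zero, o1, o3, Nat.choose, lam] at m1 m2 m3 m4 <;>
    omega

end Cfsg.Agent.ThreeTransp.Steiner
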