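import Mathlib
import Cfsg.Prelude.Def_Sporadic_a
import Cfsg.Agent.Lib.ThreeTransp.Steiner

/-! Self-dual binary codes of length 24 and minimum weight at least 8: cosets and octads. -/

set_option autoImplicit false

namespace Cfsg.Agent.ThreeTransp.CodeCover

open Finset
open scoped Classical

/-- Binary words of length 24. -/
abbrev W := Fin 24 → ZMod 2

/-- The characteristic word of a set of coordinates. -/
def word (T : Finset (Fin 24)) : W := fun i => if i ∈ T then 1 else 0

/-- The support of a word. -/
def supp (v : W) : Finset (Fin 24) := univ.filter fun i => v i ≠ 0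

theorem zmod2 (x : ZMod 2) : x = 0 ∨ x = 1 := by revert x; decide

theorem word_supp (v : W) : word (supp v) = v := by
  funext i
  rcases zmod2 (v i) with h | h <;> simp [word, supp, h]

theorem supp_word (T : Finset (Fin 24)) : supp (word T) = T := by
  ext i; by_cases h : i ∈ T <;> simp [word, supp, h]

theorem word_injective : Function.Injective word := fun S T h => by
  rw [← supp_word S, h, supp_word]

theorem word_sub (S T : Finset (Fin 24)) : word S - word T = word (symmDiff S T) := by
  funext i
  by_cases h1 : i ∈ S <;> by_cases h2 : i ∈ T <;>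
    simp [word, h1, h2, Finset.mem_symmDiff] <;> decide

theorem sum_word_mul (S T : Finset (Fin 24)) :
    ∑ i, word S i * word T i = ((S ∩ T).card : ZMod 2) := by
  simp [word, Finset.sum_ite_mem, Finset.inter_comm]

theorem norm_eq (v : W) : hammingNorm v = (supp v).card := rfl

theorem norm_word (T : Finset (Fin 24)) : hammingNorm (word T) = T.card := by
  rw [norm_eq, supp_word]

theorem card_symmDiff (S T : Finset (Fin 24)) :
    (symmDiff S T).card + 2 * (S ∩ T).card = S.card + T.card := by
  have h1 := Finset.card_sdiff_add_card_inter S T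
  have h2 := Finset.card_sdiff_add_card_inter T S
  have h3 : (symmDiff S T).card = (S \ T).card + (T \ S).card :=
    Finset.card_union_of_disjoint disjoint_sdiff_sdiff
  rw [Finset.inter_comm T S] at h2
  omega

/-- The hypotheses of an abstract Golay code. -/
structure Hyp (C : Submodule (ZMod 2) W) : Prop where
  dim : Module.finrank (ZMod 2) C = 12
  orth : ∀ v ∈ C, ∀ w ∈ C, ∑ i, v i * w i = 0
  minw : ∀ w ∈ C, w ≠ 0 → 8 ≤ hammingNorm w

variable {C : Submodule (ZMod 2) W}

theorem even_inter (h : Hyp C) {S T : Finset (Fin 24)} (hS : word S ∈ C) (hT : word T ∈ C) :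
    Even (S ∩ T).card := by
  have := h.orth _ hS _ hT
  rw [sum_word_mul, ZMod.natCast_eq_zero_iff_even] at this
  exact this

theorem even_card (h : Hyp C) {S : Finset (Fin 24)} (hS : word S ∈ C) : Even S.card := by
  simpa using even_inter h hS hS

theorem eight_le (h : Hyp C) {S : Finset (Fin 24)} (hS : word S ∈ C) (hne : S.Nonempty) :
    8 ≤ S.card := by
  have := h.minw _ hS (fun e => hne.ne_empty (by
    have := congrArg supp e
    rw [supp_word] at this
    simpa [supp] using this))
  rwa [norm_word] at this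

theorem same_small (h : Hyp C) {S T : Finset (Fin 24)} (hc : word S - word T ∈ C)
    (hlt : S.card + T.card < 8) : S = T := by
  rw [word_sub] at hc
  by_contra hne
  have := eight_le h hc (Finset.nonempty_iff_ne_empty.2 (by
    simpa [symmDiff_eq_bot] using hne))
  have := card_symmDiff S T
  omega

theorem same_four (h : Hyp C) {S T : Finset (Fin 24)} (hc : word S - word T ∈ C)
    (hS : S.card = 4) (hT : T.card = 4) (hne : S ≠ T) : Disjoint S T := by
  rw [word_sub] at hc
  have := eight_le h hc (Finset.nonempty_iff_ne_empty.2 (by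
    simpa [symmDiff_eq_bot] using hne))
  have := card_symmDiff S T
  rw [Finset.disjoint_iff_inter_eq_empty, ← Finset.card_eq_zero]
  omega

theorem card_quot (h : Hyp C) : Nat.card (W ⧸ C) = 4096 := by
  have h2 : Module.finrank (ZMod 2) (W ⧸ C) = 12 := by
    have := C.finrank_quotient_add_finrank
    rw [h.dim, Module.finrank_fin_fun] at this
    omega
  rw [Module.natCard_eq_pow_finrank (K := ZMod 2), h2, Nat.card_zmod]
  norm_num

/-- The sets of at most three coordinates. -/
def smallSets : Finset (Finset (Fin 24)) :=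
  powersetCard 0 univ ∪ powersetCard 1 univ ∪ powersetCard 2 univ ∪ powersetCard 3 univ

theorem mem_smallSets {S : Finset (Fin 24)} : S ∈ smallSets ↔ S.card ≤ 3 := by
  simp [smallSets, Finset.mem_powersetCard, -Finset.powersetCard_zero, -Finset.card_eq_zero]; omega

theorem card_smallSets : smallSets.card = 2325 := by
  have d : ∀ i j : ℕ, i ≠ j → Disjoint (powersetCard i (univ : Finset (Fin 24)))
      (powersetCard j univ) := by
    intro i j hij
    rw [Finset.disjoint_left]
    intro S h1 h2
    rw [mem_powersetCard] at h1 h2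
    omega
  unfold smallSets
  rw [Finset.card_union_of_disjoint, Finset.card_union_of_disjoint,
    Finset.card_union_of_disjoint (d 0 1 (by omega))]
  · simp only [card_powersetCard, card_univ, Fintype.card_fin]
    norm_num [Nat.choose_eq_descFactorial_div_factorial, Nat.descFactorial, Nat.factorial]
  · exact Finset.disjoint_union_left.2 ⟨d 0 2 (by omega), d 1 2 (by omega)⟩
  · exact Finset.disjoint_union_left.2
      ⟨Finset.disjoint_union_left.2 ⟨d 0 3 (by omega), d 1 3 (by omega)⟩, d 2 3 (by omega)⟩

/-- Every coset has a representative of weight at most three, or exactly six of weight four. -/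
theorem cover (h : Hyp C) (w : W) :
    (∃ S : Finset (Fin 24), S.card ≤ 3 ∧ word S - w ∈ C) ∨
      {T ∈ powersetCard 4 (univ : Finset (Fin 24)) | word T - w ∈ C}.card = 6 := by
  classical
  haveI : Fintype (W ⧸ C) := Fintype.ofFinite _
  let π : Finset (Fin 24) → W ⧸ C := fun T => Submodule.Quotient.mk (word T)
  have hπ : ∀ S T, π S = π T ↔ word S - word T ∈ C := fun S T => Submodule.Quotient.eq C
  set A := smallSets.image π with hA
  have hAcard : A.card = 2325 := by
    rw [hA, Finset.card_image_of_injOn, card_smallSets]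
    intro S hS T hT e
    rw [mem_coe, mem_smallSets] at hS hT
    exact same_small h ((hπ S T).1 e) (by omega)
  set F := powersetCard 4 (univ : Finset (Fin 24)) with hF
  have hFc : F.card = 10626 := by
    rw [hF, card_powersetCard, card_univ, Fintype.card_fin]
    norm_num [Nat.choose_eq_descFactorial_div_factorial, Nat.descFactorial, Nat.factorial]
  have hfib : ∀ q, {T ∈ F | π T = q}.card ≤ 6 := by
    intro q
    have hd : (({T ∈ F | π T = q} : Finset _) : Set (Finset (Fin 24))).PairwiseDisjoint id := by
      intro S hS T hT hne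
      simp only [mem_coe, mem_filter, hF, mem_powersetCard] at hS hT
      exact same_four h ((hπ S T).1 (hS.2.trans hT.2.symm)) hS.1.2 hT.1.2 hne
    have h24 : ({T ∈ F | π T = q}.biUnion id).card ≤ 24 :=
      (Finset.card_le_univ _).trans (by simp)
    rw [Finset.card_biUnion hd, Finset.sum_congr rfl (g := fun _ => 4) (fun T hT => by
      simp only [mem_filter, hF, mem_powersetCard] at hT
      exact hT.1.2)] at h24
    simp at h24
    omega
  have hsub : F.image π ⊆ univ \ A := by
    intro q hq
    rw [Finset.mem_image] at hq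
    obtain ⟨T, hT, rfl⟩ := hq
    rw [Finset.mem_sdiff]
    refine ⟨mem_univ _, fun hA' => ?_⟩
    obtain ⟨S, hS, e⟩ := Finset.mem_image.1 hA'
    rw [mem_smallSets] at hS
    rw [hF, mem_powersetCard] at hT
    have := same_small h ((hπ S T).1 e) (by omega)
    subst this
    omega
  have hcompl : (univ \ A).card = 1771 := by
    rw [Finset.card_univ_sdiff, hAcard, Fintype.card_eq_nat_card, card_quot h]
  have hsum : ∑ q ∈ univ \ A, {T ∈ F | π T = q}.card = ∑ _q ∈ univ \ A, 6 := by
    rw [← Finset.card_eq_sum_card_fiberwise (fun T hT => hsub (Finset.mem_image_of_mem π hT)), hFc,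
      Finset.sum_const, hcompl, smul_eq_mul]
  have hall := (Finset.sum_eq_sum_iff_of_le fun q _ => hfib q).1 hsum
  by_cases hw : Submodule.Quotient.mk w ∈ A
  · obtain ⟨S, hS, e⟩ := Finset.mem_image.1 hw
    exact Or.inl ⟨S, mem_smallSets.1 hS, (Submodule.Quotient.eq C).1 e⟩
  · right
    rw [← hall (Submodule.Quotient.mk w) (Finset.mem_sdiff.2 ⟨mem_univ _, hw⟩)]
    refine congrArg Finset.card ?_
    exact Finset.filter_congr fun T _ => (Submodule.Quotient.eq C).symm

/-- The octads of the code. -/
def octs (C : Submodule (ZMod 2) W) : Set (Finset (Fin 24)) :=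
  Cfsg.wordsOfWeight (C : Set W) 8

theorem mem_octs {b : Finset (Fin 24)} : b ∈ octs C ↔ word b ∈ C ∧ b.card = 8 := by
  constructor
  · rintro ⟨⟨v, hv, rfl⟩, hc⟩
    exact ⟨(word_supp v).symm ▸ hv, hc⟩
  · rintro ⟨hb, hc⟩
    exact ⟨⟨word b, hb, supp_word b⟩, hc⟩

theorem steiner (h : Hyp C) : Cfsg.IsSteinerSystem 5 8 (octs C) := by
  refine ⟨fun b hb => (mem_octs.1 hb).2, fun T hT => ?_⟩
  rcases cover h (word T) with ⟨S, hS, hc⟩ | h6
  · rw [word_sub] at hc
    have he := even_card h hc
    have hne : (symmDiff S T).Nonempty := Finset.nonempty_iff_ne_empty.2 (by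
      intro e
      rw [← Finset.bot_eq_empty, symmDiff_eq_bot] at e
      subst e
      omega)
    have h8 := eight_le h hc hne
    have hcs := card_symmDiff S T
    have h0 : (S ∩ T).card = 0 := by omega
    refine ⟨symmDiff S T, ⟨mem_octs.2 ⟨hc, by omega⟩, ?_⟩, ?_⟩
    · intro x hx
      rw [Finset.mem_symmDiff]
      refine Or.inr ⟨hx, fun hxS => ?_⟩
      rw [Finset.card_eq_zero] at h0
      exact Finset.eq_empty_iff_forall_notMem.1 h0 x (Finset.mem_inter.2 ⟨hxS, hx⟩)
    · rintro b ⟨hb, hTb⟩
      obtain ⟨hbC, hb8⟩ := mem_octs.1 hb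
      have hd := sub_mem hbC hc
      rw [word_sub] at hd
      by_contra hne2
      have := eight_le h hd (Finset.nonempty_iff_ne_empty.2 (by
        simpa [symmDiff_eq_bot] using hne2))
      have hcs2 := card_symmDiff b (symmDiff S T)
      have : T ⊆ b ∩ symmDiff S T := Finset.subset_inter hTb fun x hx => by
        rw [Finset.mem_symmDiff]
        refine Or.inr ⟨hx, fun hxS => ?_⟩
        rw [Finset.card_eq_zero] at h0
        exact Finset.eq_empty_iff_forall_notMem.1 h0 x (Finset.mem_inter.2 ⟨hxS, hx⟩)
      have := Finset.card_le_card this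
      omega
  · exfalso
    obtain ⟨S, hS⟩ := Finset.card_pos.1 (by omega : 0 < Finset.card {S ∈ powersetCard 4
      (univ : Finset (Fin 24)) | word S - word T ∈ C})
    rw [Finset.mem_filter, mem_powersetCard, word_sub] at hS
    obtain ⟨k, hk⟩ := even_card h hS.2
    have := card_symmDiff S T
    omega

theorem octs_nonempty (h : Hyp C) : ∃ b, b ∈ octs C := by
  obtain ⟨T, -, hT⟩ := Finset.exists_subset_card_eq
    (show 5 ≤ (univ : Finset (Fin 24)).card by simp)
  obtain ⟨b, ⟨hb, -⟩, -⟩ := (steiner h).2 T hT
  exact ⟨b, hb⟩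

/-- The code is spanned by its octads. -/
theorem span_octs (h : Hyp C) :
    Submodule.span (ZMod 2) {w : W | w ∈ C ∧ hammingNorm w = 8} = C := by
  classical
  set U := Submodule.span (ZMod 2) {w : W | w ∈ C ∧ hammingNorm w = 8} with hU
  have hUC : U ≤ C := Submodule.span_le.2 fun w hw => hw.1
  refine Submodule.eq_of_le_of_finrank_le hUC ?_
  rw [h.dim]
  by_contra hlt
  push Not at hlt
  let Φ : W →ₗ[ZMod 2] (U →ₗ[ZMod 2] ZMod 2) := LinearMap.mk₂ (ZMod 2)
    (fun (v : W) (u : U) => ∑ i, v i * (u : W) i)
    (fun a b c => by simp [add_mul, Finset.sum_add_distrib])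
    (fun r a b => by simp [Finset.mul_sum, mul_assoc])
    (fun a b c => by simp [mul_add, Finset.sum_add_distrib])
    (fun r a b => by simp [Finset.mul_sum, mul_left_comm])
  have hCK : C ≤ LinearMap.ker Φ := fun v hv => LinearMap.ext fun u => h.orth v hv _ (hUC u.2)
  have hK : 12 < Module.finrank (ZMod 2) (LinearMap.ker Φ) := by
    have h1 := LinearMap.finrank_range_add_finrank_ker Φ
    have h2 := Submodule.finrank_le (LinearMap.range Φ)
    have h3 : Module.finrank (ZMod 2) (U →ₗ[ZMod 2] ZMod 2) = Module.finrank (ZMod 2) U := by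
      rw [Module.finrank_linearMap, Module.finrank_self, mul_one]
    rw [Module.finrank_fin_fun] at h1
    omega
  obtain ⟨v, hvK, hvC⟩ := SetLike.exists_of_lt
    (lt_of_le_of_ne hCK (fun e => by rw [← e, h.dim] at hK; omega))
  obtain ⟨Y, hY4, hY⟩ : ∃ Y : Finset (Fin 24), Y.card ≤ 4 ∧ word Y - v ∈ C := by
    rcases cover h v with ⟨S, hS, hc⟩ | h6
    · exact ⟨S, by omega, hc⟩
    · obtain ⟨S, hS⟩ := Finset.card_pos.1 (by omega : 0 < Finset.card {S ∈ powersetCard 4
        (univ : Finset (Fin 24)) | word S - v ∈ C})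
      rw [Finset.mem_filter, mem_powersetCard] at hS
      exact ⟨S, by omega, hS.2⟩
  have hYK : word Y ∈ LinearMap.ker Φ := by
    have := add_mem (hCK hY) hvK
    rwa [sub_add_cancel] at this
  have hY1 : 1 ≤ Y.card := by
    by_contra h0
    rw [not_le, Nat.lt_one_iff, Finset.card_eq_zero] at h0
    subst h0
    have e : word (∅ : Finset (Fin 24)) = 0 := by funext i; simp [word]
    rw [e, zero_sub] at hY
    exact hvC (neg_mem_iff.1 hY)
  have hB : Cfsg.IsSteinerSystem 5 8
      ((((Set.toFinite (octs C)).toFinset) : Set (Finset (Fin 24)))) := by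
    rw [Set.Finite.coe_toFinset]; exact steiner h
  obtain ⟨b, hb, hodd⟩ := Steiner.exists_odd_inter hB (by simp) Y hY1 hY4
  rw [Set.Finite.mem_toFinset, mem_octs] at hb
  have hbU : word b ∈ U := Submodule.subset_span ⟨hb.1, by rw [norm_word, hb.2]⟩
  have h0 : ∑ i, word Y i * word b i = 0 := LinearMap.congr_fun hYK ⟨word b, hbU⟩
  rw [sum_word_mul, ZMod.natCast_eq_zero_iff_even, Finset.inter_comm] at h0
  exact hodd h0

/-- The code is doubly even. -/
theorem doubly_even (h : Hyp C) {w : W} (hw : w ∈ C) : 4 ∣ hammingNorm w := by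
  suffices w ∈ C ∧ 4 ∣ hammingNorm w from this.2
  rw [← span_octs h] at hw
  induction hw using Submodule.span_induction with
  | mem x hx => exact ⟨hx.1, ⟨2, by rw [hx.2]⟩⟩
  | zero => exact ⟨zero_mem _, by simp⟩
  | add x y _ _ hx hy =>
    refine ⟨add_mem hx.1 hy.1, ?_⟩
    have e : x + y = word (symmDiff (supp x) (supp y)) := by
      rw [← word_sub, word_supp, word_supp]
      funext i
      exact (CharTwo.sub_eq_add (x i) (y i)).symm
    rw [e, norm_word]
    have hcs := card_symmDiff (supp x) (supp y)
    have hi : Even (supp x ∩ supp y).card :=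
      even_inter h (by rw [word_supp]; exact hx.1) (by rw [word_supp]; exact hy.1)
    obtain ⟨k, hk⟩ := hi
    obtain ⟨a, ha⟩ := hx.2
    obtain ⟨b, hb⟩ := hy.2
    rw [norm_eq] at ha hb
    omega
  | smul r x _ hx =>
    rcases zmod2 r with rfl | rfl
    · simp
    · rw [one_smul]; exact hx

end Cfsg.Agent.ThreeTransp.CodeCover
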