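import Cfsg.Agent.Lib.ThreeTransp.WidthOne
import Cfsg.Agent.Lib.ThreeTransp.Classes
import Cfsg.Agent.Lib.Components.Fitting
import Cfsg.Agent.Lib.Components.Basic
import Cfsg.Agent.Lib.Components.Layer
import Cfsg.Prelude.Def_CaseTheorems

/-!
A group with trivial centre generated by 3-transpositions and having a simple normal subgroup with
quotient the symmetric group of degree three.
-/

set_option autoImplicit false

namespace Cfsg.Agent.ThreeTransp.FarCore

open Cfsg.Agent.ThreeTransp
open scoped commutatorElement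

variable {G : Type*} [Group G]

theorem perfect_of_simple {N : Subgroup G} (hs : IsSimpleGroup ↥N) (hna : ¬ IsMulCommutative ↥N) :
    ⁅N, N⁆ = N := by
  have h : commutator ↥N = ⊤ :=
    (hs.eq_bot_or_eq_top_of_normal (commutator ↥N) inferInstance).resolve_left fun h => hna ⟨⟨fun x y => by
      have := Subgroup.commutator_mem_commutator (Subgroup.mem_top x) (Subgroup.mem_top y)
      rw [← commutator_def, h, Subgroup.mem_bot, commutatorElement_eq_one_iff_mul_comm] at this
      exact this⟩⟩
  have h' := congrArg (Subgroup.map N.subtype) h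
  rwa [Subgroup.map_subtype_commutator, ← MonoidHom.range_eq_map, Subgroup.range_subtype] at h'

/-- A simple normal subgroup with trivial centraliser is the generalised Fitting subgroup. -/
theorem genFitting_eq [Finite G] {N : Subgroup G} [hN : N.Normal] (hs : IsSimpleGroup ↥N)
    (hna : ¬ IsMulCommutative ↥N) (hC : Subgroup.centralizer (N : Set G) = ⊥) :
    Cfsg.generalizedFittingSubgroup G = N := by
  have hperf := perfect_of_simple hs hna
  have hq : Cfsg.IsQuasisimple ↥N := by
    refine Components.Basic.isQuasisimple_of_normal ⟨?_⟩ inferInstance ?_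
    · apply Subgroup.map_injective N.subtype_injective
      rw [Subgroup.map_subtype_commutator, hperf, ← MonoidHom.range_eq_map, Subgroup.range_subtype]
    · intro M hM
      rcases hs.eq_bot_or_eq_top_of_normal M hM with h | h
      · exact Or.inr (by rw [h]; exact bot_le)
      · exact Or.inl h
  have hcomp : Cfsg.IsComponent N := ⟨hN.isSubnormal, hq⟩
  refine le_antisymm (sup_le (Components.Basic.layer_le fun L hL => ?_) ?_)
    (Components.Fitting.component_le_genFitting hcomp)
  · by_contra hne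
    have h := Components.Basic.component_commutator_eq_bot_of_ne hL hcomp fun e => hne e.le
    rw [Subgroup.commutator_eq_bot_iff_le_centralizer, hC, le_bot_iff] at h
    exact Components.Basic.component_ne_bot hL h
  · have h1 : ⁅N, Cfsg.fittingSubgroup G⁆ = ⊥ := by
      refine le_bot_iff.1 ?_
      rw [← Components.Fitting.component_commutator_fitting hcomp]
    rw [Subgroup.commutator_comm, Subgroup.commutator_eq_bot_iff_le_centralizer, hC] at h1
    exact h1.trans bot_le

variable {D : Set G}

/-- In a group with trivial centre generated by 3-transpositions, a simple normal subgroup with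
quotient `S₃` has trivial centraliser as soon as no member centralises it. -/
theorem centralizer_eq_bot [Finite G] (hD : Cfsg.IsThreeTranspositionGroup D)
    (hZ : Subgroup.center G = ⊥) (N : Subgroup G) [hN : N.Normal] (hs : IsSimpleGroup ↥N)
    (hna : ¬ IsMulCommutative ↥N) (e : G ⧸ N ≃* Equiv.Perm (Fin 3))
    (hmem : ∀ y ∈ D, y ∉ Subgroup.centralizer (N : Set G)) :
    Subgroup.centralizer (N : Set G) = ⊥ := by
  set C := Subgroup.centralizer (N : Set G) with hCdef
  haveI : C.Normal := Subgroup.normal_centralizer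
  have hperf := perfect_of_simple hs hna
  have hNC : C ⊓ N = ⊥ := by
    have hle : (C ⊓ N).subgroupOf N ≤ Subgroup.center ↥N := fun x hx =>
      Subgroup.mem_center_iff.2 fun y => Subtype.ext
        (Subgroup.mem_centralizer_iff.1 (Subgroup.mem_subgroupOf.1 hx).1 y y.2)
    rcases hs.eq_bot_or_eq_top_of_normal ((C ⊓ N).subgroupOf N) inferInstance with h | h
    · have := Subgroup.subgroupOf_eq_bot.1 h
      rwa [disjoint_iff, inf_assoc, inf_idem] at this
    · exfalso
      rw [h] at hle
      exact hna ⟨⟨fun x y => (Subgroup.mem_center_iff.1 (hle (Subgroup.mem_top y)) x)⟩⟩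
  set f : ↥C →* Equiv.Perm (Fin 3) := e.toMonoidHom.comp ((QuotientGroup.mk' N).comp C.subtype)
    with hf
  have hinj : Function.Injective f := by
    rw [injective_iff_map_eq_one]
    intro x hx
    have h1 : QuotientGroup.mk' N (x : G) = 1 := e.injective (hx.trans (map_one e).symm)
    exact Subtype.ext (Subgroup.mem_bot.1 (hNC ▸ ⟨x.2, (QuotientGroup.eq_one_iff _).1 h1⟩))
  by_contra hne
  haveI := Fact.mk Nat.prime_three
  have hsmall : ∀ x y : Equiv.Perm (Fin 3), x ^ 3 = 1 → x ≠ 1 → y ^ 3 = 1 → y ≠ 1 →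
      y = x ∨ y = x⁻¹ := by decide
  obtain ⟨z, hzC, hz3, hz1⟩ : ∃ z ∈ C, z ^ 3 = 1 ∧ z ≠ 1 := by
    by_contra hcon
    push Not at hcon
    have h3 : ¬ 3 ∣ Nat.card C := fun h => by
      obtain ⟨x, hx⟩ := exists_prime_orderOf_dvd_card' 3 h
      have h1 : x = 1 := Subtype.ext (hcon x x.2 (by
        rw [← SubmonoidClass.coe_pow, ← hx, pow_orderOf_eq_one]; rfl))
      rw [h1, orderOf_one] at hx
      omega
    have hdvd := Subgroup.card_dvd_of_injective f hinj
    rw [Nat.card_perm, Nat.card_fin, Nat.factorial] at hdvd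
    obtain ⟨p, hpC, hp⟩ := (Subgroup.ne_bot_iff_exists_ne_one.1 hne : ∃ a : ↥C, a ≠ 1) |> fun ⟨a, ha⟩ =>
      (⟨(a : G), a.2, fun h => ha (Subtype.ext h)⟩ : ∃ p, p ∈ C ∧ p ≠ 1)
    refine hp ?_
    rw [← Subgroup.mem_bot, ← hZ, Subgroup.mem_center_iff]
    intro g
    have hC2 : ∀ x ∈ C, x ≠ 1 → x = p := by
      intro x hx hx1
      have h2 : Nat.card C ∣ 2 := by
        have : Nat.Coprime (Nat.card C) 3 :=
          (Nat.prime_three.coprime_iff_not_dvd.2 h3).symm
        exact this.dvd_of_dvd_mul_left (by simpa [Nat.factorial] using hdvd)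
      have hle : Nat.card C ≤ 2 := Nat.le_of_dvd (by norm_num) h2
      by_contra hxp
      have : ({1, x, p} : Set G) ⊆ C := by
        rintro u (rfl | rfl | rfl)
        exacts [one_mem _, hx, hpC]
      have h := Set.ncard_le_ncard this
      rw [Set.ncard_insert_of_notMem (by simp [Ne.symm hx1, Ne.symm hp]), Set.ncard_pair hxp,
        ← Nat.card_coe_set_eq] at h
      exact absurd (h.trans hle) (by norm_num)
    have := hC2 (g * p * g⁻¹) (Subgroup.Normal.conj_mem inferInstance p hpC g)
      (fun h => hp (by rwa [conj_eq_one_iff] at h))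
    exact mul_inv_eq_iff_eq_mul.1 this
  have hzconj : ∀ g : G, g * z * g⁻¹ = z ∨ g * z * g⁻¹ = z⁻¹ := by
    intro g
    have hm : g * z * g⁻¹ ∈ C := Subgroup.Normal.conj_mem inferInstance z hzC g
    have hc : (⟨g * z * g⁻¹, hm⟩ : ↥C) ^ 3 = 1 := Subtype.ext (by
      show (g * z * g⁻¹) ^ 3 = 1
      rw [conj_pow, hz3, mul_one, mul_inv_cancel])
    rcases hsmall (f ⟨z, hzC⟩) (f ⟨_, hm⟩)
      (by rw [← map_pow, show (⟨z, hzC⟩ : ↥C) ^ 3 = 1 from Subtype.ext hz3, map_one])
      (fun h => hz1 (congrArg Subtype.val (hinj (h.trans (map_one f).symm))))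
      (by rw [← map_pow, hc, map_one])
      (fun h => hz1 (by
        have := congrArg Subtype.val (hinj (h.trans (map_one f).symm))
        simpa [conj_eq_one_iff] using this)) with h | h
    · exact Or.inl (congrArg Subtype.val (hinj h))
    · rw [← map_inv] at h
      exact Or.inr (congrArg Subtype.val (hinj h))
  set T : Set G := {y | y ∈ D ∧ y * z * y⁻¹ = z⁻¹} with hT
  have hTne : ∃ y, y ∈ T := by
    by_contra hcon
    push Not at hcon
    refine hz1 ?_
    rw [← Subgroup.mem_bot, ← hZ, Subgroup.mem_center_iff]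
    intro g
    have hg : g ∈ Subgroup.closure D := hD.2.2 ▸ Subgroup.mem_top g
    show Commute g z
    induction hg using Subgroup.closure_induction with
    | mem y hy => exact mul_inv_eq_iff_eq_mul.1 ((hzconj y).resolve_right fun h => hcon y ⟨hy, h⟩)
    | one => exact Commute.one_left z
    | mul p q _ _ hp hq => exact hp.mul_left hq
    | inv p _ hp => exact hp.inv_left
  have hTconj : ∀ g : G, ∀ y ∈ T, g * y * g⁻¹ ∈ T := by
    intro g y hy
    refine ⟨hD.2.1 g y hy.1, ?_⟩
    rcases hzconj g⁻¹ with h | h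
    · calc g * y * g⁻¹ * z * (g * y * g⁻¹)⁻¹ = g * (y * (g⁻¹ * z * g⁻¹⁻¹) * y⁻¹) * g⁻¹ := by group
        _ = g * z⁻¹ * g⁻¹ := by rw [h, hy.2]
        _ = (g * (g⁻¹ * z * g⁻¹⁻¹) * g⁻¹)⁻¹ := by rw [h]; group
        _ = z⁻¹ := by group
    · calc g * y * g⁻¹ * z * (g * y * g⁻¹)⁻¹ = g * (y * (g⁻¹ * z * g⁻¹⁻¹) * y⁻¹) * g⁻¹ := by group
        _ = g * (y * z * y⁻¹)⁻¹ * g⁻¹ := by rw [h]; group
        _ = g * z * g⁻¹ := by rw [hy.2, inv_inv]
        _ = (g * (g⁻¹ * z * g⁻¹⁻¹) * g⁻¹)⁻¹ := by rw [h]; group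
        _ = z⁻¹ := by group
  have hw : ∀ y ∈ T, ∀ t ∈ T, Commute y t → y = t := by
    intro y hy t ht hc
    by_contra hne
    have hy2 := Basic.sq hD.1 hy.1
    have ht2 := Basic.sq hD.1 ht.1
    have hzu : Commute z (y * t) := by
      have e1 : y * t * z = z * (y * t) := by
        calc y * t * z = y * (t * z * t⁻¹) * t := by group
          _ = (y * z * y⁻¹)⁻¹ * y * t := by rw [ht.2]; group
          _ = z * (y * t) := by rw [hy.2, inv_inv, mul_assoc]
      exact e1.symm
    have e2 : z * y * z⁻¹ * t = z ^ 2 * (y * t) := by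
      calc z * y * z⁻¹ * t = z * (y * z⁻¹ * y⁻¹) * (y * t) := by group
        _ = z * (y * z * y⁻¹)⁻¹ * (y * t) := by group
        _ = z ^ 2 * (y * t) := by rw [hy.2, inv_inv, pow_two]
    have hu2 : (y * t) ^ 2 = 1 := by rw [hc.mul_pow, pow_two, pow_two, hy2, ht2, mul_one]
    have hu1 : y * t ≠ 1 := fun h => hne (by
      rw [eq_inv_of_mul_eq_one_left h, Basic.inv_eq hD.1 ht.1])
    rcases hD.1.2 _ (hD.2.1 z y hy.1) _ ht.1 with h | h
    · rw [e2, (hzu.pow_left 2).mul_pow, hu2, mul_one, ← pow_mul, show 2 * 2 = 3 + 1 by rfl,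
        pow_succ, hz3, one_mul] at h
      exact hz1 h
    · rw [e2, (hzu.pow_left 2).mul_pow, ← pow_mul, mul_comm 2 3, pow_mul, hz3, one_pow,
        one_mul, pow_succ, hu2, one_mul] at h
      exact hu1 h
  set W := Subgroup.closure T with hW
  haveI hWn : W.Normal := ⟨fun x hx g => by
    induction hx using Subgroup.closure_induction with
    | mem y hy => exact Subgroup.subset_closure (hTconj g y hy)
    | one => simp
    | mul p q _ _ hp hq => rw [conj_mul.symm]; exact mul_mem hp hq
    | inv p _ hp => rw [← conj_inv]; exact inv_mem hp⟩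
  obtain ⟨y, hy⟩ := hTne
  set T' : Set ↥W := {x | (x : G) ∈ T} with hT'
  have hyW : y ∈ W := Subgroup.subset_closure hy
  have hset : Cfsg.IsThreeTranspositionSet T' := by
    refine ⟨fun x hx => ?_, fun x hx u hu => ?_⟩
    · rw [← Subgroup.orderOf_coe]; exact hD.1.1 _ hx.1
    · rcases hD.1.2 _ hx.1 _ hu.1 with h | h
      · exact Or.inl (Subtype.ext (by simpa using h))
      · exact Or.inr (Subtype.ext (by simpa using h))
  have hprod : ∀ u ∈ T', (⟨y, hyW⟩ : ↥W) * u ∈ Cfsg.pCore 3 ↥W := fun u hu =>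
    WidthOne.mul_mem_pCore hset (fun g x hx => hTconj g x hx)
      (fun p hp q hq h => Subtype.ext (hw _ hp _ hq (h.map W.subtype))) hy hu
  haveI : (Cfsg.pCore 3 ↥W).Normal := Cores.pCore_normal 3
  have hdisj : W ⊓ N = ⊥ := by
    rcases hs.eq_bot_or_eq_top_of_normal ((W ⊓ N).subgroupOf N) inferInstance with h | h
    · have := Subgroup.subgroupOf_eq_bot.1 h
      rwa [disjoint_iff, inf_assoc, inf_idem] at this
    · exfalso
      have hNW : N ≤ W := fun x hx =>
        (Subgroup.mem_subgroupOf.1 (h.symm ▸ Subgroup.mem_top (⟨x, hx⟩ : ↥N) :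
          (⟨x, hx⟩ : ↥N) ∈ (W ⊓ N).subgroupOf N)).1
      set π := QuotientGroup.mk' (Cfsg.pCore 3 ↥W)
      have hgen : ∀ x : ↥W, π x ∈ Subgroup.zpowers (π ⟨y, hyW⟩) := by
        intro x
        have hx : x ∈ Subgroup.closure T' := by
          have h : Subgroup.closure T' = ⊤ := Subgroup.closure_closure_coe_preimage
          rw [h]
          exact Subgroup.mem_top _
        induction hx using Subgroup.closure_induction with
        | mem u hu =>
          have h1 : π (⟨y, hyW⟩ * u) = 1 := (QuotientGroup.eq_one_iff _).2 (hprod u hu)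
          rw [map_mul] at h1
          rw [eq_inv_of_mul_eq_one_right h1]
          exact inv_mem (Subgroup.mem_zpowers _)
        | one => rw [map_one]; exact one_mem _
        | mul p q _ _ hp hq => rw [map_mul]; exact mul_mem hp hq
        | inv p _ hp => rw [map_inv]; exact inv_mem hp
      have hNp : N.subgroupOf W ≤ Cfsg.pCore 3 ↥W := by
        intro x hx
        have hx' : (x : G) ∈ ⁅N, N⁆ := hperf.symm ▸ Subgroup.mem_subgroupOf.1 hx
        have hle : ⁅N.subgroupOf W, N.subgroupOf W⁆ ≤ Cfsg.pCore 3 ↥W := by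
          rw [Subgroup.commutator_le]
          intro p _ q _
          refine (QuotientGroup.eq_one_iff _).1 ?_
          show π ⁅p, q⁆ = 1
          obtain ⟨i, hi⟩ := Subgroup.mem_zpowers_iff.1 (hgen p)
          obtain ⟨j, hj⟩ := Subgroup.mem_zpowers_iff.1 (hgen q)
          rw [map_commutatorElement, ← hi, ← hj, commutatorElement_eq_one_iff_mul_comm]
          exact ((Commute.refl _).zpow_zpow i j).eq
        refine hle ?_
        rw [← Subgroup.mem_map_iff_mem W.subtype_injective, Subgroup.map_commutator,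
          Subgroup.map_subgroupOf_eq_of_le hNW]
        exact hx'
      have hp3 : IsPGroup 3 ↥N :=
        ((Cores.pCore_isPGroup (G := ↥W) 3).to_le hNp).of_equiv (Subgroup.subgroupOfEquivOfLe hNW)
      haveI : Group.IsNilpotent ↥N := hp3.isNilpotent
      haveI : Nontrivial ↥N := hs.toNontrivial
      haveI := hp3.center_nontrivial
      rcases hs.eq_bot_or_eq_top_of_normal (Subgroup.center ↥N) inferInstance with h | h
      · exact (Subgroup.nontrivial_iff_ne_bot _).1 inferInstance h
      · exact hna ⟨⟨fun a b => Subgroup.mem_center_iff.1 (h ▸ Subgroup.mem_top b) a⟩⟩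
  refine hmem y hy.1 (Subgroup.mem_centralizer_iff.2 fun x hx => ?_)
  have h1 : ⁅W, N⁆ ≤ W ⊓ N := Subgroup.commutator_le_inf W N
  rw [hdisj, le_bot_iff, Subgroup.commutator_eq_bot_iff_le_centralizer] at h1
  exact Subgroup.mem_centralizer_iff.1 (h1 hyW) x hx

end Cfsg.Agent.ThreeTransp.FarCore
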