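import Mathlib
import Cfsg.Prelude.Def_RootSubgroups

/-! Elementary theory of rank one pairs. -/

set_option autoImplicit false

namespace Cfsg.Agent.ThreeTransp.RankOne

open Cfsg

variable {G : Type*} [Group G]

theorem mem_conjBy {A : Subgroup G} {g x : G} : x ∈ conjBy A g ↔ g⁻¹ * x * g ∈ A := by
  rw [Subgroup.mem_map]
  constructor
  · rintro ⟨y, hy, rfl⟩; simpa [mul_assoc] using hy
  · intro h; exact ⟨_, h, by simp [mul_assoc]⟩

theorem conj_mem_conjBy {A : Subgroup G} {g x : G} (h : x ∈ A) :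
    g * x * g⁻¹ ∈ conjBy A g := mem_conjBy.2 (by simpa [mul_assoc] using h)

@[simp] theorem conjBy_one (A : Subgroup G) : conjBy A 1 = A := by
  ext x; rw [mem_conjBy]; simp

theorem conjBy_conjBy (A : Subgroup G) (g h : G) : conjBy (conjBy A h) g = conjBy A (g * h) := by
  ext x; simp only [mem_conjBy]; simp [mul_assoc]

theorem conjBy_inj {A B : Subgroup G} {g : G} : conjBy A g = conjBy B g ↔ A = B :=
  ⟨fun h => by simpa [conjBy_conjBy] using congrArg (conjBy · g⁻¹) h, fun h => h ▸ rfl⟩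

theorem eq_conjBy_inv {A B : Subgroup G} {g : G} (h : conjBy A g = B) : A = conjBy B g⁻¹ := by
  rw [← h, conjBy_conjBy, inv_mul_cancel, conjBy_one]

theorem conjBy_eq_iff {A : Subgroup G} {g : G} :
    conjBy A g = A ↔ g ∈ Subgroup.normalizer (A : Set G) := by
  rw [Subgroup.mem_normalizer_iff, SetLike.ext_iff]
  constructor
  · intro h x
    have := h (g * x * g⁻¹)
    rw [mem_conjBy] at this
    simpa [mul_assoc] using this
  · intro h x
    rw [mem_conjBy]
    have := h (g⁻¹ * x * g)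
    simpa [mul_assoc] using this

theorem mem_normalizer_of_centralizes {A : Subgroup G} {g : G} (h : ∀ x ∈ A, g * x = x * g) :
    g ∈ Subgroup.normalizer (A : Set G) := by
  rw [Subgroup.mem_normalizer_iff]
  intro x
  constructor
  · intro hx; rwa [h x hx, mul_inv_cancel_right]
  · intro hx
    have e : g * x * g⁻¹ = x := by
      have := h _ hx
      rw [inv_mul_cancel_right] at this
      exact mul_left_cancel this
    rwa [e] at hx

theorem conjBy_eq_self_of_mem {A : Subgroup G} {a : G} (ha : a ∈ A) : conjBy A a = A :=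
  conjBy_eq_iff.2 (Subgroup.le_normalizer ha)

theorem conjBy_le {A X : Subgroup G} {g : G} (hA : A ≤ X) (hg : g ∈ X) : conjBy A g ≤ X :=
  fun x hx => by
    have := X.mul_mem (X.mul_mem hg (hA (mem_conjBy.1 hx))) (X.inv_mem hg)
    simpa [mul_assoc] using this

theorem commutator_eq_bot_iff {A B : Subgroup G} :
    ⁅A, B⁆ = ⊥ ↔ ∀ a ∈ A, ∀ b ∈ B, a * b = b * a := by
  rw [Subgroup.commutator_eq_bot_iff_le_centralizer]
  exact ⟨fun h a ha b hb => (Subgroup.mem_centralizer_iff.1 (h ha) b hb).symm,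
    fun h a ha => Subgroup.mem_centralizer_iff.2 fun b hb => (h a ha b hb).symm⟩

section Pair

variable {A B : Subgroup G}

theorem inf_normalizer (h : IsRankOnePair A B) {a : G} (ha : a ∈ A)
    (hn : a ∈ Subgroup.normalizer (B : Set G)) : a = 1 := by
  by_contra h1
  obtain ⟨b, hb, -, e⟩ := h.cond_left a ha h1
  rw [conjBy_eq_iff.2 (Subgroup.inv_mem _ hn)] at e
  exact h.ne (by rw [eq_conjBy_inv e, inv_inv, conjBy_eq_self_of_mem hb])

theorem left_ne_bot (h : IsRankOnePair A B) : A ≠ ⊥ := by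
  intro hA
  subst hA
  have hB : B = ⊥ := (Subgroup.eq_bot_iff_forall B).2 fun b hb => by
    by_contra hb1
    obtain ⟨a, ha, ha1, -⟩ := h.cond_right b hb hb1
    exact ha1 (Subgroup.mem_bot.1 ha)
  exact h.ne hB.symm

theorem exists_ne_one (h : IsRankOnePair A B) : ∃ a ∈ A, a ≠ 1 :=
  (Subgroup.bot_or_exists_ne_one A).resolve_left (left_ne_bot h)

theorem unique_partner (h : IsRankOnePair A B) {a : G} (ha : a ∈ A) (ha1 : a ≠ 1) :
    ∃! b : G, b ∈ B ∧ b ≠ 1 ∧ conjBy A b⁻¹ = conjBy B a⁻¹ := by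
  obtain ⟨b, hb, hb1, e⟩ := h.cond_left a ha ha1
  refine ⟨b, ⟨hb, hb1, e⟩, ?_⟩
  rintro c ⟨hc, -, e'⟩
  have h2 : conjBy A (b * c⁻¹) = A := by
    rw [← conjBy_conjBy, e'.trans e.symm, conjBy_conjBy, mul_inv_cancel, conjBy_one]
  have h3 := inf_normalizer (RankOnePair_symm h) (B.mul_mem hb (B.inv_mem hc))
    (conjBy_eq_iff.1 h2)
  rwa [mul_inv_eq_one, eq_comm] at h3

theorem right_mem (h : IsRankOnePair A B) : B ∈ unipotentSubgroups A B := by
  obtain ⟨a, ha, ha1⟩ := exists_ne_one h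
  obtain ⟨b, hb, -, e⟩ := h.cond_left a ha ha1
  refine ⟨a * b⁻¹, Subgroup.mul_mem _ (Subgroup.mem_sup_left ha)
    (Subgroup.mem_sup_right (inv_mem hb)), ?_⟩
  rw [← conjBy_conjBy, e, conjBy_conjBy, mul_inv_cancel, conjBy_one]

theorem self_mem : A ∈ unipotentSubgroups A B := ⟨1, Subgroup.one_mem _, by simp⟩

theorem conj_mem {C : Subgroup G} (hC : C ∈ unipotentSubgroups A B) {x : G} (hx : x ∈ A ⊔ B) :
    conjBy C x ∈ unipotentSubgroups A B := by
  obtain ⟨y, hy, rfl⟩ := hC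
  exact ⟨x * y, Subgroup.mul_mem _ hx hy, conjBy_conjBy _ _ _⟩

theorem mem_le {C : Subgroup G} (hC : C ∈ unipotentSubgroups A B) : C ≤ A ⊔ B := by
  obtain ⟨y, hy, rfl⟩ := hC
  exact conjBy_le le_sup_left hy

/-- The unipotent subgroups are `A` and the conjugates of `B` under `A`. -/
theorem mem_iff (h : IsRankOnePair A B) {C : Subgroup G} :
    C ∈ unipotentSubgroups A B ↔ C = A ∨ ∃ a ∈ A, C = conjBy B a := by
  constructor
  · rintro ⟨x, hx, rfl⟩
    let P : Subgroup G → Prop := fun C => C = A ∨ ∃ a ∈ A, C = conjBy B a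
    have hPA : ∀ a ∈ A, ∀ C, P C → P (conjBy C a) := by
      rintro a ha C (rfl | ⟨a', ha', rfl⟩)
      · exact Or.inl (conjBy_eq_self_of_mem ha)
      · exact Or.inr ⟨a * a', A.mul_mem ha ha', conjBy_conjBy _ _ _⟩
    have hAb : ∀ b ∈ B, P (conjBy A b) := by
      intro b hb
      by_cases hb1 : b = 1
      · subst hb1; exact Or.inl (conjBy_one A)
      · obtain ⟨a, ha, -, e⟩ := h.cond_right b⁻¹ (B.inv_mem hb) (inv_ne_one.2 hb1)
        rw [inv_inv] at e
        exact Or.inr ⟨a⁻¹, A.inv_mem ha, e.symm⟩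
    have hPB : ∀ b ∈ B, ∀ C, P C → P (conjBy C b) := by
      rintro b hb C (rfl | ⟨a', ha', rfl⟩)
      · exact hAb b hb
      · by_cases ha1 : a' = 1
        · subst ha1
          exact Or.inr ⟨1, A.one_mem, by rw [conjBy_one, conjBy_eq_self_of_mem hb]⟩
        · obtain ⟨c, hc, -, e⟩ := h.cond_left a'⁻¹ (A.inv_mem ha') (inv_ne_one.2 ha1)
          rw [inv_inv] at e
          rw [← e, conjBy_conjBy]
          exact hAb _ (B.mul_mem hb (B.inv_mem hc))
    suffices ∀ C, P C → P (conjBy C x) from this A (Or.inl rfl)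
    rw [Subgroup.sup_eq_closure] at hx
    induction hx using Subgroup.closure_induction'' with
    | one => intro C hC; rwa [conjBy_one]
    | mem y hy => exact hy.elim (hPA y) (hPB y)
    | inv_mem y hy => exact hy.elim (fun hy => hPA _ (A.inv_mem hy)) (fun hy => hPB _ (B.inv_mem hy))
    | mul y z _ _ ihy ihz => intro C hC; rw [← conjBy_conjBy]; exact ihy _ (ihz C hC)
  · rintro (rfl | ⟨a, ha, rfl⟩)
    · exact self_mem
    · exact conj_mem (right_mem h) (Subgroup.mem_sup_left ha)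

/-- Two different unipotent subgroups can be moved to `A` and `B`. -/
theorem exists_move (h : IsRankOnePair A B) {C D : Subgroup G}
    (hC : C ∈ unipotentSubgroups A B) (hD : D ∈ unipotentSubgroups A B) (hne : C ≠ D) :
    ∃ x ∈ A ⊔ B, conjBy C x = A ∧ conjBy D x = B := by
  obtain ⟨y, hy, rfl⟩ := hC
  have hD' : conjBy D y⁻¹ ∈ unipotentSubgroups A B := conj_mem hD (Subgroup.inv_mem _ hy)
  have hne' : conjBy D y⁻¹ ≠ A := fun e =>
    hne (by rw [eq_conjBy_inv e, inv_inv])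
  obtain ⟨a, ha, e⟩ := ((mem_iff h).1 hD').resolve_left hne'
  refine ⟨a⁻¹ * y⁻¹, Subgroup.mul_mem _ (Subgroup.mem_sup_left (A.inv_mem ha))
    (Subgroup.inv_mem _ hy), ?_, ?_⟩
  · rw [conjBy_conjBy, inv_mul_cancel_right, conjBy_eq_self_of_mem (A.inv_mem ha)]
  · rw [← conjBy_conjBy, e, conjBy_conjBy, inv_mul_cancel, conjBy_one]

theorem not_commute (h : IsRankOnePair A B) : ⁅A, B⁆ ≠ ⊥ := by
  intro e
  obtain ⟨a, ha, ha1⟩ := exists_ne_one h
  exact ha1 (inf_normalizer h ha (mem_normalizer_of_centralizes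
    fun b hb => commutator_eq_bot_iff.1 e a ha b hb))

theorem not_commute_mem (h : IsRankOnePair A B) {C D : Subgroup G}
    (hC : C ∈ unipotentSubgroups A B) (hD : D ∈ unipotentSubgroups A B)
    (hc : ⁅C, D⁆ = ⊥) : C = D := by
  by_contra hne
  obtain ⟨x, -, h1, h2⟩ := exists_move h hC hD hne
  refine not_commute h (commutator_eq_bot_iff.2 fun a ha b hb => ?_)
  rw [← h1, mem_conjBy] at ha
  rw [← h2, mem_conjBy] at hb
  have := commutator_eq_bot_iff.1 hc _ ha _ hb
  have e := congrArg (fun g => x * g * x⁻¹) this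
  simpa [mul_assoc] using e

theorem eq_one_of_normalizes (h : IsRankOnePair A B) {C D : Subgroup G}
    (hC : C ∈ unipotentSubgroups A B) (hD : D ∈ unipotentSubgroups A B) (hne : C ≠ D) {c : G}
    (hc : c ∈ C) (hn : c ∈ Subgroup.normalizer (D : Set G)) : c = 1 := by
  obtain ⟨x, -, h1, h2⟩ := exists_move h hC hD hne
  have e := inf_normalizer h (a := x * c * x⁻¹) (by rw [← h1]; exact conj_mem_conjBy hc) ?_
  · exact conj_eq_one_iff.1 e
  · rw [← h2, ← conjBy_eq_iff, conjBy_conjBy, inv_mul_cancel_right, ← conjBy_conjBy,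
      conjBy_eq_iff.2 hn]

theorem sup_eq (h : IsRankOnePair A B) {C D : Subgroup G} (hC : C ∈ unipotentSubgroups A B)
    (hD : D ∈ unipotentSubgroups A B) (hne : C ≠ D) : C ⊔ D = A ⊔ B := by
  refine le_antisymm (sup_le (mem_le hC) (mem_le hD)) ?_
  obtain ⟨x, hx, h1, h2⟩ := exists_move h hC hD hne
  intro g hg
  have hg' : x * g * x⁻¹ ∈ A ⊔ B := Subgroup.mul_mem _ (Subgroup.mul_mem _ hx hg) (inv_mem hx)
  have hle : A ⊔ B ≤ conjBy (C ⊔ D) x := by
    refine sup_le (h1.ge.trans ?_) (h2.ge.trans ?_)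
    · exact Subgroup.map_mono le_sup_left
    · exact Subgroup.map_mono le_sup_right
  simpa [mul_assoc] using mem_conjBy.1 (hle hg')

end Pair

end Cfsg.Agent.ThreeTransp.RankOne
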