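import Mathlib
import Cfsg.Prelude.Def_RootSubgroups
import Cfsg.Agent.Lib.ThreeTransp.RankOne

/-! Elementary theory of sets of abstract root subgroups. -/

set_option autoImplicit false

namespace Cfsg.Agent.ThreeTransp.RootSets

open Cfsg
open Cfsg.Agent.ThreeTransp.RankOne

variable {G : Type*} [Group G] {S : Set (Subgroup G)}

theorem comm_self (hS : IsRootSubgroupSet S) {A : Subgroup G} (hA : A ∈ S) :
    ∀ a ∈ A, ∀ b ∈ A, a * b = b * a := fun a ha b hb => by
  haveI := hS.commutative A hA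
  exact congrArg Subtype.val (mul_comm' (⟨a, ha⟩ : ↥A) ⟨b, hb⟩)

/-- The commutator of a pair in the commutator case is central in the pair and differs from both. -/
theorem case_facts {E F : Subgroup G} (h : RootCommutatorCase S E F) (hne : ⁅E, F⁆ ≠ ⊥) :
    ⁅⁅E, F⁆, F⁆ = ⊥ ∧ ⁅E, F⁆ ≠ F ∧ ⁅E, F⁆ ≠ E := by
  refine ⟨commutator_eq_bot_iff.2 fun c hc f hf => h.2.1 c hc f (Subgroup.mem_sup_right hf),
    fun e => hne ?_, fun e => hne ?_⟩
  · refine commutator_eq_bot_iff.2 fun x hx f hf => ?_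
    exact (h.2.1 f (e.symm ▸ hf) x (Subgroup.mem_sup_left hx)).symm
  · refine commutator_eq_bot_iff.2 fun x hx f hf => ?_
    exact h.2.1 x (e.symm ▸ hx) f (Subgroup.mem_sup_right hf)

/-- In the commutator case conjugates of `F` under `E` centralize `F`. -/
theorem case_conj_commute (hS : IsRootSubgroupSet S) {E F : Subgroup G} (hF : F ∈ S)
    (h : RootCommutatorCase S E F) {e : G} (he : e ∈ E) : ⁅conjBy F e, F⁆ = ⊥ := by
  refine commutator_eq_bot_iff.2 fun x hx f hf => ?_
  have hy := mem_conjBy.1 hx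
  have hz : x * (e⁻¹ * x * e)⁻¹ ∈ ⁅E, F⁆ := by
    have := Subgroup.commutator_mem_commutator he hy
    rw [commutatorElement_def] at this
    simpa [mul_assoc] using this
  have h1 := h.2.1 _ hz f (Subgroup.mem_sup_right hf)
  have h2 := comm_self hS hF _ hy f hf
  calc x * f = x * (e⁻¹ * x * e)⁻¹ * ((e⁻¹ * x * e) * f) := by simp [mul_assoc]
    _ = x * (e⁻¹ * x * e)⁻¹ * f * (e⁻¹ * x * e) := by rw [h2]; simp [mul_assoc]
    _ = f * x := by rw [h1]; simp [mul_assoc]

/-- A member inside a rank one subgroup is one of its unipotent subgroups or centralizes it. -/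
theorem member_in_pair (hS : IsRootSubgroupSet S) {C D : Subgroup G} (hC : C ∈ S)
    (hp : IsRankOnePair C D) {E : Subgroup G} (hE : E ∈ S) (hEle : E ≤ C ⊔ D) :
    E ∈ unipotentSubgroups C D ∨ ∀ F ∈ unipotentSubgroups C D, ⁅E, F⁆ = ⊥ := by
  have hmemS : ∀ F ∈ unipotentSubgroups C D, F ∈ S := by
    rintro F ⟨x, -, rfl⟩; exact hS.conj_mem C hC x
  -- a member forming a rank one pair with a unipotent subgroup is one of them
  have rank : ∀ T ∈ S, T ≤ C ⊔ D → ∀ F ∈ unipotentSubgroups C D, IsRankOnePair T F →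
      T ∈ unipotentSubgroups C D := by
    intro T _ hTle F hF hTF
    obtain ⟨t, ht, ht1⟩ := exists_ne_one hTF
    obtain ⟨f, hf, -, e⟩ := hTF.cond_left t ht ht1
    rw [eq_conjBy_inv e, inv_inv, conjBy_conjBy]
    exact conj_mem hF (Subgroup.mul_mem _ (mem_le hF hf) (inv_mem (hTle ht)))
  by_contra hcon
  push Not at hcon
  obtain ⟨hEn, F, hF, hEF⟩ := hcon
  have caseNorm : ∀ T ∈ S, T ≤ C ⊔ D → ∀ F ∈ unipotentSubgroups C D,
      RootCommutatorCase S T F → ∀ t ∈ T, t ∈ Subgroup.normalizer (F : Set G) := by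
    intro T _ hTle F hF hc t ht
    rw [← conjBy_eq_iff]
    exact not_commute_mem hp (conj_mem hF (hTle ht)) hF (case_conj_commute hS (hmemS F hF) hc ht)
  rcases hS.pair E hE F (hmemS F hF) with h | h | h
  · exact hEF h
  · exact hEn (rank E hE hEle F hF h)
  obtain ⟨hTc, hTF, -⟩ := case_facts h hEF
  have hTle : ⁅E, F⁆ ≤ F := by
    rw [Subgroup.commutator_le]
    intro e he f hf
    rw [commutatorElement_def]
    exact F.mul_mem ((Subgroup.mem_normalizer_iff.1 (caseNorm E hE hEle F hF h e he) f).1 hf)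
      (F.inv_mem hf)
  set T := ⁅E, F⁆ with hT
  have hTS : T ∈ S := h.1
  obtain ⟨F', hF', hne⟩ : ∃ F' ∈ unipotentSubgroups C D, F' ≠ F := by
    by_cases hCF : C = F
    · exact ⟨D, right_mem hp, hCF ▸ hp.ne.symm⟩
    · exact ⟨C, self_mem, hCF⟩
  obtain ⟨t, ht, ht1⟩ : ∃ t ∈ T, t ≠ 1 :=
    (Subgroup.bot_or_exists_ne_one T).resolve_left (hS.ne_bot T hTS)
  rcases hS.pair T hTS F' (hmemS F' hF') with h' | h' | h'
  · exact ht1 (eq_one_of_normalizes hp hF hF' hne.symm (hTle ht)
      (mem_normalizer_of_centralizes fun f hf => commutator_eq_bot_iff.1 h' t ht f hf))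
  · exact hTF (not_commute_mem hp (rank T hTS (hTle.trans (mem_le hF)) F' hF' h') hF hTc)
  · exact ht1 (eq_one_of_normalizes hp hF hF' hne.symm (hTle ht)
      (caseNorm T hTS (hTle.trans (mem_le hF)) F' hF' h' t ht))

/-- A product of a non-identity element of `A` with a non-trivial element centralizing a rank one
pair `(A, B)` is not a root element. -/
theorem mul_notMem_rootElements (hS : IsRootSubgroupSet S) {A B : Subgroup G} (hA : A ∈ S)
    (hB : B ∈ rankOnePartners S A) {z : G}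
    (hz : z ∈ Subgroup.centralizer ((A ⊔ B : Subgroup G) : Set G)) (hz1 : z ≠ 1) {a : G}
    (ha : a ∈ A) (ha1 : a ≠ 1) : z * a ∉ rootElements S := by
  rintro ⟨-, E, hE, hzaE⟩
  obtain ⟨hBS, hp⟩ := hB
  have hzc : ∀ x ∈ A ⊔ B, x * z = z * x := fun x hx => Subgroup.mem_centralizer_iff.1 hz x hx
  have hnz : ∀ F : Subgroup G, F ≤ A ⊔ B → conjBy F z⁻¹ = F := fun F hF => by
    rw [conjBy_eq_iff]
    exact Subgroup.inv_mem _ (mem_normalizer_of_centralizes fun x hx => (hzc x (hF hx)).symm)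
  have hconj : conjBy B (z * a)⁻¹ = conjBy B a⁻¹ := by
    rw [mul_inv_rev, ← conjBy_conjBy, hnz B le_sup_right]
  have hnotc : conjBy B a⁻¹ ≠ B := fun e => ha1 <| inv_eq_one.1 <|
    inf_normalizer hp (A.inv_mem ha) (conjBy_eq_iff.1 e)
  have hBin : conjBy B a⁻¹ ∈ unipotentSubgroups A B :=
    conj_mem (right_mem hp) (Subgroup.mem_sup_left (A.inv_mem ha))
  rcases hS.pair E hE B hBS with h | h | h
  · apply hnotc
    rw [← hconj, conjBy_eq_iff]
    exact mem_normalizer_of_centralizes fun x hx =>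
      commutator_eq_bot_iff.1 h _ (E.inv_mem hzaE) x hx
  · by_cases hza1 : z * a = 1
    · apply hnotc; rw [← hconj, hza1]; simp
    obtain ⟨b', hb', -, e⟩ := h.cond_left _ hzaE hza1
    rw [hconj] at e
    have hEΩ : E ∈ unipotentSubgroups A B := by
      rw [eq_conjBy_inv e, inv_inv]
      exact conj_mem hBin (Subgroup.mem_sup_right hb')
    have hza : z * a ∈ Subgroup.normalizer (A : Set G) :=
      mem_normalizer_of_centralizes fun x hx => by
        rw [mul_assoc, comm_self hS hA a ha x hx, ← mul_assoc,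
          ← hzc x (Subgroup.mem_sup_left hx), mul_assoc]
    have hEA : E = A := by
      by_contra hne
      exact hza1 (eq_one_of_normalizes hp hEΩ self_mem hne hzaE hza)
    rw [hEA] at hzaE
    have hzA : z ∈ A := by simpa using A.mul_mem hzaE (A.inv_mem ha)
    exact hz1 (inf_normalizer hp hzA (mem_normalizer_of_centralizes fun x hx =>
      (hzc x (Subgroup.mem_sup_right hx)).symm))
  · exact hnotc (not_commute_mem hp hBin (right_mem hp)
      (hconj ▸ case_conj_commute hS hBS h (E.inv_mem hzaE)))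

theorem exists_partner (hS : IsRootSubgroupSet S) {A : Subgroup G}
    (hA : ¬ IsIsolatedIn (FAdj S) S A) (hAS : A ∈ S) : ∃ B, B ∈ rankOnePartners S A := by
  simp only [IsIsolatedIn, not_and, not_forall, not_not] at hA
  obtain ⟨B, hB⟩ := hA hAS
  by_cases h : FAdj S A B
  · exact ⟨B, h.2.1, h.2.2⟩
  · obtain ⟨hBS, -, hp⟩ := hB h
    exact ⟨B, hBS, RankOnePair_symm hp⟩

end Cfsg.Agent.ThreeTransp.RootSets
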