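import Cfsg.Agent.Lib.ThreeTransp.Cover

/-!
The covering argument for a system of subgroups of the centralisers that have index at most two:
every element of the group gets a parity. The common neighbours of a non-commuting pair need not
be connected.
-/

set_option autoImplicit false
set_option linter.unusedSectionVars false

namespace Cfsg.Agent.ThreeTransp.CoverTwo

open Cfsg.Agent.ThreeTransp
open Cfsg.Agent.ThreeTransp.RankThree (loc mem_loc loc_commute)
open Cfsg.Agent.ThreeTransp.Factor (nb)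
open Cfsg.Agent.ThreeTransp.Cover (mem_nb_symm)

variable {G : Type*} [Group G] {D : Set G}

/-- A system of subgroups of the centralisers. -/
structure Sys (D : Set G) (M : G → Subgroup G) : Prop where
  le : ∀ a ∈ D, ∀ k ∈ M a, Commute a k
  conj : ∀ g : G, ∀ a ∈ D, ∀ k ∈ M a, g * k * g⁻¹ ∈ M (g * a * g⁻¹)
  key : ∀ w ∈ D, ∀ a ∈ nb D w, ∀ h ∈ M w, Commute h a → h ∈ M a
  pair : ∀ v ∈ D, ∀ x ∈ D, ∀ y ∈ D, Commute v x → Commute v y → x * y ∈ M v
  lift : ∀ w ∈ D, ∀ a ∈ nb D w, ∀ b ∈ nb D w, ∃ k ∈ M w, k * a * k⁻¹ = b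

/-- The combinatorial hypotheses on the commuting graph. -/
structure Hyp (D : Set G) : Prop where
  two : ∀ a ∈ D, ∀ b ∈ nb D a, ∃ w, w ∈ nb D a ∩ nb D b
  three : ∀ a ∈ D, ∀ b ∈ nb D a, ∀ c ∈ nb D a ∩ nb D b, ∃ w, w ∈ nb D a ∩ nb D b ∩ nb D c
  mid : ∀ a ∈ D, ∀ b ∈ nb D a, ∀ w ∈ nb D a ∩ nb D b, ∀ w' ∈ nb D a ∩ nb D b, w ≠ w' →
    Commute w w' → ∃ e, e ∈ nb D w ∩ nb D w' ∧ ¬ Commute e a ∧ ¬ Commute e b
  join : ∀ a ∈ D, ∀ b ∈ nb D a, ∀ w ∈ nb D a ∩ nb D b, ∀ w' ∈ nb D a ∩ nb D b,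
    ¬ Commute w w' → ∃ z, z ∈ nb D a ∩ nb D b ∩ nb D w ∩ nb D w'
  five : ∀ a ∈ D, ∀ y ∈ D, ∀ z ∈ D, ¬ Commute a y → ¬ Commute a z → z ≠ y → Commute y z →
    ∃ x, x ∈ nb D a ∩ nb D y ∩ nb D z

section

variable [Finite G] (hD : Cfsg.IsThreeTranspositionGroup D)
  (hprim : Cfsg.IsPrimitiveUnderConj D) (hw : ∃ a ∈ D, ∃ b ∈ D, a ≠ b ∧ Commute a b)
  {M : G → Subgroup G} (sys : Sys D M) (hyp : Hyp D)
include hD hprim hw sys hyp

theorem unique_same {a b w k k' : G} (ha : a ∈ D) (hwm : w ∈ nb D a ∩ nb D b)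
    (hk : k ∈ M w) (hk' : k' ∈ M w) (e : k * a * k⁻¹ = b) (e' : k' * a * k'⁻¹ = b) :
    k⁻¹ * k' ∈ M a := by
  refine sys.key w hwm.1.1 a (mem_nb_symm ha hwm.1) _ (mul_mem (inv_mem hk) hk') ?_
  refine mul_inv_eq_iff_eq_mul.1 ?_
  rw [show k⁻¹ * k' * a * (k⁻¹ * k')⁻¹ = k⁻¹ * (k' * a * k'⁻¹) * k by group, e', ← e]
  group

theorem unique_any {a b : G} (ha : a ∈ D) (hb : b ∈ nb D a) {w w' k k' : G}
    (hwm : w ∈ nb D a ∩ nb D b) (hwm' : w' ∈ nb D a ∩ nb D b) (hk : k ∈ M w)
    (hk' : k' ∈ M w') (e : k * a * k⁻¹ = b) (e' : k' * a * k'⁻¹ = b) :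
    k⁻¹ * k' ∈ M a := by
  have comm : ∀ w ∈ nb D a ∩ nb D b, ∀ w' ∈ nb D a ∩ nb D b, Commute w w' → ∀ k ∈ M w,
      ∀ k' ∈ M w', k * a * k⁻¹ = b → k' * a * k'⁻¹ = b → k⁻¹ * k' ∈ M a := by
    intro w hwm w' hwm' hc k hk k' hk' e e'
    by_cases hne : w = w'
    · subst hne
      exact unique_same hD hprim hw sys hyp ha hwm hk hk' e e'
    obtain ⟨t, ⟨ht, ht'⟩, hta, htb⟩ := hyp.mid a ha b hb w hwm w' hwm' hne hc
    have hts := Classes.sq hD ht.1
    have has := Classes.sq hD ha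
    have hbs := Classes.sq hD hb.1
    have A := Basic.braid hD.1 ht.1 ha hta
    have B := Basic.braid hD.1 ht.1 hb.1 htb
    have hab := hb.2.2
    set s := t * (a * b) * t with hs
    have hsw : ∀ v ∈ D, Commute v a → Commute v b → Commute v t → s ∈ M v :=
      fun v hv hva hvb hvt => by
        rw [hs, show t * (a * b) * t = (t * a) * (b * t) by simp [mul_assoc]]
        exact mul_mem (sys.pair v hv t ht.1 a ha hvt hva) (sys.pair v hv b hb.1 t ht.1 hvb hvt)
    have hsa : s * a * s⁻¹ = b := by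
      have hinv : s⁻¹ = s := by
        rw [inv_eq_iff_mul_eq_one, hs]
        calc t * (a * b) * t * (t * (a * b) * t)
            = t * a * b * (t * t) * (a * b) * t := by simp [mul_assoc]
          _ = t * (a * (b * a) * b) * t := by rw [hts, mul_one]; simp [mul_assoc]
          _ = 1 := by rw [← hab.eq, ← mul_assoc a a b, has, one_mul, hbs, mul_one, hts]
      rw [hinv, hs]
      calc t * (a * b) * t * a * (t * (a * b) * t)
          = t * b * a * (t * a * t) * (a * b) * t := by rw [hab.eq]; simp [mul_assoc]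
        _ = t * b * (a * a) * t * (a * a) * b * t := by rw [A]; simp [mul_assoc]
        _ = t * (b * t * b) * t := by rw [has, mul_one, mul_one]; simp [mul_assoc]
        _ = (t * t) * b * (t * t) := by rw [← B]; simp [mul_assoc]
        _ = b := by rw [hts, one_mul, mul_one]
    have h1 := unique_same hD hprim hw sys hyp ha hwm hk
      (hsw w hwm.1.1 hwm.1.2.2.symm hwm.2.2.2.symm ht.2.2) e hsa
    have h2 := unique_same hD hprim hw sys hyp ha hwm'
      (hsw w' hwm'.1.1 hwm'.1.2.2.symm hwm'.2.2.2.symm ht'.2.2) hk' hsa e'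
    have := mul_mem h1 h2
    rwa [show k⁻¹ * s * (s⁻¹ * k') = k⁻¹ * k' by group] at this
  by_cases hc : Commute w w'
  · exact comm w hwm w' hwm' hc k hk k' hk' e e'
  obtain ⟨z, ⟨hz, hzw⟩, hzw'⟩ := hyp.join a ha b hb w hwm w' hwm' hc
  obtain ⟨m, hm, hme⟩ := sys.lift z hz.1.1 a (mem_nb_symm ha hz.1) b (mem_nb_symm hb.1 hz.2)
  have h1 := comm w hwm z hz hzw.2.2 k hk m hm e hme
  have h2 := comm z hz w' hwm' hzw'.2.2.symm m hm k' hk' hme e'
  have := mul_mem h1 h2
  rwa [show k⁻¹ * m * (m⁻¹ * k') = k⁻¹ * k' by group] at this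

variable {d : G}

/-- Adjacency of two frames over adjacent members. -/
def Adj (D : Set G) (M : G → Subgroup G) (d g h : G) : Prop :=
  h * d * h⁻¹ ∈ nb D (g * d * g⁻¹) ∧
    ∃ w, w ∈ nb D (g * d * g⁻¹) ∩ nb D (h * d * h⁻¹) ∧ ∃ k ∈ M w, h⁻¹ * k * g ∈ M d

omit hyp hprim hw in
theorem act_eq (hd : d ∈ D) {g h : G} (hl : g⁻¹ * h ∈ M d) : h * d * h⁻¹ = g * d * g⁻¹ := by
  have e : h = g * (g⁻¹ * h) := by group
  rw [e, show g * (g⁻¹ * h) * d * (g * (g⁻¹ * h))⁻¹ =
    g * ((g⁻¹ * h) * d * (g⁻¹ * h)⁻¹) * g⁻¹ by group,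
    RankThree.conj_self_of_commute (sys.le d hd _ hl)]

omit hyp hprim hw in
theorem Adj.left (c : G) {g h : G} (ha : Adj D M d g h) : Adj D M d (c * g) (c * h) := by
  obtain ⟨hn, w, hwm, k, hk, hl⟩ := ha
  have e : ∀ x : G, c * x * d * (c * x)⁻¹ = c * (x * d * x⁻¹) * c⁻¹ := fun x => by group
  refine ⟨?_, c * w * c⁻¹, ?_, c * k * c⁻¹, sys.conj c w hwm.1.1 k hk, ?_⟩
  · rw [e, e]; exact Cover.conj_nb hD c hn
  · rw [e, e]; exact ⟨Cover.conj_nb hD c hwm.1, Cover.conj_nb hD c hwm.2⟩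
  · rwa [show (c * h)⁻¹ * (c * k * c⁻¹) * (c * g) = h⁻¹ * k * g by group]

omit hyp hprim hw in
theorem conj_M (hd : d ∈ D) {r x : G} (hr : Commute d r) (hx : x ∈ M d) :
    r⁻¹ * x * r ∈ M d := by
  have h := sys.conj r⁻¹ d hd x hx
  rwa [RankThree.conj_self_of_commute hr.inv_right, inv_inv] at h

omit hyp hprim hw in
/-- Both frames may be changed by the same element centralising the base member. -/
theorem Adj.twist (hd : d ∈ D) {g h r : G} (hr : Commute d r) (ha : Adj D M d g h) :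
    Adj D M d (g * r) (h * r) := by
  obtain ⟨hn, w, hwm, k, hk, hl⟩ := ha
  have e : ∀ x : G, x * r * d * (x * r)⁻¹ = x * d * x⁻¹ := fun x => by
    rw [show x * r * d * (x * r)⁻¹ = x * (r * d * r⁻¹) * x⁻¹ by group,
      RankThree.conj_self_of_commute hr]
  refine ⟨?_, w, ?_, k, hk, ?_⟩
  · rw [e, e]; exact hn
  · rw [e, e]; exact hwm
  · rw [show (h * r)⁻¹ * k * (g * r) = r⁻¹ * (h⁻¹ * k * g) * r by group]
    exact conj_M hD sys hd hr hl

omit hyp hprim hw in
theorem Adj.right (hd : d ∈ D) {g g' h h' : G} (ha : Adj D M d g h) (hg : g⁻¹ * g' ∈ M d)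
    (hh : h⁻¹ * h' ∈ M d) : Adj D M d g' h' := by
  obtain ⟨hn, w, hwm, k, hk, hl⟩ := ha
  refine ⟨?_, w, ?_, k, hk, ?_⟩
  · rw [act_eq hD sys hd hg, act_eq hD sys hd hh]; exact hn
  · rw [act_eq hD sys hd hg, act_eq hD sys hd hh]; exact hwm
  · rw [show h'⁻¹ * k * g' = (h⁻¹ * h')⁻¹ * (h⁻¹ * k * g) * (g⁻¹ * g') by group]
    exact mul_mem (mul_mem (inv_mem hh) hl) hg

omit hyp hprim hw in
theorem Adj.act_k (hd : d ∈ D) {g h k : G} (hl : h⁻¹ * k * g ∈ M d) :
    k * (g * d * g⁻¹) * k⁻¹ = h * d * h⁻¹ := by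
  have := act_eq hD sys hd (g := h) (h := k * g) (by rwa [← mul_assoc])
  rw [← this]; group

omit hyp hprim hw in
theorem Adj.symm (hd : d ∈ D) {g h : G} (ha : Adj D M d g h) : Adj D M d h g := by
  obtain ⟨hn, w, hwm, k, hk, hl⟩ := ha
  refine ⟨mem_nb_symm (hD.2.1 g d hd) hn, w, ⟨hwm.2, hwm.1⟩, k⁻¹, inv_mem hk, ?_⟩
  rw [show g⁻¹ * k⁻¹ * h = (h⁻¹ * k * g)⁻¹ by group]
  exact inv_mem hl

/-- Lifts of a neighbour are unique. -/
theorem Adj.unique (hd : d ∈ D) {g h h' : G} (ha : Adj D M d g h) (ha' : Adj D M d g h')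
    (he : h * d * h⁻¹ = h' * d * h'⁻¹) : h⁻¹ * h' ∈ M d := by
  obtain ⟨hn, w, hwm, k, hk, hl⟩ := ha
  obtain ⟨-, w', hwm', k', hk', hl'⟩ := ha'
  rw [← he] at hwm'
  have h1 := unique_any hD hprim hw sys hyp (hD.2.1 g d hd) hn hwm hwm' hk hk'
    (Adj.act_k hD sys hd hl) ((Adj.act_k hD sys hd hl').trans he.symm)
  have h2 := sys.conj g⁻¹ _ (hD.2.1 g d hd) _ h1
  rw [show g⁻¹ * (g * d * g⁻¹) * g⁻¹⁻¹ = d by group] at h2
  have := mul_mem (mul_mem hl h2) (inv_mem hl')
  rwa [show h⁻¹ * k * g * (g⁻¹ * (k⁻¹ * k') * g⁻¹⁻¹) * (h'⁻¹ * k' * g)⁻¹ = h⁻¹ * h' by group]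
    at this

omit hyp hprim hw in
/-- Lifts exist, through any common neighbour. -/
theorem exists_lift {g w z : G} (hd : d ∈ D) (hz : z ∈ nb D (g * d * g⁻¹))
    (hwm : w ∈ nb D (g * d * g⁻¹) ∩ nb D z) :
    ∃ k ∈ M w, k * (g * d * g⁻¹) * k⁻¹ = z ∧ Adj D M d g (k * g) := by
  obtain ⟨k, hk, hke⟩ := sys.lift w hwm.1.1 _ (mem_nb_symm (hD.2.1 g d hd) hwm.1) z
    (mem_nb_symm hz.1 hwm.2)
  have e : k * g * d * (k * g)⁻¹ = z := by rw [← hke]; group
  refine ⟨k, hk, hke, ?_, w, ?_, k, hk, ?_⟩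
  · rw [e]; exact hz
  · rw [e]; exact hwm
  · rw [show (k * g)⁻¹ * k * g = 1 by group]; exact one_mem _

/-- Triangles close. -/
theorem Adj.triangle (hd : d ∈ D) {g h j : G} (ha : Adj D M d g h) (hb : Adj D M d h j)
    (hc : j * d * j⁻¹ ∈ nb D (g * d * g⁻¹)) : Adj D M d g j := by
  have hn := ha.1
  obtain ⟨w, ⟨hwg, hwh⟩, hwj⟩ :=
    hyp.three _ (hD.2.1 g d hd) _ hn _ ⟨hc, hb.1⟩
  obtain ⟨k, hk, hke, hk1⟩ := exists_lift hD sys hd hn ⟨hwg, hwh⟩
  have h1 : (k * g)⁻¹ * h ∈ M d := Adj.unique hD hprim hw sys hyp hd hk1 ha (by rw [← hke]; group)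
  obtain ⟨m, hm, hme, hm1⟩ := exists_lift hD sys hd hb.1 ⟨hwh, hwj⟩
  have hb' : Adj D M d (k * g) j :=
    Adj.right hD sys hd hb (by
      rw [show h⁻¹ * (k * g) = ((k * g)⁻¹ * h)⁻¹ by group]
      exact inv_mem h1) (by rw [inv_mul_cancel]; exact one_mem _)
  have hkd : k * g * d * (k * g)⁻¹ = h * d * h⁻¹ := by rw [← hke]; group
  obtain ⟨m', hm', hme', hm2⟩ := exists_lift hD sys hd
    (g := k * g) (z := j * d * j⁻¹) (by rw [hkd]; exact hb.1) (w := w)
    (by rw [hkd]; exact ⟨hwh, hwj⟩)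
  have h2 : (m' * (k * g))⁻¹ * j ∈ M d :=
    Adj.unique hD hprim hw sys hyp hd hm2 hb' (by rw [← hme']; group)
  refine ⟨hc, w, ⟨hwg, hwj⟩, m' * k, mul_mem hm' hk, ?_⟩
  rw [show j⁻¹ * (m' * k) * g = ((m' * (k * g))⁻¹ * j)⁻¹ by group]
  exact inv_mem h2

/-- A parity for every element of the group: the residue at any member is in the subgroup, or in
its translate by the base member. -/
theorem exists_parity (hd : d ∈ D) :
    ∃ Pev : G → Prop, ∃ Pod : G → Prop,
      (∀ g, Pev g ∨ Pod g) ∧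
      (∀ g h, Pev g → Pev h → Pev (g * h)) ∧ (∀ g h, Pev g → Pod h → Pod (g * h)) ∧
      (∀ g h, Pod g → Pev h → Pod (g * h)) ∧ (∀ g h, Pod g → Pod h → Pev (g * h)) ∧
      (∀ g, Commute d g → Pev g → g ∈ M d) ∧ (∀ g, Commute d g → Pod g → g * d ∈ M d) ∧
      Pev 1 ∧ ∀ e ∈ D, Pod e := by
  classical
  have one1 : ∀ g : G, g⁻¹ * g ∈ M d := fun g => by rw [inv_mul_cancel]; exact one_mem _
  have dd : d * d = 1 := Classes.sq hD hd
  -- frames at the neighbours of `d`
  have hlift : ∀ g : G, ∀ z ∈ nb D (g * d * g⁻¹), ∃ h, h * d * h⁻¹ = z ∧ Adj D M d g h := by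
    intro g z hz
    obtain ⟨w, hwm⟩ := hyp.two _ (hD.2.1 g d hd) z hz
    obtain ⟨k, -, hke, hk⟩ := exists_lift hD sys hd hz hwm
    exact ⟨k * g, by rw [← hke]; group, hk⟩
  have h1d : (1 : G) * d * (1 : G)⁻¹ = d := by group
  have hnear : ∀ y : G, ∃ h, y ∈ nb D d → h * d * h⁻¹ = y ∧ Adj D M d 1 h := by
    intro y
    by_cases hy : y ∈ nb D d
    · obtain ⟨h, h1, h2⟩ := hlift 1 y (by rwa [h1d])
      exact ⟨h, fun _ => ⟨h1, h2⟩⟩
    · exact ⟨1, fun h => absurd h hy⟩
  choose t ht using hnear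
  have hfar : ∀ y : G, ∃ h, y ∈ D → ¬ Commute d y →
      h * d * h⁻¹ = y ∧ ∀ x ∈ nb D d ∩ nb D y, Adj D M d (t x) h := by
    intro y
    by_cases hy : y ∈ D ∧ ¬ Commute d y
    · obtain ⟨hy, hdy⟩ := hy
      obtain ⟨x, hx, hdx, hxy⟩ := RankThree.exists_common hD hprim hw hd hy hdy
      have hxd : x ≠ d := fun e => hdy (e ▸ hxy)
      have hxy' : x ≠ y := fun e => hdy (e ▸ hdx)
      have hxS : x ∈ nb D d ∩ nb D y := ⟨⟨hx, hxd, hdx⟩, hx, hxy', hxy.symm⟩
      obtain ⟨htx, htx'⟩ := ht x hxS.1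
      obtain ⟨h, hh, hh'⟩ := hlift (t x) y (by rw [htx]; exact ⟨hy, Ne.symm hxy', hxy⟩)
      refine ⟨h, fun _ _ => ⟨hh, ?_⟩⟩
      -- the set of good common neighbours is closed under commuting and under conjugation
      have hcl : ∀ p ∈ nb D d ∩ nb D y, ∀ q ∈ nb D d ∩ nb D y, Commute p q →
          Adj D M d (t p) h → Adj D M d (t q) h := by
        intro p hp q hq hpq hph
        by_cases epq : p = q
        · subst epq; exact hph
        obtain ⟨htp, htp'⟩ := ht p hp.1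
        obtain ⟨htq, htq'⟩ := ht q hq.1
        have h1 : Adj D M d (t q) (t p) :=
          Adj.triangle hD hprim hw sys hyp hd (Adj.symm hD sys hd htq') htp'
            (by rw [htp, htq]; exact ⟨hp.1.1, epq, hpq.symm⟩)
        exact Adj.triangle hD hprim hw sys hyp hd h1 hph
          (by rw [hh, htq]; exact ⟨hy, hq.2.2.1.symm, hq.2.2.2.symm⟩)
      have hconj : ∀ z ∈ nb D d ∩ nb D y, ∀ p ∈ nb D d ∩ nb D y,
          z * p * z⁻¹ ∈ nb D d ∩ nb D y ∧ (Adj D M d (t p) h → Adj D M d (t (z * p * z⁻¹)) h) := by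
        intro z hz p hp
        have hzd : z * d * z⁻¹ = d := RankThree.conj_self_of_commute hz.1.2.2
        have hzy : z * y * z⁻¹ = y := RankThree.conj_self_of_commute hz.2.2.2
        have h1 := Cover.conj_nb hD z hp.1
        have h2 := Cover.conj_nb hD z hp.2
        rw [hzd] at h1
        rw [hzy] at h2
        refine ⟨⟨h1, h2⟩, fun hph => ?_⟩
        obtain ⟨htp, htp'⟩ := ht p hp.1
        obtain ⟨htq, htq'⟩ := ht _ h1
        have hcz : Commute d z⁻¹ := hz.1.2.2.inv_right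
        -- the moved frame over the moved neighbour
        have hA : Adj D M d 1 (z * t p * z⁻¹) := by
          have := Adj.twist hD sys hd hcz (Adj.left hD sys z htp')
          rwa [mul_one, mul_inv_cancel] at this
        have hact : ∀ u v : G, u * d * u⁻¹ = v → z * u * z⁻¹ * d * (z * u * z⁻¹)⁻¹ = z * v * z⁻¹ := by
          intro u v huv
          rw [show z * u * z⁻¹ * d * (z * u * z⁻¹)⁻¹ = z * (u * (z⁻¹ * d * z⁻¹⁻¹) * u⁻¹) * z⁻¹ by
            group, RankThree.conj_self_of_commute hcz, huv]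
        have e1 : (z * t p * z⁻¹)⁻¹ * t (z * p * z⁻¹) ∈ M d :=
          Adj.unique hD hprim hw sys hyp hd hA htq' (by rw [hact _ _ htp, htq])
        have hB : Adj D M d (z * t p * z⁻¹) (z * h * z⁻¹) :=
          Adj.twist hD sys hd hcz (Adj.left hD sys z hph)
        refine Adj.right hD sys hd hB e1 ?_
        -- the frame at `y` moves by a product of two members
        have hm : h⁻¹ * z * h⁻¹⁻¹ ∈ D := hD.2.1 h⁻¹ z hz.1.1
        have hcm : Commute d (h⁻¹ * z * h⁻¹⁻¹) := by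
          have := (Basic.commute_conj (g := h⁻¹)).2 (show Commute y z from hz.2.2.2)
          rwa [← hh, show h⁻¹ * (h * d * h⁻¹) * h⁻¹⁻¹ = d by group] at this
        have := sys.pair d hd z hz.1.1 _ hm hz.1.2.2 hcm
        rw [show (z * h * z⁻¹)⁻¹ * h = z * (h⁻¹ * z⁻¹ * h) by group, Classes.inv hD hz.1.1]
        rwa [inv_inv] at this
      intro q hq
      by_cases hxq : Commute x q
      · exact hcl x hxS q hq hxq hh'
      obtain ⟨hmem, himp⟩ := hconj q hq x hxS
      obtain ⟨-, himp'⟩ := hconj x hxS _ hmem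
      have e : x * (q * x * q⁻¹) * x⁻¹ = q := by
        rw [Classes.inv hD hq.1.1, Classes.inv hD hx,
          show q * x * q = x * q * x from (Basic.braid hD.1 hx hq.1.1 hxq).symm,
          show x * (x * q * x) * x = (x * x) * q * (x * x) by simp [mul_assoc],
          Classes.sq hD hx, one_mul, mul_one]
      rw [e] at himp'
      exact himp' (himp hh')
    · exact ⟨1, fun h h' => absurd ⟨h, h'⟩ hy⟩
  choose f hf using hfar
  set s : G → G := fun y => if y = d then 1 else if Commute d y then t y else f y with hs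
  have sd : s d = 1 := by simp [hs]
  have sn : ∀ y ∈ nb D d, s y = t y := fun y hy => by simp [hs, hy.2.1, hy.2.2]
  have sf : ∀ y, ¬ Commute d y → s y = f y := fun y hy => by
    have : y ≠ d := fun e => hy (e ▸ Commute.refl d)
    simp [hs, this, hy]
  have sact : ∀ y ∈ D, s y * d * (s y)⁻¹ = y := by
    intro y hy
    by_cases e : y = d
    · subst e; rw [sd]; exact h1d
    by_cases hc : Commute d y
    · rw [sn y ⟨hy, e, hc⟩]; exact (ht y ⟨hy, e, hc⟩).1
    · rw [sf y hc]; exact (hf y hy hc).1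
  -- the frames are consistent
  have hsec : ∀ y ∈ D, ∀ z ∈ nb D y, Adj D M d (s y) (s z) := by
    have hA : ∀ z ∈ nb D d, Adj D M d (s d) (s z) := fun z hz => by
      rw [sd, sn z hz]; exact (ht z hz).2
    have hB : ∀ x ∈ nb D d, ∀ z ∈ D, ¬ Commute d z → z ∈ nb D x → Adj D M d (s x) (s z) :=
      fun x hx z hz hdz hzx => by
        rw [sn x hx, sf z hdz]
        exact (hf z hz hdz).2 x ⟨hx, hx.1, hzx.2.1.symm, hzx.2.2.symm⟩
    intro y hy z hz
    have hzy : y ∈ nb D z := mem_nb_symm hy hz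
    by_cases ey : y = d
    · subst ey; exact hA z hz
    by_cases ez : z = d
    · subst ez; exact Adj.symm hD sys hd (hA y hzy)
    by_cases cy : Commute d y
    · by_cases cz : Commute d z
      · exact Adj.triangle hD hprim hw sys hyp hd (Adj.symm hD sys hd (hA y ⟨hy, ey, cy⟩))
          (hA z ⟨hz.1, ez, cz⟩) (by rw [sact z hz.1, sact y hy]; exact hz)
      · exact hB y ⟨hy, ey, cy⟩ z hz.1 cz hz
    · by_cases cz : Commute d z
      · exact Adj.symm hD sys hd (hB z ⟨hz.1, ez, cz⟩ y hy cy hzy)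
      · obtain ⟨x, ⟨hxd, hxy⟩, hxz⟩ := hyp.five d hd y hy z hz.1 cy cz hz.2.1 hz.2.2
        exact Adj.triangle hD hprim hw sys hyp hd
          (Adj.symm hD sys hd (hB x hxd y hy cy (mem_nb_symm hy hxy)))
          (hB x hxd z hz.1 cz (mem_nb_symm hz.1 hxz)) (by rw [sact z hz.1, sact y hy]; exact hz)
  -- the residue does not depend on the member
  obtain ⟨r, hr⟩ : ∃ r : G → G → G, r = fun g y => (s (g * y * g⁻¹))⁻¹ * g * s y := ⟨_, rfl⟩
  have hrc : ∀ g, ∀ y ∈ D, Commute d (r g y) := by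
    intro g y hy
    refine (mul_inv_eq_iff_eq_mul.1 ?_).symm
    have e : r g y * d * (r g y)⁻¹ =
        (s (g * y * g⁻¹))⁻¹ * (g * (s y * d * (s y)⁻¹) * g⁻¹) * s (g * y * g⁻¹) := by
      rw [hr]; group
    rw [e, sact y hy]
    conv_lhs => arg 1; arg 2; rw [← sact _ (hD.2.1 g y hy)]
    group
  have hnext : ∀ g, ∀ u ∈ D, ∀ v ∈ nb D u, (r g u)⁻¹ * r g v ∈ M d := by
    intro g u hu v hv
    have hu' := hD.2.1 g u hu
    have hv' := Cover.conj_nb hD g hv
    have h1 : Adj D M d (g * s u) (g * s v) := Adj.left hD sys g (hsec u hu v hv)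
    have h2 : Adj D M d (g * s u) (s (g * v * g⁻¹) * r g u) := by
      have := Adj.twist hD sys hd (hrc g u hu) (hsec _ hu' _ hv')
      rwa [show s (g * u * g⁻¹) * r g u = g * s u by rw [hr]; group] at this
    have := Adj.unique hD hprim hw sys hyp hd h2 h1 (by
      rw [show s (g * v * g⁻¹) * r g u * d * (s (g * v * g⁻¹) * r g u)⁻¹ =
        s (g * v * g⁻¹) * (r g u * d * (r g u)⁻¹) * (s (g * v * g⁻¹))⁻¹ by group,
        RankThree.conj_self_of_commute (hrc g u hu), sact _ hv'.1,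
        show g * s v * d * (g * s v)⁻¹ = g * (s v * d * (s v)⁻¹) * g⁻¹ by group, sact v hv.1])
    rwa [show (s (g * v * g⁻¹) * r g u)⁻¹ * (g * s v) = (r g u)⁻¹ * r g v by rw [hr]; group]
      at this
  have hconst : ∀ g, ∀ u ∈ D, ∀ v ∈ D, (r g u)⁻¹ * r g v ∈ M d := by
    intro g u hu v hv
    obtain ⟨w⟩ := (Primitive.connected hD hprim hw).preconnected ⟨u, hu⟩ ⟨v, hv⟩
    suffices h : ∀ p q : D, (Cfsg.commutingGraph D).Walk p q → (r g p)⁻¹ * r g q ∈ M d from
      h ⟨u, hu⟩ ⟨v, hv⟩ w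
    intro p q w
    induction w with
    | nil => exact one1 _
    | @cons p m q hpm _ ih =>
      simp only [Cfsg.commutingGraph, SimpleGraph.fromRel_adj] at hpm
      have hm : (m : G) ∈ nb D (p : G) :=
        ⟨m.2, fun e => hpm.1 (Subtype.ext e.symm), hpm.2.elim id fun h => h.symm⟩
      have := mul_mem (hnext g p p.2 m hm) ih
      rwa [show (r g p)⁻¹ * r g m * ((r g m)⁻¹ * r g q) = (r g p)⁻¹ * r g q by group] at this
  have dM : ∀ x ∈ M d, d * x = x * d := fun x hx => (sys.le d hd x hx).eq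
  have hcomp : ∀ g h y, r (g * h) y = r g (h * y * h⁻¹) * r h y := fun g h y => by
    rw [hr]
    simp only
    rw [show g * h * y * (g * h)⁻¹ = g * (h * y * h⁻¹) * g⁻¹ by group]
    group
  refine ⟨fun g => ∀ y ∈ D, r g y ∈ M d, fun g => ∀ y ∈ D, r g y * d ∈ M d, ?_, ?_, ?_, ?_, ?_,
    ?_, ?_, ?_, ?_⟩
  case _ =>
    -- every element has a parity
    have spread_e : ∀ g, ∀ u ∈ D, r g u ∈ M d → ∀ y ∈ D, r g y ∈ M d := fun g u hu h y hy => by
      have := mul_mem h (hconst g u hu y hy)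
      rwa [mul_inv_cancel_left] at this
    have spread_o : ∀ g, ∀ u ∈ D, r g u * d ∈ M d → ∀ y ∈ D, r g y * d ∈ M d :=
      fun g u hu h y hy => by
        have hx := hconst g u hu y hy
        have := mul_mem h hx
        rwa [mul_assoc, dM _ hx, ← mul_assoc, mul_inv_cancel_left] at this
    have hodd : ∀ e ∈ D, ∀ y ∈ D, r e y * d ∈ M d := by
      intro e he
      by_cases hde : Commute d e
      · refine spread_o e d hd ?_
        rw [hr]
        simp only
        rw [RankThree.conj_self_of_commute hde, sd, inv_one, one_mul, mul_one]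
        exact sys.pair d hd e he d hd hde (Commute.refl d)
      · obtain ⟨x, hx, hdx, hxe⟩ := RankThree.exists_common hD hprim hw hd he hde
        refine spread_o e x hx ?_
        rw [hr]
        simp only
        rw [RankThree.conj_self_of_commute hxe]
        have hc := (Basic.commute_conj (g := (s x)⁻¹)).2 hxe
        rw [show (s x)⁻¹ * x * (s x)⁻¹⁻¹ = d by
          conv_lhs => arg 1; arg 2; rw [← sact x hx]
          group] at hc
        have := sys.pair d hd _ (hD.2.1 (s x)⁻¹ e he) d hd hc (Commute.refl d)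
        rwa [inv_inv] at this
    intro g
    have hg : g ∈ Subgroup.closure D := hD.2.2 ▸ Subgroup.mem_top g
    induction hg using Subgroup.closure_induction'' with
    | mem e he => exact Or.inr (hodd e he)
    | inv_mem e he => rw [Classes.inv hD he]; exact Or.inr (hodd e he)
    | one =>
      left
      intro y hy
      rw [hr]
      simp only
      rw [show (1 : G) * y * 1⁻¹ = y by group, mul_one]
      exact one1 _
    | mul p q _ _ hp hq =>
      rcases hp with hp | hp <;> rcases hq with hq | hq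
      · exact Or.inl fun y hy => hcomp p q y ▸ mul_mem (hp _ (hD.2.1 q y hy)) (hq y hy)
      · exact Or.inr fun y hy => by
          rw [hcomp, mul_assoc]
          exact mul_mem (hp _ (hD.2.1 q y hy)) (hq y hy)
      · exact Or.inr fun y hy => by
          rw [hcomp, mul_assoc, ← dM _ (hq y hy), ← mul_assoc]
          exact mul_mem (hp _ (hD.2.1 q y hy)) (hq y hy)
      · exact Or.inl fun y hy => by
          have hx := hq y hy
          have := mul_mem (hp _ (hD.2.1 q y hy)) hx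
          rwa [hcomp, show r p (q * y * q⁻¹) * r q y =
            r p (q * y * q⁻¹) * d * (r q y * d) by
              rw [mul_assoc (r p (q * y * q⁻¹)), dM _ hx, mul_assoc (r q y), dd, mul_one]]
  · exact fun g h hg hh y hy => hcomp g h y ▸ mul_mem (hg _ (hD.2.1 h y hy)) (hh y hy)
  · intro g h hg hh y hy
    rw [hcomp, mul_assoc]
    exact mul_mem (hg _ (hD.2.1 h y hy)) (hh y hy)
  · intro g h hg hh y hy
    rw [hcomp, mul_assoc, ← dM _ (hh y hy), ← mul_assoc]
    exact mul_mem (hg _ (hD.2.1 h y hy)) (hh y hy)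
  · intro g h hg hh y hy
    have hx := hh y hy
    have := mul_mem (hg _ (hD.2.1 h y hy)) hx
    rwa [hcomp, show r g (h * y * h⁻¹) * r h y = r g (h * y * h⁻¹) * d * (r h y * d) by
      rw [mul_assoc (r g (h * y * h⁻¹)), dM _ hx, mul_assoc (r h y), dd, mul_one]]
  · intro g hg h
    have := h d hd
    rw [hr] at this
    simp only at this
    rwa [RankThree.conj_self_of_commute hg, sd, inv_one, one_mul, mul_one] at this
  · intro g hg h
    have := h d hd
    rw [hr] at this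
    simp only at this
    rwa [RankThree.conj_self_of_commute hg, sd, inv_one, one_mul, mul_one] at this
  · intro y hy
    rw [hr]
    simp only
    rw [show (1 : G) * y * 1⁻¹ = y by group, mul_one]
    exact one1 _
  · intro e he
    by_cases hde : Commute d e
    · intro y hy
      have h0 : r e d * d ∈ M d := by
        rw [hr]
        simp only
        rw [RankThree.conj_self_of_commute hde, sd, inv_one, one_mul, mul_one]
        exact sys.pair d hd e he d hd hde (Commute.refl d)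
      have hx := hconst e d hd y hy
      have := mul_mem h0 hx
      rwa [mul_assoc, dM _ hx, ← mul_assoc, mul_inv_cancel_left] at this
    · obtain ⟨x, hx', hdx, hxe⟩ := RankThree.exists_common hD hprim hw hd he hde
      intro y hy
      have h0 : r e x * d ∈ M d := by
        rw [hr]
        simp only
        rw [RankThree.conj_self_of_commute hxe]
        have hc := (Basic.commute_conj (g := (s x)⁻¹)).2 hxe
        rw [show (s x)⁻¹ * x * (s x)⁻¹⁻¹ = d by
          conv_lhs => arg 1; arg 2; rw [← sact x hx']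
          group] at hc
        have := sys.pair d hd _ (hD.2.1 (s x)⁻¹ e he) d hd hc (Commute.refl d)
        rwa [inv_inv] at this
      have hx := hconst e x hx' y hy
      have := mul_mem h0 hx
      rwa [mul_assoc, dM _ hx, ← mul_assoc, mul_inv_cancel_left] at this

/-- The centraliser is at most twice the subgroup. -/
theorem centralizer_cases (hd : d ∈ D) {g : G} (hg : Commute d g) : g ∈ M d ∨ g * d ∈ M d := by
  obtain ⟨Pe, Po, hall, -, -, -, -, he, ho, -⟩ := exists_parity hD hprim hw sys hyp hd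
  exact (hall g).imp (he g hg) (ho g hg)

/-- A member outside its subgroup is outside the commutator subgroup. -/
theorem not_mem_commutator (hd : d ∈ D) (hdM : d ∉ M d) : d ∉ commutator G := by
  obtain ⟨Pe, Po, hall, hee, heo, hoe, hoo, he, ho, h1, hD'⟩ :=
    exists_parity hD hprim hw sys hyp hd
  have hsplit : ∀ g, Pe g → Po g → False := fun g h h' => by
    have hd1 : Pe d := by
      obtain hgi | hgi := hall g⁻¹
      · have h2 := hoe g g⁻¹ h' hgi
        rw [mul_inv_cancel] at h2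
        have := hoo 1 d h2 (hD' d hd)
        rwa [one_mul] at this
      · have h2 := heo g g⁻¹ h hgi
        rw [mul_inv_cancel] at h2
        have := hoo 1 d h2 (hD' d hd)
        rwa [one_mul] at this
    exact hdM (he d (Commute.refl d) hd1)
  let E : Subgroup G :=
    { carrier := {g | Pe g}
      one_mem' := h1
      mul_mem' := fun hg hh => hee _ _ hg hh
      inv_mem' := fun {g} hg => (hall g⁻¹).resolve_right fun h => hsplit _
        (show Pe (g * g⁻¹) by rw [mul_inv_cancel]; exact h1) (heo g g⁻¹ hg h) }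
  have hc : commutator G ≤ E := by
    rw [commutator_def, Subgroup.commutator_le]
    intro g _ h _
    have inv' : ∀ x, Po x → Po x⁻¹ := fun x hx => (hall x⁻¹).resolve_left fun h' => hsplit _
      (show Pe (x * x⁻¹) by rw [mul_inv_cancel]; exact h1) (hoe x x⁻¹ hx h')
    show Pe _
    rw [commutatorElement_def]
    rcases hall g with hg | hg <;> rcases hall h with hh | hh
    · exact hee _ _ (hee _ _ (hee _ _ hg hh) (E.inv_mem hg)) (E.inv_mem hh)
    · exact hoo _ _ (hoe _ _ (heo _ _ hg hh) (E.inv_mem hg)) (inv' h hh)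
    · exact hee _ _ (hoo _ _ (hoe _ _ hg hh) (inv' g hg)) (E.inv_mem hh)
    · exact hoo _ _ (heo _ _ (hoo _ _ hg hh) (inv' g hg)) (inv' h hh)
  exact fun h => hdM (he d (Commute.refl d) (hc h))

end

end Cfsg.Agent.ThreeTransp.CoverTwo
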