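import Mathlib
import Cfsg.Agent.Lib.Involutions.Basic

/-! Involutions of a conjugation-closed set inside a dihedral group generated by two of them. -/

set_option autoImplicit false

namespace Cfsg.Agent.ThreeTransp.Dihedral

open Cfsg.Agent.Involutions.Basic

variable {G : Type*} [Group G]

/-- Every reflection of the dihedral group of two members lies in the set. -/
theorem mem_of_mul_zpow {D : Set G} (hconj : ∀ g : G, ∀ d ∈ D, g * d * g⁻¹ ∈ D) {a b : G}
    (ha : orderOf a = 2) (hb : orderOf b = 2) (haD : a ∈ D) (hbD : b ∈ D) (j : ℤ) :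
    a * (a * b) ^ j ∈ D := by
  rcases Int.even_or_odd' j with ⟨i, rfl | rfl⟩
  · have h := zpow_conj_left ha hb (-i)
    rw [show -2 * -i = 2 * i by ring] at h
    exact h ▸ hconj _ a haD
  · have h := hconj ((a * b) ^ (-i)) b hbD
    have e : (a * b) ^ (-i) * b * ((a * b) ^ (-i))⁻¹ = a * (a * b) ^ (2 * i + 1) := by
      have e1 : b = a * (a * b) ^ (1 : ℤ) := (mul_zpow_one ha).symm
      calc (a * b) ^ (-i) * b * ((a * b) ^ (-i))⁻¹
          = (a * b) ^ (-i) * (a * (a * b) ^ (1 : ℤ)) * ((a * b) ^ (-i))⁻¹ := by rw [← e1]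
        _ = ((a * b) ^ (-i) * a) * ((a * b) ^ (1 : ℤ) * ((a * b) ^ (-i))⁻¹) := by
            simp only [mul_assoc]
        _ = _ := by
            rw [zpow_mul_left ha hb, ← zpow_neg, neg_neg, mul_assoc, ← zpow_add, ← zpow_add]
            congr 2; ring
    exact e ▸ h

/-- Natural powers version of `mem_of_mul_zpow`. -/
theorem mem_of_mul_pow {D : Set G} (hconj : ∀ g : G, ∀ d ∈ D, g * d * g⁻¹ ∈ D) {a b : G}
    (ha : orderOf a = 2) (hb : orderOf b = 2) (haD : a ∈ D) (hbD : b ∈ D) (j : ℕ) :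
    a * (a * b) ^ j ∈ D := by
  simpa using mem_of_mul_zpow hconj ha hb haD hbD (j : ℤ)

theorem conjugatesOf_conj (d g : G) {a : G} (ha : a ∈ conjugatesOf d) :
    g * a * g⁻¹ ∈ conjugatesOf d :=
  IsConj.trans ha (isConj_iff.2 ⟨g, rfl⟩)

/-- `x • gH = gH` means that `g⁻¹ * x * g` lies in `H`. -/
theorem smul_coset_eq_iff (H : Subgroup G) (x g : G) :
    x • (g : G ⧸ H) = g ↔ g⁻¹ * x * g ∈ H := by
  rw [← MulAction.Quotient.coe_smul_out]
  constructor <;> intro h
  · rw [MulAction.Quotient.coe_smul_out] at h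
    have h1 : ((x * g : G) : G ⧸ H) = g := h
    rw [QuotientGroup.eq] at h1
    simpa [mul_assoc] using H.inv_mem h1
  · rw [MulAction.Quotient.coe_smul_out]
    show ((x * g : G) : G ⧸ H) = g
    rw [QuotientGroup.eq]
    simpa [mul_assoc] using H.inv_mem h

/-- If `x ∈ H` fixes exactly one coset of `H`, only elements of `H` conjugate `x` into `H`. -/
theorem mem_of_unique_fixed {H : Subgroup G} {x : G} (hx : x ∈ H)
    (h : ∃! c : G ⧸ H, x • c = c) {g : G} (hg : g⁻¹ * x * g ∈ H) : g ∈ H := by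
  have h1 : x • ((1 : G) : G ⧸ H) = ((1 : G) : G ⧸ H) :=
    (smul_coset_eq_iff H x 1).2 (by simpa using hx)
  have e := h.unique ((smul_coset_eq_iff H x g).2 hg) h1
  rw [QuotientGroup.eq] at e
  simpa using e

end Cfsg.Agent.ThreeTransp.Dihedral
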