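import Mathlib
import Cfsg.Agent.InvChar.Coset.FieldFour

/-!
The isotropic vectors of the five-dimensional unitary space over a computable field with four
elements: finite checks.
-/

set_option autoImplicit false
set_option linter.all false

namespace Cfsg.Agent.ThreeTransp.FiveModel

open Cfsg.Agent.InvChar.Coset

/-- Vectors. -/
abbrev V := FF × FF × FF × FF × FF

/-- A vector from five base-four digits. -/
def dec (n : ℕ) : V :=
  (FF.ofBits (n % 4), FF.ofBits (n / 4 % 4), FF.ofBits (n / 16 % 4), FF.ofBits (n / 64 % 4),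
    FF.ofBits (n / 256 % 4))

/-- The hermitian form. -/
def hM (x y : V) : FF :=
  x.1 * (y.1 * y.1) + x.2.1 * (y.2.1 * y.2.1) + x.2.2.1 * (y.2.2.1 * y.2.2.1) +
    x.2.2.2.1 * (y.2.2.2.1 * y.2.2.2.1) + x.2.2.2.2 * (y.2.2.2.2 * y.2.2.2.2)

/-- Scaling. -/
def sm (a : FF) (x : V) : V := (a * x.1, a * x.2.1, a * x.2.2.1, a * x.2.2.2.1, a * x.2.2.2.2)

/-- The transvection with centre `v`. -/
def trM (v x : V) : V :=
  (x.1 + hM x v * v.1, x.2.1 + hM x v * v.2.1, x.2.2.1 + hM x v * v.2.2.1,
    x.2.2.2.1 + hM x v * v.2.2.2.1, x.2.2.2.2 + hM x v * v.2.2.2.2)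

/-- The first nonzero coordinate. -/
def lead (x : V) : FF :=
  if x.1 ≠ 0 then x.1 else if x.2.1 ≠ 0 then x.2.1 else if x.2.2.1 ≠ 0 then x.2.2.1
  else if x.2.2.2.1 ≠ 0 then x.2.2.2.1 else x.2.2.2.2

/-- The representative of a point. -/
def canon (x : V) : V := sm (lead x)⁻¹ x

/-- The number of zero coordinates. -/
def zeros (x : V) : ℕ :=
  (if x.1 = 0 then 1 else 0) + (if x.2.1 = 0 then 1 else 0) + (if x.2.2.1 = 0 then 1 else 0) +
    (if x.2.2.2.1 = 0 then 1 else 0) + (if x.2.2.2.2 = 0 then 1 else 0)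

/-- All vectors. -/
def all : List V := (List.range 1024).map dec

/-- The points of weight two. -/
def two : List V := all.filter fun x => hM x x == 0 && zeros x == 3 && canon x == x

/-- Reaching every point from one by conjugation. -/
def fixSteps : List (ℕ × ℕ × ℕ) := [
  (257, 260, 5),
  (513, 516, 5),
  (769, 772, 5),
  (65, 68, 5),
  (129, 132, 5),
  (193, 196, 5),
  (17, 20, 5),
  (337, 340, 5),
  (593, 596, 5),
  (849, 852, 5),
  (401, 404, 5),
  (657, 660, 5),
  (913, 916, 5),
  (465, 468, 5),
  (721, 724, 5),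
  (977, 980, 5),
  (33, 36, 5),
  (353, 356, 5),
  (609, 612, 5),
  (865, 868, 5),
  (417, 420, 5),
  (673, 676, 5),
  (929, 932, 5),
  (481, 484, 5),
  (737, 740, 5),
  (993, 996, 5),
  (49, 52, 5),
  (369, 372, 5),
  (625, 628, 5),
  (881, 884, 5),
  (433, 436, 5),
  (689, 692, 5),
  (945, 948, 5),
  (497, 500, 5),
  (753, 756, 5),
  (1009, 1012, 5),
  (13, 516, 257),
  (9, 772, 257),
  (85, 340, 257),
  (253, 596, 257),
  (169, 852, 257),
  (149, 404, 257),
  (125, 660, 257),
  (233, 916, 257),
  (213, 468, 257),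
  (189, 724, 257),
  (105, 980, 257),
  (101, 356, 257),
  (221, 612, 257),
  (185, 868, 257),
  (165, 420, 257),
  (93, 676, 257),
  (249, 932, 257),
  (229, 484, 257),
  (157, 740, 257),
  (121, 996, 257),
  (117, 372, 257),
  (237, 628, 257),
  (153, 884, 257),
  (181, 436, 257),
  (109, 692, 257),
  (217, 948, 257),
  (245, 500, 257),
  (173, 756, 257),
  (89, 1012, 257),
  (277, 340, 65),
  (533, 596, 65),
  (789, 852, 65),
  (829, 404, 65),
  (317, 660, 65),
  (573, 916, 65),
  (553, 468, 65),
  (809, 724, 65),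
  (297, 980, 65),
  (293, 356, 65),
  (549, 612, 65),
  (805, 868, 65),
  (797, 420, 65),
  (285, 676, 65),
  (541, 932, 65),
  (569, 484, 65),
  (825, 740, 65),
  (313, 996, 65),
  (309, 372, 65),
  (565, 628, 65),
  (821, 884, 65),
  (813, 436, 65),
  (301, 692, 65),
  (557, 948, 65),
  (537, 500, 65),
  (793, 756, 65),
  (281, 1012, 65),
  (325, 340, 17),
  (581, 596, 17),
  (837, 852, 17),
  (389, 404, 17),
  (645, 660, 17),
  (901, 916, 17),
  (453, 468, 17),
  (709, 724, 17),
  (965, 980, 17),
  (973, 356, 17),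
  (461, 612, 17),
  (717, 868, 17),
  (845, 420, 17),
  (333, 676, 17),
  (589, 932, 17),
  (909, 484, 17),
  (397, 740, 17),
  (653, 996, 17),
  (649, 372, 17),
  (905, 628, 17),
  (393, 884, 17),
  (713, 436, 17),
  (969, 692, 17),
  (457, 948, 17),
  (585, 500, 17),
  (841, 756, 17),
  (329, 1012, 17),
  (260, 257, 5),
  (516, 513, 5),
  (772, 769, 5),
  (68, 65, 5),
  (132, 129, 5),
  (196, 193, 5),
  (20, 17, 5),
  (340, 337, 5),
  (596, 593, 5),
  (852, 849, 5),
  (404, 401, 5),
  (660, 657, 5),
  (916, 913, 5),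
  (468, 465, 5),
  (724, 721, 5),
  (980, 977, 5),
  (36, 33, 5),
  (356, 353, 5),
  (612, 609, 5),
  (868, 865, 5),
  (420, 417, 5),
  (676, 673, 5),
  (932, 929, 5),
  (484, 481, 5),
  (740, 737, 5),
  (996, 993, 5),
  (52, 49, 5),
  (372, 369, 5),
  (628, 625, 5),
  (884, 881, 5),
  (436, 433, 5),
  (692, 689, 5),
  (948, 945, 5),
  (500, 497, 5),
  (756, 753, 5),
  (1012, 1009, 5),
  (320, 65, 257),
  (832, 129, 257),
  (576, 193, 257),
  (272, 17, 257),
  (784, 33, 257),
  (528, 49, 257),
  (80, 17, 65),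
  (208, 33, 65),
  (144, 49, 65)]

/-- Reaching every point from one by conjugation with points of weight two. -/
def presSteps : List (ℕ × ℕ × ℕ) := [
  (724, 576, 340),
  (916, 832, 340),
  (628, 528, 340),
  (868, 784, 340),
  (436, 144, 340),
  (484, 208, 340),
  (932, 516, 340),
  (756, 772, 340),
  (740, 132, 340),
  (948, 196, 340),
  (692, 36, 340),
  (996, 52, 340),
  (85, 257, 340),
  (169, 513, 340),
  (253, 769, 340),
  (277, 65, 340),
  (553, 129, 340),
  (829, 193, 340),
  (325, 17, 340),
  (649, 33, 340),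
  (973, 49, 340),
  (337, 5, 340),
  (673, 9, 340),
  (1009, 13, 340),
  (1012, 784, 724),
  (676, 144, 724),
  (356, 772, 724),
  (372, 132, 724),
  (884, 36, 724),
  (420, 52, 724),
  (189, 257, 724),
  (213, 513, 724),
  (105, 769, 724),
  (809, 65, 724),
  (317, 129, 724),
  (533, 193, 724),
  (709, 17, 724),
  (841, 33, 724),
  (397, 49, 724),
  (721, 5, 724),
  (865, 9, 724),
  (433, 13, 724),
  (500, 36, 916),
  (612, 52, 916),
  (233, 257, 916),
  (125, 513, 916),
  (149, 769, 916),
  (573, 65, 916),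
  (789, 129, 916),
  (297, 193, 916),
  (901, 17, 916),
  (457, 33, 916),
  (589, 49, 916),
  (913, 5, 916),
  (481, 9, 916),
  (625, 13, 916),
  (404, 772, 628),
  (980, 132, 628),
  (468, 36, 628),
  (237, 257, 628),
  (117, 513, 628),
  (153, 769, 628),
  (565, 65, 628),
  (793, 129, 628),
  (301, 193, 628),
  (905, 17, 628),
  (461, 33, 628),
  (581, 49, 628),
  (660, 196, 868),
  (185, 257, 868),
  (221, 513, 868),
  (101, 769, 868),
  (805, 65, 868),
  (313, 129, 868),
  (541, 193, 868),
  (717, 17, 868),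
  (837, 33, 868),
  (393, 49, 868),
  (596, 196, 436),
  (852, 36, 436),
  (181, 257, 436),
  (217, 513, 436),
  (109, 769, 436),
  (813, 65, 436),
  (309, 129, 436),
  (537, 193, 436),
  (713, 17, 436),
  (845, 33, 436),
  (389, 49, 436),
  (229, 257, 484),
  (121, 513, 484),
  (157, 769, 484),
  (569, 65, 484),
  (797, 129, 484),
  (293, 193, 484),
  (909, 17, 484),
  (453, 33, 484),
  (585, 49, 484),
  (249, 257, 932),
  (93, 513, 932),
  (165, 769, 932),
  (929, 5, 932),
  (497, 9, 932),
  (593, 13, 932),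
  (173, 257, 756),
  (245, 513, 756),
  (89, 769, 756),
  (753, 5, 756),
  (849, 9, 756),
  (417, 13, 756),
  (825, 65, 740),
  (285, 129, 740),
  (549, 193, 740),
  (737, 5, 740),
  (881, 9, 740),
  (401, 13, 740),
  (557, 65, 948),
  (821, 129, 948),
  (281, 193, 948),
  (945, 5, 948),
  (465, 9, 948),
  (609, 13, 948),
  (969, 17, 692),
  (333, 33, 692),
  (645, 49, 692),
  (689, 5, 692),
  (977, 9, 692),
  (353, 13, 692),
  (653, 17, 996),
  (965, 33, 996),
  (329, 49, 996),
  (993, 5, 996),
  (369, 9, 996),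
  (657, 13, 996)]

/-- The seed of the first closure. -/
def seedFix : V := (1, 1, 0, 0, 0)

/-- The seed of the second closure. -/
def seedPres : V := (0, 1, 1, 1, 1)

/-- The check of a sequence of steps. -/
def runSteps (ok : List V → V → V → Bool) : List V → List (ℕ × ℕ × ℕ) → Option (List V)
  | S, [] => some S
  | S, (t, x, y) :: rest =>
    bif ok S (dec x) (dec y) && canon (trM (dec x) (dec y)) == dec t then
      runSteps ok (dec t :: S) rest
    else none

/-- The admissible steps of the first closure. -/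
def okFix (S : List V) (x y : V) : Bool :=
  S.contains y && ((S.contains x && hM y x != 0) || (x.1 == 0 && hM x x == 0))

/-- The admissible steps of the second closure. -/
def okPres (S : List V) (x y : V) : Bool := two.contains x && S.contains y

/-- The two closures reach every point. -/
def coverCheck : Bool :=
  match runSteps okFix [seedFix] fixSteps, runSteps okPres (seedPres :: two) presSteps with
  | some S, some T => all.all fun x => x == 0 || hM x x != 0 || (S.contains (canon x) && T.contains (canon x))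
  | _, _ => false

/-- The moves from the seed of the second closure. -/
def moveCheck : Bool :=
  all.all fun a => a == 0 || hM a a != 0 || hM a seedPres == 0 || a.1 == 0 || zeros a == 3 ||
    zeros (trM seedPres a) == 3 ||
    two.any fun x => zeros (trM seedPres (trM x a)) == 3

/-- Every isotropic vector has a zero coordinate. -/
def zeroCheck : Bool := all.all fun a => hM a a != 0 || zeros a != 0

theorem cover_true : coverCheck = true := by decide +kernel

theorem move_true : moveCheck = true := by decide +kernel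

theorem zero_true : zeroCheck = true := by decide +kernel

end Cfsg.Agent.ThreeTransp.FiveModel
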