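import Mathlib
import Cfsg.Agent.Lib.ThreeTransp.FiveModel
import Cfsg.Agent.Lib.ThreeTransp.UnitaryPoints

/-!
Induction principles on the isotropic vectors of the five-dimensional unitary space over the field
with four elements.
-/

set_option autoImplicit false
set_option linter.unusedSectionVars false

namespace Cfsg.Agent.ThreeTransp.FiveBridge

open Matrix Cfsg.Agent.Classical.Unitary
open Cfsg.Agent.ThreeTransp
open Cfsg.Agent.InvChar.Coset

variable {F : Type*} [Field F] [Fintype F]

local notation "Vec" => (Fin 5 → F)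
local notation "H" => Cfsg.hermForm 5 F 2

/-- A vector with three zero coordinates. -/
def IsTwo (v : Fin 5 → F) : Prop :=
  ∃ i j, i ≠ j ∧ v i ≠ 0 ∧ v j ≠ 0 ∧ ∀ k, k ≠ i → k ≠ j → v k = 0

/-- The image of `y` under the transvection with centre `x`. -/
def move (x y : Fin 5 → F) : Fin 5 → F := y + Cfsg.hermForm 5 F 2 y x • x

/-- The first distinguished vector. -/
def seedFix : Fin 5 → F := ![1, 1, 0, 0, 0]

/-- The second distinguished vector. -/
def seedPres : Fin 5 → F := ![0, 1, 1, 1, 1]

/-- The map from the computable field. -/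
def emb4 (ω : F) : FF → F
  | .zero => 0
  | .one => 1
  | .w => ω
  | .w2 => ω ^ 2

/-- The map on vectors. -/
def vec (ω : F) (a : FiveModel.V) : Fin 5 → F :=
  ![emb4 ω a.1, emb4 ω a.2.1, emb4 ω a.2.2.1, emb4 ω a.2.2.2.1, emb4 ω a.2.2.2.2]

variable {ω : F} (hF : Fintype.card F = 2 ^ 2) (hω : ω ^ 2 + ω + 1 = 0)
include hF hω

theorem cube_one : ω ^ 3 = 1 := by linear_combination (ω - 1) * hω

theorem omega_ne : ω ≠ 0 ∧ ω ≠ 1 := by
  have h2 := GroupStructure3.ThreeTransUnitary.two_zero hF
  constructor <;> intro h <;> subst h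
  · simp at hω
  · exact one_ne_zero (α := F) (by linear_combination hω - h2)

theorem emb4_add (a b : FF) : emb4 ω (a + b) = emb4 ω a + emb4 ω b := by
  have h2 := GroupStructure3.ThreeTransUnitary.two_zero hF
  cases a <;> cases b <;>
    simp only [show ∀ x y : FF, x + y = FF.add x y from fun _ _ => rfl, FF.add, emb4] <;>
    first
      | linear_combination (0 : F) * h2
      | linear_combination hω - h2 * 1
      | linear_combination -hω
      | linear_combination hω - (ω + 1) * h2
      | linear_combination -(h2)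
      | linear_combination -ω * h2
      | linear_combination -(ω ^ 2) * h2
      | linear_combination hω - ω * h2 - h2
      | linear_combination hω - (ω ^ 2 + 1) * h2
      | linear_combination hω - (ω ^ 2 + ω) * h2

theorem emb4_mul (a b : FF) : emb4 ω (a * b) = emb4 ω a * emb4 ω b := by
  have h3 := cube_one hF hω
  cases a <;> cases b <;>
    simp only [show ∀ x y : FF, x * y = FF.mul x y from fun _ _ => rfl, FF.mul, emb4] <;>
    first
      | ring1
      | linear_combination -h3
      | linear_combination h3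
      | linear_combination -(ω * h3)
      | linear_combination ω * h3

theorem ofBits_digit (a : FF) : ∃ k < 4, FF.ofBits k = a := by
  cases a
  exacts [⟨0, by norm_num, rfl⟩, ⟨1, by norm_num, rfl⟩, ⟨2, by norm_num, rfl⟩, ⟨3, by norm_num, rfl⟩]

theorem emb4_eq_zero {a : FF} : emb4 ω a = 0 ↔ a = 0 := by
  refine ⟨fun h => ?_, fun h => by rw [h]; rfl⟩
  have := omega_ne hF hω
  cases a <;> simp_all [emb4]
  rfl

theorem emb4_bijective : Function.Bijective (emb4 ω) := by
  rw [Fintype.bijective_iff_injective_and_card, FF.card, hF]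
  refine ⟨fun a b h => ?_, rfl⟩
  have hab : emb4 ω (a + b) = 0 := by
    rw [emb4_add hF hω, h, ← two_mul, GroupStructure3.ThreeTransUnitary.two_zero hF, zero_mul]
  have h0 := (emb4_eq_zero hF hω).1 hab
  revert h0; cases a <;> cases b <;> decide

theorem vec_surjective (v : Vec) : ∃ a ∈ FiveModel.all, vec ω a = v := by
  choose g hg using (emb4_bijective hF hω).2
  refine ⟨(g (v 0), g (v 1), g (v 2), g (v 3), g (v 4)), ?_, ?_⟩
  · obtain ⟨a, ha, ea⟩ := ofBits_digit hF hω (g (v 0))
    obtain ⟨b, hb, eb⟩ := ofBits_digit hF hω (g (v 1))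
    obtain ⟨c, hc, ec⟩ := ofBits_digit hF hω (g (v 2))
    obtain ⟨d, hd, ed⟩ := ofBits_digit hF hω (g (v 3))
    obtain ⟨e, he, ee⟩ := ofBits_digit hF hω (g (v 4))
    rw [← ea, ← eb, ← ec, ← ed, ← ee]
    refine List.mem_map.2 ⟨a + 4 * b + 16 * c + 64 * d + 256 * e, List.mem_range.2 (by omega), ?_⟩
    simp only [FiveModel.dec]
    rw [show (a + 4 * b + 16 * c + 64 * d + 256 * e) % 4 = a by omega,
      show (a + 4 * b + 16 * c + 64 * d + 256 * e) / 4 % 4 = b by omega,
      show (a + 4 * b + 16 * c + 64 * d + 256 * e) / 16 % 4 = c by omega,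
      show (a + 4 * b + 16 * c + 64 * d + 256 * e) / 64 % 4 = d by omega,
      show (a + 4 * b + 16 * c + 64 * d + 256 * e) / 256 % 4 = e by omega]
  · funext i; fin_cases i <;> simp [vec, hg]

theorem H_vec (a b : FiveModel.V) : H (vec ω a) (vec ω b) = emb4 ω (FiveModel.hM a b) := by
  simp [Cfsg.hermForm, Fin.sum_univ_five, FiveModel.hM, emb4_add hF hω, emb4_mul hF hω, vec,
    pow_two]

theorem vec_sm (c : FF) (a : FiveModel.V) : vec ω (FiveModel.sm c a) = emb4 ω c • vec ω a := by
  funext i; fin_cases i <;> simp [vec, FiveModel.sm, emb4_mul hF hω]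

theorem vec_trM (x y : FiveModel.V) : vec ω (FiveModel.trM x y) = move (vec ω x) (vec ω y) := by
  funext i
  simp only [move, Pi.add_apply, Pi.smul_apply, H_vec hF hω, smul_eq_mul]
  fin_cases i <;> simp [vec, FiveModel.trM, emb4_add hF hω, emb4_mul hF hω]

theorem vec_eq_zero {a : FiveModel.V} : vec ω a = 0 ↔ a = 0 := by
  obtain ⟨a, b, c, d, e⟩ := a
  simp [vec, funext_iff, Fin.forall_fin_succ, emb4_eq_zero hF hω, Prod.ext_iff]

theorem isTwo_vec {a : FiveModel.V} (h : FiveModel.zeros a = 3) : IsTwo (vec ω a) := by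
  obtain ⟨a, b, c, d, e⟩ := a
  by_cases ha : a = 0 <;> by_cases hb : b = 0 <;> by_cases hc : c = 0 <;> by_cases hd : d = 0 <;>
    by_cases he : e = 0 <;> simp [FiveModel.zeros, ha, hb, hc, hd, he] at h <;>
    first
      | exact ⟨0, 1, by decide, by simpa [vec, emb4_eq_zero hF hω], by simpa [vec, emb4_eq_zero hF hω],
          fun k => by fin_cases k <;> simp_all [vec, emb4_eq_zero hF hω]⟩
      | exact ⟨0, 2, by decide, by simpa [vec, emb4_eq_zero hF hω], by simpa [vec, emb4_eq_zero hF hω],
          fun k => by fin_cases k <;> simp_all [vec, emb4_eq_zero hF hω]⟩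
      | exact ⟨0, 3, by decide, by simpa [vec, emb4_eq_zero hF hω], by simpa [vec, emb4_eq_zero hF hω],
          fun k => by fin_cases k <;> simp_all [vec, emb4_eq_zero hF hω]⟩
      | exact ⟨0, 4, by decide, by simpa [vec, emb4_eq_zero hF hω], by simpa [vec, emb4_eq_zero hF hω],
          fun k => by fin_cases k <;> simp_all [vec, emb4_eq_zero hF hω]⟩
      | exact ⟨1, 2, by decide, by simpa [vec, emb4_eq_zero hF hω], by simpa [vec, emb4_eq_zero hF hω],
          fun k => by fin_cases k <;> simp_all [vec, emb4_eq_zero hF hω]⟩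
      | exact ⟨1, 3, by decide, by simpa [vec, emb4_eq_zero hF hω], by simpa [vec, emb4_eq_zero hF hω],
          fun k => by fin_cases k <;> simp_all [vec, emb4_eq_zero hF hω]⟩
      | exact ⟨1, 4, by decide, by simpa [vec, emb4_eq_zero hF hω], by simpa [vec, emb4_eq_zero hF hω],
          fun k => by fin_cases k <;> simp_all [vec, emb4_eq_zero hF hω]⟩
      | exact ⟨2, 3, by decide, by simpa [vec, emb4_eq_zero hF hω], by simpa [vec, emb4_eq_zero hF hω],
          fun k => by fin_cases k <;> simp_all [vec, emb4_eq_zero hF hω]⟩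
      | exact ⟨2, 4, by decide, by simpa [vec, emb4_eq_zero hF hω], by simpa [vec, emb4_eq_zero hF hω],
          fun k => by fin_cases k <;> simp_all [vec, emb4_eq_zero hF hω]⟩
      | exact ⟨3, 4, by decide, by simpa [vec, emb4_eq_zero hF hω], by simpa [vec, emb4_eq_zero hF hω],
          fun k => by fin_cases k <;> simp_all [vec, emb4_eq_zero hF hω]⟩

theorem canon_eq (a : FiveModel.V) (ha : a ≠ 0) :
    ∃ c : F, c ≠ 0 ∧ vec ω a = c • vec ω (FiveModel.canon a) := by
  have hl : FiveModel.lead a ≠ 0 := by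
    obtain ⟨a, b, c, d, e⟩ := a
    simp only [ne_eq, Prod.ext_iff, Prod.fst_zero, Prod.snd_zero] at ha
    unfold FiveModel.lead
    split_ifs <;> simp_all
  refine ⟨emb4 ω (FiveModel.lead a), fun h => hl ((emb4_eq_zero hF hω).1 h), ?_⟩
  rw [FiveModel.canon, vec_sm hF hω, smul_smul, ← emb4_mul hF hω, mul_inv_cancel₀ hl]
  show _ = (1 : F) • _
  rw [one_smul]

theorem seedFix_eq : vec ω FiveModel.seedFix = seedFix := by
  funext i; fin_cases i <;> rfl

theorem seedPres_eq : vec ω FiveModel.seedPres = seedPres := by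
  funext i; fin_cases i <;> rfl

omit hω in
theorem move_iso {x y : Vec} (hx : H x x = 0) (hy : H y y = 0) : H (move x y) (move x y) = 0 := by
  rw [move, H_add_left, H_add_right hF, H_add_right hF, H_smul_left, H_smul_left, H_smul_right,
    H_smul_right, hx, hy, ← H_conj hF y x]
  linear_combination (H y x * (H y x) ^ 2) * GroupStructure3.ThreeTransUnitary.two_zero hF +
    (H y x) ^ 2 * (H y x) * (0 : F)

theorem run_sound {P : Vec → Prop}
    (hscale : ∀ (v : Vec) (c : F), c ≠ 0 → (P (c • v) ↔ P v))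
    (ok : List FiveModel.V → FiveModel.V → FiveModel.V → Bool)
    (hok : ∀ S x y, (∀ s ∈ S, P (vec ω s)) → ok S x y = true → P (move (vec ω x) (vec ω y))) :
    ∀ (steps : List (ℕ × ℕ × ℕ)) (S T : List FiveModel.V), (∀ s ∈ S, P (vec ω s)) →
      FiveModel.runSteps ok S steps = some T → ∀ s ∈ T, P (vec ω s) := by
  intro steps
  induction steps with
  | nil =>
    intro S T hS h
    simp only [FiveModel.runSteps, Option.some.injEq] at h
    exact h ▸ hS
  | cons s rest ih =>
    obtain ⟨t, x, y⟩ := s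
    intro S T hS h
    simp only [FiveModel.runSteps] at h
    cases hb : (ok S (FiveModel.dec x) (FiveModel.dec y) &&
        FiveModel.canon (FiveModel.trM (FiveModel.dec x) (FiveModel.dec y)) == FiveModel.dec t) with
    | false => simp [hb] at h
    | true =>
      simp only [hb, cond_true] at h
      simp only [Bool.and_eq_true, beq_iff_eq] at hb
      refine ih _ T (fun s hs => ?_) h
      rcases List.mem_cons.1 hs with rfl | hs
      · have hm := hok _ _ _ hS hb.1
        rw [← vec_trM hF hω] at hm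
        rw [← hb.2]
        by_cases h0 : FiveModel.trM (FiveModel.dec x) (FiveModel.dec y) = 0
        · rw [h0] at hm ⊢
          rwa [show FiveModel.canon 0 = 0 from by decide]
        · obtain ⟨c, hc, e⟩ := canon_eq hF hω _ h0
          rwa [e, hscale _ c hc] at hm
      · exact hS s hs

theorem fix_induction {P : Vec → Prop} (hscale : ∀ (v : Vec) (c : F), c ≠ 0 → (P (c • v) ↔ P v))
    (h0 : P seedFix)
    (hstar : ∀ x y, P x → P y → H y x ≠ 0 → P (move x y))
    (hmove : ∀ f y, H f f = 0 → f 0 = 0 → P y → P (move f y))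
    {v : Vec} (hv : v ≠ 0) (hiso : H v v = 0) : P v := by
  have hc := FiveModel.cover_true
  unfold FiveModel.coverCheck at hc
  split at hc
  case h_2 => simp at hc
  case h_1 _ _ S T hS hT =>
    obtain ⟨a, ha, rfl⟩ := vec_surjective hF hω v
    have hchk := List.all_eq_true.1 hc a ha
    rw [H_vec hF hω, emb4_eq_zero hF hω] at hiso
    have ha0 : a ≠ 0 := fun e => hv ((vec_eq_zero hF hω).2 e)
    simp [ha0, hiso] at hchk
    obtain ⟨c, hc0, e⟩ := canon_eq hF hω a ha0
    rw [e, hscale _ c hc0]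
    refine run_sound hF hω hscale _ (fun S x y hP hok => ?_) _ _ S ?_ hS _ hchk.1
    · simp [FiveModel.okFix] at hok
      obtain ⟨hy, hx | hx⟩ := hok
      · exact hstar _ _ (hP x hx.1) (hP y hy) fun e => hx.2 ((emb4_eq_zero hF hω).1 (by
          rwa [← H_vec hF hω]))
      · exact hmove _ _ (by rw [H_vec hF hω, hx.2]; rfl) (by simp [vec, hx.1]; rfl) (hP y hy)
    · simp [seedFix_eq hF hω, h0]

theorem pres_induction {P : Vec → Prop} (hscale : ∀ (v : Vec) (c : F), c ≠ 0 → (P (c • v) ↔ P v))
    (h0 : P seedPres)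
    (htwo : ∀ x, H x x = 0 → IsTwo x → P x)
    (hstep : ∀ x y, H x x = 0 → IsTwo x → P x → P y → P (move x y))
    {v : Vec} (hv : v ≠ 0) (hiso : H v v = 0) : P v := by
  have hc := FiveModel.cover_true
  unfold FiveModel.coverCheck at hc
  split at hc
  case h_2 => simp at hc
  case h_1 _ _ S T hS hT =>
    obtain ⟨a, ha, rfl⟩ := vec_surjective hF hω v
    have hchk := List.all_eq_true.1 hc a ha
    rw [H_vec hF hω, emb4_eq_zero hF hω] at hiso
    have ha0 : a ≠ 0 := fun e => hv ((vec_eq_zero hF hω).2 e)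
    simp [ha0, hiso] at hchk
    obtain ⟨c, hc0, e⟩ := canon_eq hF hω a ha0
    rw [e, hscale _ c hc0]
    have htwo' : ∀ x ∈ FiveModel.two, H (vec ω x) (vec ω x) = 0 ∧ IsTwo (vec ω x) := by
      intro x hx
      simp [FiveModel.two] at hx
      exact ⟨by rw [H_vec hF hω, hx.2.1.1]; rfl, isTwo_vec hF hω hx.2.1.2⟩
    refine run_sound hF hω hscale _ (fun S x y hP hok => ?_) _ _ T ?_ hT _ hchk.2
    · simp [FiveModel.okPres] at hok
      obtain ⟨h1, h2⟩ := htwo' x hok.1
      exact hstep _ _ h1 h2 (htwo _ h1 h2) (hP y hok.2)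
    · intro s hs
      rcases List.mem_cons.1 hs with rfl | hs
      · rw [seedPres_eq hF hω]; exact h0
      · exact htwo _ (htwo' s hs).1 (htwo' s hs).2

theorem exists_zero {v : Vec} (hiso : H v v = 0) : ∃ k, v k = 0 := by
  obtain ⟨a, ha, rfl⟩ := vec_surjective hF hω v
  have h := List.all_eq_true.1 FiveModel.zero_true a ha
  rw [H_vec hF hω, emb4_eq_zero hF hω] at hiso
  simp [hiso] at h
  by_contra hc
  push Not at hc
  apply h
  obtain ⟨a, b, c, d, e⟩ := a
  have := hc 0; have := hc 1; have := hc 2; have := hc 3; have := hc 4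
  simp_all [vec, emb4_eq_zero hF hω, FiveModel.zeros]

theorem seed_cases {v : Vec} (hiso : H v v = 0) (h : H v seedPres ≠ 0) (h0 : v 0 ≠ 0) :
    IsTwo v ∨ IsTwo (move seedPres v) ∨
      ∃ x, H x x = 0 ∧ IsTwo x ∧ IsTwo (move seedPres (move x v)) := by
  obtain ⟨a, ha, rfl⟩ := vec_surjective hF hω v
  have hchk := List.all_eq_true.1 FiveModel.move_true a ha
  rw [H_vec hF hω, emb4_eq_zero hF hω] at hiso
  rw [← seedPres_eq hF hω, H_vec hF hω, ne_eq, emb4_eq_zero hF hω] at h
  have ha1 : a.1 ≠ 0 := fun e => h0 (by simp [vec, e]; rfl)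
  have ha0 : a ≠ 0 := fun e => ha1 (by rw [e]; rfl)
  simp [ha0, hiso, h, ha1] at hchk
  rw [← seedPres_eq hF hω]
  rcases hchk with (h | h) | ⟨b, c, d, e, f, hx, h⟩
  · exact Or.inl (isTwo_vec hF hω h)
  · exact Or.inr (Or.inl (by rw [← vec_trM hF hω]; exact isTwo_vec hF hω h))
  · simp [FiveModel.two] at hx
    exact Or.inr (Or.inr ⟨_, by rw [H_vec hF hω, hx.2.1.1]; rfl, isTwo_vec hF hω hx.2.1.2,
      by rw [← vec_trM hF hω, ← vec_trM hF hω]; exact isTwo_vec hF hω h⟩)

end Cfsg.Agent.ThreeTransp.FiveBridge
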