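import Mathlib
import Cfsg.Agent.Lib.ThreeTransp.FiveBridge

/-!
The five pseudo-reflections of the coordinate frame in `SU(5, 2)`.
-/

set_option autoImplicit false
set_option linter.unusedSectionVars false
set_option linter.unusedSimpArgs false

namespace Cfsg.Agent.ThreeTransp.FiveTorus

open Matrix Cfsg.Agent.Classical.Unitary
open Cfsg.Agent.Forms
open Cfsg.Agent.GroupStructure3.ThreeTransUnitary
open Cfsg.Agent.ThreeTransp

variable {F : Type*} [Field F] [Fintype F] {ω : F}
variable (hF : Fintype.card F = 2 ^ 2) (hω : ω ^ 2 + ω + 1 = 0)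
include hF hω

/-- The element with eigenvalue `ω²` at the coordinate `k` and `ω` at the others. -/
noncomputable def z (k : Fin 5) : Cfsg.SU 5 F 2 :=
  suMk (Matrix.diagonal fun i => if i = k then ω ^ 2 else ω) (by
    rw [Matrix.det_diagonal, Fin.prod_univ_five]
    have h3 := FiveBridge.cube_one hF hω
    fin_cases k <;> simp <;> linear_combination (ω ^ 3 + 1) * h3)
    (diag_preserves hF _ fun i => by
      have h3 := FiveBridge.cube_one hF hω
      split_ifs
      · linear_combination (ω ^ 3 + 1) * h3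
      · linear_combination h3)

theorem z_apply (k : Fin 5) (x : Fin 5 → F) (i : Fin 5) :
    (mat (z hF hω k) *ᵥ x) i = (if i = k then ω ^ 2 else ω) * x i := by
  rw [z, suMk_mulVec, Matrix.mulVec_diagonal]

theorem z_cube (k : Fin 5) : z hF hω k ^ 3 = 1 := by
  have h3 := FiveBridge.cube_one hF hω
  refine SU_ext fun x => funext fun i => ?_
  rw [pow_succ, pow_two, mul_mulVec, mul_mulVec, z_apply, z_apply, z_apply, mat_one, one_mulVec]
  split_ifs
  · linear_combination (x i * (ω ^ 3 + 1)) * h3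
  · linear_combination x i * h3

theorem z_commute (k l : Fin 5) : Commute (z hF hω k) (z hF hω l) := by
  refine SU_ext fun x => funext fun i => ?_
  rw [mul_mulVec, mul_mulVec, z_apply, z_apply, z_apply, z_apply]
  ring

theorem z_smul {k : Fin 5} {v : Fin 5 → F} (hv : v k = 0) :
    mat (z hF hω k) *ᵥ v = ω • v := by
  funext i
  rw [z_apply, Pi.smul_apply, smul_eq_mul]
  split_ifs with h
  · rw [h, hv, mul_zero, mul_zero]
  · rfl

theorem z_commute_tr {k : Fin 5} {v : Fin 5 → F} (hv : Cfsg.hermForm 5 F 2 v v = 0)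
    (hk : v k = 0) : Commute (z hF hω k) (tr hF hv) := by
  obtain ⟨h', e⟩ := UnitaryPoints.tr_scale hF hv (FiveBridge.omega_ne hF hω).1
  have h1 := tr_conj hF (z hF hω k) hv h' (z_smul hF hω hk)
  rw [e, mul_inv_eq_iff_eq_mul] at h1
  exact h1

theorem iso_two {v : Fin 5 → F} {i j : Fin 5} (hij : i ≠ j)
    (hz : ∀ k, k ≠ i → k ≠ j → v k = 0) (x : Fin 5 → F) :
    Cfsg.hermForm 5 F 2 x v = x i * v i ^ 2 + x j * v j ^ 2 := by
  rw [Cfsg.hermForm, Fintype.sum_eq_add i j hij fun k hk => by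
    rw [hz k hk.1 hk.2]; simp]

/-- A transvection with centre of weight two exchanges its two pseudo-reflections. -/
theorem two_conj {v : Fin 5 → F} (hv : Cfsg.hermForm 5 F 2 v v = 0) {i j : Fin 5} (hij : i ≠ j)
    (hi : v i ≠ 0) (hj : v j ≠ 0) (hz : ∀ k, k ≠ i → k ≠ j → v k = 0) (k : Fin 5) :
    tr hF hv * z hF hω k * tr hF hv = z hF hω (Equiv.swap i j k) := by
  have h2 := two_zero hF
  have ci := cube hF hi
  have cj := cube hF hj
  by_cases hk : k ≠ i ∧ k ≠ j
  · rw [Equiv.swap_apply_of_ne_of_ne hk.1 hk.2, ← (z_commute_tr hF hω hv (hz k hk.1 hk.2)).eq,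
      mul_assoc, tr_sq, mul_one]
  have hswap : ∀ x : Fin 5 → F, (mat (tr hF hv) *ᵥ x) i = x j * (v j ^ 2 * v i) ∧
      (mat (tr hF hv) *ᵥ x) j = x i * (v i ^ 2 * v j) ∧
      ∀ l, l ≠ i → l ≠ j → (mat (tr hF hv) *ᵥ x) l = x l := by
    intro x
    rw [tr_mulVec, iso_two hF hω hij hz]
    refine ⟨?_, ?_, fun l hli hlj => ?_⟩ <;> simp only [Pi.add_apply, Pi.smul_apply, smul_eq_mul]
    · linear_combination (x i) * ci + (x i) * h2
    · linear_combination (x j) * cj + (x j) * h2
    · rw [hz l hli hlj, mul_zero, add_zero]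
  refine SU_ext fun x => funext fun l => ?_
  rw [mul_mulVec, mul_mulVec, z_apply]
  obtain ⟨a, b, c⟩ := hswap (mat (z hF hω k) *ᵥ (mat (tr hF hv) *ᵥ x))
  obtain ⟨a', b', c'⟩ := hswap x
  rcases eq_or_ne l i with rfl | hli
  · rw [a, z_apply, b']
    rcases eq_or_ne k l with rfl | hki
    · rw [Equiv.swap_apply_left, if_neg hij.symm, if_neg hij]
      linear_combination (ω * x k * v j ^ 3) * ci + ω * x k * cj
    · obtain rfl : k = j := by tauto
      rw [Equiv.swap_apply_right, if_pos rfl, if_pos rfl]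
      linear_combination (ω ^ 2 * x l * v k ^ 3) * ci + ω ^ 2 * x l * cj
  rcases eq_or_ne l j with rfl | hlj
  · rw [b, z_apply, a']
    rcases eq_or_ne k l with rfl | hki
    · rw [Equiv.swap_apply_right, if_neg hij, if_neg hij.symm]
      linear_combination (ω * x k * v k ^ 3) * ci + ω * x k * cj
    · obtain rfl : k = i := by tauto
      rw [Equiv.swap_apply_left, if_pos rfl, if_pos rfl]
      linear_combination (ω ^ 2 * x l * v l ^ 3) * ci + ω ^ 2 * x l * cj
  rw [c l hli hlj, z_apply, c' l hli hlj]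
  have hne : l ≠ k ∧ l ≠ Equiv.swap i j k := by
    rcases not_and_or.1 hk with h | h <;> push Not at h <;> subst h <;>
      simp [hli, hlj]
  rw [if_neg hne.1, if_neg hne.2]

/-- The pseudo-reflection at the first coordinate as a product of transvections. -/
theorem z_word :
    ∃ (p : Fin 5 → F) (hp : Cfsg.hermForm 5 F 2 p p = 0)
      (hd : Cfsg.hermForm 5 F 2 (FiveBridge.seedFix : Fin 5 → F) FiveBridge.seedFix = 0)
      (l : List (Cfsg.SU 5 F 2)),
      Cfsg.hermForm 5 F 2 p FiveBridge.seedFix ≠ 0 ∧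
      (∀ g ∈ l, ∃ (w : Fin 5 → F) (hw : Cfsg.hermForm 5 F 2 w w = 0), w ≠ 0 ∧
        Cfsg.hermForm 5 F 2 w p = 0 ∧ Cfsg.hermForm 5 F 2 w FiveBridge.seedFix = 0 ∧
        g = tr hF hw) ∧
      tr hF hp * tr hF hd * l.prod = z hF hω 0 := by
  have h2 := two_zero hF
  have h3 := FiveBridge.cube_one hF hω
  have hw0 := (FiveBridge.omega_ne hF hω).1
  have hp : Cfsg.hermForm 5 F 2 (![1, ω, 0, 0, 0] : Fin 5 → F) ![1, ω, 0, 0, 0] = 0 := by
    simp [Cfsg.hermForm, Fin.sum_univ_five]; linear_combination h3 + h2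
  have hd : Cfsg.hermForm 5 F 2 (FiveBridge.seedFix : Fin 5 → F) FiveBridge.seedFix = 0 := by
    simp [Cfsg.hermForm, Fin.sum_univ_five, FiveBridge.seedFix]; linear_combination h2
  have ha : Cfsg.hermForm 5 F 2 (![0, 0, 1, ω ^ 2, 0] : Fin 5 → F) ![0, 0, 1, ω ^ 2, 0] = 0 := by
    simp [Cfsg.hermForm, Fin.sum_univ_five]; linear_combination (ω ^ 3 + 1) * h3 + h2
  have hb : Cfsg.hermForm 5 F 2 (![0, 0, 1, 1, 0] : Fin 5 → F) ![0, 0, 1, 1, 0] = 0 := by
    simp [Cfsg.hermForm, Fin.sum_univ_five]; linear_combination h2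
  have hc : Cfsg.hermForm 5 F 2 (![0, 0, 0, 1, ω] : Fin 5 → F) ![0, 0, 0, 1, ω] = 0 := by
    simp [Cfsg.hermForm, Fin.sum_univ_five]; linear_combination h3 + h2
  have he : Cfsg.hermForm 5 F 2 (![0, 0, 0, 1, 1] : Fin 5 → F) ![0, 0, 0, 1, 1] = 0 := by
    simp [Cfsg.hermForm, Fin.sum_univ_five]; linear_combination h2
  refine ⟨_, hp, hd, [tr hF ha, tr hF hb, tr hF hc, tr hF he], ?_, ?_, ?_⟩
  · simp [Cfsg.hermForm, Fin.sum_univ_five, FiveBridge.seedFix]
    intro e
    exact (FiveBridge.omega_ne hF hω).2 (by linear_combination e - h2)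
  · intro g hg
    simp only [List.mem_cons, List.not_mem_nil, or_false] at hg
    rcases hg with rfl | rfl | rfl | rfl
    · exact ⟨_, ha, fun e => by simpa using congrFun e 2,
        by simp [Cfsg.hermForm, Fin.sum_univ_five],
        by simp [Cfsg.hermForm, Fin.sum_univ_five, FiveBridge.seedFix], rfl⟩
    · exact ⟨_, hb, fun e => by simpa using congrFun e 2,
        by simp [Cfsg.hermForm, Fin.sum_univ_five],
        by simp [Cfsg.hermForm, Fin.sum_univ_five, FiveBridge.seedFix], rfl⟩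
    · exact ⟨_, hc, fun e => by simpa using congrFun e 3,
        by simp [Cfsg.hermForm, Fin.sum_univ_five],
        by simp [Cfsg.hermForm, Fin.sum_univ_five, FiveBridge.seedFix], rfl⟩
    · exact ⟨_, he, fun e => by simpa using congrFun e 3,
        by simp [Cfsg.hermForm, Fin.sum_univ_five],
        by simp [Cfsg.hermForm, Fin.sum_univ_five, FiveBridge.seedFix], rfl⟩
  · refine SU_ext fun x => funext fun i => ?_
    simp only [List.prod_cons, List.prod_nil, mul_one, mul_mulVec, tr_mulVec, z_apply]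
    fin_cases i <;> simp [Cfsg.hermForm, Fin.sum_univ_five, FiveBridge.seedFix, Matrix.vecHead, Matrix.vecTail] <;> grind

end Cfsg.Agent.ThreeTransp.FiveTorus
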