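import Mathlib
import Cfsg.Prelude.Def_Transfer
import Cfsg.Agent.Lib.ThreeTransp.Classes

/-!
A normal 2-subgroup of a 3-transposition group with trivial centre, for quotients in which any two
noncommuting members have a common neighbour and the neighbours of a member together with one
further member generate.
-/

set_option autoImplicit false

namespace Cfsg.Agent.ThreeTransp.TwoRadical

open Cfsg.Agent.ThreeTransp

variable {G S : Type*} [Group G] [Group S] {D : Set G} {π : G →* S}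

/-- The standing hypotheses. -/
structure Ctx (D : Set G) (π : G →* S) : Prop where
  grp : Cfsg.IsThreeTranspositionGroup D
  trans : ∀ a ∈ D, ∀ b ∈ D, ∃ g : G, g * a * g⁻¹ = b
  two : IsPGroup 2 π.ker
  center : Subgroup.center G = ⊥
  common : ∀ d ∈ D, ∀ e ∈ D, ¬ Commute d e → ∃ g ∈ D, Commute g d ∧ Commute g e
  gen : ∀ d ∈ D, ∀ e ∈ D, ¬ Commute d e →
    Subgroup.closure ({f | f ∈ D ∧ Commute f d} ∪ {e}) ⊔ π.ker = ⊤

/-- The products of a member with the members over the same image. -/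
def gens (D : Set G) (π : G →* S) (d : G) : Set G := {x | ∃ e ∈ D, π e = π d ∧ x = d * e}

/-- The subgroup attached to a member. -/
def A (D : Set G) (π : G →* S) (d : G) : Subgroup G := Subgroup.closure (gens D π d)

/-- All these subgroups together. -/
def Q0 (D : Set G) (π : G →* S) : Subgroup G :=
  Subgroup.closure {x | ∃ d ∈ D, x ∈ gens D π d}

theorem A_le_Q0 {d : G} (hd : d ∈ D) : A D π d ≤ Q0 D π :=
  Subgroup.closure_mono fun _ hx => ⟨d, hd, hx⟩

variable (C : Ctx D π)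
include C

theorem sq {d : G} (hd : d ∈ D) : d * d = 1 := Classes.sq C.grp hd

theorem inv {d : G} (hd : d ∈ D) : d⁻¹ = d := Classes.inv C.grp hd

theorem comm_lift {a b : G} (ha : a ∈ D) (hb : b ∈ D) (h : Commute (π a) (π b)) : Commute a b := by
  by_contra hne
  have h3 : (π a * π b) ^ 3 = 1 := by
    rw [← map_mul, ← map_pow, Basic.cube_of_not_commute C.grp.1 ha hb hne, map_one]
  have h2 : (π a * π b) ^ 2 = 1 := by
    rw [h.mul_pow, pow_two, pow_two, ← map_mul, ← map_mul, sq C ha, sq C hb, map_one, one_mul]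
  have hm : a * b ∈ π.ker := by
    rw [MonoidHom.mem_ker, map_mul]
    rwa [pow_succ, h2, one_mul] at h3
  exact hne (Basic.commute_of_pGroup C.grp.1 Nat.prime_two (by norm_num) C.two ha hb hm)

theorem comm_congr {f d e : G} (hf : f ∈ D) (he : e ∈ D) (hfd : Commute f d) (h : π e = π d) :
    Commute f e :=
  comm_lift C hf he (by rw [h]; exact hfd.map π)

theorem A_le_ker {d : G} (hd : d ∈ D) : A D π d ≤ π.ker := by
  rw [A, Subgroup.closure_le]
  rintro _ ⟨e, -, he, rfl⟩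
  rw [SetLike.mem_coe, MonoidHom.mem_ker, map_mul, he, ← map_mul, sq C hd, map_one]

theorem Q0_le_ker : Q0 D π ≤ π.ker := by
  rw [Q0, Subgroup.closure_le]
  rintro x ⟨d, hd, hx⟩
  exact A_le_ker C hd (Subgroup.subset_closure hx)

theorem comm_A {f d : G} (hf : f ∈ D) (hd : d ∈ D) (h : Commute f d) {x : G} (hx : x ∈ A D π d) :
    Commute f x := by
  have : A D π d ≤ Subgroup.centralizer ({f} : Set G) := by
    rw [A, Subgroup.closure_le]
    rintro _ ⟨e, he, hπ, rfl⟩
    rw [SetLike.mem_coe, Subgroup.mem_centralizer_singleton_iff]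
    exact (h.mul_right (comm_congr C hf he h hπ)).eq.symm
  exact (Subgroup.mem_centralizer_singleton_iff.1 (this hx)).symm

theorem comm_AA {f d : G} (hf : f ∈ D) (hd : d ∈ D) (h : Commute f d) {x y : G}
    (hx : x ∈ A D π d) (hy : y ∈ A D π f) : Commute x y := by
  have : A D π f ≤ Subgroup.centralizer ({x} : Set G) := by
    rw [A, Subgroup.closure_le]
    rintro _ ⟨e, he, hπ, rfl⟩
    rw [SetLike.mem_coe, Subgroup.mem_centralizer_singleton_iff]
    exact ((comm_A C hf hd h hx).symm.mul_right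
      (comm_A C he hd (comm_congr C hd he h.symm hπ).symm hx).symm).eq.symm
  exact (Subgroup.mem_centralizer_singleton_iff.1 (this hy)).symm

theorem A_sq {d : G} (hd : d ∈ D) {x : G} (hx : x ∈ A D π d) : x * x = 1 := by
  induction hx using Subgroup.closure_induction with
  | mem x hx =>
    obtain ⟨e, he, hπ, rfl⟩ := hx
    rw [← pow_two]
    exact (Basic.sq_prod_eq_one_iff (sq C hd) (sq C he)).2
      (comm_congr C hd he (Commute.refl d) hπ)
  | one => rw [one_mul]
  | mul x y hx hy ihx ihy =>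
    have hc : Commute x y := comm_AA C hd hd (Commute.refl d) hx hy
    rw [← pow_two, hc.mul_pow, pow_two, pow_two, ihx, ihy, one_mul]
  | inv x _ ih => rw [← mul_inv_rev, ih, inv_one]

theorem conj_gens (g : G) {d x : G} (hx : x ∈ gens D π d) :
    g * x * g⁻¹ ∈ gens D π (g * d * g⁻¹) := by
  obtain ⟨e, he, hπ, rfl⟩ := hx
  exact ⟨g * e * g⁻¹, C.grp.2.1 g e he, by simp [hπ], by group⟩

instance Q0_normal_inst [hN : Fact (Ctx D π)] : (Q0 D π).Normal := by
  constructor
  intro x hx g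
  induction hx using Subgroup.closure_induction with
  | mem x hx =>
    obtain ⟨d, hd, hx⟩ := hx
    exact Subgroup.subset_closure ⟨_, hN.out.grp.2.1 g d hd, conj_gens hN.out g hx⟩
  | one => simp
  | mul x y _ _ hx hy => rw [← conj_mul]; exact mul_mem hx hy
  | inv x _ hx => rw [← conj_inv]; exact inv_mem hx

theorem Q0_normal : (Q0 D π).Normal :=
  have : Fact (Ctx D π) := ⟨C⟩
  inferInstance

theorem twist {d q : G} (hd : d ∈ D) (hq : q ∈ π.ker) : d * q * d * q⁻¹ ∈ A D π d :=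
  Subgroup.subset_closure ⟨q * d * q⁻¹, C.grp.2.1 q d hd,
    by rw [map_mul, map_mul, map_inv, MonoidHom.mem_ker.1 hq]; simp, by group⟩

theorem twist' {d q : G} (hd : d ∈ D) (hq : q ∈ π.ker) :
    ∃ b ∈ A D π d, d * q * d = q * b := by
  refine ⟨q⁻¹ * (d * q * d), ?_, by group⟩
  have h := inv_mem (twist C hd (inv_mem hq))
  have e : (d * q⁻¹ * d * q⁻¹⁻¹)⁻¹ = q⁻¹ * (d * q * d) := by
    rw [inv_inv, mul_inv_rev, mul_inv_rev, mul_inv_rev, inv_inv, inv C hd]
    group
  rwa [e] at h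

theorem comm_ker {g q : G} (hq : q ∈ π.ker) : g * q * g⁻¹ * q⁻¹ ∈ Q0 D π := by
  have hnK : π.ker.Normal := inferInstance
  have := Q0_normal C
  have hg : g ∈ Subgroup.closure D := by rw [C.grp.2.2]; exact Subgroup.mem_top g
  induction hg using Subgroup.closure_induction generalizing q with
  | mem d hd =>
    rw [inv C hd]
    exact A_le_Q0 hd (twist C hd hq)
  | one => simp
  | mul x y _ _ hx hy =>
    have h1 := hx (hnK.conj_mem q hq y)
    have h2 := hy hq
    rw [show x * y * q * (x * y)⁻¹ * q⁻¹ =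
      x * (y * q * y⁻¹) * x⁻¹ * (y * q * y⁻¹)⁻¹ * (y * q * y⁻¹ * q⁻¹) by group]
    exact mul_mem h1 h2
  | inv x _ hx =>
    have h1 := inv_mem (hx (hnK.conj_mem q hq x⁻¹))
    rw [show x⁻¹ * q * x⁻¹⁻¹ * q⁻¹ =
      (x * (x⁻¹ * q * x⁻¹⁻¹) * x⁻¹ * (x⁻¹ * q * x⁻¹⁻¹)⁻¹)⁻¹ by group]
    exact h1

/-- The kernel normalises every subgroup containing `Q0`. -/
theorem ker_normalizes {L : Subgroup G} (hL : Q0 D π ≤ L) {q l : G} (hq : q ∈ π.ker) (hl : l ∈ L) :
    q * l * q⁻¹ ∈ L := by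
  rw [show q * l * q⁻¹ = (l * q * l⁻¹ * q⁻¹)⁻¹ * l by group]
  exact mul_mem (inv_mem (hL (comm_ker C hq))) hl

/-- A subgroup covering the quotient and meeting the class covers it modulo `Q0`. -/
theorem full_of_cover {M : Subgroup G} (hM : M ⊔ π.ker = ⊤) {d : G} (hd : d ∈ D) (hdM : d ∈ M) :
    M ⊔ Q0 D π = ⊤ := by
  have := Q0_normal C
  obtain ⟨L, hLdef⟩ : ∃ L, L = M ⊔ Q0 D π := ⟨_, rfl⟩
  rw [← hLdef]
  have hn : Subgroup.normalizer (L : Set G) = ⊤ := by
    rw [eq_top_iff, ← hM, sup_le_iff]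
    refine ⟨fun m hm => Subgroup.le_normalizer (hLdef ▸ Subgroup.mem_sup_left hm), fun q hq => ?_⟩
    refine Subgroup.mem_normalizer_iff.2 fun l => ⟨fun hl => ?_, fun hl => ?_⟩
    · exact ker_normalizes C (hLdef ▸ le_sup_right) hq hl
    · have h := ker_normalizes C (hLdef ▸ le_sup_right) (inv_mem hq) hl
      rwa [show q⁻¹ * (q * l * q⁻¹) * q⁻¹⁻¹ = l by group] at h
  rw [eq_top_iff, ← C.grp.2.2, Subgroup.closure_le]
  intro e he
  obtain ⟨g, rfl⟩ := C.trans d hd e he
  have hg : g ∈ Subgroup.normalizer (L : Set G) := hn ▸ Subgroup.mem_top g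
  exact (Subgroup.mem_normalizer_iff.1 hg d).1 (hLdef ▸ Subgroup.mem_sup_left hdM)

theorem commute_gens_of_not_commute [Finite G] {d e : G} (hd : d ∈ D) (he : e ∈ D)
    (hde : ¬ Commute d e) {x z : G} (hx : x ∈ A D π d) (hz : z ∈ A D π e) : Commute x z := by
  have : Fact (Nat.Prime 2) := ⟨Nat.prime_two⟩
  have hQn := Q0_normal C
  have hxk : x ∈ π.ker := A_le_ker C hd hx
  have hzk : z ∈ π.ker := A_le_ker C he hz
  obtain ⟨w, hw⟩ : ∃ w, w = x * z * x⁻¹ * z⁻¹ := ⟨_, rfl⟩
  obtain ⟨M, hM⟩ : ∃ M, M = Subgroup.centralizer ({w} : Set G) := ⟨_, rfl⟩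
  have hwQ : w ∈ Q0 D π := by
    rw [hw]
    exact mul_mem (mul_mem (mul_mem (A_le_Q0 hd hx) (A_le_Q0 he hz)) (inv_mem (A_le_Q0 hd hx)))
      (inv_mem (A_le_Q0 he hz))
  -- the neighbours of `d` and the member `e` fix the commutator
  have hfix : ∀ f ∈ {f | f ∈ D ∧ Commute f d} ∪ {e}, f ∈ M := by
    intro f hf
    rw [hM, Subgroup.mem_centralizer_singleton_iff]
    rcases hf with ⟨hfD, hfd⟩ | hf
    · have hfx := comm_A C hfD hd hfd hx
      obtain ⟨b, hb, hb'⟩ := twist' C hfD hzk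
      have hxb : Commute x b := comm_AA C hfD hd hfd hx hb
      have hf' : f * w * f = w := by
        rw [hw, show f * (x * z * x⁻¹ * z⁻¹) * f =
            (f * x * f⁻¹) * (f * z * f⁻¹) * (f * x * f⁻¹)⁻¹ * (f * z * f⁻¹)⁻¹ * (f * f) by group,
          sq C hfD, mul_one, hfx.eq, mul_inv_cancel_right, inv C hfD, hb', mul_inv_rev z b]
        calc x * (z * b) * x⁻¹ * (b⁻¹ * z⁻¹) = x * z * (b * x⁻¹) * b⁻¹ * z⁻¹ := by group
          _ = x * z * x⁻¹ * z⁻¹ := by rw [hxb.inv_left.symm.eq]; group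
      calc f * w = f * w * f * f := by rw [mul_assoc _ f f, sq C hfD, mul_one]
        _ = w * f := by rw [hf']
    · rw [Set.mem_singleton_iff] at hf
      subst hf
      have hfz := comm_A C he he (Commute.refl _) hz
      obtain ⟨a, ha, ha'⟩ := twist' C he hxk
      have haz : Commute a z := comm_AA C he he (Commute.refl _) ha hz
      have hf' : f * w * f = w := by
        rw [hw, show f * (x * z * x⁻¹ * z⁻¹) * f =
            (f * x * f⁻¹) * (f * z * f⁻¹) * (f * x * f⁻¹)⁻¹ * (f * z * f⁻¹)⁻¹ * (f * f) by group,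
          sq C he, mul_one, hfz.eq, mul_inv_cancel_right, inv C he, ha', mul_inv_rev x a]
        calc x * a * z * (a⁻¹ * x⁻¹) * z⁻¹ = x * (a * z) * a⁻¹ * x⁻¹ * z⁻¹ := by group
          _ = x * z * x⁻¹ * z⁻¹ := by rw [haz.eq]; group
      calc f * w = f * w * f * f := by rw [mul_assoc _ f f, sq C he, mul_one]
        _ = w * f := by rw [hf']
  have hdM : d ∈ M := hfix d (Or.inl ⟨hd, Commute.refl d⟩)
  have hcov : M ⊔ π.ker = ⊤ := by
    rw [eq_top_iff, ← C.gen d hd e he hde]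
    exact sup_le_sup_right ((Subgroup.closure_le _).2 hfix) _
  have hfull := full_of_cover C hcov hd hdM
  obtain ⟨g, hg, hgd, hge⟩ := C.common d hd e he hde
  have hgM : ∀ y ∈ A D π g, y ∈ M := by
    intro y hy
    rw [hM, Subgroup.mem_centralizer_singleton_iff, hw]
    have hyx : Commute y x := (comm_AA C hg hd hgd hx hy).symm
    have hyz : Commute y z := (comm_AA C hg he hge hz hy).symm
    exact (((hyx.mul_right hyz).mul_right hyx.inv_right).mul_right hyz.inv_right).eq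
  -- the centralizer is all of the nilpotent group `Q0`
  have hQM : Q0 D π ≤ M := by
    have hnil : Group.IsNilpotent (Q0 D π) := (C.two.to_le (Q0_le_ker C)).isNilpotent
    by_contra hne
    have hN1 : M.subgroupOf (Q0 D π) ≠ ⊤ := fun h => hne (Subgroup.subgroupOf_eq_top.1 h)
    obtain ⟨P, hP, hle⟩ := (eq_top_or_exists_le_coatom _).resolve_left hN1
    have hPn : P.Normal := Subgroup.NormalizerCondition.normal_of_coatom P
      Group.normalizerCondition_of_isNilpotent hP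
    apply hP.1
    have hgen : {x | ∃ d ∈ D, x ∈ gens D π d} ⊆ P.map (Q0 D π).subtype := by
      rintro u ⟨h, hh, hu⟩
      obtain ⟨c, rfl⟩ := C.trans g hg h hh
      have hc : c ∈ Q0 D π ⊔ M := by rw [sup_comm, hfull]; exact Subgroup.mem_top c
      obtain ⟨p, hp, m, hm, rfl⟩ := Subgroup.mem_sup_of_normal_left.1 hc
      obtain ⟨y, hy, rfl⟩ : ∃ y ∈ gens D π g, (p * m) * y * (p * m)⁻¹ = u := by
        refine ⟨(p * m)⁻¹ * u * (p * m), ?_, by group⟩
        have := conj_gens C (p * m)⁻¹ hu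
        rwa [inv_inv, show (p * m)⁻¹ * ((p * m) * g * (p * m)⁻¹) * (p * m) = g by group] at this
      have hyA : y ∈ A D π g := Subgroup.subset_closure hy
      have hmy : m * y * m⁻¹ ∈ M := mul_mem (mul_mem hm (hgM y hyA)) (inv_mem hm)
      have hmy' : m * y * m⁻¹ ∈ Q0 D π := hQn.conj_mem y (A_le_Q0 hg hyA) m
      exact ⟨⟨p, hp⟩ * ⟨_, hmy'⟩ * (⟨p, hp⟩ : Q0 D π)⁻¹,
        hPn.conj_mem _ (hle (Subgroup.mem_subgroupOf.2 hmy)) _, by simp [mul_assoc]⟩
    rw [eq_top_iff]
    rintro ⟨u, hu⟩ -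
    obtain ⟨v, hv, hvu⟩ := (Subgroup.closure_le _).2 hgen hu
    exact (Subtype.ext hvu : v = ⟨u, hu⟩) ▸ hv
  have hw1 : w ∈ Subgroup.center G := by
    have htop : Subgroup.centralizer ({w} : Set G) = ⊤ := by
      rw [← hM, eq_top_iff, ← hfull]
      exact sup_le le_rfl hQM
    exact Subgroup.mem_center_iff.2 fun u =>
      Subgroup.mem_centralizer_singleton_iff.1 (htop ▸ Subgroup.mem_top u)
  rw [C.center, Subgroup.mem_bot, hw, mul_inv_eq_one, mul_inv_eq_iff_eq_mul] at hw1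
  exact hw1

theorem Q0_comm [Finite G] {x y : G} (hx : x ∈ Q0 D π) (hy : y ∈ Q0 D π) : Commute x y := by
  have key : ∀ u v, (∃ d ∈ D, u ∈ gens D π d) → (∃ d ∈ D, v ∈ gens D π d) → Commute u v := by
    rintro u v ⟨d, hd, hu⟩ ⟨e, he, hv⟩
    have hu' := Subgroup.subset_closure hu
    have hv' := Subgroup.subset_closure hv
    by_cases h : Commute e d
    · exact comm_AA C he hd h hu' hv'
    · exact commute_gens_of_not_commute C hd he (fun h' => h h'.symm) hu' hv'
  have h1 : Q0 D π ≤ Subgroup.centralizer (Q0 D π : Set G) := by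
    rw [Q0, Subgroup.centralizer_closure, Subgroup.closure_le]
    exact fun u hu => Subgroup.mem_centralizer_iff.2 fun v hv => (key v u hv hu).eq
  exact (Subgroup.mem_centralizer_iff.1 (h1 hx) y hy).symm

theorem Q0_sq [Finite G] {x : G} (hx : x ∈ Q0 D π) : x * x = 1 := by
  induction hx using Subgroup.closure_induction with
  | mem x hx =>
    obtain ⟨d, hd, hx⟩ := hx
    exact A_sq C hd (Subgroup.subset_closure hx)
  | one => rw [one_mul]
  | mul x y hx hy ihx ihy =>
    rw [← pow_two, (Q0_comm C hx hy).mul_pow, pow_two, pow_two, ihx, ihy, one_mul]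
  | inv x _ ih => rw [← mul_inv_rev, ih, inv_one]

/-- If the neighbours of a member cover the kernel modulo `Q0`, the kernel is elementary abelian. -/
theorem ker_elementary [Finite G]
    (hcov : ∀ d ∈ D, π.ker ≤ Subgroup.closure {f | f ∈ D ∧ Commute f d} ⊔ Q0 D π) :
    Cfsg.IsElementaryAbelian 2 π.ker := by
  have hQ0 : ∀ q ∈ π.ker, ∀ x ∈ Q0 D π, Commute x q := by
    intro q hq x hx
    have : Q0 D π ≤ Subgroup.centralizer ({q} : Set G) := by
      rw [Q0, Subgroup.closure_le]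
      rintro u ⟨d, hd, hu⟩
      have hu' := Subgroup.subset_closure hu
      have hle : Subgroup.closure {f | f ∈ D ∧ Commute f d} ⊔ Q0 D π ≤
          Subgroup.centralizer ({u} : Set G) := by
        refine sup_le ((Subgroup.closure_le _).2 ?_) fun v hv => ?_
        · rintro f ⟨hf, hfd⟩
          exact Subgroup.mem_centralizer_singleton_iff.2 (comm_A C hf hd hfd hu').eq
        · exact Subgroup.mem_centralizer_singleton_iff.2 (Q0_comm C hv (A_le_Q0 hd hu')).eq
      exact Subgroup.mem_centralizer_singleton_iff.2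
        (Subgroup.mem_centralizer_singleton_iff.1 (hle (hcov d hd hq))).symm
    exact Subgroup.mem_centralizer_singleton_iff.1 (this hx)
  have hcent : ∀ w, (∀ d ∈ D, d * w * d = w) → w = 1 := by
    intro w h
    have h' : w ∈ Subgroup.center G := by
      have hD : Subgroup.closure D ≤ Subgroup.centralizer ({w} : Set G) :=
        (Subgroup.closure_le _).2 fun d hd => Subgroup.mem_centralizer_singleton_iff.2 <| by
          calc d * w = d * w * d * d := by rw [mul_assoc _ d d, sq C hd, mul_one]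
            _ = w * d := by rw [h d hd]
      rw [C.grp.2.2] at hD
      exact Subgroup.mem_center_iff.2 fun u =>
        Subgroup.mem_centralizer_singleton_iff.1 (hD (Subgroup.mem_top u))
    rwa [C.center, Subgroup.mem_bot] at h'
  have hconj : ∀ d ∈ D, ∀ u v : G, d * (u * v) * d = (d * u * d) * (d * v * d) := by
    intro d hd u v
    rw [show (d * u * d) * (d * v * d) = d * u * (d * d) * v * d by group, sq C hd]
    group
  refine ⟨⟨⟨fun a b => Subtype.ext ?_⟩⟩, fun a ha => ?_⟩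
  · obtain ⟨a, ha⟩ := a
    obtain ⟨b, hb⟩ := b
    show a * b = b * a
    refine mul_inv_eq_one.1 (hcent _ fun d hd => ?_)
    obtain ⟨α, hα, ea⟩ := twist' C hd ha
    obtain ⟨β, hβ, eb⟩ := twist' C hd hb
    have hαQ := A_le_Q0 hd hα
    have hβQ := A_le_Q0 hd hβ
    have c1 := hQ0 b hb α hαQ
    have c2 := hQ0 a ha β hβQ
    have c3 := Q0_comm C hαQ hβQ
    have einv : ∀ u, d * u⁻¹ * d = (d * u * d)⁻¹ := fun u => by
      rw [mul_inv_rev, mul_inv_rev, inv C hd, mul_assoc]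
    have hab : (d * a * d) * (d * b * d) = a * b * (α * β) := by
      rw [ea, eb, show a * α * (b * β) = a * (α * b) * β by group, c1.eq]
      group
    have hba : (d * b * d) * (d * a * d) = b * a * (α * β) := by
      rw [ea, eb, show b * β * (a * α) = b * (β * a) * α by group, c2.eq, c3.eq]
      group
    rw [hconj d hd, einv, hconj d hd, hconj d hd, hab, hba]
    group
  · rw [pow_two]
    refine hcent _ fun d hd => ?_
    obtain ⟨α, hα, ea⟩ := twist' C hd ha
    rw [hconj d hd, ea, show a * α * (a * α) = a * (α * a) * α by group,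
      (hQ0 a ha α (A_le_Q0 hd hα)).eq, show a * (a * α) * α = a * a * (α * α) by group,
      Q0_sq C (A_le_Q0 hd hα), mul_one]

/-- The covering condition from a neighbourhood of odd index with an odd relation. -/
theorem cover_of_odd [Finite G] {d : G} (hd : d ∈ D)
    (hidx : Odd (Subgroup.closure {f | f ∈ D ∧ Commute f d} ⊔ π.ker).index) {l : List G}
    (hl : ∀ f ∈ l, f ∈ D ∧ Commute f d) (hlen : Odd l.length) (hprod : l.prod ∈ π.ker) :
    π.ker ≤ Subgroup.closure {f | f ∈ D ∧ Commute f d} ⊔ Q0 D π := by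
  have : Fact (Nat.Prime 2) := ⟨Nat.prime_two⟩
  have := Q0_normal C
  obtain ⟨K, hK⟩ : ∃ K, K = Subgroup.closure {f | f ∈ D ∧ Commute f d} := ⟨_, rfl⟩
  rw [← hK] at hidx ⊢
  let ρ := QuotientGroup.mk' (Q0 D π)
  have hρs : Function.Surjective ρ := QuotientGroup.mk'_surjective _
  have hker : ρ.ker = Q0 D π := QuotientGroup.ker_mk' _
  have hZ : π.ker.map ρ ≤ Subgroup.center (G ⧸ Q0 D π) := by
    rintro _ ⟨q, hq, rfl⟩
    refine Subgroup.mem_center_iff.2 fun u => ?_
    obtain ⟨g, rfl⟩ := hρs u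
    have h : ρ (g * q * g⁻¹ * q⁻¹) = 1 := (QuotientGroup.eq_one_iff _).2 (comm_ker C hq)
    rwa [map_mul, map_mul, map_mul, map_inv, map_inv, mul_inv_eq_one,
      mul_inv_eq_iff_eq_mul] at h
  obtain ⟨L, hL⟩ : ∃ L, L = (K ⊔ π.ker).map ρ := ⟨_, rfl⟩
  have hLi : Odd L.index := by
    rw [hL, Subgroup.index_map_eq _ hρs (by rw [hker]; exact (Q0_le_ker C).trans le_sup_right)]
    exact hidx
  have hdec : ∀ x ∈ L, ∃ k ∈ K.map ρ, ∃ z ∈ Subgroup.center (G ⧸ Q0 D π), x = k * z := by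
    intro x hx
    rw [hL, Subgroup.mem_map] at hx
    obtain ⟨g, hg, rfl⟩ := hx
    obtain ⟨k, hk, q, hq, rfl⟩ := Subgroup.mem_sup_of_normal_right.1 hg
    exact ⟨ρ k, ⟨k, hk, rfl⟩, ρ q, hZ ⟨q, hq, rfl⟩, map_mul ρ k q⟩
  have hKL : K.map ρ ≤ L := hL ▸ Subgroup.map_mono le_sup_left
  have hKn : ((K.map ρ).subgroupOf L).Normal := ⟨fun n hn g => by
    rw [Subgroup.mem_subgroupOf] at hn ⊢
    obtain ⟨k, hk, z, hz, hg⟩ := hdec g g.2
    rw [Subgroup.coe_mul, Subgroup.coe_mul, Subgroup.coe_inv, hg, mul_inv_rev,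
      show k * z * n * (z⁻¹ * k⁻¹) = k * (z * n * z⁻¹) * k⁻¹ by group,
      ← Subgroup.mem_center_iff.1 hz n, mul_inv_cancel_right]
    exact mul_mem (mul_mem hk hn) (inv_mem hk)⟩
  let φ0 := QuotientGroup.mk' ((K.map ρ).subgroupOf L)
  have hφ : ∀ x : L, ∃ z : L, (z : G ⧸ Q0 D π) ∈ Subgroup.center (G ⧸ Q0 D π) ∧ φ0 x = φ0 z := by
    intro x
    obtain ⟨k, hk, z, hz, hx⟩ := hdec x x.2
    have hzL : z ∈ L := by
      have : z = k⁻¹ * (x : G ⧸ Q0 D π) := by rw [hx]; group
      rw [this]; exact mul_mem (inv_mem (hKL hk)) x.2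
    refine ⟨⟨z, hzL⟩, hz, ?_⟩
    rw [show x = ⟨k, hKL hk⟩ * ⟨z, hzL⟩ from Subtype.ext hx, map_mul,
      show φ0 ⟨k, hKL hk⟩ = 1 from
        (QuotientGroup.eq_one_iff _).2 (Subgroup.mem_subgroupOf.2 hk), one_mul]
  let : CommGroup (↥L ⧸ (K.map ρ).subgroupOf L) :=
    { (inferInstance : Group (↥L ⧸ (K.map ρ).subgroupOf L)) with
      mul_comm := fun a b => by
        obtain ⟨x, rfl⟩ := QuotientGroup.mk'_surjective _ a
        obtain ⟨y, rfl⟩ := QuotientGroup.mk'_surjective _ b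
        obtain ⟨z, hz, hxz⟩ := hφ x
        show φ0 x * φ0 y = φ0 y * φ0 x
        rw [hxz, ← map_mul, ← map_mul]
        congr 1
        exact Subtype.ext (Subgroup.mem_center_iff.1 hz y).symm }
  let φ : L →* ↥L ⧸ (K.map ρ).subgroupOf L := φ0
  let T := MonoidHom.transfer φ
  have hTz : ∀ q ∈ π.ker, T (ρ q) = 1 → (ρ q) ^ L.index ∈ K.map ρ := by
    intro q hq h
    have hc : ρ q ∈ Subgroup.center (G ⧸ Q0 D π) := hZ ⟨q, hq, rfl⟩
    have key : ∀ (k : ℕ) (g₀ : G ⧸ Q0 D π), g₀⁻¹ * ρ q ^ k * g₀ ∈ L →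
        g₀⁻¹ * ρ q ^ k * g₀ = ρ q ^ k := fun k g₀ _ => by
      rw [mul_assoc, ← Subgroup.mem_center_iff.1 (pow_mem hc k) g₀, inv_mul_cancel_left]
    have h1 : φ ⟨ρ q ^ L.index, MonoidHom.transfer_eq_pow_aux (ρ q) key⟩ = 1 := by
      rw [← MonoidHom.transfer_eq_pow φ (ρ q) key]; exact h
    exact Subgroup.mem_subgroupOf.1 ((QuotientGroup.eq_one_iff _).1 h1)
  -- all members have the same image under the transfer
  have hTconj : ∀ e ∈ D, T (ρ e) = T (ρ d) := by
    intro e he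
    obtain ⟨g, rfl⟩ := C.trans d hd e he
    rw [map_mul, map_mul, map_inv, map_mul, map_mul, map_inv, mul_inv_cancel_comm]
  have hpK : ρ l.prod ∈ K.map ρ :=
    ⟨l.prod, list_prod_mem fun f hf => hK ▸ Subgroup.subset_closure (hl f hf), rfl⟩
  have hTp : T (ρ l.prod) = 1 := by
    have hc : ρ l.prod ∈ Subgroup.center (G ⧸ Q0 D π) := hZ ⟨_, hprod, rfl⟩
    have key : ∀ (k : ℕ) (g₀ : G ⧸ Q0 D π), g₀⁻¹ * ρ l.prod ^ k * g₀ ∈ L →
        g₀⁻¹ * ρ l.prod ^ k * g₀ = ρ l.prod ^ k := fun k g₀ _ => by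
      rw [mul_assoc, ← Subgroup.mem_center_iff.1 (pow_mem hc k) g₀, inv_mul_cancel_left]
    show MonoidHom.transfer φ _ = 1
    rw [MonoidHom.transfer_eq_pow φ (ρ l.prod) key]
    exact (QuotientGroup.eq_one_iff _).2 (Subgroup.mem_subgroupOf.2 (pow_mem hpK _))
  have hv : T (ρ d) = 1 := by
    have h2 : T (ρ d) ^ 2 = 1 := by rw [pow_two, ← map_mul, ← map_mul, sq C hd, map_one, map_one]
    have h5 : T (ρ d) ^ l.length = 1 := by
      rw [← hTp, show T (ρ l.prod) = (T.comp ρ) l.prod from rfl, map_list_prod]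
      refine ((List.prod_eq_pow_card _ (T (ρ d)) ?_).trans (by rw [List.length_map])).symm
      intro y hy
      obtain ⟨f, hf, rfl⟩ := List.mem_map.1 hy
      exact hTconj f (hl f hf).1
    obtain ⟨m, hm⟩ := hlen
    rwa [hm, pow_succ, pow_mul, h2, one_pow, one_mul] at h5
  have hT : ∀ g, T (ρ g) = 1 := by
    intro g
    have hg : g ∈ (T.comp ρ).ker := by
      have : Subgroup.closure D ≤ (T.comp ρ).ker :=
        (Subgroup.closure_le _).2 fun e he => MonoidHom.mem_ker.2 ((hTconj e he).trans hv)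
      rw [C.grp.2.2] at this
      exact this (Subgroup.mem_top g)
    exact hg
  intro q hq
  have hpow := hTz q hq (hT q)
  obtain ⟨k, hk⟩ := IsPGroup.iff_orderOf.1 C.two ⟨q, hq⟩
  rw [Subgroup.orderOf_mk] at hk
  have hcop : L.index.Coprime (orderOf (ρ q)) :=
    Nat.Coprime.coprime_dvd_right (hk ▸ orderOf_map_dvd ρ q)
      (Nat.Coprime.pow_right k hLi.coprime_two_right)
  obtain ⟨m, hm⟩ := exists_pow_eq_self_of_coprime hcop
  have hqm : q ∈ (K.map ρ).comap ρ := by
    rw [Subgroup.mem_comap, ← hm]; exact pow_mem hpow m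
  rwa [Subgroup.comap_map_eq, hker] at hqm

end Cfsg.Agent.ThreeTransp.TwoRadical
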