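import Mathlib
import Cfsg.Agent.GroupStructure3.ThreeTransUnitary
import Cfsg.Agent.S2164

/-!
A class of 3-transpositions generating `SU(n, 2)` consists of transvections, given suitable pairs of
permutation matrices.
-/

set_option autoImplicit false
set_option linter.unusedSectionVars false

namespace Cfsg.Agent.ThreeTransp.UnitaryClass

open Matrix Cfsg.Agent.Classical.Unitary
open Cfsg.Agent.Forms
open Cfsg.Agent.GroupStructure3.ThreeTransUnitary

variable {F : Type*} [Field F] [Fintype F] {n : ℕ} (hF : Fintype.card F = 2 ^ 2)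
include hF

theorem char_two : CharP F 2 := CharTwo.of_one_ne_zero_of_two_eq_zero one_ne_zero (two_zero hF)

theorem det_perm (σ : Equiv.Perm (Fin n)) : (σ.permMatrix F).det = 1 := by
  rw [Matrix.det_permutation]
  rcases Int.units_eq_one_or (Equiv.Perm.sign σ) with h | h
  · simp [h]
  · rw [h]
    simp only [Units.val_neg, Units.val_one, Int.cast_neg, Int.cast_one]
    linear_combination -(two_zero hF)

/-- Permutation matrices in the special unitary group. -/
noncomputable def perm : Equiv.Perm (Fin n) →* Cfsg.SU n F 2 where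
  toFun σ := suMk ((σ⁻¹ : Equiv.Perm (Fin n)).permMatrix F) (det_perm hF _) fun u v => by
    rw [Matrix.permMatrix_mulVec, Matrix.permMatrix_mulVec]
    exact Equiv.sum_comp (σ⁻¹ : Equiv.Perm (Fin n)) (fun i => u i * v i ^ 2)
  map_one' := SU_ext fun x => by
    rw [suMk_mulVec, Matrix.permMatrix_mulVec, mat_one, one_mulVec]; rfl
  map_mul' σ τ := SU_ext fun x => by
    rw [suMk_mulVec, mul_mulVec, suMk_mulVec, suMk_mulVec, Matrix.permMatrix_mulVec,
      Matrix.permMatrix_mulVec, Matrix.permMatrix_mulVec]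
    rfl

theorem perm_injective : Function.Injective (perm hF (n := n)) := by
  rw [injective_iff_map_eq_one]
  intro σ h
  ext i
  have h1 : (mat (perm hF σ) *ᵥ (Pi.single i (1 : F))) (σ i) =
      (mat (1 : Cfsg.SU n F 2) *ᵥ (Pi.single i (1 : F))) (σ i) := by rw [h]
  rw [mat_one, one_mulVec, show mat (perm hF σ) *ᵥ (Pi.single i (1 : F)) =
      (Pi.single i (1 : F) : Fin n → F) ∘ ⇑(σ⁻¹ : Equiv.Perm (Fin n)) from
    Matrix.permMatrix_mulVec _] at h1
  by_contra hne
  have hne' : σ i ≠ i := fun e => hne (by simp [e])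
  simp [Pi.single_apply, hne'] at h1

theorem rank_perm {r : ℕ} (σ : Equiv.Perm (Fin n)) (B : Matrix (Fin n) (Fin r) (ZMod 2))
    (C : Matrix (Fin r) (Fin n) (ZMod 2))
    (h1 : (σ⁻¹ : Equiv.Perm (Fin n)).permMatrix (ZMod 2) - 1 = B * Bᵀ)
    (h2 : C * (B * Bᵀ) * Cᵀ = 1) :
    (((perm hF σ : Matrix.SpecialLinearGroup (Fin n) F) : Matrix (Fin n) (Fin n) F) - 1).rank
      = r := by
  have := char_two hF
  set f := ZMod.castHom (dvd_refl 2) F with hf
  have hM : mat (perm hF σ) - 1 = B.map f * (B.map f)ᵀ := by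
    rw [← Matrix.transpose_map, ← Matrix.map_mul, ← h1]
    ext i j
    show (σ⁻¹ : Equiv.Perm (Fin n)).permMatrix F i j - (1 : Matrix (Fin n) (Fin n) F) i j = _
    simp [Matrix.one_apply, PEquiv.toMatrix_apply, apply_ite f]
  rw [show ((perm hF σ : Matrix.SpecialLinearGroup (Fin n) F) : Matrix (Fin n) (Fin n) F) - 1 =
    B.map f * (B.map f)ᵀ from hM]
  refine le_antisymm (((Matrix.rank_mul_le_left _ _).trans (Matrix.rank_le_card_width _)).trans
    (Fintype.card_fin r).le) ?_
  have h3 : C.map f * (B.map f * (B.map f)ᵀ) * (C.map f)ᵀ = 1 := by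
    rw [← Matrix.transpose_map, ← Matrix.transpose_map, ← Matrix.map_mul, ← Matrix.map_mul,
      ← Matrix.map_mul, h2, Matrix.map_one f (map_zero f) (map_one f)]
  calc r = (1 : Matrix (Fin r) (Fin r) F).rank := by rw [Matrix.rank_one, Fintype.card_fin]
    _ ≤ _ := by
      rw [← h3]
      exact (Matrix.rank_mul_le_left _ _).trans (Matrix.rank_mul_le_right _ _)

/-- Two involutions of equal rank whose product is neither of order dividing two nor three. -/
structure BadPair (hF : Fintype.card F = 2 ^ 2) (n r : ℕ) (σ τ : Equiv.Perm (Fin n)) : Prop where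
  sq₁ : σ ^ 2 = 1
  sq₂ : τ ^ 2 = 1
  ne₁ : σ ≠ 1
  ne₂ : τ ≠ 1
  two : (σ * τ) ^ 2 ≠ 1
  three : (σ * τ) ^ 3 ≠ 1
  rk₁ : (((perm hF σ : Matrix.SpecialLinearGroup (Fin n) F) : Matrix (Fin n) (Fin n) F) - 1).rank
    = r
  rk₂ : (((perm hF τ : Matrix.SpecialLinearGroup (Fin n) F) : Matrix (Fin n) (Fin n) F) - 1).rank
    = r

theorem class_eq (hn : 4 ≤ n)
    (hbad : ∀ r, 2 ≤ r → 2 * r ≤ n → ∃ σ τ, BadPair hF n r σ τ)
    {E : Set (Cfsg.SU n F 2)} (hE : Cfsg.IsThreeTranspositionClass E) :
    E = {g : Cfsg.SU n F 2 |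
        (((g : Matrix.SpecialLinearGroup (Fin n) F) : Matrix (Fin n) (Fin n) F) - 1).rank = 1} := by
  have := char_two hF
  obtain ⟨d, hd, rfl⟩ := hE.2.1
  have hd2 : orderOf d = 2 := hE.1.1 d hd
  obtain ⟨r, hr⟩ : ∃ r,
      r = (((d : Matrix.SpecialLinearGroup (Fin n) F) : Matrix (Fin n) (Fin n) F) - 1).rank :=
    ⟨_, rfl⟩
  have hconj : ∀ g : Cfsg.SU n F 2, orderOf g = 2 → (g ∈ conjugatesOf d ↔
      (((g : Matrix.SpecialLinearGroup (Fin n) F) : Matrix (Fin n) (Fin n) F) - 1).rank = r) := by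
    intro g hg
    rw [hr, eq_comm]
    exact (S2164.result hF (by omega) d g hd2 hg).2
  have hr1 : r = 1 := by
    have hr0 : r ≠ 0 := by
      intro h0
      rw [h0, eq_comm, Matrix.rank, Submodule.finrank_eq_zero, LinearMap.range_eq_bot] at hr
      have h1 : d = 1 := SU_ext fun x => by
        have h2 : (mat d - 1) *ᵥ x = 0 := by
          rw [← Matrix.mulVecLin_apply, hr, LinearMap.zero_apply]
        rw [mat_one, one_mulVec]
        rwa [sub_mulVec, one_mulVec, sub_eq_zero] at h2
      rw [h1, orderOf_one] at hd2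
      exact absurd hd2 (by norm_num)
    have hle : 2 * r ≤ n := by
      have hdd : mat d * mat d = 1 := by
        have h := pow_orderOf_eq_one d
        rw [hd2, pow_two] at h
        rw [← mat_mul, h, mat_one]
      have hN : (mat d - 1) * (mat d - 1) = 0 := by
        rw [sub_mul, mul_sub, one_mul, mul_one, hdd, ← neg_sub (1 : Matrix (Fin n) (Fin n) F)]
        ext i j
        simp only [Matrix.sub_apply, Matrix.neg_apply, Matrix.zero_apply]
        linear_combination ((1 : Matrix (Fin n) (Fin n) F) i j - mat d i j) * two_zero hF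
      have := Matrix.rank_add_rank_le_card_of_mul_eq_zero hN
      rw [Fintype.card_fin] at this
      change r = (mat d - 1).rank at hr
      omega
    by_contra h1
    obtain ⟨σ, τ, B⟩ := hbad r (by omega) hle
    have ho : ∀ {ρ : Equiv.Perm (Fin n)}, ρ ^ 2 = 1 → ρ ≠ 1 → orderOf (perm hF ρ) = 2 := by
      intro ρ h2 hne
      rw [orderOf_injective _ (perm_injective hF), orderOf_eq_prime h2 hne]
    rcases hE.1.2 _ ((hconj _ (ho B.sq₁ B.ne₁)).2 B.rk₁) _
      ((hconj _ (ho B.sq₂ B.ne₂)).2 B.rk₂) with h | h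
    · exact B.two (perm_injective hF (by rw [map_pow, map_mul, map_one, h]))
    · exact B.three (perm_injective hF (by rw [map_pow, map_mul, map_one, h]))
  subst hr1
  ext g
  constructor
  · intro hg
    exact (hconj g (hE.1.1 g hg)).1 hg
  · intro hg
    exact (hconj g ((three_class hF hn).1.1 g hg)).2 hg

end Cfsg.Agent.ThreeTransp.UnitaryClass
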