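import Mathlib
import Cfsg.Agent.Lib.ThreeTransp.TwoRadical
import Cfsg.Agent.Lib.ThreeTransp.UnitaryPoints
import Cfsg.Agent.Lib.ThreeTransp.UnitaryClass

/-!
The hypotheses of the two-radical argument for quotients isomorphic to `SU(n, 2)`.
-/

set_option autoImplicit false
set_option linter.unusedSectionVars false

namespace Cfsg.Agent.ThreeTransp.UnitaryRadical

open Matrix Cfsg.Agent.Classical.Unitary
open Cfsg.Agent.Forms
open Cfsg.Agent.GroupStructure3.ThreeTransUnitary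
open Cfsg.Agent.ThreeTransp

variable {G : Type*} [Group G] [Finite G] {D : Set G}
omit [Finite G] in
theorem lift_list {S : Type*} [Group S] (f : G →* S) (P : G → Prop) (l : List S)
    (hl : ∀ s ∈ l, ∃ x, P x ∧ f x = s) :
    ∃ m : List G, m.map f = l ∧ ∀ x ∈ m, P x := by
  induction l with
  | nil => exact ⟨[], rfl, by simp⟩
  | cons s t ih =>
    obtain ⟨x, hx, rfl⟩ := hl s (by simp)
    obtain ⟨m, hm, hm'⟩ := ih fun y hy => hl y (by simp [hy])
    exact ⟨x :: m, by simp [hm], by simpa using ⟨hx, hm'⟩⟩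

variable {F : Type*} [Field F] [Fintype F] {n : ℕ} (hF : Fintype.card F = 2 ^ 2)
variable {π : G →* Cfsg.SU n F 2}
include hF

omit [Finite G] in
theorem tr_zero {v : Fin n → F} (hv : Cfsg.hermForm n F 2 v v = 0) (h : v = 0) : tr hF hv = 1 :=
  SU_ext fun x => by rw [tr_mulVec, mat_one, one_mulVec, h, smul_zero, add_zero]

/-- The standing hypotheses on the cover. -/
structure Data (hF : Fintype.card F = 2 ^ 2) (D : Set G) (π : G →* Cfsg.SU n F 2) : Prop where
  cls : Cfsg.IsThreeTranspositionClass D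
  surj : Function.Surjective π
  two : IsPGroup 2 π.ker
  center : Subgroup.center G = ⊥
  four : 4 ≤ n
  bad : ∀ r, 2 ≤ r → 2 * r ≤ n → ∃ σ τ, UnitaryClass.BadPair hF n r σ τ

variable (H : Data hF D π)
include H

theorem image_eq :
    π '' D = {g : Cfsg.SU n F 2 |
      (((g : Matrix.SpecialLinearGroup (Fin n) F) : Matrix (Fin n) (Fin n) F) - 1).rank = 1} := by
  obtain ⟨hset, ⟨d, hd, rfl⟩, hgen⟩ := H.cls
  have hne : ∀ f ∈ conjugatesOf d, π f ≠ 1 := by
    intro f hf hf1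
    have hd1 : π d = 1 := by
      obtain ⟨g, rfl⟩ := isConj_iff.1 hf
      rw [map_mul, map_mul, map_inv, mul_inv_eq_one] at hf1
      exact mul_eq_left.1 hf1
    have hall : ∀ s : Cfsg.SU n F 2, s = 1 := by
      intro s
      obtain ⟨x, rfl⟩ := H.surj s
      have : Subgroup.closure (conjugatesOf d) ≤ π.ker := (Subgroup.closure_le _).2 fun e he => by
        obtain ⟨g, rfl⟩ := isConj_iff.1 he
        simp [hd1]
      rw [hgen] at this
      exact this (Subgroup.mem_top x)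
    obtain ⟨t, ht⟩ : ∃ t, t ∈ {g : Cfsg.SU n F 2 |
        (((g : Matrix.SpecialLinearGroup (Fin n) F) : Matrix (Fin n) (Fin n) F) - 1).rank = 1} := by
      obtain ⟨t, ht, -⟩ := (three_class hF H.four).2.1
      exact ⟨t, ht⟩
    have h2 := (three_class hF H.four).1.1 t ht
    rw [hall t, orderOf_one] at h2
    exact absurd h2 (by norm_num)
  refine UnitaryClass.class_eq hF H.four H.bad ⟨⟨?_, ?_⟩, ⟨π d, ⟨d, hd, rfl⟩, ?_⟩, ?_⟩
  · rintro _ ⟨f, hf, rfl⟩
    have h := pow_orderOf_eq_one f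
    rw [hset.1 f hf] at h
    exact orderOf_eq_prime (by rw [← map_pow, h, map_one]) (hne f hf)
  · rintro _ ⟨a, ha, rfl⟩ _ ⟨b, hb, rfl⟩
    rcases hset.2 a ha b hb with h | h
    · exact Or.inl (by rw [← map_mul, ← map_pow, h, map_one])
    · exact Or.inr (by rw [← map_mul, ← map_pow, h, map_one])
  · ext s
    constructor
    · rintro ⟨f, hf, rfl⟩
      exact π.map_isConj hf
    · intro hs
      obtain ⟨c, rfl⟩ := isConj_iff.1 hs
      obtain ⟨g, rfl⟩ := H.surj c
      exact ⟨g * d * g⁻¹, isConj_iff.2 ⟨g, rfl⟩, by simp⟩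
  · rw [← MonoidHom.map_closure, hgen, Subgroup.map_top_of_surjective π H.surj]

theorem exists_vec {d : G} (hd : d ∈ D) :
    ∃ (v : Fin n → F) (hv : Cfsg.hermForm n F 2 v v = 0), v ≠ 0 ∧ π d = tr hF hv :=
  (rank_one_iff hF (π d)).1 (Set.ext_iff.1 (image_eq hF H) (π d) |>.1 ⟨d, hd, rfl⟩)

theorem exists_mem {w : Fin n → F} (hw : Cfsg.hermForm n F 2 w w = 0) (hw0 : w ≠ 0) :
    ∃ f ∈ D, π f = tr hF hw :=
  (Set.ext_iff.1 (image_eq hF H) (tr hF hw)).2 ((rank_one_iff hF _).2 ⟨w, hw, hw0, rfl⟩)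

theorem commute_lift {a b : G} (ha : a ∈ D) (hb : b ∈ D) (h : Commute (π a) (π b)) :
    Commute a b := by
  have hG := (Classes.of_class H.cls).1
  by_contra hne
  have h3 : (π a * π b) ^ 3 = 1 := by
    rw [← map_mul, ← map_pow, Basic.cube_of_not_commute hG.1 ha hb hne, map_one]
  have h2 : (π a * π b) ^ 2 = 1 := by
    rw [h.mul_pow, pow_two, pow_two, ← map_mul, ← map_mul, Classes.sq hG ha, Classes.sq hG hb,
      map_one, one_mul]
  have hm : a * b ∈ π.ker := by
    rw [MonoidHom.mem_ker, map_mul]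
    rwa [pow_succ, h2, one_mul] at h3
  exact hne (Basic.commute_of_pGroup hG.1 Nat.prime_two (by norm_num) H.two ha hb hm)

theorem map_nbhd {d : G} (hd : d ∈ D) {v : Fin n → F} (hv : Cfsg.hermForm n F 2 v v = 0)
    (hv0 : v ≠ 0) (hπ : π d = tr hF hv) :
    (Subgroup.closure {f | f ∈ D ∧ Commute f d}).map π = UnitaryPoints.near hF v := by
  rw [MonoidHom.map_closure]
  apply le_antisymm
  all_goals first | rw [Subgroup.closure_le] | rw [UnitaryPoints.near, Subgroup.closure_le]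
  · rintro _ ⟨f, ⟨hf, hfd⟩, rfl⟩
    obtain ⟨w, hw, hw0, hπf⟩ := exists_vec hF H hf
    have hc := hfd.map π
    rw [hπf, hπ, UnitaryPoints.tr_commute_iff hF hw hv hw0 hv0] at hc
    rw [hπf]
    exact UnitaryPoints.tr_mem_near hF hw hc
  · rintro g ⟨w, hw, hwv, rfl⟩
    by_cases hw0 : w = 0
    · rw [tr_zero hF hw hw0]; exact one_mem _
    obtain ⟨f, hf, hπf⟩ := exists_mem hF H hw hw0
    refine Subgroup.subset_closure ⟨f, ⟨hf, commute_lift hF H hf hd ?_⟩, hπf⟩
    rw [hπf, hπ, UnitaryPoints.tr_commute_iff hF hw hv hw0 hv0]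
    exact hwv

theorem ctx : TwoRadical.Ctx D π := by
  obtain ⟨hG, htr⟩ := Classes.of_class H.cls
  refine ⟨hG, htr, H.two, H.center, fun d hd e he hde => ?_, fun d hd e he hde => ?_⟩
  · obtain ⟨v, hv, hv0, hπd⟩ := exists_vec hF H hd
    obtain ⟨u, hu, hu0, hπe⟩ := exists_vec hF H he
    have hvu : Cfsg.hermForm n F 2 v u ≠ 0 := fun h => hde <| commute_lift hF H hd he <| by
      rw [hπd, hπe]; exact (UnitaryPoints.tr_commute_iff hF hv hu hv0 hu0).2 h
    obtain ⟨w, hw0, hw, h1, h2⟩ := UnitaryPoints.exists_common hF H.four hv hu hvu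
    obtain ⟨g, hg, hπg⟩ := exists_mem hF H hw hw0
    exact ⟨g, hg,
      commute_lift hF H hg hd (by rw [hπg, hπd]; exact (UnitaryPoints.tr_commute_iff hF hw hv hw0 hv0).2 h1),
      commute_lift hF H hg he (by rw [hπg, hπe]; exact (UnitaryPoints.tr_commute_iff hF hw hu hw0 hu0).2 h2)⟩
  · obtain ⟨v, hv, hv0, hπd⟩ := exists_vec hF H hd
    obtain ⟨u, hu, hu0, hπe⟩ := exists_vec hF H he
    have huv : Cfsg.hermForm n F 2 u v ≠ 0 := fun h => hde <| commute_lift hF H hd he <| by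
      rw [hπd, hπe]; exact ((UnitaryPoints.tr_commute_iff hF hu hv hu0 hv0).2 h).symm
    rw [← Subgroup.comap_map_eq, eq_top_iff]
    intro x _
    rw [Subgroup.mem_comap, Subgroup.closure_union, Subgroup.map_sup, map_nbhd hF H hd hv hv0 hπd,
      MonoidHom.map_closure, Set.image_singleton, ← Subgroup.zpowers_eq_closure, hπe,
      UnitaryPoints.gen_top hF H.four hv hu huv]
    exact Subgroup.mem_top _

theorem ker_elementary
    (hodd : ∀ v : Fin n → F, v ≠ 0 → Cfsg.hermForm n F 2 v v = 0 →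
      Odd (UnitaryPoints.near hF v).index) :
    Cfsg.IsElementaryAbelian 2 π.ker := by
  have C := ctx hF H
  refine TwoRadical.ker_elementary C fun d hd => ?_
  obtain ⟨v, hv, hv0, hπd⟩ := exists_vec hF H hd
  obtain ⟨l, hlen, hprod, hl⟩ := UnitaryPoints.exists_odd_relation hF H.four hv hv0
  obtain ⟨m, hm, hm'⟩ := lift_list π (fun f => f ∈ D ∧ Commute f d) l
    fun s hs => by
      obtain ⟨w, hw, hw0, hwv, rfl⟩ := hl s hs
      obtain ⟨f, hf, hπf⟩ := exists_mem hF H hw hw0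
      exact ⟨f, ⟨hf, commute_lift hF H hf hd (by
        rw [hπf, hπd, UnitaryPoints.tr_commute_iff hF hw hv hw0 hv0]; exact hwv)⟩, hπf⟩
  refine TwoRadical.cover_of_odd C hd ?_ hm' ?_ ?_
  · rw [← Subgroup.comap_map_eq, Subgroup.index_comap_of_surjective _ H.surj,
      map_nbhd hF H hd hv hv0 hπd]
    exact hodd v hv0 hv
  · rwa [← hm, List.length_map] at hlen
  · rw [MonoidHom.mem_ker, map_list_prod, hm, hprod]

end Cfsg.Agent.ThreeTransp.UnitaryRadical
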