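import Mathlib
import Cfsg.Agent.Lib.ThreeTransp.UnitaryRadical
import Cfsg.Agent.Lib.ThreeTransp.FiveTorus

/-!
Quotient `SU(5, 2)`: the lifts of the pseudo-reflections act without fixed points on the subgroup
generated by the products of members with equal image.
-/

set_option autoImplicit false
set_option linter.unusedSectionVars false

namespace Cfsg.Agent.ThreeTransp.FiveFixed

open Matrix Cfsg.Agent.Classical.Unitary
open Cfsg.Agent.GroupStructure3.ThreeTransUnitary
open Cfsg.Agent.ThreeTransp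

section General

variable {G S : Type*} [Group G] [Group S] [Finite G] {D : Set G} {π : G →* S}
variable (C : TwoRadical.Ctx D π)
include C

/-- An element of one of the subgroups which commutes with a member outside the neighbourhood is
trivial. -/
theorem fixed_eq_one {d e : G} (hd : d ∈ D) (he : e ∈ D) (hde : ¬ Commute d e) {w : G}
    (hw : w ∈ TwoRadical.A D π d) (hc : Commute e w) : w = 1 := by
  obtain ⟨M, hM⟩ : ∃ M, M = Subgroup.centralizer ({w} : Set G) := ⟨_, rfl⟩
  have hfix : ∀ f ∈ {f | f ∈ D ∧ Commute f d} ∪ {e}, f ∈ M := by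
    rintro f (⟨hf, hfd⟩ | hf)
    · rw [hM, Subgroup.mem_centralizer_singleton_iff]
      exact (TwoRadical.comm_A C hf hd hfd hw).eq
    · rw [Set.mem_singleton_iff] at hf
      rw [hM, hf, Subgroup.mem_centralizer_singleton_iff]
      exact hc.eq
  have hcov : M ⊔ π.ker = ⊤ := by
    rw [eq_top_iff, ← C.gen d hd e he hde]
    exact sup_le_sup_right ((Subgroup.closure_le _).2 hfix) _
  have hfull := TwoRadical.full_of_cover C hcov hd (hfix d (Or.inl ⟨hd, Commute.refl d⟩))
  have hQ : TwoRadical.Q0 D π ≤ M := fun u hu => by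
    rw [hM, Subgroup.mem_centralizer_singleton_iff]
    exact (TwoRadical.Q0_comm C hu (TwoRadical.A_le_Q0 hd hw)).eq
  have hw1 : w ∈ Subgroup.center G := by
    have htop : Subgroup.centralizer ({w} : Set G) = ⊤ := by
      rw [← hM, eq_top_iff, ← hfull]
      exact sup_le le_rfl hQ
    exact Subgroup.mem_center_iff.2 fun u =>
      Subgroup.mem_centralizer_singleton_iff.1 (htop ▸ Subgroup.mem_top u)
  rwa [C.center, Subgroup.mem_bot] at hw1

/-- Two noncommuting members and the orbit of three under their product. -/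
theorem pair_orbit {d e : G} (hd : d ∈ D) (he : e ∈ D) (hde : ¬ Commute d e) {x : G}
    (hx : x ∈ TwoRadical.A D π d) :
    ∃ y ∈ TwoRadical.A D π e, e * x * e = y * x ∧ d * y * d = y * x := by
  have hxx := TwoRadical.A_sq C hd hx
  have hxi : x⁻¹ = x := inv_eq_of_mul_eq_one_left hxx
  obtain ⟨y, hy⟩ : ∃ y, y = e * x * e * x⁻¹ := ⟨_, rfl⟩
  have hyA : y ∈ TwoRadical.A D π e := hy ▸ TwoRadical.twist C he (TwoRadical.A_le_ker C hd hx)
  refine ⟨y, hyA, by rw [hy, inv_mul_cancel_right], ?_⟩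
  have hyy := TwoRadical.A_sq C he hyA
  have hyi : y⁻¹ = y := inv_eq_of_mul_eq_one_left hyy
  obtain ⟨Y, hY⟩ : ∃ Y, Y = d * y * d * y⁻¹ := ⟨_, rfl⟩
  have hYA : Y ∈ TwoRadical.A D π d := hY ▸ TwoRadical.twist C hd (TwoRadical.A_le_ker C he hyA)
  have cxy : Commute x y := TwoRadical.Q0_comm C (TwoRadical.A_le_Q0 hd hx)
    (TwoRadical.A_le_Q0 he hyA)
  have cYy : Commute Y y := TwoRadical.Q0_comm C (TwoRadical.A_le_Q0 hd hYA)
    (TwoRadical.A_le_Q0 he hyA)
  have cdx := TwoRadical.comm_A C hd hd (Commute.refl d) hx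
  have cey := TwoRadical.comm_A C he he (Commute.refl e) hyA
  have dd := TwoRadical.sq C hd
  have ee := TwoRadical.sq C he
  have hb := Basic.braid C.grp.1 hd he hde
  have hexe : e * x * e = y * x := by rw [hy, inv_mul_cancel_right]
  have hdyd : d * y * d = Y * y := by rw [hY, inv_mul_cancel_right]
  have key : e * Y * e = Y * y := by
    have h1 : d * e * d * x * e * d * x * e = Y := by
      calc d * e * d * x * e * d * x * e = d * e * (d * x) * e * (d * x) * e := by group
        _ = d * e * (x * d) * e * (d * x) * e := by rw [cdx.eq]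
        _ = d * e * x * (d * e * d) * x * e := by group
        _ = d * e * x * (e * d * e) * x * e := by rw [hb]
        _ = d * (e * x * e) * d * (e * x * e) := by group
        _ = d * y * (x * d) * (y * x) := by rw [hexe]; group
        _ = d * y * d * (x * y) * x := by rw [← cdx.eq]; group
        _ = Y * y * (y * x) * x := by rw [hdyd, cxy.eq]
        _ = Y * (y * y) * (x * x) := by group
        _ = Y := by rw [hyy, hxx, mul_one, mul_one]
    calc e * Y * e = e * d * y * d * (y * e) := by rw [hY, hyi]; group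
      _ = e * d * y * d * (e * y) := by rw [cey.eq]
      _ = e * d * (y * d) * e * y := by group
      _ = e * d * (e * x * e * x * d) * e * y := by rw [hy, hxi]
      _ = (e * d * e) * x * e * (x * d) * e * y := by group
      _ = (d * e * d) * x * e * (d * x) * e * y := by rw [hb, cdx.eq]
      _ = (d * e * d * x * e * d * x * e) * y := by group
      _ = Y * y := by rw [h1]
  have hw : Y * x = 1 := by
    refine fixed_eq_one C hd he hde (mul_mem hYA hx) ?_
    have h2 : e * (Y * x) * e = Y * x := by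
      calc e * (Y * x) * e = (e * Y * e) * (e * e)⁻¹ * (e * x * e) := by
            rw [ee, inv_one, mul_one]
            calc e * (Y * x) * e = e * Y * (e * e) * x * e := by rw [ee]; group
              _ = e * Y * e * (e * x * e) := by group
        _ = Y * y * (y * x) := by rw [key, ee, inv_one, mul_one, hexe]
        _ = Y * x := by rw [show Y * y * (y * x) = Y * (y * y) * x by group, hyy, mul_one]
    show e * (Y * x) = Y * x * e
    calc e * (Y * x) = e * (Y * x) * e * e := by rw [mul_assoc _ e e, ee, mul_one]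
      _ = Y * x * e := by rw [h2]
  rw [hdyd, eq_inv_of_mul_eq_one_left hw, hxi, cxy.eq]

theorem A_conj {d : G} (g : G) {x : G} (hx : x ∈ TwoRadical.A D π d) :
    g * x * g⁻¹ ∈ TwoRadical.A D π (g * d * g⁻¹) := by
  induction hx using Subgroup.closure_induction with
  | mem x hx => exact Subgroup.subset_closure (TwoRadical.conj_gens C g hx)
  | one => simp
  | mul x y _ _ hx hy => rw [← conj_mul]; exact mul_mem hx hy
  | inv x _ hx => rw [← conj_inv]; exact inv_mem hx

theorem conj_Q0 {x : G} (g : G) (hx : x ∈ TwoRadical.Q0 D π) :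
    g * x * g⁻¹ ∈ TwoRadical.Q0 D π := (TwoRadical.Q0_normal C).conj_mem x hx g

/-- Powers divisible by the order of the kernel act alike on congruent elements. -/
theorem act_indep {k k' : G} (h : π k = π k') {m : ℕ} (hm : Nat.card π.ker ∣ m) {x : G}
    (hx : x ∈ TwoRadical.Q0 D π) : k ^ m * x * (k ^ m)⁻¹ = k' ^ m * x * (k' ^ m)⁻¹ := by
  have := TwoRadical.Q0_normal C
  let ρ : G →* MulAut (TwoRadical.Q0 D π) := MulAut.conjNormal
  obtain ⟨q, hq, rfl⟩ : ∃ q ∈ π.ker, k' = k * q :=
    ⟨k⁻¹ * k', by rw [MonoidHom.mem_ker, map_mul, map_inv, h, inv_mul_cancel],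
      (mul_inv_cancel_left k k').symm⟩
  have hone : ∀ c ∈ TwoRadical.Q0 D π, ρ c = 1 := fun c hc => by
    ext u
    show c * (u : G) * c⁻¹ = u
    rw [(TwoRadical.Q0_comm C hc u.2).eq, mul_inv_cancel_right]
  have hc : Commute (ρ k) (ρ q) := by
    have h1 := hone _ (TwoRadical.comm_ker C (g := k) hq)
    rwa [map_mul, map_mul, map_mul, map_inv, map_inv, mul_inv_eq_one,
      mul_inv_eq_iff_eq_mul] at h1
  have hq1 : q ^ m = 1 := by
    obtain ⟨c, rfl⟩ := hm
    have h1 : (⟨q, hq⟩ : π.ker) ^ Nat.card π.ker = 1 := pow_card_eq_one'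
    rw [pow_mul, show q ^ Nat.card π.ker = 1 from congrArg Subtype.val h1, one_pow]
  have h2 : ρ ((k * q) ^ m) = ρ (k ^ m) := by
    rw [map_pow, map_mul, hc.mul_pow, ← map_pow, ← map_pow, hq1, map_one, mul_one]
  exact (congrArg Subtype.val (DFunLike.congr_fun h2 ⟨x, hx⟩)).symm

end General

section Five

variable {G : Type*} [Group G] [Finite G] {D : Set G}
variable {F : Type*} [Field F] [Fintype F] {ω : F}
variable (hF : Fintype.card F = 2 ^ 2) (hω : ω ^ 2 + ω + 1 = 0)
variable {π : G →* Cfsg.SU 5 F 2}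
include hF hω

variable (H : UnitaryRadical.Data hF D π)
include H

theorem exists_lift (s : Cfsg.SU 5 F 2) : ∃ g, π g = s := H.surj s

/-- Every lift of the first pseudo-reflection has only the trivial fixed point. -/
theorem fixed_zero {k : G} (hk : π k = FiveTorus.z hF hω 0) {x : G}
    (hx : x ∈ TwoRadical.Q0 D π) (hc : Commute k x) : x = 1 := by
  have C := UnitaryRadical.ctx hF H
  have h2F := two_zero hF
  obtain ⟨p, hp, hd0, l, hpd, hl, hword⟩ := FiveTorus.z_word hF hω
  have hs0 : (FiveBridge.seedFix : Fin 5 → F) ≠ 0 := fun e => by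
    simpa [FiveBridge.seedFix] using congrFun e 0
  have hp0 : p ≠ 0 := fun e => hpd (by rw [e, H_zero_left])
  obtain ⟨e, he, hπe⟩ := UnitaryRadical.exists_mem hF H hp hp0
  obtain ⟨d, hd, hπd⟩ := UnitaryRadical.exists_mem hF H hd0 hs0
  have hde : ¬ Commute d e := fun h => hpd <| by
    have h1 := h.symm.map π
    rwa [hπe, hπd, UnitaryPoints.tr_commute_iff hF hp hd0 hp0 hs0] at h1
  obtain ⟨ll, hll, hll'⟩ := UnitaryRadical.lift_list π
    (fun f => f ∈ D ∧ Commute f d ∧ Commute f e) l fun s hs => by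
      obtain ⟨w, hw, hw0, hwp, hwd, rfl⟩ := hl s hs
      obtain ⟨f, hf, hπf⟩ := UnitaryRadical.exists_mem hF H hw hw0
      exact ⟨f, ⟨hf, UnitaryRadical.commute_lift hF H hf hd (by
          rw [hπf, hπd, UnitaryPoints.tr_commute_iff hF hw hd0 hw0 hs0]; exact hwd),
        UnitaryRadical.commute_lift hF H hf he (by
          rw [hπf, hπe, UnitaryPoints.tr_commute_iff hF hw hp hw0 hp0]; exact hwp)⟩, hπf⟩
  obtain ⟨k0, hk0⟩ : ∃ k0, k0 = e * d * ll.prod := ⟨_, rfl⟩
  have hπk : π k0 = π k := by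
    rw [hk, hk0, map_mul, map_mul, hπe, hπd, map_list_prod, hll, hword]
  obtain ⟨m, hmm⟩ : ∃ m, m = Nat.card π.ker * Nat.card π.ker := ⟨_, rfl⟩
  have hm3 : m % 3 = 1 := by
    have : Fact (Nat.Prime 2) := ⟨Nat.prime_two⟩
    obtain ⟨j, hj⟩ := IsPGroup.iff_card.1 C.two
    rw [hmm, hj, ← mul_pow, Nat.pow_mod]
    norm_num
  obtain ⟨L, hL⟩ : ∃ L : G → G, ∀ u, L u = k0 ^ m * u * (k0 ^ m)⁻¹ := ⟨fun u => _, fun u => rfl⟩
  have hLmul : ∀ u v, L (u * v) = L u * L v := fun u v => by rw [hL, hL, hL, conj_mul]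
  have hLQ : ∀ u ∈ TwoRadical.Q0 D π, L u ∈ TwoRadical.Q0 D π := fun u hu => by
    rw [hL]; exact conj_Q0 C _ hu
  -- conjugation by congruent elements
  have hLk : ∀ u ∈ TwoRadical.Q0 D π, L u = k ^ m * u * (k ^ m)⁻¹ := fun u hu => by
    rw [hL]; exact act_indep C hπk (hmm ▸ dvd_mul_right _ _) hu
  let P : Set G := {u | u ∈ TwoRadical.Q0 D π ∧ u * L u * L (L u) = 1}
  have hPmul : ∀ u ∈ P, ∀ v ∈ P, u * v ∈ P := by
    intro u hu v hv
    refine ⟨mul_mem hu.1 hv.1, ?_⟩
    have c1 : Commute v (L u) := TwoRadical.Q0_comm C hv.1 (hLQ _ hu.1)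
    have c2 : Commute (v * L v) (L (L u)) :=
      TwoRadical.Q0_comm C (mul_mem hv.1 (hLQ _ hv.1)) (hLQ _ (hLQ _ hu.1))
    rw [hLmul, hLmul]
    calc u * v * (L u * L v) * (L (L u) * L (L v))
        = u * (v * L u) * L v * L (L u) * L (L v) := by group
      _ = u * L u * ((v * L v) * L (L u)) * L (L v) := by rw [c1.eq]; group
      _ = (u * L u * L (L u)) * (v * L v * L (L v)) := by rw [c2.eq]; group
      _ = 1 := by rw [hu.2, hv.2, one_mul]
  have hgood : ∀ {f : G}, f ∈ D → (∀ u ∈ TwoRadical.gens D π f, u ∈ P) →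
      ∀ u ∈ TwoRadical.A D π f, u ∈ P := by
    intro f hf h u hu
    induction hu using Subgroup.closure_induction with
    | mem u hu => exact h u hu
    | one => exact ⟨one_mem _, by simp [hL]⟩
    | mul u v _ _ ihu ihv => exact hPmul u ihu v ihv
    | inv u hu' ih => rwa [inv_eq_of_mul_eq_one_left (TwoRadical.A_sq C hf hu')]
  -- the base case
  have hbase : ∀ u ∈ TwoRadical.A D π d, u ∈ P := by
    intro u hu
    obtain ⟨y, hy, h1, h2⟩ := pair_orbit C hd he hde hu
    have hfix : ∀ v ∈ TwoRadical.A D π d ⊔ TwoRadical.A D π e, Commute ll.prod v := by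
      intro v hv
      refine (Commute.list_prod_right ll v fun f hf => ?_).symm
      obtain ⟨hfD, hfd, hfe⟩ := hll' f hf
      have hle : TwoRadical.A D π d ⊔ TwoRadical.A D π e ≤ Subgroup.centralizer ({f} : Set G) := by
        refine sup_le (fun w hw => ?_) (fun w hw => ?_) <;>
          rw [Subgroup.mem_centralizer_singleton_iff]
        · exact (TwoRadical.comm_A C hfD hd hfd hw).eq.symm
        · exact (TwoRadical.comm_A C hfD he hfe hw).eq.symm
      exact Subgroup.mem_centralizer_singleton_iff.1 (hle hv)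
    have huu := TwoRadical.A_sq C hd hu
    have hyy := TwoRadical.A_sq C he hy
    have cuy : Commute u y := TwoRadical.Q0_comm C (TwoRadical.A_le_Q0 hd hu)
      (TwoRadical.A_le_Q0 he hy)
    have hk0c : ∀ v ∈ TwoRadical.A D π d ⊔ TwoRadical.A D π e,
        k0 * v * k0⁻¹ = e * (d * v * d) * e := by
      intro v hv
      calc k0 * v * k0⁻¹ = e * d * (ll.prod * v * ll.prod⁻¹) * d⁻¹ * e⁻¹ := by rw [hk0]; group
        _ = e * (d * v * d) * e := by
          rw [(hfix v hv).eq, mul_inv_cancel_right, TwoRadical.inv C hd, TwoRadical.inv C he]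
          group
    have mu : u ∈ TwoRadical.A D π d ⊔ TwoRadical.A D π e := Subgroup.mem_sup_left hu
    have my : y ∈ TwoRadical.A D π d ⊔ TwoRadical.A D π e := Subgroup.mem_sup_right hy
    have cdu := TwoRadical.comm_A C hd hd (Commute.refl d) hu
    have cey := TwoRadical.comm_A C he he (Commute.refl e) hy
    have dd := TwoRadical.sq C hd
    have ee := TwoRadical.sq C he
    have s1 : k0 * u * k0⁻¹ = y * u := by
      rw [hk0c u mu, cdu.eq, mul_assoc u d d, dd, mul_one, h1]
    have s2 : k0 * y * k0⁻¹ = u := by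
      rw [hk0c y my, h2, show e * (y * u) * e = (e * y) * u * e by group, cey.eq,
        show y * e * u * e = y * (e * u * e) by group, h1, ← mul_assoc, hyy, one_mul]
    have s3 : k0 * (y * u) * k0⁻¹ = y := by
      rw [← conj_mul, s1, s2, ← mul_assoc, cuy.eq, mul_assoc, huu, mul_one]
    have hcyc : ∀ w ∈ ({u, y * u, y} : Set G), k0 ^ m * w * (k0 ^ m)⁻¹ = k0 * w * k0⁻¹ := by
      intro w hw
      have h3 : k0 ^ 3 * w * (k0 ^ 3)⁻¹ = w := by
        have e3 : k0 ^ 3 * w * (k0 ^ 3)⁻¹ = k0 * (k0 * (k0 * w * k0⁻¹) * k0⁻¹) * k0⁻¹ := by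
          rw [pow_succ, pow_two, _root_.mul_inv_rev, _root_.mul_inv_rev]; group
        rw [e3]
        rcases hw with rfl | rfl | rfl
        · rw [s1, s3, s2]
        · rw [s3, s2, s1]
        · rw [s2, s1, s3]
      have h3n : ∀ n : ℕ, k0 ^ (3 * n) * w * (k0 ^ (3 * n))⁻¹ = w := by
        intro n
        induction n with
        | zero => simp
        | succ n ih =>
          calc k0 ^ (3 * (n + 1)) * w * (k0 ^ (3 * (n + 1)))⁻¹
              = k0 ^ (3 * n) * (k0 ^ 3 * w * (k0 ^ 3)⁻¹) * (k0 ^ (3 * n))⁻¹ := by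
                rw [Nat.mul_succ, pow_add]; group
            _ = w := by rw [h3, ih]
      conv_lhs => rw [show m = 1 + 3 * (m / 3) by omega, pow_add, pow_one]
      calc k0 * k0 ^ (3 * (m / 3)) * w * (k0 * k0 ^ (3 * (m / 3)))⁻¹
          = k0 * (k0 ^ (3 * (m / 3)) * w * (k0 ^ (3 * (m / 3)))⁻¹) * k0⁻¹ := by group
        _ = k0 * w * k0⁻¹ := by rw [h3n]
    refine ⟨TwoRadical.A_le_Q0 hd hu, ?_⟩
    rw [hL u, hcyc u (by simp), s1, hL (y * u), hcyc (y * u) (by simp), s3,
      show u * (y * u) * y = u * y * (u * y) by group,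
      show u * y * (u * y) = u * (y * u) * y by group, ← cuy.eq,
      show u * (u * y) * y = (u * u) * (y * y) by group, huu, hyy, one_mul]
  -- spreading to all points
  obtain ⟨Good, hGood⟩ : ∃ Good : (Fin 5 → F) → Prop, ∀ v, Good v ↔
      (v ≠ 0 ∧ ∃ hv : Cfsg.hermForm 5 F 2 v v = 0,
        ∀ f ∈ D, π f = tr hF hv → ∀ u ∈ TwoRadical.A D π f, u ∈ P) :=
    ⟨fun v => v ≠ 0 ∧ ∃ hv : Cfsg.hermForm 5 F 2 v v = 0,
        ∀ f ∈ D, π f = tr hF hv → ∀ u ∈ TwoRadical.A D π f, u ∈ P, fun v => Iff.rfl⟩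
  have hA : ∀ f ∈ D, ∀ f' ∈ D, π f' = π f →
      TwoRadical.A D π f' ≤ TwoRadical.A D π f := by
    intro f hf f' hf' h
    refine (Subgroup.closure_le _).2 ?_
    rintro _ ⟨g, hg, hπg, rfl⟩
    rw [show f' * g = (f * f')⁻¹ * (f * g) by
      rw [_root_.mul_inv_rev, TwoRadical.inv C hf, TwoRadical.inv C hf', mul_assoc, ← mul_assoc f f,
        TwoRadical.sq C hf, one_mul]]
    exact mul_mem (inv_mem (Subgroup.subset_closure ⟨f', hf', h, rfl⟩))
      (Subgroup.subset_closure ⟨g, hg, by rw [hπg, h], rfl⟩)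
  have hall : ∀ v : Fin 5 → F, v ≠ 0 → Cfsg.hermForm 5 F 2 v v = 0 → Good v := by
    intro v hv0 hv
    refine FiveBridge.fix_induction hF hω (P := Good) ?_ ?_ ?_ ?_ hv0 hv
    · intro v c hc
      rw [hGood, hGood]
      constructor
      · rintro ⟨h0, hcv, h⟩
        have hv : Cfsg.hermForm 5 F 2 v v = 0 := by
          rw [H_smul_left, H_smul_right] at hcv
          exact (mul_eq_zero.1 ((mul_eq_zero.1 hcv).resolve_left hc)).resolve_left
            (pow_ne_zero _ hc)
        exact ⟨fun e => h0 (by rw [e, smul_zero]), hv, fun f hf hπ => h f hf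
          (by rw [hπ, tr_smul hF hv hc hcv])⟩
      · rintro ⟨h0, hv, h⟩
        obtain ⟨hcv, e⟩ := UnitaryPoints.tr_scale hF hv hc
        exact ⟨smul_ne_zero hc h0, hcv, fun f hf hπ => h f hf (by rw [hπ, e])⟩
    · rw [hGood]
      exact ⟨hs0, hd0, fun f hf hπ u hu =>
        hbase u (hA d hd f hf (hπ.trans hπd.symm) hu)⟩
    · intro a b ha hb hab
      rw [hGood] at ha hb ⊢
      obtain ⟨ha0, ha, hPa⟩ := ha
      obtain ⟨hb0, hb, hPb⟩ := hb
      have hm : mat (tr hF ha) *ᵥ b = FiveBridge.move a b := tr_mulVec hF ha b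
      have hmi : Cfsg.hermForm 5 F 2 (FiveBridge.move a b) (FiveBridge.move a b) = 0 := by
        rw [← hm, SU_H, hb]
      refine ⟨hm ▸ mat_mulVec_ne_zero _ hb0, hmi, fun f hf hπ => ?_⟩
      obtain ⟨a', ha', hπa⟩ := UnitaryRadical.exists_mem hF H ha ha0
      obtain ⟨b', hb', hπb⟩ := UnitaryRadical.exists_mem hF H hb hb0
      have hab' : a' * b' * a' ∈ D := Classes.conj_mem C.grp ha' hb'
      have hπ' : π (a' * b' * a') = π f := by
        rw [map_mul, map_mul, hπa, hπb, hπ, ← tr_conj hF (tr hF ha) hb hmi hm,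
          inv_eq_of_mul_eq_one_right (tr_sq hF ha)]
      intro u hu
      have hu' := A_conj C a' (hA _ hab' f hf hπ'.symm hu)
      rw [TwoRadical.inv C ha', show a' * (a' * b' * a') * a' = b' by
        rw [show a' * (a' * b' * a') * a' = (a' * a') * b' * (a' * a') by group,
          TwoRadical.sq C ha', one_mul, mul_one]] at hu'
      obtain ⟨w, hw, hw'⟩ := TwoRadical.twist' C ha' (TwoRadical.A_le_ker C hb' hu')
      have hu'' : u = a' * u * a' * w := by
        rw [← hw', show a' * (a' * u * a') * a' = (a' * a') * u * (a' * a') by group,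
          TwoRadical.sq C ha', one_mul, mul_one]
      rw [hu'']
      exact hPmul _ (hPb b' hb' hπb _ hu') _ (hPa a' ha' hπa _ hw)
    · intro a b ha ha0c hb
      rw [hGood] at hb ⊢
      obtain ⟨hb0, hb, hPb⟩ := hb
      have hm : mat (tr hF ha) *ᵥ b = FiveBridge.move a b := tr_mulVec hF ha b
      have hmi : Cfsg.hermForm 5 F 2 (FiveBridge.move a b) (FiveBridge.move a b) = 0 := by
        rw [← hm, SU_H, hb]
      refine ⟨hm ▸ mat_mulVec_ne_zero _ hb0, hmi, fun f hf hπ => ?_⟩
      by_cases ha0 : a = 0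
      · refine hPb f hf ?_
        rw [hπ]
        exact tr_congr hF _ _ (by simp [FiveBridge.move, ha0])
      obtain ⟨a', ha', hπa⟩ := UnitaryRadical.exists_mem hF H ha ha0
      have hai := TwoRadical.inv C ha'
      have hsw : π (a' * k0 * a') = π k0 := by
        rw [map_mul, map_mul, hπa, hπk, hk, ← (FiveTorus.z_commute_tr hF hω ha ha0c).eq,
          mul_assoc, tr_sq, mul_one]
      have hcomm : ∀ u ∈ TwoRadical.Q0 D π, L (a' * u * a') = a' * L u * a' := by
        intro u hu
        have hu1 : a' * u * a' ∈ TwoRadical.Q0 D π := by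
          have := conj_Q0 C a' hu; rwa [hai] at this
        rw [hL (a' * u * a'), act_indep C hsw.symm (hmm ▸ dvd_mul_right _ _) hu1, hL u,
          show a' * k0 * a' = a' * k0 * a'⁻¹ by rw [hai], conj_pow, hai]
        generalize k0 ^ m = t
        rw [_root_.mul_inv_rev, _root_.mul_inv_rev, hai,
          show a' * t * a' * (a' * u * a') * (a' * (t⁻¹ * a')) =
            a' * t * (a' * a') * u * (a' * a') * t⁻¹ * a' by group, TwoRadical.sq C ha', mul_one,
          mul_one]
        group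
      intro u hu
      have hu' := A_conj C a' hu
      rw [hai] at hu'
      have hb' : a' * f * a' ∈ D := Classes.conj_mem C.grp ha' hf
      obtain ⟨h0, hP⟩ := hPb _ hb' (by
        rw [map_mul, map_mul, hπa, hπ, ← tr_conj hF (tr hF ha) hb hmi hm,
          inv_eq_of_mul_eq_one_right (tr_sq hF ha),
          show tr hF ha * (tr hF ha * tr hF hb * tr hF ha) * tr hF ha =
            (tr hF ha * tr hF ha) * tr hF hb * (tr hF ha * tr hF ha) by group, tr_sq, one_mul,
          mul_one]) _ hu'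
      have hu0 : u ∈ TwoRadical.Q0 D π := TwoRadical.A_le_Q0 hf hu
      refine ⟨hu0, ?_⟩
      rw [hcomm u hu0, hcomm _ (hLQ u hu0)] at hP
      have e : u * L u * L (L u) = a' * (a' * u * a' * (a' * L u * a') * (a' * L (L u) * a')) * a' := by
        rw [show a' * (a' * u * a' * (a' * L u * a') * (a' * L (L u) * a')) * a' =
          (a' * a') * u * (a' * a') * L u * (a' * a') * L (L u) * (a' * a') by group,
          TwoRadical.sq C ha', one_mul, mul_one, mul_one, mul_one]
      rw [e, hP, mul_one, TwoRadical.sq C ha']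
  have hQ : ∀ u ∈ TwoRadical.Q0 D π, u ∈ P := by
    intro u hu
    induction hu using Subgroup.closure_induction with
    | mem u hu =>
      obtain ⟨f, hf, hu⟩ := hu
      obtain ⟨v, hv, hv0, hπ⟩ := UnitaryRadical.exists_vec hF H hf
      obtain ⟨-, _, h⟩ := (hGood v).1 (hall v hv0 hv)
      exact h f hf hπ u (Subgroup.subset_closure hu)
    | one => exact ⟨one_mem _, by simp [hL]⟩
    | mul u v _ _ ihu ihv => exact hPmul u ihu v ihv
    | inv u hu' ih => rwa [inv_eq_of_mul_eq_one_left (TwoRadical.Q0_sq C hu')]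
  obtain ⟨-, h⟩ := hQ x hx
  have hLx : L x = x := by
    rw [hLk x hx, (hc.pow_left m).eq, mul_inv_cancel_right]
  rw [hLx, hLx, TwoRadical.Q0_sq C hx, one_mul] at h
  exact h

theorem fixed_any {i : Fin 5} {k : G} (hk : π k = FiveTorus.z hF hω i) {x : G}
    (hx : x ∈ TwoRadical.Q0 D π) (hc : Commute k x) : x = 1 := by
  have C := UnitaryRadical.ctx hF H
  rcases eq_or_ne i 0 with rfl | hi
  · exact fixed_zero hF hω H hk hx hc
  obtain ⟨v, hv, hv0, hvi, hz⟩ := exists_isotropic_pair hF (0 : Fin 5) i hi.symm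
  have hvne : v ≠ 0 := fun e => by rw [e] at hv0; exact zero_ne_one hv0
  obtain ⟨f, hf, hπf⟩ := UnitaryRadical.exists_mem hF H hv hvne
  have hfi := TwoRadical.inv C hf
  have hk' : π (f * k * f⁻¹) = FiveTorus.z hF hω 0 := by
    rw [map_mul, map_mul, map_inv, hπf, hk, inv_eq_of_mul_eq_one_right (tr_sq hF hv),
      FiveTorus.two_conj hF hω hv hi.symm (by rw [hv0]; exact one_ne_zero) hvi hz,
      Equiv.swap_apply_right]
  have h1 := fixed_zero hF hω H hk' (conj_Q0 C f hx) (Basic.commute_conj.2 hc)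
  rwa [mul_inv_eq_one, mul_eq_left] at h1

end Five

end Cfsg.Agent.ThreeTransp.FiveFixed
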