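import Cfsg.Agent.Lib.ThreeTransp.Classes
import Cfsg.Agent.Lib.Coprime.Generation
import Cfsg.Agent.Lib.Coprime.SchurZassenhaus

/-!
General lemmas for three-transposition groups whose quotient by the 2-core has a normal 3-subgroup
of index 2.
-/

set_option autoImplicit false

namespace Cfsg.Agent.ThreeTransp.TwoQuotient

open scoped Pointwise

variable {G : Type*} [Group G]

/-- The elements of a subgroup generated by two commuting elements of finite order. -/
theorem mem_closure_pair_iff [Finite G] {a b g : G} (hab : Commute a b)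
    (hg : g ∈ Subgroup.closure ({a, b} : Set G)) : ∃ i j : ℕ, g = a ^ i * b ^ j := by
  have hga : g ∈ Submonoid.closure ({a, b} : Set G) := by
    rw [← Subgroup.closure_toSubmonoid_of_finite]; exact hg
  induction hga using Submonoid.closure_induction with
  | mem x hx =>
    rcases hx with rfl | rfl
    exacts [⟨1, 0, by simp⟩, ⟨0, 1, by simp⟩]
  | one => exact ⟨0, 0, by simp⟩
  | mul x y hxm hym hx hy =>
    obtain ⟨i, j, rfl⟩ := hx (by
      rw [← Subgroup.mem_toSubmonoid, Subgroup.closure_toSubmonoid_of_finite]; exact hxm)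
    obtain ⟨k, l, rfl⟩ := hy (by
      rw [← Subgroup.mem_toSubmonoid, Subgroup.closure_toSubmonoid_of_finite]; exact hym)
    refine ⟨i + k, j + l, ?_⟩
    rw [pow_add, pow_add, mul_assoc, ← mul_assoc (b ^ j), ← (hab.pow_pow k j).eq]
    simp [mul_assoc]

theorem isMulCommutative_pair [Finite G] {a b : G} (hab : Commute a b) :
    IsMulCommutative (Subgroup.closure ({a, b} : Set G)) := by
  refine ⟨⟨fun ⟨x, hx⟩ ⟨y, hy⟩ => Subtype.ext ?_⟩⟩
  obtain ⟨i, j, rfl⟩ := mem_closure_pair_iff hab hx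
  obtain ⟨k, l, rfl⟩ := mem_closure_pair_iff hab hy
  exact ((((Commute.refl a).pow_pow i k).mul_right (hab.pow_pow i l)).mul_left
    ((hab.symm.pow_pow j k).mul_right ((Commute.refl b).pow_pow j l))).eq

/-- Two independent commuting elements of order three generate a noncyclic group. -/
theorem not_isCyclic_pair [Finite G] {a b : G} (hab : Commute a b) (ha : a ^ 3 = 1) (hb : b ^ 3 = 1)
    (hne : a ≠ 1) (hind : b ∉ Subgroup.zpowers a) :
    ¬ IsCyclic (Subgroup.closure ({a, b} : Set G)) := by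
  haveI : Fact (Nat.Prime 3) := ⟨Nat.prime_three⟩
  intro h
  obtain ⟨⟨g, hg⟩, hgen⟩ := h.exists_generator
  obtain ⟨i, j, rfl⟩ := mem_closure_pair_iff hab hg
  set g := a ^ i * b ^ j with hgdef
  have hg3 : g ^ 3 = 1 := by
    rw [hgdef, (hab.pow_pow i j).mul_pow, ← pow_mul, ← pow_mul, mul_comm i, mul_comm j, pow_mul,
      pow_mul, ha, hb, one_pow, one_pow, one_mul]
  have hmem : ∀ x ∈ Subgroup.closure ({a, b} : Set G), x ∈ Subgroup.zpowers g := by
    intro x hx
    obtain ⟨n, hn⟩ := Subgroup.mem_zpowers_iff.1 (hgen ⟨x, hx⟩)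
    exact Subgroup.mem_zpowers_iff.2 ⟨n, congrArg Subtype.val hn⟩
  have ma := hmem a (Subgroup.subset_closure (Set.mem_insert _ _))
  have mb := hmem b (Subgroup.subset_closure (Set.mem_insert_of_mem _ rfl))
  have heq : Subgroup.zpowers a = Subgroup.zpowers g := by
    refine Subgroup.eq_of_le_of_card_ge (Subgroup.zpowers_le.2 ma) ?_
    rw [Nat.card_zpowers, Nat.card_zpowers, orderOf_eq_prime ha hne]
    exact Nat.le_of_dvd (by norm_num) (orderOf_dvd_of_pow_eq_one hg3)
  exact hind (heq ▸ mb)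

/-- An element of odd order inverted by an involution `b` moves `b` to its product with `b`. -/
theorem exists_conj_sqrt {b p : G} (hb : b * b = 1) (hp : b * p * b = p⁻¹)
    (hodd : Odd (orderOf p)) : ∃ j ∈ Subgroup.zpowers p, j * b * j⁻¹ = p * b := by
  obtain ⟨m, hm⟩ := hodd
  refine ⟨p ^ (m + 1), pow_mem (Subgroup.mem_zpowers p) _, ?_⟩
  have hbi : b⁻¹ = b := inv_eq_of_mul_eq_one_right hb
  have hpow : ∀ n : ℕ, b * p ^ n * b = (p ^ n)⁻¹ := by
    intro n
    rw [← inv_pow, ← hp]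
    conv_rhs => rw [show b * p * b = b * p * b⁻¹ by rw [hbi], conj_pow, hbi]
  have h2 : b * (p ^ (m + 1))⁻¹ = p ^ (m + 1) * b := by
    rw [← hpow, ← mul_assoc, ← mul_assoc, hb, one_mul]
  rw [mul_assoc, h2, ← mul_assoc, ← pow_add, show m + 1 + (m + 1) = orderOf p + 1 by omega,
    pow_succ, pow_orderOf_eq_one, one_mul]

/-- Elements of order three which agree modulo a normal 2-subgroup are conjugate under it. -/
theorem exists_conj_of_congr [Finite G] {N : Subgroup G} [N.Normal] (hN : IsPGroup 2 N) {c x : G}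
    (hc : c ^ 3 = 1) (hx : x ^ 3 = 1) (hxc : x⁻¹ * c ∈ N) : ∃ q ∈ N, q * x * q⁻¹ = c := by
  haveI : Fact (Nat.Prime 3) := ⟨Nat.prime_three⟩
  haveI : Fact (Nat.Prime 2) := ⟨Nat.prime_two⟩
  by_cases hxN : x ∈ N
  · have hcN : c ∈ N := by simpa using N.mul_mem hxN hxc
    rw [Classes.eq_one_of_mem_pGroup Nat.prime_two hN hxN hx (by norm_num),
      Classes.eq_one_of_mem_pGroup Nat.prime_two hN hcN hc (by norm_num)]
    exact ⟨1, one_mem _, by simp⟩
  have hsup : N ⊔ Subgroup.zpowers x = N ⊔ Subgroup.zpowers c := by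
    apply le_antisymm <;> refine sup_le le_sup_left (Subgroup.zpowers_le.2 ?_)
    · have h1 : x = c * (x⁻¹ * c)⁻¹ := by group
      rw [h1]
      exact mul_mem (Subgroup.mem_sup_right (Subgroup.mem_zpowers c)) (inv_mem (Subgroup.mem_sup_left hxc))
    · have h1 : c = x * (x⁻¹ * c) := by group
      rw [h1]
      exact mul_mem (Subgroup.mem_sup_right (Subgroup.mem_zpowers x)) (Subgroup.mem_sup_left hxc)
  have hcop : ∀ y : G, y ^ 3 = 1 → (Nat.card N).Coprime (Nat.card (Subgroup.zpowers y)) := by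
    intro y hy
    obtain ⟨k, hk⟩ := IsPGroup.iff_card.1 hN
    rw [hk, Nat.card_zpowers]
    exact ((by norm_num : Nat.Coprime (2 ^ 1) 3).coprime_dvd_right
      (orderOf_dvd_of_pow_eq_one hy)).pow_left k
  obtain ⟨n, hn, hnK⟩ := Coprime.exists_conj_eq_of_sup_eq (N := N) (H := Subgroup.zpowers x)
    (K := Subgroup.zpowers c) Subgroup.le_normalizer_of_normal Subgroup.le_normalizer_of_normal hsup
    (hcop x hx) (hcop c hc) (Or.inl (by haveI := hN.isNilpotent; infer_instance))
  refine ⟨n, hn, ?_⟩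
  have hmem : n * x * n⁻¹ ∈ Subgroup.zpowers c := hnK ▸ Coprime.conj_mem_conj_smul (Subgroup.mem_zpowers x)
  have h1 : c⁻¹ * (n * x * n⁻¹) ∈ N := by
    rw [show c⁻¹ * (n * x * n⁻¹) = (x⁻¹ * c)⁻¹ * ((x⁻¹ * n * x) * n⁻¹) by group]
    refine N.mul_mem (inv_mem hxc) (N.mul_mem ?_ (inv_mem hn))
    simpa using (inferInstance : N.Normal).conj_mem n hn x⁻¹
  have h2 : (c⁻¹ * (n * x * n⁻¹)) ^ 3 = 1 := by
    obtain ⟨k, hk⟩ := Subgroup.mem_zpowers_iff.1 hmem
    have h3 : Commute c⁻¹ (c ^ k) := ((Commute.refl c).zpow_right k).inv_left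
    rw [← hk, h3.mul_pow, inv_pow, hc, inv_one, one_mul, ← zpow_natCast, ← zpow_mul, mul_comm,
      zpow_mul, zpow_natCast, hc, one_zpow]
  exact (inv_mul_eq_one.1 (Classes.eq_one_of_mem_pGroup Nat.prime_two hN h1 h2 (by norm_num))).symm

/-- An element of order three which an involution inverts modulo a 2-group centralises every
invariant set which the involution centralises. -/
theorem commute_of_fixed [Finite G] {N : Subgroup G} (hN : IsPGroup 2 N) {d a : G} (hd : d * d = 1)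
    (ha : a ^ 3 = 1) (hk : d * a * d * a ∈ N) (W : G → Prop) (hW : ∀ r, W r → W (a * r * a⁻¹))
    (hfix : ∀ r, W r → Commute d r) : ∀ r, W r → Commute a r := by
  have hdi : d⁻¹ = d := inv_eq_of_mul_eq_one_right hd
  set k := d * a * d * a with hkdef
  have hWn : ∀ n : ℕ, ∀ r, W r → W (a ^ n * r * (a ^ n)⁻¹) := by
    intro n
    induction n with
    | zero => simp
    | succ n ih =>
      intro r hr
      have := hW _ (ih r hr)
      rwa [show a ^ (n + 1) * r * (a ^ (n + 1))⁻¹ = a * (a ^ n * r * (a ^ n)⁻¹) * a⁻¹ by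
        rw [pow_succ']; group]
  have hinv : ∀ n : ℕ, (a ^ n)⁻¹ = a ^ (2 * n) := fun n => inv_eq_of_mul_eq_one_right (by
    rw [← pow_add, show n + 2 * n = 3 * n by ring, pow_mul, ha, one_pow])
  have hstep : ∀ v, W v → k * v * k⁻¹ = a⁻¹ * v * a := by
    intro v hv
    set r := a * v * a⁻¹ with hr
    have h1 : d * r * d = r := by rw [(hfix r (hW v hv)).eq, mul_assoc, hd, mul_one]
    have h2 : d * (a * r * a⁻¹) * d = a * r * a⁻¹ := by
      rw [(hfix _ (hW r (hW v hv))).eq, mul_assoc, hd, mul_one]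
    have h3 : a⁻¹ * v * a = a * r * a⁻¹ := by
      have h4 : a⁻¹ = a * a := inv_eq_of_mul_eq_one_right (by rw [← mul_assoc, ← pow_two, ← pow_succ, ha])
      have h5 : (a * a)⁻¹ = a := by rw [← h4, inv_inv]
      calc a⁻¹ * v * a = a * a * v * (a * a)⁻¹ := by rw [h5, ← h4]
        _ = _ := by rw [hr]; group
    calc k * v * k⁻¹ = (d * a * d) * (a * v * a⁻¹) * (d * a * d)⁻¹ := by rw [hkdef]; group
      _ = d * (a * (d * r * d) * a⁻¹) * d := by
        rw [← hr, show (d * a * d)⁻¹ = d * a⁻¹ * d by rw [_root_.mul_inv_rev, _root_.mul_inv_rev, hdi]; group]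
        group
      _ = a * r * a⁻¹ := by rw [h1, h2]
      _ = _ := h3.symm
  have hpow : ∀ (n : ℕ) v, W v → k ^ n * v * (k ^ n)⁻¹ = (a ^ n)⁻¹ * v * a ^ n := by
    intro n
    induction n with
    | zero => simp
    | succ n ih =>
      intro v hv
      have hv' : W ((a ^ n)⁻¹ * v * a ^ n) := by
        have := hWn (2 * n) v hv
        rwa [← hinv, inv_inv] at this
      calc k ^ (n + 1) * v * (k ^ (n + 1))⁻¹ = k * (k ^ n * v * (k ^ n)⁻¹) * k⁻¹ := by
            rw [pow_succ']; group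
        _ = a⁻¹ * ((a ^ n)⁻¹ * v * a ^ n) * a := by rw [ih v hv, hstep _ hv']
        _ = _ := by rw [pow_succ a]; group
  intro r hr
  haveI : Fact (Nat.Prime 2) := ⟨Nat.prime_two⟩
  obtain ⟨j, hj⟩ := IsPGroup.iff_orderOf.1 hN ⟨k, hk⟩
  rw [Subgroup.orderOf_mk] at hj
  have h := hpow (orderOf k) r hr
  rw [pow_orderOf_eq_one, inv_one, one_mul, mul_one, hj, mul_assoc, eq_inv_mul_iff_mul_eq] at h
  have hc : Commute (a ^ 2 ^ j) r := h
  have h3 : 2 ^ j % 3 = 1 ∨ 2 ^ j % 3 = 2 := by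
    have : ¬ 3 ∣ 2 ^ j := fun h => by
      have := Nat.le_of_dvd (by norm_num) (Nat.prime_three.dvd_of_dvd_pow h)
      omega
    omega
  rw [pow_eq_pow_mod (2 ^ j) ha] at hc
  rcases h3 with h3 | h3 <;> rw [h3] at hc
  · simpa using hc
  · have := hc.pow_left 2
    rwa [← pow_mul, pow_succ, ha, one_mul] at this

/-- If `b a = z (a b)` with `z` central of order three, then the images of `a` and `b` modulo `z`
are independent. -/
theorem indep {a b z : G} (hz : z ^ 3 = 1) (hz1 : z ≠ 1)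
    (hza : Commute z a) (hzb : Commute z b) (hba : b * a = z * (a * b)) {i j k : ℕ}
    (h : a ^ i * b ^ j = z ^ k) : 3 ∣ i ∧ 3 ∣ j := by
  haveI : Fact (Nat.Prime 3) := ⟨Nat.prime_three⟩
  have hb : ∀ n : ℕ, b ^ n * a = z ^ n * (a * b ^ n) := by
    intro n
    induction n with
    | zero => simp
    | succ n ih =>
      calc b ^ (n + 1) * a = b * (b ^ n * a) := by rw [pow_succ', mul_assoc]
        _ = z ^ n * (b * a) * b ^ n := by
          rw [ih, ← mul_assoc b, (hzb.pow_left n).symm.eq]; simp [mul_assoc]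
        _ = _ := by rw [hba, pow_succ z, pow_succ' b]; simp [mul_assoc]
  have ha : ∀ n : ℕ, b * a ^ n = z ^ n * (a ^ n * b) := by
    intro n
    induction n with
    | zero => simp
    | succ n ih =>
      calc b * a ^ (n + 1) = (b * a ^ n) * a := by rw [pow_succ, mul_assoc]
        _ = z ^ n * (a ^ n * z) * (a * b) := by rw [ih, mul_assoc, mul_assoc (a ^ n) b a, hba]; simp [mul_assoc]
        _ = _ := by rw [(hza.pow_right n).symm.eq, pow_succ z, pow_succ a]; simp [mul_assoc]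
  have hz' : ∀ n : ℕ, z ^ n = 1 → 3 ∣ n := fun n hn =>
    orderOf_eq_prime hz hz1 ▸ orderOf_dvd_of_pow_eq_one hn
  constructor
  · refine hz' i ?_
    have e : b * (a ^ i * b ^ j) = (a ^ i * b ^ j) * b := by rw [h]; exact (hzb.pow_left k).symm.eq
    rw [← mul_assoc, ha, mul_assoc (a ^ i) (b ^ j), ← pow_succ, mul_assoc (z ^ i), mul_assoc (a ^ i),
      ← pow_succ'] at e
    exact mul_eq_right.1 e
  · refine hz' j ?_
    have e : (a ^ i * b ^ j) * a = a * (a ^ i * b ^ j) := by rw [h]; exact (hza.pow_left k).eq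
    rw [mul_assoc, hb, ← mul_assoc a, ← pow_succ', ← mul_assoc, (hza.pow_pow j i).symm.eq, mul_assoc,
      ← mul_assoc (a ^ i) a, ← pow_succ] at e
    exact mul_eq_right.1 e

/-- Generation by fixed points for an action which is abelian modulo a central element. -/
theorem le_of_fixed_mod [Finite G] {R X : Subgroup G} {a b z : G} (ha : a ^ 3 = 1) (hb : b ^ 3 = 1)
    (hz : z ^ 3 = 1) (hz1 : z ≠ 1) (hza : Commute z a) (hzb : Commute z b)
    (hba : b * a = z * (a * b)) (hzR : ∀ r ∈ R, Commute z r) (hR : IsPGroup 2 R)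
    (haR : a ∈ Subgroup.normalizer (R : Set G)) (hbR : b ∈ Subgroup.normalizer (R : Set G))
    (hX : ∀ i j : ℕ, ¬ (3 ∣ i ∧ 3 ∣ j) → ∀ r ∈ R, Commute r (a ^ i * b ^ j) → r ∈ X) : R ≤ X := by
  classical
  haveI : Fact (Nat.Prime 2) := ⟨Nat.prime_two⟩
  haveI : Fact (Nat.Prime 3) := ⟨Nat.prime_three⟩
  set C := Subgroup.centralizer ({z} : Set G) with hC
  have hmem : ∀ {g : G}, Commute z g → g ∈ C := fun hg =>
    Subgroup.mem_centralizer_singleton_iff.2 hg.eq.symm
  let z' : C := ⟨z, hmem (Commute.refl z)⟩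
  let a' : C := ⟨a, hmem hza⟩
  let b' : C := ⟨b, hmem hzb⟩
  have hzc : ∀ x : C, z' * x = x * z' := fun x =>
    Subtype.ext (Subgroup.mem_centralizer_singleton_iff.1 x.2).symm
  set N := Subgroup.zpowers z' with hN
  haveI : N.Normal := by
    refine ⟨fun n hn g => ?_⟩
    obtain ⟨m, rfl⟩ := Subgroup.mem_zpowers_iff.1 hn
    rw [← ((show Commute z' g from hzc g).zpow_left m).eq, mul_inv_cancel_right]
    exact Subgroup.zpow_mem _ (Subgroup.mem_zpowers z') m
  set f := QuotientGroup.mk' N with hf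
  set A := Subgroup.closure ({f a', f b'} : Set (C ⧸ N)) with hA
  set R' := (R.subgroupOf C).map f with hR'
  have hfz : f z' = 1 := (QuotientGroup.eq_one_iff _).2 (Subgroup.mem_zpowers z')
  have hfab : Commute (f a') (f b') := by
    show f a' * f b' = f b' * f a'
    rw [← map_mul, ← map_mul, show b' * a' = z' * (a' * b') from Subtype.ext hba, map_mul f z', hfz,
      one_mul]
  haveI : IsMulCommutative A := isMulCommutative_pair hfab
  have hker : ∀ x : C, f x = 1 → ∃ k : ℕ, (x : G) = z ^ k := fun x hx => by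
    obtain ⟨k, hk⟩ := Submonoid.mem_powers_iff _ _ |>.1
      (mem_powers_iff_mem_zpowers.2 ((QuotientGroup.eq_one_iff x).1 hx))
    exact ⟨k, by rw [← hk]; rfl⟩
  have ha3 : (f a') ^ 3 = 1 := by rw [← map_pow, show a' ^ 3 = 1 from Subtype.ext ha, map_one]
  have hb3 : (f b') ^ 3 = 1 := by rw [← map_pow, show b' ^ 3 = 1 from Subtype.ext hb, map_one]
  have hind := @indep G _ a b z hz hz1 hza hzb hba
  have hnc : ¬ IsCyclic A := by
    refine not_isCyclic_pair hfab ha3 hb3 (fun h => ?_) fun h => ?_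
    · obtain ⟨k, hk⟩ := hker a' h
      have := (hind (i := 1) (j := 0) (k := k) (by simpa using hk)).1
      omega
    · obtain ⟨m, hm⟩ := Submonoid.mem_powers_iff _ _ |>.1 (mem_powers_iff_mem_zpowers.2 h)
      have h2 : f (a' ^ m * b' ^ 2) = 1 := by
        rw [map_mul, map_pow, map_pow, hm, ← pow_succ', hb3]
      obtain ⟨k, hk⟩ := hker _ h2
      have := (hind (i := m) (j := 2) (k := k) hk).2
      omega
  have hnorm : A ≤ Subgroup.normalizer (R' : Set (C ⧸ N)) := by
    rw [hA, Subgroup.closure_le]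
    have key : ∀ g : C, (g : G) ∈ Subgroup.normalizer (R : Set G) →
        f g ∈ Subgroup.normalizer (R' : Set (C ⧸ N)) := by
      intro g hg
      refine Subgroup.le_normalizer_map f ⟨g, ?_, rfl⟩
      rw [SetLike.mem_coe, Subgroup.mem_normalizer_iff]
      intro x
      rw [Subgroup.mem_subgroupOf, Subgroup.mem_subgroupOf, Subgroup.coe_mul, Subgroup.coe_mul,
        Subgroup.coe_inv]
      exact Subgroup.mem_normalizer_iff.1 hg x
    rintro x (rfl | rfl)
    exacts [key a' haR, key b' hbR]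
  have hA3 : IsPGroup 3 A := by
    intro ⟨x, hx⟩
    refine ⟨1, Subtype.ext ?_⟩
    obtain ⟨i, j, rfl⟩ := mem_closure_pair_iff hfab hx
    show (f a' ^ i * f b' ^ j) ^ (3 ^ 1) = 1
    rw [pow_one, (hfab.pow_pow i j).mul_pow, ← pow_mul, ← pow_mul, mul_comm i, mul_comm j, pow_mul,
      pow_mul, ha3, hb3, one_pow, one_pow, one_mul]
  have hR2 : IsPGroup 2 R' := (hR.comap_of_injective C.subtype C.subtype_injective).map f
  have hgen := Coprime.fixedGen_eq hnc hnorm
    (IsPGroup.coprime_card_of_ne 3 2 (by norm_num) A R' hA3 hR2)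
  intro r hr
  have hrC : r ∈ C := hmem (hzR r hr)
  have hrR : (⟨r, hrC⟩ : C) ∈ R.subgroupOf C := hr
  have hle : R' ≤ ((R ⊓ X).subgroupOf C).map f := by
    rw [← hgen]
    refine iSup₂_le fun x ⟨hx, hx1⟩ => ?_
    rintro _ ⟨⟨w, hw, rfl⟩, hwc⟩
    obtain ⟨i, j, rfl⟩ := mem_closure_pair_iff hfab hx
    refine ⟨w, ⟨hw, hX i j ?_ w hw ?_⟩, rfl⟩
    · rintro ⟨⟨i', rfl⟩, ⟨j', rfl⟩⟩
      exact hx1 (by rw [pow_mul, pow_mul, ha3, hb3, one_pow, one_pow, one_mul])
    · set c := a' ^ i * b' ^ j with hcdef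
      have h1 : f (w * c * w⁻¹ * c⁻¹) = 1 := by
        have := Subgroup.mem_centralizer_singleton_iff.1 hwc
        rw [← map_pow, ← map_pow, ← map_mul, ← hcdef] at this
        rw [map_mul, map_mul, map_mul, map_inv, map_inv, this, mul_inv_cancel_right, mul_inv_cancel]
      obtain ⟨k, hk⟩ := hker _ h1
      have hcn : (c : G) ∈ Subgroup.normalizer (R : Set G) :=
        mul_mem (pow_mem haR i) (pow_mem hbR j)
      have h2 : (w : G) * c * (w : G)⁻¹ * (c : G)⁻¹ ∈ R := by
        rw [show (w : G) * c * (w : G)⁻¹ * (c : G)⁻¹ = w * (c * (w : G)⁻¹ * (c : G)⁻¹) by group]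
        exact R.mul_mem hw ((Subgroup.mem_normalizer_iff.1 hcn _).1 (R.inv_mem hw))
      have h3 : (w : G) * c * (w : G)⁻¹ * (c : G)⁻¹ = z ^ k := hk
      rw [h3] at h2
      have h4 : z ^ k = 1 := Classes.eq_one_of_mem_pGroup Nat.prime_two hR h2 (n := 3)
        (by rw [← pow_mul, mul_comm, pow_mul, hz, one_pow]) (by norm_num)
      rw [h4, mul_inv_eq_one, mul_inv_eq_iff_eq_mul] at h3
      exact h3
  obtain ⟨w, hw, hwr⟩ := hle ⟨_, hrR, rfl⟩
  obtain ⟨k, hk⟩ := hker (w⁻¹ * ⟨r, hrC⟩) (by rw [map_mul, map_inv, hwr, inv_mul_cancel])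
  have h2 : (w : G)⁻¹ * r ∈ R := R.mul_mem (R.inv_mem hw.1) hr
  have h3 : (w : G)⁻¹ * r = 1 := Classes.eq_one_of_mem_pGroup Nat.prime_two hR h2 (n := 3) (by
    rw [show (w : G)⁻¹ * r = z ^ k from hk, ← pow_mul, mul_comm, pow_mul, hz, one_pow]) (by norm_num)
  rw [← inv_mul_eq_one.1 h3]
  exact hw.2

/-- A complement gives a lifting homomorphism for a subgroup of coprime order. -/
theorem exists_lift_hom [Finite G] {N : Subgroup G} [N.Normal] (P : Subgroup (G ⧸ N))
    (hcop : (Nat.card N).Coprime (Nat.card P)) :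
    ∃ s : P →* G, ∀ p : P, QuotientGroup.mk' N (s p) = p := by
  set f := QuotientGroup.mk' N with hf
  set M := P.comap f with hM
  have hNM : N ≤ M := fun x hx => by
    rw [hM, Subgroup.mem_comap, show f x = 1 from (QuotientGroup.eq_one_iff x).2 hx]
    exact one_mem _
  let g : M →* P := (f.comp M.subtype).codRestrict P fun x => x.2
  have hgs : Function.Surjective g := fun ⟨p, hp⟩ => by
    obtain ⟨x, rfl⟩ := QuotientGroup.mk'_surjective N p
    exact ⟨⟨x, hp⟩, rfl⟩
  have hker : g.ker = N.subgroupOf M := by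
    ext x
    rw [MonoidHom.mem_ker, Subgroup.mem_subgroupOf, ← QuotientGroup.eq_one_iff (N := N)]
    exact ⟨fun h => congrArg Subtype.val h, fun h => Subtype.ext h⟩
  have hidx : (N.subgroupOf M).index = Nat.card P := by
    rw [← hker, Subgroup.index_ker, MonoidHom.range_eq_top.2 hgs, Subgroup.card_top]
  obtain ⟨C, hC⟩ := Subgroup.exists_right_complement'_of_coprime (N := N.subgroupOf M) (by
    rw [hidx, Nat.card_congr (Subgroup.subgroupOfEquivOfLe hNM).toEquiv]; exact hcop)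
  have hdis : N.subgroupOf M ⊓ C = ⊥ := hC.disjoint.eq_bot
  have hbij : Function.Bijective (g.comp C.subtype) := by
    constructor
    · rw [injective_iff_map_eq_one]
      intro x hx
      have : (x : M) ∈ N.subgroupOf M ⊓ C := ⟨hker ▸ hx, x.2⟩
      rw [hdis, Subgroup.mem_bot] at this
      exact Subtype.ext this
    · intro p
      obtain ⟨x, rfl⟩ := hgs p
      have hx : x ∈ N.subgroupOf M ⊔ C := hC.sup_eq_top ▸ Subgroup.mem_top x
      obtain ⟨n, hn, c, hc, rfl⟩ := Subgroup.mem_sup_of_normal_left.1 hx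
      refine ⟨⟨c, hc⟩, ?_⟩
      rw [map_mul, show g n = 1 from MonoidHom.mem_ker.1 (hker ▸ hn), one_mul]
      rfl
  let e := MulEquiv.ofBijective _ hbij
  refine ⟨(M.subtype.comp C.subtype).comp e.symm.toMonoidHom, fun p => ?_⟩
  exact congrArg Subtype.val (e.apply_symm_apply p)

end Cfsg.Agent.ThreeTransp.TwoQuotient
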