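import Mathlib
import Cfsg.Agent.Lib.ThreeTransp.FiveFixed
import Cfsg.Agent.Lib.ThreeTransp.TwoQuotientPrep
import Cfsg.Agent.SimpleFacts.SUMult.Main

/-!
Quotient `SU(5, 2)`: a compatible choice of members over the transvections, and the complement.
-/

set_option autoImplicit false
set_option linter.unusedSectionVars false

namespace Cfsg.Agent.ThreeTransp.FiveSection

open Matrix Cfsg.Agent.Classical.Unitary
open Cfsg.Agent.GroupStructure3.ThreeTransUnitary
open Cfsg.Agent.ThreeTransp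

universe u v

variable {G : Type v} [Group G] [Finite G] {D : Set G}
variable {F : Type u} [Field F] [Fintype F] {ω : F}
variable (hF : Fintype.card F = 2 ^ 2) (hω : ω ^ 2 + ω + 1 = 0)
variable {π : G →* Cfsg.SU 5 F 2}
include hF hω

/-- The standing hypotheses with chosen lifts of the pseudo-reflections. -/
structure Setup (hF : Fintype.card F = 2 ^ 2) (hω : ω ^ 2 + ω + 1 = 0) (D : Set G)
    (π : G →* Cfsg.SU 5 F 2) (zt : Fin 5 → G) : Prop where
  data : UnitaryRadical.Data hF D π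
  core : π.ker = Cfsg.pCore 2 G
  img : ∀ k, π (zt k) = FiveTorus.z hF hω k
  cube : ∀ k, zt k ^ 3 = 1
  comm : ∀ k l, Commute (zt k) (zt l)

theorem exists_setup (H : UnitaryRadical.Data hF D π) (hcore : π.ker = Cfsg.pCore 2 G) :
    ∃ zt, Setup hF hω D π zt := by
  obtain ⟨T, hT⟩ : ∃ T, T = Subgroup.closure (Set.range (FiveTorus.z hF hω)) := ⟨_, rfl⟩
  have hTc : ∀ a ∈ T, ∀ b ∈ T, Commute a b := by
    intro a ha b hb
    have h1 : T ≤ Subgroup.centralizer (T : Set (Cfsg.SU 5 F 2)) := by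
      rw [hT, Subgroup.centralizer_closure, Subgroup.closure_le]
      rintro _ ⟨k, rfl⟩
      refine Subgroup.mem_centralizer_iff.2 ?_
      rintro _ ⟨l, rfl⟩
      exact (FiveTorus.z_commute hF hω l k).eq
    exact (Subgroup.mem_centralizer_iff.1 (h1 ha) b hb).symm
  have hT3 : ∀ a ∈ T, a ^ 3 = 1 := by
    intro a ha
    rw [hT] at ha
    induction ha using Subgroup.closure_induction with
    | mem a ha => obtain ⟨k, rfl⟩ := ha; exact FiveTorus.z_cube hF hω k
    | one => exact one_pow 3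
    | mul a b ha' hb' iha ihb =>
      rw [(hTc a (hT ▸ ha') b (hT ▸ hb')).mul_pow, iha, ihb, one_mul]
    | inv a _ ih => rw [inv_pow, ih, inv_one]
  obtain ⟨L, hL⟩ : ∃ L, L = T.comap π := ⟨_, rfl⟩
  have hle : π.ker ≤ L := fun x hx => by
    rw [hL, Subgroup.mem_comap, MonoidHom.mem_ker.1 hx]; exact one_mem _
  have : Fact (Nat.Prime 2) := ⟨Nat.prime_two⟩
  have hcop : (Nat.card (π.ker.subgroupOf L)).Coprime (π.ker.subgroupOf L).index := by
    rw [Nat.card_congr (Subgroup.subgroupOfEquivOfLe hle).toEquiv]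
    obtain ⟨n, hn⟩ := IsPGroup.iff_card.1 H.two
    rw [hn]
    refine Nat.Coprime.pow_left _ ?_
    refine Nat.prime_two.coprime_iff_not_dvd.2 fun h2 => ?_
    have hcard : (π.ker.subgroupOf L).index = Nat.card T := by
      rw [← Subgroup.relIndex, hL, ← MonoidHom.comap_bot π, Subgroup.relIndex_comap,
        Subgroup.map_comap_eq_self_of_surjective H.surj, Subgroup.relIndex_bot_left]
    rw [hcard] at h2
    have : Fact (Nat.Prime 3) := ⟨Nat.prime_three⟩
    have hp : IsPGroup 3 T := fun a => ⟨1, Subtype.ext (by simpa using hT3 a a.2)⟩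
    obtain ⟨j, hj⟩ := IsPGroup.iff_card.1 hp
    rw [hj] at h2
    exact absurd (Nat.prime_two.dvd_of_dvd_pow h2) (by norm_num)
  obtain ⟨M, hM⟩ := Subgroup.exists_right_complement'_of_coprime hcop
  have huniq : ∀ m ∈ M, π (m : G) = 1 → m = 1 := fun m hm h =>
    Subgroup.disjoint_def.1 hM.disjoint
      (Subgroup.mem_subgroupOf.2 (MonoidHom.mem_ker.2 h)) hm
  have hex : ∀ k, ∃ m ∈ M, π (m : G) = FiveTorus.z hF hω k := by
    intro k
    obtain ⟨g, hg⟩ := H.surj (FiveTorus.z hF hω k)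
    have hgL : g ∈ L := by
      rw [hL, Subgroup.mem_comap, hg, hT]
      exact Subgroup.subset_closure ⟨k, rfl⟩
    obtain ⟨⟨⟨a, ha⟩, b, hb⟩, hab⟩ := hM.existsUnique ⟨g, hgL⟩ |>.exists
    refine ⟨b, hb, ?_⟩
    have h1 : (a : G) * b = g := congrArg Subtype.val hab
    rw [← hg, ← h1, map_mul, MonoidHom.mem_ker.1 (Subgroup.mem_subgroupOf.1 ha), one_mul]
  choose m hm hπm using hex
  refine ⟨fun k => (m k : G), H, hcore, hπm, fun k => ?_, fun k l => ?_⟩
  · have := huniq _ (pow_mem (hm k) 3) (by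
      rw [Subgroup.coe_pow, map_pow, hπm, FiveTorus.z_cube])
    exact congrArg Subtype.val this
  · have := huniq _ (mul_mem (mul_mem (mul_mem (hm k) (hm l)) (inv_mem (hm k))) (inv_mem (hm l))) (by
      simp only [Subgroup.coe_mul, Subgroup.coe_inv, map_mul, map_inv, hπm]
      rw [(FiveTorus.z_commute hF hω k l).eq]
      group)
    have h1 : (m k : G) * m l * (m k : G)⁻¹ * (m l : G)⁻¹ = 1 := by
      simpa using congrArg Subtype.val this
    exact mul_inv_eq_iff_eq_mul.1 (mul_inv_eq_one.1 h1)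

/-- A member fixed by each chosen lift whose image it may commute with. -/
def InSec (hF : Fintype.card F = 2 ^ 2) (hω : ω ^ 2 + ω + 1 = 0) (D : Set G)
    (π : G →* Cfsg.SU 5 F 2) (zt : Fin 5 → G) (d : G) : Prop :=
  d ∈ D ∧ ∀ k, Commute (FiveTorus.z hF hω k) (π d) → Commute (zt k) d

/-- A member whose conjugation keeps the chosen members. -/
def Pres (hF : Fintype.card F = 2 ^ 2) (hω : ω ^ 2 + ω + 1 = 0) (D : Set G)
    (π : G →* Cfsg.SU 5 F 2) (zt : Fin 5 → G) (d : G) : Prop :=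
  ∀ e, InSec hF hω D π zt e → InSec hF hω D π zt (d * e * d)

variable {zt : Fin 5 → G} (S : Setup hF hω D π zt)
include S

theorem grp : Cfsg.IsThreeTranspositionGroup D := (Classes.of_class S.data.cls).1

theorem fixed_unique {k : Fin 5} {d d' : G} (hd : d ∈ D) (hd' : d' ∈ D) (h : π d' = π d)
    (hc : Commute (zt k) d) (hc' : Commute (zt k) d') : d' = d := by
  have h1 : d * d' ∈ TwoRadical.Q0 D π := Subgroup.subset_closure ⟨d, hd, d', hd', h, rfl⟩
  have h2 := FiveFixed.fixed_any hF hω S.data (S.img k) h1 (hc.mul_right hc')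
  rw [← Classes.inv (grp hF hω S) hd]
  exact eq_inv_of_mul_eq_one_right h2

theorem exists_fixed {k : Fin 5} {d : G} (hd : d ∈ D)
    (hc : Commute (FiveTorus.z hF hω k) (π d)) :
    ∃ d', d' ∈ D ∧ π d' = π d ∧ Commute (zt k) d' := by
  have : Fact (Nat.Prime 2) := ⟨Nat.prime_two⟩
  have C := UnitaryRadical.ctx hF S.data
  obtain ⟨e, he, hπe⟩ : ∃ e ∈ D, ¬ Commute d e := by
    obtain ⟨v, hv, hv0, hπd⟩ := UnitaryRadical.exists_vec hF S.data hd
    obtain ⟨u, hu, huv⟩ := UnitaryPoints.exists_partner' hF hv hv0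
    have hu0 : u ≠ 0 := fun e => by rw [e, H_zero_left] at huv; exact zero_ne_one huv
    obtain ⟨e, he, hπe⟩ := UnitaryRadical.exists_mem hF S.data hu hu0
    refine ⟨e, he, fun h => ?_⟩
    have h1 := h.symm.map π
    rw [hπe, hπd, UnitaryPoints.tr_commute_iff hF hu hv hu0 hv0, huv] at h1
    exact one_ne_zero h1
  obtain ⟨v, hv⟩ : ∃ v, v = zt k * d * (zt k)⁻¹ := ⟨_, rfl⟩
  have hvD : v ∈ D := hv ▸ (grp hF hω S).2.1 _ _ hd
  have hπv : π v = π d := by
    rw [hv, map_mul, map_mul, map_inv, S.img, hc.eq, mul_inv_cancel_right]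
  have hsame : Classes.SameComm D d v := by
    rw [Classes.sameComm_iff_mem (grp hF hω S) hd, ← S.core]
    exact ⟨hvD, by rw [MonoidHom.mem_ker, map_mul, map_inv, hπv, inv_mul_cancel]⟩
  obtain ⟨r, hr, hrd⟩ := Classes.sameComm_exists_conj (grp hF hω S) hd hsame ⟨e, he, hπe⟩
  rw [← S.core] at hr
  obtain ⟨k1, hk1⟩ : ∃ k1, k1 = r⁻¹ * zt k := ⟨_, rfl⟩
  have hk1d : Commute k1 d := by
    have h1 : k1 * d * k1⁻¹ = d := by
      rw [hk1, show r⁻¹ * zt k * d * (r⁻¹ * zt k)⁻¹ = r⁻¹ * (zt k * d * (zt k)⁻¹) * r by group,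
        ← hv, ← hrd]
      group
    exact mul_inv_eq_iff_eq_mul.1 h1
  obtain ⟨j, hj⟩ := IsPGroup.iff_card.1 S.data.two
  obtain ⟨n, hn⟩ : ∃ n, n = Nat.card π.ker * Nat.card π.ker := ⟨_, rfl⟩
  have hn3 : n % 3 = 1 := by rw [hn, hj, ← mul_pow, Nat.pow_mod]; norm_num
  have hπk1 : π k1 = π (zt k) := by
    rw [hk1, map_mul, map_inv, MonoidHom.mem_ker.1 hr, inv_one, one_mul]
  obtain ⟨k2, hk2⟩ : ∃ k2, k2 = k1 ^ n := ⟨_, rfl⟩
  have hk2z : π k2 = π (zt k) := by
    rw [hk2, map_pow, hπk1, pow_eq_pow_mod n (show π (zt k) ^ 3 = 1 by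
      rw [← map_pow, S.cube, map_one]), hn3, pow_one]
  have hk23 : k2 ^ 3 = 1 := by
    have h3 : k1 ^ 3 ∈ π.ker := by
      rw [MonoidHom.mem_ker, map_pow, hπk1, ← map_pow, S.cube, map_one]
    have h1 : (⟨_, h3⟩ : π.ker) ^ Nat.card π.ker = 1 := pow_card_eq_one'
    have h2 : (k1 ^ 3) ^ Nat.card π.ker = 1 := congrArg Subtype.val h1
    rw [hk2, ← pow_mul, mul_comm, hn, ← mul_assoc, pow_mul, pow_mul, h2, one_pow]
  obtain ⟨q, hq, hqk⟩ := TwoQuotient.exists_conj_of_congr S.data.two (S.cube k) hk23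
    (by rw [MonoidHom.mem_ker, map_mul, map_inv, hk2z, inv_mul_cancel])
  refine ⟨q * d * q⁻¹, (grp hF hω S).2.1 _ _ hd, by
    rw [map_mul, map_mul, map_inv, MonoidHom.mem_ker.1 hq, one_mul, inv_one, mul_one], ?_⟩
  rw [← hqk]
  exact Basic.commute_conj.2 (hk2 ▸ hk1d.pow_left n)

theorem exists_zero_image {d : G} (hd : d ∈ D) :
    ∃ k, Commute (FiveTorus.z hF hω k) (π d) := by
  obtain ⟨v, hv, -, hπ⟩ := UnitaryRadical.exists_vec hF S.data hd
  obtain ⟨k, hk⟩ := FiveBridge.exists_zero hF hω hv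
  exact ⟨k, hπ ▸ FiveTorus.z_commute_tr hF hω hv hk⟩

theorem sec_unique {d d' : G} (h : InSec hF hω D π zt d) (h' : InSec hF hω D π zt d')
    (he : π d' = π d) : d' = d := by
  obtain ⟨k, hk⟩ := exists_zero_image hF hω S h.1
  exact fixed_unique hF hω S h.1 h'.1 he (h.2 k hk) (h'.2 k (by rw [he]; exact hk))

theorem exists_sec {d : G} (hd : d ∈ D) : ∃ d', InSec hF hω D π zt d' ∧ π d' = π d := by
  obtain ⟨k, hk⟩ := exists_zero_image hF hω S hd
  obtain ⟨d', hd', he, hc⟩ := exists_fixed hF hω S hd hk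
  refine ⟨d', ⟨hd', fun l hl => ?_⟩, he⟩
  have h1 : zt l * d' * (zt l)⁻¹ = d' := fixed_unique hF hω S hd'
    ((grp hF hω S).2.1 _ _ hd')
    (by rw [map_mul, map_mul, map_inv, S.img, hl.eq, mul_inv_cancel_right]) hc (by
      have h2 := (Basic.commute_conj (g := zt l)).2 hc
      rwa [(S.comm l k).eq, mul_inv_cancel_right] at h2)
  exact mul_inv_eq_iff_eq_mul.1 h1

theorem sec_common {d e : G} (hd : InSec hF hω D π zt d) (he : InSec hF hω D π zt e)
    {k : Fin 5} (h1 : Commute (FiveTorus.z hF hω k) (π d))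
    (h2 : Commute (FiveTorus.z hF hω k) (π e)) : InSec hF hω D π zt (d * e * d) := by
  have hD : d * e * d ∈ D := Classes.conj_mem (grp hF hω S) hd.1 he.1
  obtain ⟨f, hf, hπ⟩ := exists_sec hF hω S hD
  have hk : Commute (FiveTorus.z hF hω k) (π (d * e * d)) := by
    rw [map_mul, map_mul]; exact (h1.mul_right h2).mul_right h1
  have := fixed_unique hF hω S hf.1 hD hπ.symm (hf.2 k (by rw [hπ]; exact hk))
    (((hd.2 k h1).mul_right (he.2 k h2)).mul_right (hd.2 k h1))
  rwa [this]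

theorem two_pres {d : G} (hd : InSec hF hω D π zt d) {v : Fin 5 → F}
    (hv : Cfsg.hermForm 5 F 2 v v = 0) (htwo : FiveBridge.IsTwo v) (hπ : π d = tr hF hv) :
    Pres hF hω D π zt d := by
  obtain ⟨i, j, hij, hi, hj, hz⟩ := htwo
  have hdd := Classes.sq (grp hF hω S) hd.1
  have hdi := Classes.inv (grp hF hω S) hd.1
  have C := UnitaryRadical.ctx hF S.data
  have hperm : ∀ k, d * zt k * d = zt (Equiv.swap i j k) := by
    intro k
    have houter : ∀ l, l ≠ i → l ≠ j → Commute (zt l) d := fun l hli hlj => hd.2 l (by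
      rw [hπ]; exact FiveTorus.z_commute_tr hF hω hv (hz l hli hlj))
    by_cases hk : k ≠ i ∧ k ≠ j
    · rw [Equiv.swap_apply_of_ne_of_ne hk.1 hk.2, ← (houter k hk.1 hk.2).eq, mul_assoc, hdd,
        mul_one]
    obtain ⟨l, hli, hlj⟩ :=
      (show ∀ a b : Fin 5, ∃ l, l ≠ a ∧ l ≠ b by decide) i j
    have hout := houter l hli hlj
    obtain ⟨q, hq⟩ : ∃ q, q = (zt (Equiv.swap i j k))⁻¹ * (d * zt k * d) := ⟨_, rfl⟩
    have hqk : q ∈ π.ker := by
      rw [hq, MonoidHom.mem_ker, map_mul, map_inv, map_mul, map_mul, S.img, S.img, hπ,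
        FiveTorus.two_conj hF hω hv hij hi hj hz, inv_mul_cancel]
    have hql : Commute (zt l) q := by
      rw [hq]
      exact (S.comm l _).inv_right.mul_right ((hout.mul_right (S.comm l k)).mul_right hout)
    have hqc : Commute (zt (Equiv.swap i j k)) q := by
      obtain ⟨w, hw⟩ : ∃ w, w = zt (Equiv.swap i j k) := ⟨_, rfl⟩
      rw [← hw]
      have h1 := TwoRadical.comm_ker C (g := w) hqk
      have hlw : Commute (zt l) w := hw ▸ S.comm l _
      have h2 := FiveFixed.fixed_any hF hω S.data (S.img l) h1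
        (((hlw.mul_right hql).mul_right hlw.inv_right).mul_right hql.inv_right)
      exact mul_inv_eq_iff_eq_mul.1 (mul_inv_eq_one.1 h2)
    have hq3 : q ^ 3 = 1 := by
      have h1 : zt (Equiv.swap i j k) * q = d * zt k * d := by rw [hq, mul_inv_cancel_left]
      have h2 := congrArg (fun g => g ^ 3) h1
      simp only [hqc.mul_pow, S.cube, one_mul] at h2
      rw [h2, show d * zt k * d = d * zt k * d⁻¹ by rw [hdi], conj_pow, S.cube, mul_one,
        mul_inv_cancel]
    have hq1 := Classes.eq_one_of_mem_pGroup Nat.prime_two S.data.two hqk hq3 (by norm_num)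
    rw [hq, inv_mul_eq_one] at hq1
    exact hq1.symm
  intro e he
  refine ⟨Classes.conj_mem (grp hF hω S) hd.1 he.1, fun k hk => ?_⟩
  have h1 : Commute (FiveTorus.z hF hω (Equiv.swap i j k)) (π e) := by
    have h2 := (Basic.commute_conj (g := π d)).2 hk
    rw [← map_inv, hdi, map_mul, map_mul, hπ, FiveTorus.two_conj hF hω hv hij hi hj hz,
      show tr hF hv * (tr hF hv * π e * tr hF hv) * tr hF hv =
        (tr hF hv * tr hF hv) * π e * (tr hF hv * tr hF hv) by group, tr_sq, one_mul,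
      mul_one] at h2
    exact h2
  have h3 := (Basic.commute_conj (g := d)).2 (he.2 _ h1)
  rwa [hdi, hperm, Equiv.swap_apply_self] at h3

theorem swap_pres {a b : G} (ha : InSec hF hω D π zt a) (hb : InSec hF hω D π zt b)
    (hp : Pres hF hω D π zt b) : InSec hF hω D π zt (a * b * a) := by
  by_cases hc : Commute a b
  · rwa [hc.eq, mul_assoc, Classes.sq (grp hF hω S) ha.1, mul_one]
  · rw [Basic.braid (grp hF hω S).1 ha.1 hb.1 hc]
    exact hp a ha

theorem image_move {a b : G} {x y : Fin 5 → F}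
    (hx : Cfsg.hermForm 5 F 2 x x = 0) (hy : Cfsg.hermForm 5 F 2 y y = 0)
    (hm : Cfsg.hermForm 5 F 2 (FiveBridge.move x y) (FiveBridge.move x y) = 0)
    (ha : π a = tr hF hx) (hb : π b = tr hF hy) : π (a * b * a) = tr hF hm := by
  rw [map_mul, map_mul, ha, hb, ← tr_conj hF (tr hF hx) hy hm (tr_mulVec hF hx y),
    inv_eq_of_mul_eq_one_right (tr_sq hF hx)]

theorem seed_pres {d : G} (hd : InSec hF hω D π zt d)
    {hu : Cfsg.hermForm 5 F 2 (FiveBridge.seedPres : Fin 5 → F) FiveBridge.seedPres = 0}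
    (hπ : π d = tr hF hu) : Pres hF hω D π zt d := by
  have hdd := Classes.sq (grp hF hω S) hd.1
  -- the case that the conjugate has weight two
  have hcase : ∀ e, InSec hF hω D π zt e → ∀ (v : Fin 5 → F)
      (hv : Cfsg.hermForm 5 F 2 v v = 0), π e = tr hF hv →
      FiveBridge.IsTwo (FiveBridge.move (FiveBridge.seedPres : Fin 5 → F) v) →
      InSec hF hω D π zt (d * e * d) ∧ Pres hF hω D π zt (d * e * d) := by
    intro e he v hv hπe htwo
    have hm := FiveBridge.move_iso hF hu hv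
    have hπc := image_move hF hω S hu hv hm hπ hπe
    suffices h : InSec hF hω D π zt (d * e * d) from ⟨h, two_pres hF hω S h hm htwo hπc⟩
    by_cases hc : Commute d e
    · rwa [hc.eq, mul_assoc, hdd, mul_one]
    obtain ⟨f, hf, hπf⟩ := exists_sec hF hω S (Classes.conj_mem (grp hF hω S) hd.1 he.1)
    have hfp := two_pres hF hω S hf hm htwo (hπf.trans hπc)
    have hbr := Basic.braid (grp hF hω S).1 hd.1 he.1 hc
    have hπe' : π (f * d * f) = π e := by
      rw [map_mul, map_mul, hπf, ← map_mul, ← map_mul]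
      congr 1
      calc d * e * d * d * (d * e * d) = d * e * (d * d) * (d * e * d) := by group
        _ = d * e * (e * d * e) := by rw [hdd, mul_one, hbr]
        _ = d * (e * e) * d * e := by group
        _ = e := by rw [Classes.sq (grp hF hω S) he.1, mul_one, hdd, one_mul]
    have heq : f * d * f = e := sec_unique hF hω S he (hfp d hd) hπe'
    have hne : ¬ Commute d f := fun h => hc (by
      rw [← heq, ← h.eq, mul_assoc, Classes.sq (grp hF hω S) hf.1, mul_one])
    have : d * e * d = f := by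
      rw [← heq, ← Basic.braid (grp hF hω S).1 hd.1 hf.1 hne,
        show d * (d * f * d) * d = (d * d) * f * (d * d) by group, hdd, one_mul, mul_one]
    rwa [this]
  intro e he
  obtain ⟨v, hv, hv0, hπe⟩ := UnitaryRadical.exists_vec hF S.data he.1
  by_cases hc : Commute d e
  · rwa [hc.eq, mul_assoc, hdd, mul_one]
  by_cases hk : v 0 = 0
  · exact sec_common hF hω S hd he (k := 0)
      (hπ ▸ FiveTorus.z_commute_tr hF hω hu (by simp [FiveBridge.seedPres]))
      (hπe ▸ FiveTorus.z_commute_tr hF hω hv hk)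
  have hs0 : (FiveBridge.seedPres : Fin 5 → F) ≠ 0 := fun e => by
    simpa [FiveBridge.seedPres] using congrFun e 1
  have hne : Cfsg.hermForm 5 F 2 v FiveBridge.seedPres ≠ 0 := fun h => hc <|
    (UnitaryRadical.commute_lift hF S.data he.1 hd.1 (by
      rw [hπe, hπ, UnitaryPoints.tr_commute_iff hF hv hu hv0 hs0]; exact h)).symm
  rcases FiveBridge.seed_cases hF hω hv hne hk with h | h | ⟨x, hx, hx2, h⟩
  · exact swap_pres hF hω S hd he (two_pres hF hω S he hv h hπe)
  · exact (hcase e he v hv hπe h).1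
  · have hx0 : x ≠ 0 := by
      obtain ⟨i, j, -, hi, -⟩ := hx2
      exact fun e => hi (by rw [e]; rfl)
    obtain ⟨a₀, ha₀, hπa₀⟩ := UnitaryRadical.exists_mem hF S.data hx hx0
    obtain ⟨a, ha, hπa⟩ := exists_sec hF hω S ha₀
    rw [hπa₀] at hπa
    have hap := two_pres hF hω S ha hx hx2 hπa
    have hy : InSec hF hω D π zt (a * e * a) := hap e he
    obtain ⟨hb, hbp⟩ := hcase _ hy _ (FiveBridge.move_iso hF hx hv)
      (image_move hF hω S hx hv (FiveBridge.move_iso hF hx hv) hπa hπe) h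
    have h1 := swap_pres hF hω S (swap_pres hF hω S hd ha hap) hb hbp
    have e1 : d * a * d * (d * (a * e * a) * d) * (d * a * d) = d * e * d := by
      rw [show d * a * d * (d * (a * e * a) * d) * (d * a * d) =
        d * a * (d * d) * (a * e * a) * (d * d) * a * d by group, hdd, mul_one, mul_one,
        show d * a * (a * e * a) * a * d = d * (a * a) * e * (a * a) * d by group,
        Classes.sq (grp hF hω S) ha.1, mul_one, mul_one]
    rwa [e1] at h1

theorem all_pres {d : G} (hd : InSec hF hω D π zt d) : Pres hF hω D π zt d := by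
  obtain ⟨v, hv, hv0, hπ⟩ := UnitaryRadical.exists_vec hF S.data hd.1
  suffices h : ∀ w : Fin 5 → F, w ≠ 0 → Cfsg.hermForm 5 F 2 w w = 0 →
      (w ≠ 0 ∧ ∃ hw : Cfsg.hermForm 5 F 2 w w = 0,
        ∀ f, InSec hF hω D π zt f → π f = tr hF hw → Pres hF hω D π zt f) by
    obtain ⟨_, _, h1⟩ := h v hv0 hv
    exact h1 d hd hπ
  intro w hw0 hw
  refine FiveBridge.pres_induction hF hω (P := fun w => w ≠ 0 ∧
    ∃ hw : Cfsg.hermForm 5 F 2 w w = 0,
      ∀ f, InSec hF hω D π zt f → π f = tr hF hw → Pres hF hω D π zt f) ?_ ?_ ?_ ?_ hw0 hw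
  · intro v c hc
    constructor
    · rintro ⟨h0, hcv, h⟩
      have hv : Cfsg.hermForm 5 F 2 v v = 0 := by
        rw [H_smul_left, H_smul_right] at hcv
        exact (mul_eq_zero.1 ((mul_eq_zero.1 hcv).resolve_left hc)).resolve_left
          (pow_ne_zero _ hc)
      exact ⟨fun e => h0 (by rw [e, smul_zero]), hv, fun f hf hπ => h f hf
        (by rw [hπ, tr_smul hF hv hc hcv])⟩
    · rintro ⟨h0, hv, h⟩
      obtain ⟨hcv, e⟩ := UnitaryPoints.tr_scale hF hv hc
      exact ⟨smul_ne_zero hc h0, hcv, fun f hf hπ => h f hf (by rw [hπ, e])⟩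
  · have hu : Cfsg.hermForm 5 F 2 (FiveBridge.seedPres : Fin 5 → F) FiveBridge.seedPres = 0 := by
      simp [Cfsg.hermForm, Fin.sum_univ_five, FiveBridge.seedPres]
      linear_combination 2 * two_zero hF
    exact ⟨fun e => by simpa [FiveBridge.seedPres] using congrFun e 1, hu,
      fun f hf hπ => seed_pres hF hω S hf hπ⟩
  · intro x hx hx2
    refine ⟨?_, hx, fun f hf hπ => two_pres hF hω S hf hx hx2 hπ⟩
    obtain ⟨i, j, -, hi, -⟩ := hx2
    exact fun e => hi (by rw [e]; rfl)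
  · rintro x y hx hx2 ⟨hx0, _, hPx⟩ ⟨hy0, hy, hPy⟩
    have hm := FiveBridge.move_iso hF hx hy
    refine ⟨?_, hm, fun f hf hπ => ?_⟩
    · rw [← show mat (tr hF hx) *ᵥ y = FiveBridge.move x y from tr_mulVec hF hx y]
      exact mat_mulVec_ne_zero _ hy0
    obtain ⟨a₀, ha₀, hπa₀⟩ := UnitaryRadical.exists_mem hF S.data hx hx0
    obtain ⟨a, ha, hπa⟩ := exists_sec hF hω S ha₀
    rw [hπa₀] at hπa
    obtain ⟨b₀, hb₀, hπb₀⟩ := UnitaryRadical.exists_mem hF S.data hy hy0
    obtain ⟨b, hb, hπb⟩ := exists_sec hF hω S hb₀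
    rw [hπb₀] at hπb
    have hap := hPx a ha hπa
    have hbp := hPy b hb hπb
    have hfe : f = a * b * a := sec_unique hF hω S (hap b hb) hf
      (by rw [hπ, image_move hF hω S hx hy hm hπa hπb])
    intro e he
    have h1 := hap _ (hbp _ (hap e he))
    rwa [show a * (b * (a * e * a) * b) * a = f * e * f by rw [hfe]; group] at h1

omit hω S in
theorem exists_omega_root : ∃ ω : F, ω ^ 2 + ω + 1 = 0 := by
  obtain ⟨ω, -, h, -⟩ := UnitaryPoints.exists_omega hF
  exact ⟨ω, h⟩

/-- The kernel is elementary abelian and complemented. -/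
theorem main : Cfsg.IsElementaryAbelian 2 π.ker ∧ ∃ K : Subgroup G, π.ker.IsComplement' K := by
  have H := S.data
  have C := UnitaryRadical.ctx hF H
  have hQn := TwoRadical.Q0_normal C
  have hG := grp hF hω S
  have : Fact (Nat.Prime 2) := ⟨Nat.prime_two⟩
  obtain ⟨K, hK⟩ : ∃ K, K = Subgroup.closure {d | InSec hF hω D π zt d} := ⟨_, rfl⟩
  have hKnorm : ∀ g ∈ K, ∀ e, InSec hF hω D π zt e →
      InSec hF hω D π zt (g * e * g⁻¹) ∧ InSec hF hω D π zt (g⁻¹ * e * g) := by
    intro g hg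
    rw [hK] at hg
    induction hg using Subgroup.closure_induction with
    | mem d hd =>
      intro e he
      have := all_pres hF hω S hd e he
      rw [Classes.inv hG hd.1]
      exact ⟨this, this⟩
    | one => intro e he; simpa using he
    | mul a b _ _ iha ihb =>
      intro e he
      constructor
      · have := (iha _ (ihb e he).1).1
        rwa [show a * (b * e * b⁻¹) * a⁻¹ = a * b * e * (a * b)⁻¹ by group] at this
      · have := (ihb _ (iha e he).2).2
        rwa [show b⁻¹ * (a⁻¹ * e * a) * b = (a * b)⁻¹ * e * (a * b) by group] at this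
    | inv a _ ih =>
      intro e he
      exact ⟨by simpa using (ih e he).2, by simpa using (ih e he).1⟩
  have hKsurj : ∀ s, ∃ g ∈ K, π g = s := by
    intro s
    have hle : Subgroup.closure (π '' D) ≤ K.map π := by
      refine (Subgroup.closure_le _).2 ?_
      rintro _ ⟨d, hd, rfl⟩
      obtain ⟨d', hd', he⟩ := exists_sec hF hω S hd
      exact ⟨d', hK ▸ Subgroup.subset_closure hd', he⟩
    rw [← MonoidHom.map_closure, hG.2.2, Subgroup.map_top_of_surjective π H.surj] at hle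
    exact hle (Subgroup.mem_top s)
  have hcov : K ⊔ π.ker = ⊤ := by
    rw [eq_top_iff]
    intro x _
    obtain ⟨g, hg, hπ⟩ := hKsurj (π x)
    rw [show x = g * (g⁻¹ * x) by group]
    exact mul_mem (Subgroup.mem_sup_left hg) (Subgroup.mem_sup_right (by
      rw [MonoidHom.mem_ker, map_mul, map_inv, hπ, inv_mul_cancel]))
  have hcenK : ∀ c ∈ K, π c = 1 → ∀ g ∈ K, Commute c g := by
    intro c hc hπc g hg
    have hle : K ≤ Subgroup.centralizer ({c} : Set G) := by
      rw [hK]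
      refine (Subgroup.closure_le _).2 fun e he => ?_
      rw [SetLike.mem_coe, Subgroup.mem_centralizer_singleton_iff]
      have h1 := sec_unique hF hω S he (hKnorm c hc e he).1
        (by rw [map_mul, map_mul, map_inv, hπc, one_mul, inv_one, mul_one])
      exact (mul_inv_eq_iff_eq_mul.1 h1).symm
    exact (Subgroup.mem_centralizer_singleton_iff.1 (hle hg)).symm
  -- one member and the relation through it
  obtain ⟨v₀, hv₀, hv1, -, -⟩ :=
    exists_isotropic_pair hF (n := 5) (0 : Fin 5) (1 : Fin 5) (by decide)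
  have hv₀0 : v₀ ≠ 0 := fun e => by rw [e] at hv1; exact zero_ne_one hv1
  obtain ⟨d₁, hd₁, hπd₁⟩ := UnitaryRadical.exists_mem hF H hv₀ hv₀0
  obtain ⟨d₀, hd₀, hπd₀⟩ := exists_sec hF hω S hd₁
  rw [hπd₁] at hπd₀
  have hd₀K : d₀ ∈ K := hK ▸ Subgroup.subset_closure hd₀
  obtain ⟨l, hlen, hprod, hl⟩ := UnitaryPoints.exists_odd_relation hF H.four hv₀ hv₀0
  obtain ⟨ll, hll, hll'⟩ := UnitaryRadical.lift_list π
    (fun f => InSec hF hω D π zt f ∧ Commute f d₀) l fun s hs => by
      obtain ⟨w, hw, hw0, hwv, rfl⟩ := hl s hs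
      obtain ⟨f₁, hf₁, hπf₁⟩ := UnitaryRadical.exists_mem hF H hw hw0
      obtain ⟨f, hf, hπf⟩ := exists_sec hF hω S hf₁
      rw [hπf₁] at hπf
      exact ⟨f, ⟨hf, UnitaryRadical.commute_lift hF H hf.1 hd₀.1 (by
        rw [hπf, hπd₀, UnitaryPoints.tr_commute_iff hF hw hv₀ hw0 hv₀0]; exact hwv)⟩, hπf⟩
  obtain ⟨ζ, hζ⟩ : ∃ ζ, ζ = ll.prod := ⟨_, rfl⟩
  have hζK : ζ ∈ K := hζ ▸ list_prod_mem fun f hf => hK ▸ Subgroup.subset_closure (hll' f hf).1
  have hζπ : π ζ = 1 := by rw [hζ, map_list_prod, hll, hprod]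
  -- the kernel inside `K` is generated by the relation
  have htriv : ∀ z : K, π (z : G) = 1 → z ∈ commutator K → z = 1 := by
    intro z hz hzc
    refine SimpleFacts.SUMult.Main.triv_two_big hF rfl 5 (by norm_num) (by norm_num)
      (by norm_num) (by norm_num) 2 Nat.prime_two K (π.comp K.subtype) (fun s => ?_) ?_ ?_ z hz hzc
    · obtain ⟨g, hg, hπ⟩ := hKsurj s
      exact ⟨⟨g, hg⟩, hπ⟩
    · intro c hc
      exact Subgroup.mem_center_iff.2 fun g => Subtype.ext (hcenK c c.2 hc g g.2).eq.symm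
    · intro c
      obtain ⟨j, hj⟩ := H.two ⟨(c : K), c.2⟩
      exact ⟨j, Subtype.ext (Subtype.ext (by simpa using congrArg Subtype.val hj))⟩
  have hker1 : ∀ c ∈ K, π c = 1 → c = 1 := by
    let ab : K →* Abelianization K := Abelianization.of
    obtain ⟨a, ha⟩ : ∃ a, a = ab ⟨d₀, hd₀K⟩ := ⟨_, rfl⟩
    have hall : ∀ e (he : InSec hF hω D π zt e),
        ab ⟨e, hK ▸ Subgroup.subset_closure he⟩ = a := by
      intro e he
      obtain ⟨w, hw, hw0, hπe⟩ := UnitaryRadical.exists_vec hF H he.1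
      obtain ⟨k, b, hk⟩ := exists_su_point hF hv₀0 hw0 hv₀ hw
      have hb : b ≠ 0 := by
        rintro rfl
        rw [zero_smul] at hk
        exact mat_mulVec_ne_zero k hv₀0 hk
      obtain ⟨hw', eb⟩ := UnitaryPoints.tr_scale hF hw hb
      obtain ⟨g, hg, hπg⟩ := hKsurj k
      have h1 : g * d₀ * g⁻¹ = e := sec_unique hF hω S he (hKnorm g hg d₀ hd₀).1 (by
        rw [map_mul, map_mul, map_inv, hπg, hπd₀, tr_conj hF k hv₀ hw' hk, eb, hπe])
      rw [show (⟨e, hK ▸ Subgroup.subset_closure he⟩ : K) =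
        ⟨g, hg⟩ * ⟨d₀, hd₀K⟩ * (⟨g, hg⟩)⁻¹ from Subtype.ext h1.symm, map_mul, map_mul, map_inv,
        mul_inv_cancel_comm, ha]
    have hgen : ∀ x : K, ∃ i : ℤ, ab x = a ^ i := by
      rintro ⟨x, hx⟩
      have key : ∀ y ∈ Subgroup.closure {d | InSec hF hω D π zt d},
          ∀ hy : y ∈ K, ∃ i : ℤ, ab ⟨y, hy⟩ = a ^ i := by
        intro y hy
        induction hy using Subgroup.closure_induction with
        | mem y hy => intro h; exact ⟨1, by rw [zpow_one]; exact hall y hy⟩
        | one => intro h; exact ⟨0, by rw [zpow_zero]; exact map_one ab⟩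
        | mul y z hy hz ihy ihz =>
          intro h
          obtain ⟨i, hi⟩ := ihy (hK ▸ hy)
          obtain ⟨j, hj⟩ := ihz (hK ▸ hz)
          exact ⟨i + j, by rw [_root_.zpow_add, ← hi, ← hj, ← map_mul]; rfl⟩
        | inv y hy ih =>
          intro h
          obtain ⟨i, hi⟩ := ih (hK ▸ hy)
          exact ⟨-i, by rw [_root_.zpow_neg, ← hi, ← map_inv]; rfl⟩
      exact key x (hK ▸ hx) hx
    have ha2 : a * a = 1 := by
      rw [ha, ← map_mul, show (⟨d₀, hd₀K⟩ : K) * ⟨d₀, hd₀K⟩ = 1 from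
        Subtype.ext (Classes.sq hG hd₀.1), map_one]
    have hζa : ab ⟨ζ, hζK⟩ = a := by
      have key : ∀ (m : List G) (hm : ∀ f ∈ m, InSec hF hω D π zt f),
          ∃ h : m.prod ∈ K, ab ⟨m.prod, h⟩ = a ^ m.length := by
        intro m
        induction m with
        | nil =>
          intro _
          refine ⟨by simp, ?_⟩
          rw [List.length_nil, pow_zero, ← map_one ab]
          exact congrArg ab (Subtype.ext List.prod_nil)
        | cons f t ih =>
          intro hm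
          obtain ⟨h, ht⟩ := ih fun g hg => hm g (List.mem_cons_of_mem _ hg)
          have hf := hm f List.mem_cons_self
          refine ⟨by rw [List.prod_cons]; exact mul_mem (hK ▸ Subgroup.subset_closure hf) h, ?_⟩
          rw [List.length_cons, pow_succ', ← ht, ← hall f hf, ← map_mul]
          exact congrArg ab (Subtype.ext List.prod_cons)
      obtain ⟨h, hp⟩ := key ll fun f hf => (hll' f hf).1
      obtain ⟨r, hr⟩ : Odd ll.length := by rwa [← hll, List.length_map] at hlen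
      have : (⟨ζ, hζK⟩ : K) = ⟨ll.prod, h⟩ := Subtype.ext hζ
      rw [this, hp, hr, pow_succ, pow_mul, pow_two, ha2, one_pow, one_mul]
    intro c hc hπc
    obtain ⟨i, hi⟩ := hgen ⟨c, hc⟩
    have hmem : (⟨c, hc⟩ : K) * ((⟨ζ, hζK⟩ : K) ^ i)⁻¹ ∈ commutator K := by
      rw [← Abelianization.ker_of, MonoidHom.mem_ker, map_mul, map_inv, map_zpow, mul_inv_eq_one]
      exact hi.trans (by rw [← hζa])
    have h1 := htriv _ (by
      rw [Subgroup.coe_mul, Subgroup.coe_inv, Subgroup.coe_zpow, map_mul, map_inv, map_zpow, hπc,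
        hζπ, _root_.one_zpow, inv_one, one_mul]) hmem
    have hcz : c = ζ ^ i := by
      have h2 := congrArg Subtype.val (mul_inv_eq_one.1 h1)
      simpa using h2
    suffices hζ1 : ζ = 1 by rw [hcz, hζ1, _root_.one_zpow]
    -- the relation centralises everything
    have hfull := TwoRadical.full_of_cover C hcov hd₀.1 hd₀K
    have hζA : ∀ y ∈ TwoRadical.A D π d₀, Commute ζ y := by
      intro y hy
      rw [hζ]
      refine (Commute.list_prod_right ll y fun f hf => ?_).symm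
      exact (TwoRadical.comm_A C (hll' f hf).1.1 hd₀.1 (hll' f hf).2 hy).symm
    have hζQ : TwoRadical.Q0 D π ≤ Subgroup.centralizer ({ζ} : Set G) := by
      refine (Subgroup.closure_le _).2 ?_
      rintro y ⟨h, hh, hy⟩
      obtain ⟨g, rfl⟩ := C.trans d₀ hd₀.1 h hh
      have hg : g ∈ TwoRadical.Q0 D π ⊔ K := by rw [sup_comm, hfull]; exact Subgroup.mem_top g
      obtain ⟨q, hq, k, hk, rfl⟩ := Subgroup.mem_sup_of_normal_left.1 hg
      obtain ⟨y₀, hy₀, rfl⟩ : ∃ y₀ ∈ TwoRadical.gens D π d₀, q * k * y₀ * (q * k)⁻¹ = y := by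
        refine ⟨(q * k)⁻¹ * y * (q * k), ?_, by group⟩
        have h3 := TwoRadical.conj_gens C (q * k)⁻¹ hy
        rwa [inv_inv, show (q * k)⁻¹ * (q * k * d₀ * (q * k)⁻¹) * (q * k) = d₀ by group] at h3
      have hy₀A : y₀ ∈ TwoRadical.A D π d₀ := Subgroup.subset_closure hy₀
      have hy0Q := TwoRadical.A_le_Q0 hd₀.1 hy₀A
      have hky : k * y₀ * k⁻¹ ∈ TwoRadical.Q0 D π := hQn.conj_mem _ hy0Q k
      have e1 : q * k * y₀ * (q * k)⁻¹ = k * y₀ * k⁻¹ := by
        rw [show q * k * y₀ * (q * k)⁻¹ = q * (k * y₀ * k⁻¹) * q⁻¹ by group,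
          (TwoRadical.Q0_comm C hq hky).eq, mul_inv_cancel_right]
      rw [SetLike.mem_coe, Subgroup.mem_centralizer_singleton_iff, e1]
      have c1 : Commute ζ k := hcenK ζ hζK hζπ k hk
      exact ((c1.mul_right (hζA y₀ hy₀A)).mul_right c1.inv_right).eq.symm
    have hcen : ζ ∈ Subgroup.center G := by
      have htop : Subgroup.centralizer ({ζ} : Set G) = ⊤ := by
        rw [eq_top_iff, ← hfull]
        refine sup_le (fun g hg => ?_) hζQ
        rw [Subgroup.mem_centralizer_singleton_iff]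
        exact (hcenK ζ hζK hζπ g hg).eq.symm
      exact Subgroup.mem_center_iff.2 fun u =>
        Subgroup.mem_centralizer_singleton_iff.1 (htop ▸ Subgroup.mem_top u)
    rwa [H.center, Subgroup.mem_bot] at hcen
  have hfull := TwoRadical.full_of_cover C hcov hd₀.1 hd₀K
  have hle : π.ker ≤ TwoRadical.Q0 D π := by
    intro x hx
    have hxs : x ∈ TwoRadical.Q0 D π ⊔ K := by rw [sup_comm, hfull]; exact Subgroup.mem_top x
    obtain ⟨q, hq, k, hk, rfl⟩ := Subgroup.mem_sup_of_normal_left.1 hxs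
    have hπk : π k = 1 := by
      rw [MonoidHom.mem_ker, map_mul, MonoidHom.mem_ker.1 (TwoRadical.Q0_le_ker C hq),
        one_mul] at hx
      exact hx
    rw [hker1 k hk hπk, mul_one]
    exact hq
  refine ⟨⟨⟨⟨fun a b => Subtype.ext (TwoRadical.Q0_comm C (hle a.2) (hle b.2)).eq⟩⟩,
    fun a ha => by rw [pow_two]; exact TwoRadical.Q0_sq C (hle ha)⟩, K, ?_⟩
  refine Subgroup.isComplement'_of_disjoint_and_mul_eq_univ ?_ ?_
  · exact Subgroup.disjoint_def.2 fun {x} hx hxK => hker1 x hxK hx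
  · rw [← Subgroup.normal_mul, sup_comm, hcov, Subgroup.coe_top]

end Cfsg.Agent.ThreeTransp.FiveSection
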