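import Mathlib
import Cfsg.Agent.Lib.ThreeTransp.FiveSection
import Cfsg.Agent.Lib.Cores.Basic

/-!
Quotient `SU(5, 2)`: the conclusion for the 2-core.
-/

set_option autoImplicit false

namespace Cfsg.Agent.ThreeTransp.FiveMain

open Cfsg.Agent.ThreeTransp

theorem bad_pairs {F : Type*} [Field F] [Fintype F] (hF : Fintype.card F = 2 ^ 2) :
    ∀ r, 2 ≤ r → 2 * r ≤ 5 → ∃ σ τ, UnitaryClass.BadPair hF 5 r σ τ := by
  intro r h2 h5
  obtain rfl : r = 2 := by omega
  exact ⟨Equiv.swap 0 1 * Equiv.swap 2 3, Equiv.swap 1 2 * Equiv.swap 3 4,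
    by decide, by decide, by decide, by decide, by decide, by decide,
    UnitaryClass.rank_perm hF _ !![1, 0; 1, 0; 0, 1; 0, 1; 0, 0]
      !![1, 0, 0, 0, 0; 0, 0, 1, 0, 0] (by decide) (by decide),
    UnitaryClass.rank_perm hF _ !![0, 0; 1, 0; 1, 0; 0, 1; 0, 1]
      !![0, 1, 0, 0, 0; 0, 0, 0, 1, 0] (by decide) (by decide)⟩

theorem radical {G : Type*} [Group G] [Finite G] {D : Set G}
    (hD : Cfsg.IsThreeTranspositionClass D) (hZ : Subgroup.center G = ⊥)
    {F : Type*} [Field F] [Fintype F] (hF : Fintype.card F = 2 ^ 2)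
    (π : G →* Cfsg.SU 5 F 2) (hs : Function.Surjective π) (hk : π.ker = Cfsg.pCore 2 G) :
    Cfsg.IsElementaryAbelian 2 (Cfsg.pCore 2 G) ∧
      ∃ K : Subgroup G, (Cfsg.pCore 2 G).IsComplement' K := by
  have H : UnitaryRadical.Data hF D π :=
    ⟨hD, hs, hk ▸ Cores.pCore_isPGroup 2, hZ, by norm_num, bad_pairs hF⟩
  obtain ⟨ω, -, hω, -⟩ := UnitaryPoints.exists_omega hF
  obtain ⟨zt, S⟩ := FiveSection.exists_setup hF hω H hk
  have := FiveSection.main hF hω S
  rwa [hk] at this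

end Cfsg.Agent.ThreeTransp.FiveMain
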