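import Mathlib

/-!
The group `3^{1+2}:2` with the involution inverting modulo the centre: normal forms.
-/

set_option autoImplicit false

namespace Cfsg.Agent.ThreeTransp.Heis

variable {G H : Type*} [Group G] [Group H]

/-- The relations. -/
structure Rels (u y z d : G) : Prop where
  u3 : u ^ 3 = 1
  y3 : y ^ 3 = 1
  z3 : z ^ 3 = 1
  d2 : d * d = 1
  zu : Commute z u
  zy : Commute z y
  zd : Commute z d
  yu : y * u = z * (u * y)
  du : d * u * d = u⁻¹
  dy : d * y * d = y⁻¹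

/-- The normal forms. -/
def nf (u y z d : G) (p : ZMod 3 × ZMod 3 × ZMod 3 × ZMod 2) : G :=
  z ^ p.1.val * y ^ p.2.1.val * u ^ p.2.2.1.val * d ^ p.2.2.2.val

theorem pow_val_succ {x : G} (hx : x ^ 3 = 1) (a : ZMod 3) : x ^ (a + 1).val = x ^ a.val * x := by
  rcases (show a = 0 ∨ a = 1 ∨ a = 2 by revert a; decide) with rfl | rfl | rfl
  · show x ^ 1 = x ^ 0 * x; simp
  · show x ^ 2 = x ^ 1 * x; simp [sq]
  · show x ^ 0 = x ^ 2 * x; rw [← pow_succ, hx, pow_zero]

theorem pow_val_pred {x : G} (hx : x ^ 3 = 1) (a : ZMod 3) : x ^ (a - 1).val = x ^ a.val * x⁻¹ := by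
  rw [eq_mul_inv_iff_mul_eq, ← pow_val_succ hx, sub_add_cancel]

theorem pow_d_succ {d : G} (hd : d * d = 1) (e : ZMod 2) : d ^ (e + 1).val = d ^ e.val * d := by
  rcases (show e = 0 ∨ e = 1 by revert e; decide) with rfl | rfl
  · show d ^ 1 = d ^ 0 * d; simp
  · show d ^ 0 = d ^ 1 * d; simp [hd]

/-- The right action of the generators on the forms. -/
def stepU (p : ZMod 3 × ZMod 3 × ZMod 3 × ZMod 2) : ZMod 3 × ZMod 3 × ZMod 3 × ZMod 2 :=
  (p.1, p.2.1, if p.2.2.2 = 0 then p.2.2.1 + 1 else p.2.2.1 - 1, p.2.2.2)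

/-- See `stepU`. -/
def stepY (p : ZMod 3 × ZMod 3 × ZMod 3 × ZMod 2) : ZMod 3 × ZMod 3 × ZMod 3 × ZMod 2 :=
  if p.2.2.2 = 0 then (p.1 - p.2.2.1, p.2.1 + 1, p.2.2.1, p.2.2.2)
  else (p.1 + p.2.2.1, p.2.1 - 1, p.2.2.1, p.2.2.2)

/-- See `stepU`. -/
def stepD (p : ZMod 3 × ZMod 3 × ZMod 3 × ZMod 2) : ZMod 3 × ZMod 3 × ZMod 3 × ZMod 2 :=
  (p.1, p.2.1, p.2.2.1, p.2.2.2 + 1)

variable {u y z d : G} (h : Rels u y z d)
include h

theorem d_inv : d⁻¹ = d := inv_eq_of_mul_eq_one_right h.d2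

theorem du' : d * u = u⁻¹ * d := by
  rw [← h.du, mul_assoc, h.d2, mul_one]

theorem dy' : d * y = y⁻¹ * d := by
  rw [← h.dy, mul_assoc, h.d2, mul_one]

theorem uy_one : u * y = z⁻¹ * y * u := by
  rw [mul_assoc, h.yu, inv_mul_cancel_left]

theorem uy_pow (c : ℕ) : u ^ c * y = (z ^ c)⁻¹ * y * u ^ c := by
  induction c with
  | zero => simp
  | succ c ih =>
    have hc : Commute u (z ^ c)⁻¹ := (h.zu.symm.pow_right c).inv_right
    calc u ^ (c + 1) * y = u * (u ^ c * y) := by rw [pow_succ', mul_assoc]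
      _ = (z ^ c)⁻¹ * (u * y) * u ^ c := by
        rw [ih, ← mul_assoc, ← mul_assoc, hc.eq, mul_assoc _ u y]
      _ = (z ^ (c + 1))⁻¹ * y * u ^ (c + 1) := by
        rw [uy_one h, pow_succ' u, pow_succ' z, mul_inv_rev]; simp [mul_assoc]

theorem nf_u (p : ZMod 3 × ZMod 3 × ZMod 3 × ZMod 2) : nf u y z d p * u = nf u y z d (stepU p) := by
  obtain ⟨a, b, c, e⟩ := p
  rcases (show e = 0 ∨ e = 1 by revert e; decide) with rfl | rfl
  · simp [nf, stepU, pow_val_succ h.u3, mul_assoc]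
  · simp [nf, stepU, pow_val_pred h.u3, mul_assoc, show (1 : ZMod 2).val = 1 from rfl, du' h]

theorem nf_y (p : ZMod 3 × ZMod 3 × ZMod 3 × ZMod 2) : nf u y z d p * y = nf u y z d (stepY p) := by
  obtain ⟨a, b, c, e⟩ := p
  have hzs : ∀ k : ℕ, Commute (z ^ k) (y ^ b.val) := fun k => h.zy.pow_pow k _
  have hpow : z ^ (a - c).val = z ^ a.val * (z ^ c.val)⁻¹ ∧ z ^ (a + c).val = z ^ a.val * z ^ c.val := by
    have hadd : ∀ a c : ZMod 3, z ^ (a + c).val = z ^ a.val * z ^ c.val := fun a c => by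
      rw [← pow_add, ZMod.val_add, pow_eq_pow_mod (a.val + c.val) h.z3]
    refine ⟨?_, hadd a c⟩
    rw [eq_mul_inv_iff_mul_eq, ← hadd, sub_add_cancel]
  rcases (show e = 0 ∨ e = 1 by revert e; decide) with rfl | rfl
  · have hs : stepY (a, b, c, (0 : ZMod 2)) = (a - c, b + 1, c, 0) := by simp [stepY]
    rw [hs]
    simp only [nf, show (0 : ZMod 2).val = 0 from rfl, pow_zero, mul_one, hpow.1,
      pow_val_succ h.y3]
    calc z ^ a.val * y ^ b.val * u ^ c.val * y = z ^ a.val * y ^ b.val * (u ^ c.val * y) := by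
          simp [mul_assoc]
      _ = z ^ a.val * (y ^ b.val * (z ^ c.val)⁻¹) * y * u ^ c.val := by
          rw [uy_pow h]; simp [mul_assoc]
      _ = _ := by rw [((hzs c.val).symm.inv_right).eq]; simp [mul_assoc]
  · have hs : stepY (a, b, c, (1 : ZMod 2)) = (a + c, b - 1, c, 1) := by simp [stepY]
    rw [hs]
    simp only [nf, show (1 : ZMod 2).val = 1 from rfl, pow_one, hpow.2, pow_val_pred h.y3]
    have hy : y⁻¹ = y * y := by
      refine inv_eq_of_mul_eq_one_right ?_
      rw [← mul_assoc, ← pow_two, ← pow_succ, h.y3]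
    have hzz : (z ^ c.val)⁻¹ * (z ^ c.val)⁻¹ = z ^ c.val := by
      have h3 : z ^ c.val * (z ^ c.val * z ^ c.val) = 1 := by
        rw [← mul_assoc, ← pow_two, ← pow_succ, ← pow_mul, mul_comm, pow_mul, h.z3, one_pow]
      rw [← mul_inv_rev]
      exact inv_eq_of_mul_eq_one_left h3
    have hzy : Commute ((z ^ c.val)⁻¹) y := (h.zy.pow_left _).inv_left
    have hu2 : u ^ c.val * (y * y) = z ^ c.val * (y * y) * u ^ c.val := by
      rw [← mul_assoc, uy_pow h, mul_assoc, uy_pow h]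
      conv_rhs => rw [← hzz]
      simp only [← mul_assoc]
      rw [mul_assoc ((z ^ c.val)⁻¹) y, ← hzy.eq]
      simp only [← mul_assoc]
    calc z ^ a.val * y ^ b.val * u ^ c.val * d * y
        = z ^ a.val * y ^ b.val * (u ^ c.val * (y * y)) * d := by
          rw [mul_assoc _ d y, dy' h, hy]; simp [mul_assoc]
      _ = z ^ a.val * (y ^ b.val * z ^ c.val) * (y * y) * u ^ c.val * d := by
          rw [hu2]; simp [mul_assoc]
      _ = _ := by rw [(hzs c.val).symm.eq, hy]; simp [mul_assoc]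

theorem nf_d (p : ZMod 3 × ZMod 3 × ZMod 3 × ZMod 2) : nf u y z d p * d = nf u y z d (stepD p) := by
  simp [nf, stepD, pow_d_succ h.d2, mul_assoc]

theorem mem_range_nf {g : G} (hg : g ∈ Subgroup.closure ({u, y, d} : Set G)) :
    ∃ p, nf u y z d p = g := by
  have hu : u⁻¹ = u * u := inv_eq_of_mul_eq_one_right (by rw [← mul_assoc, ← pow_two, ← pow_succ, h.u3])
  have hy : y⁻¹ = y * y := inv_eq_of_mul_eq_one_right (by rw [← mul_assoc, ← pow_two, ← pow_succ, h.y3])
  induction hg using Subgroup.closure_induction_right with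
  | one => exact ⟨(0, 0, 0, 0), by simp [nf]⟩
  | mul_right x _ w hw ih =>
    obtain ⟨p, rfl⟩ := ih
    rcases hw with rfl | rfl | rfl
    exacts [⟨_, (nf_u h p).symm⟩, ⟨_, (nf_y h p).symm⟩, ⟨_, (nf_d h p).symm⟩]
  | mul_inv_cancel x _ w hw ih =>
    obtain ⟨p, rfl⟩ := ih
    rcases hw with rfl | rfl | rfl
    · exact ⟨_, by rw [hu, ← mul_assoc, nf_u h, nf_u h]⟩
    · exact ⟨_, by rw [hy, ← mul_assoc, nf_y h, nf_y h]⟩
    · exact ⟨_, by rw [d_inv h, nf_d h]⟩

omit h in
theorem nf_zero : nf u y z d (0, 0, 0, 0) = 1 := by simp [nf]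

omit h in
/-- A group with unique normal forms maps to every group with the relations. -/
theorem exists_hom {u' y' z' d' : H} (h : Rels u y z d) (h' : Rels u' y' z' d')
    (hinj : Function.Injective (nf u y z d))
    (hgen : Subgroup.closure ({u, y, d} : Set G) = ⊤) :
    ∃ f : G →* H, ∀ p, f (nf u y z d p) = nf u' y' z' d' p := by
  have hsurj : Function.Surjective (nf u y z d) := fun g =>
    mem_range_nf h (hgen ▸ Subgroup.mem_top g)
  let e := Equiv.ofBijective _ ⟨hinj, hsurj⟩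
  let f : G → H := fun g => nf u' y' z' d' (e.symm g)
  have hf : ∀ p, f (nf u y z d p) = nf u' y' z' d' p := fun p => by
    show nf u' y' z' d' (e.symm (e p)) = _
    rw [e.symm_apply_apply]
  have h1 : f 1 = 1 := by rw [← nf_zero (u := u) (y := y) (z := z) (d := d), hf, nf_zero]
  have gu : f u = u' := by
    rw [← one_mul u, ← nf_zero (u := u) (y := y) (z := z) (d := d), nf_u h, hf, ← nf_u h', nf_zero, one_mul]
  have gy : f y = y' := by
    rw [← one_mul y, ← nf_zero (u := u) (y := y) (z := z) (d := d), nf_y h, hf, ← nf_y h', nf_zero, one_mul]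
  have gd : f d = d' := by
    rw [← one_mul d, ← nf_zero (u := u) (y := y) (z := z) (d := d), nf_d h, hf, ← nf_d h', nf_zero, one_mul]
  have step : ∀ w ∈ ({u, y, d} : Set G), ∀ g, f (g * w) = f g * f w := by
    intro w hw g
    obtain ⟨p, rfl⟩ := hsurj g
    rcases hw with rfl | rfl | rfl
    · rw [gu, nf_u h, hf, hf, nf_u h']
    · rw [gy, nf_y h, hf, hf, nf_y h']
    · rw [gd, nf_d h, hf, hf, nf_d h']
  refine ⟨MonoidHom.mk' f fun a b => ?_, hf⟩
  have hb : b ∈ Subgroup.closure ({u, y, d} : Set G) := hgen ▸ Subgroup.mem_top b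
  induction hb using Subgroup.closure_induction_right generalizing a with
  | one => rw [h1, mul_one, mul_one]
  | mul_right x _ w hw ih => rw [← mul_assoc, step w hw, ih, step w hw, mul_assoc]
  | mul_inv_cancel x _ w hw ih =>
    have key : ∀ g, f (g * w⁻¹) = f g * (f w)⁻¹ := fun g => by
      rw [eq_mul_inv_iff_mul_eq, ← step w hw, inv_mul_cancel_right]
    rw [← mul_assoc, key, ih, key, mul_assoc]

omit h in
/-- Two groups with unique normal forms are isomorphic. -/
theorem nonempty_equiv {u' y' z' d' : H} (h : Rels u y z d) (h' : Rels u' y' z' d')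
    (hinj : Function.Injective (nf u y z d)) (hinj' : Function.Injective (nf u' y' z' d'))
    (hgen : Subgroup.closure ({u, y, d} : Set G) = ⊤)
    (hgen' : Subgroup.closure ({u', y', d'} : Set H) = ⊤) : Nonempty (G ≃* H) := by
  obtain ⟨f, hf⟩ := exists_hom h h' hinj hgen
  refine ⟨MulEquiv.ofBijective f ⟨fun a b hab => ?_, fun b => ?_⟩⟩
  · obtain ⟨p, rfl⟩ := mem_range_nf h (hgen ▸ Subgroup.mem_top a)
    obtain ⟨q, rfl⟩ := mem_range_nf h (hgen ▸ Subgroup.mem_top b)
    rw [hf, hf] at hab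
    rw [hinj' hab]
  · obtain ⟨p, rfl⟩ := mem_range_nf h' (hgen' ▸ Subgroup.mem_top b)
    exact ⟨_, hf p⟩

omit h in
theorem natCard_eq (h : Rels u y z d) (hinj : Function.Injective (nf u y z d))
    (hgen : Subgroup.closure ({u, y, d} : Set G) = ⊤) : Nat.card G = 54 := by
  have hsurj : Function.Surjective (nf u y z d) := fun g => mem_range_nf h (hgen ▸ Subgroup.mem_top g)
  rw [← Nat.card_congr (Equiv.ofBijective _ ⟨hinj, hsurj⟩)]
  simp [Nat.card_eq_fintype_card]

/-- The forms without the last factor are closed under products and inverses. -/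
theorem closure_form {g : G} (hg : g ∈ Subgroup.closure ({u, y} : Set G)) :
    ∃ a b c : ℕ, g = z ^ a * y ^ b * u ^ c := by
  have hu' : u⁻¹ = u * u := inv_eq_of_mul_eq_one_right (by rw [← mul_assoc, ← pow_two, ← pow_succ, h.u3])
  have hy' : y⁻¹ = y * y := inv_eq_of_mul_eq_one_right (by rw [← mul_assoc, ← pow_two, ← pow_succ, h.y3])
  suffices H : ∃ a b c : ZMod 3, g = nf u y z d (a, b, c, 0) by
    obtain ⟨a, b, c, rfl⟩ := H
    exact ⟨a.val, b.val, c.val, by simp [nf]⟩
  induction hg using Subgroup.closure_induction_right with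
  | one => exact ⟨0, 0, 0, nf_zero.symm⟩
  | mul_right x _ w hw ih =>
    obtain ⟨a, b, c, rfl⟩ := ih
    rcases hw with rfl | rfl
    · exact ⟨a, b, c + 1, by rw [nf_u h]; simp [stepU]⟩
    · exact ⟨a - c, b + 1, c, by rw [nf_y h]; simp [stepY]⟩
  | mul_inv_cancel x _ w hw ih =>
    obtain ⟨a, b, c, rfl⟩ := ih
    rcases hw with rfl | rfl
    · exact ⟨a, b, c + 1 + 1, by rw [hu', ← mul_assoc, nf_u h, nf_u h]; simp [stepU]⟩
    · exact ⟨a - c - c, b + 1 + 1, c, by rw [hy', ← mul_assoc, nf_y h, nf_y h]; simp [stepY]⟩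

/-- Exponents of `y` agree. -/
theorem y_exponent (hy : ∀ k l : ℕ, y ≠ z ^ k * u ^ l) {a a' b b' c c' : ZMod 3}
    (heq' : z ^ a.val * y ^ b.val * u ^ c.val = z ^ a'.val * y ^ b'.val * u ^ c'.val) : b = b' := by
  by_contra hne
  have h1 : (y ^ b'.val)⁻¹ * y ^ b.val * u ^ c.val = (z ^ a.val)⁻¹ * z ^ a'.val * u ^ c'.val := by
    have hzy : Commute ((z ^ a.val)⁻¹ * z ^ a'.val) ((y ^ b'.val)⁻¹) :=
      (((h.zy.pow_pow _ _).inv_left).mul_left (h.zy.pow_pow _ _)).inv_right
    calc (y ^ b'.val)⁻¹ * y ^ b.val * u ^ c.val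
        = (y ^ b'.val)⁻¹ * (z ^ a.val)⁻¹ * (z ^ a.val * y ^ b.val * u ^ c.val) := by group
      _ = (y ^ b'.val)⁻¹ * ((z ^ a.val)⁻¹ * z ^ a'.val) * (y ^ b'.val * u ^ c'.val) := by
          rw [heq']; simp [mul_assoc]
      _ = _ := by rw [← hzy.eq]; simp [mul_assoc]
  have hy' : (y ^ b'.val)⁻¹ * y ^ b.val = y ^ (b - b').val := by
    rw [inv_mul_eq_iff_eq_mul, ← pow_add, pow_eq_pow_mod (b'.val + (b - b').val) h.y3,
      ← ZMod.val_add, add_sub_cancel]
  have hzk : ∀ i j : ℕ, (z ^ i)⁻¹ * z ^ j = z ^ (2 * i + j) := fun i j => by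
    rw [inv_mul_eq_iff_eq_mul, ← pow_add, show i + (2 * i + j) = 3 * i + j by ring, pow_add,
      pow_mul, h.z3, one_pow, one_mul]
  have huk : ∀ i j : ℕ, u ^ i * (u ^ j)⁻¹ = u ^ (i + 2 * j) := fun i j => by
    rw [mul_inv_eq_iff_eq_mul, ← pow_add, show i + 2 * j + j = 3 * j + i by ring, pow_add,
      pow_mul, h.u3, one_pow, one_mul]
  rw [hy', ← eq_mul_inv_iff_mul_eq, mul_assoc, huk, hzk] at h1
  rcases (show b - b' = 1 ∨ b - b' = 2 by
    have := sub_ne_zero.2 hne; revert this; generalize b - b' = x; revert x; decide) with hv | hv <;>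
    rw [hv] at h1
  · exact hy _ _ (by simpa [show (1 : ZMod 3).val = 1 from rfl] using h1)
  · have hyy : y = (y ^ 2)⁻¹ := by
      rw [eq_inv_iff_mul_eq_one, ← pow_succ']; exact h.y3
    rw [show (2 : ZMod 3).val = 2 from rfl] at h1
    rw [h1, mul_inv_rev] at hyy
    have hm : ∀ i j : ℕ, (u ^ i)⁻¹ * (z ^ j)⁻¹ = z ^ (2 * j) * u ^ (2 * i) := fun i j => by
      have hu' : (u ^ i)⁻¹ = u ^ (2 * i) := inv_eq_of_mul_eq_one_right (by
        rw [← pow_add, show i + 2 * i = 3 * i by ring, pow_mul, h.u3, one_pow])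
      have hz' : (z ^ j)⁻¹ = z ^ (2 * j) := inv_eq_of_mul_eq_one_right (by
        rw [← pow_add, show j + 2 * j = 3 * j by ring, pow_mul, h.z3, one_pow])
      rw [hu', hz', (h.zu.pow_pow _ _).eq]
    rw [hm] at hyy
    exact hy _ _ hyy

/-- Exponents of `u` agree. -/
theorem u_exponent (hu : ∀ k : ℕ, u ≠ z ^ k) {a a' c c' : ZMod 3}
    (h2 : z ^ a.val * u ^ c.val = z ^ a'.val * u ^ c'.val) : c = c' := by
  by_contra hne
  have h3 : u ^ (c - c').val = z ^ (2 * a.val + a'.val) := by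
    have hz' : z ^ (2 * a.val) * z ^ a.val = 1 := by
      rw [← pow_add, show 2 * a.val + a.val = 3 * a.val by ring, pow_mul, h.z3, one_pow]
    have h4 : u ^ c.val = z ^ (2 * a.val + a'.val) * u ^ c'.val := by
      rw [pow_add, mul_assoc, ← h2, ← mul_assoc, hz', one_mul]
    have h5 : u ^ (c - c').val * u ^ c'.val = u ^ c.val := by
      rw [← pow_add, pow_eq_pow_mod ((c - c').val + c'.val) h.u3, ← ZMod.val_add, sub_add_cancel]
    exact mul_right_cancel (h5.trans h4)
  rcases (show c - c' = 1 ∨ c - c' = 2 by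
    have := sub_ne_zero.2 hne; revert this; generalize c - c' = x; revert x; decide) with hv | hv <;>
    rw [hv] at h3
  · exact hu _ (by simpa [show (1 : ZMod 3).val = 1 from rfl] using h3)
  · rw [show (2 : ZMod 3).val = 2 from rfl] at h3
    refine hu ((2 * a.val + a'.val) * 2) ?_
    rw [pow_mul, ← h3, ← pow_mul, show 2 * 2 = 3 + 1 from rfl, pow_succ, h.u3, one_mul]

/-- Injectivity of the normal forms from four facts. -/
theorem injective_nf (hz : z ≠ 1)
    (hu : ∀ k : ℕ, u ≠ z ^ k) (hy : ∀ k l : ℕ, y ≠ z ^ k * u ^ l)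
    (hd : ∀ a b c : ℕ, d ≠ z ^ a * y ^ b * u ^ c) : Function.Injective (nf u y z d) := by
  have ho : ∀ {x : G}, x ^ 3 = 1 → x ≠ 1 → orderOf x = 3 := fun {x} h3 hne =>
    orderOf_eq_prime h3 hne
  have hu1 : u ≠ 1 := by simpa using hu 0
  have hy1 : y ≠ 1 := by simpa using hy 0 0
  have key : ∀ {x : G}, orderOf x = 3 → ∀ {i j : ZMod 3}, x ^ i.val = x ^ j.val → i = j := by
    intro x hx i j hij
    rw [pow_inj_mod, hx, Nat.mod_eq_of_lt i.val_lt, Nat.mod_eq_of_lt j.val_lt] at hij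
    exact ZMod.val_injective 3 hij
  rintro ⟨a, b, c, e⟩ ⟨a', b', c', e'⟩ heq
  have hclosed : ∀ g ∈ Subgroup.closure ({u, y} : Set G), ∃ a b c : ℕ, g = z ^ a * y ^ b * u ^ c :=
    fun g hg => closure_form h hg
  have hzmem : z ∈ Subgroup.closure ({u, y} : Set G) := by
    have : z = y * u * (u * y)⁻¹ := by rw [h.yu, mul_inv_cancel_right]
    rw [this]
    have mu : u ∈ Subgroup.closure ({u, y} : Set G) := Subgroup.subset_closure (Set.mem_insert _ _)
    have my : y ∈ Subgroup.closure ({u, y} : Set G) := Subgroup.subset_closure (Set.mem_insert_of_mem _ rfl)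
    exact mul_mem (mul_mem my mu) (inv_mem (mul_mem mu my))
  have hform : ∀ a b c : ℕ, z ^ a * y ^ b * u ^ c ∈ Subgroup.closure ({u, y} : Set G) := by
    intro a b c
    have mu : u ∈ Subgroup.closure ({u, y} : Set G) := Subgroup.subset_closure (Set.mem_insert _ _)
    have my : y ∈ Subgroup.closure ({u, y} : Set G) := Subgroup.subset_closure (Set.mem_insert_of_mem _ rfl)
    exact mul_mem (mul_mem (pow_mem hzmem a) (pow_mem my b)) (pow_mem mu c)
  have hdn : d ∉ Subgroup.closure ({u, y} : Set G) := fun hm => by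
    obtain ⟨a, b, c, habc⟩ := hclosed d hm
    exact hd a b c habc
  simp only [nf] at heq
  obtain rfl : e = e' := by
    have h01 : ∀ e : ZMod 2, e = 0 ∨ e = 1 := by decide
    rcases h01 e with rfl | rfl <;> rcases h01 e' with rfl | rfl
    · rfl
    · exfalso; refine hdn ?_
      simp only [show (0 : ZMod 2).val = 0 from rfl, show (1 : ZMod 2).val = 1 from rfl, pow_zero,
        mul_one, pow_one] at heq
      rw [eq_inv_mul_iff_mul_eq.2 heq.symm]
      exact mul_mem (inv_mem (hform _ _ _)) (hform _ _ _)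
    · exfalso; refine hdn ?_
      simp only [show (0 : ZMod 2).val = 0 from rfl, show (1 : ZMod 2).val = 1 from rfl, pow_zero,
        mul_one, pow_one] at heq
      rw [eq_inv_mul_iff_mul_eq.2 heq]
      exact mul_mem (inv_mem (hform _ _ _)) (hform _ _ _)
    · rfl
  have heq' := mul_right_cancel heq
  -- compare the exponents of `y`
  have hb : b = b' := y_exponent h hy heq'
  subst hb
  have h2 : z ^ a.val * u ^ c.val = z ^ a'.val * u ^ c'.val := by
    have hc : ∀ i, z ^ i * y ^ b.val = y ^ b.val * z ^ i := fun i => (h.zy.pow_pow _ _).eq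
    rw [hc, hc, mul_assoc, mul_assoc] at heq'
    exact mul_left_cancel heq'
  have hc : c = c' := u_exponent h hu h2
  subst hc
  obtain rfl : a = a' := key (ho h.z3 hz) (mul_right_cancel h2)
  rfl


/-- The last condition of `injective_nf` follows from the others. -/
theorem d_ne_form (hu : ∀ k : ℕ, u ≠ z ^ k) (a b c : ℕ) : d ≠ z ^ a * y ^ b * u ^ c := by
  intro hd
  have hyb : ∀ b : ℕ, y ^ b * u = z ^ b * u * y ^ b := by
    intro b
    induction b with
    | zero => simp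
    | succ b ih =>
      have hzy : Commute y (z ^ b) := (h.zy.pow_left b).symm
      calc y ^ (b + 1) * u = y * (z ^ b * u * y ^ b) := by rw [← ih, ← mul_assoc, pow_succ']
        _ = z ^ b * (y * u) * y ^ b := by rw [← mul_assoc, ← mul_assoc, hzy.eq, mul_assoc (z ^ b) y u]
        _ = z ^ (b + 1) * u * y ^ (b + 1) := by rw [h.yu, pow_succ, pow_succ']; simp [mul_assoc]
  have h1 : d * u = z ^ b * u * d := by
    have e1 : u ^ c * u = u * u ^ c := ((Commute.refl u).pow_left c).eq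
    have e2 : Commute (z ^ a) (z ^ b * u) :=
      ((Commute.refl z).pow_pow a b).mul_right (h.zu.pow_left a)
    calc d * u = z ^ a * (y ^ b * u) * u ^ c := by rw [hd]; simp [mul_assoc, e1]
      _ = z ^ b * u * d := by rw [hd, hyb]; simp only [← mul_assoc]; rw [mul_assoc (z ^ a) (z ^ b) u, e2.eq]
  rw [du' h] at h1
  have h2 : u⁻¹ = z ^ b * u := mul_right_cancel h1
  have h3 : u⁻¹ = u * u := inv_eq_of_mul_eq_one_right (by rw [← mul_assoc, ← pow_two, ← pow_succ, h.u3])
  rw [h3] at h2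
  exact hu b (mul_right_cancel h2)

end Cfsg.Agent.ThreeTransp.Heis
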