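import Mathlib
import Cfsg.Agent.Lib.ThreeTransp.Classes
import Cfsg.Agent.Lib.ThreeTransp.SymFive

/-!
Three-transposition groups in which the members commuting with a given one generate `S₃`.
-/

set_option autoImplicit false

namespace Cfsg.Agent.ThreeTransp.LocalSThree

variable {G : Type*} [Group G] {D : Set G}

theorem exists_three : ∀ i j : Fin 5, i ≠ j → ∃ k l m : Fin 5, k ≠ l ∧ k ≠ m ∧ l ≠ m ∧
    (k ≠ i ∧ k ≠ j) ∧ (l ≠ i ∧ l ≠ j) ∧ (m ≠ i ∧ m ≠ j) := by decide +kernel

/-- The commuting neighbours. -/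
def Nb (D : Set G) (d : G) : Set G := {y | y ∈ D ∧ y ≠ d ∧ Commute d y}

/-- Every member has exactly a triangle of commuting neighbours. -/
def Tri (D : Set G) : Prop :=
  ∀ d ∈ D, ∃ a b : G, ¬ Commute a b ∧ Nb D d = {a, b, a * b * a}

theorem nb_symm {d y : G} (hd : d ∈ D) (h : y ∈ Nb D d) : d ∈ Nb D y :=
  ⟨hd, Ne.symm h.2.1, h.2.2.symm⟩

theorem noncommute_ne {a b : G} (h : ¬ Commute a b) : a ≠ b := fun e => h (e ▸ Commute.refl a)

variable (hD : Cfsg.IsThreeTranspositionGroup D) (hT : Tri D)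
include hD hT

theorem nb_noncomm {z x y : G} (hz : z ∈ D) (hx : x ∈ Nb D z) (hy : y ∈ Nb D z) (hne : x ≠ y) :
    ¬ Commute x y := by
  obtain ⟨a, b, hab, he⟩ := hT z hz
  have ha : a ∈ D := (he.symm ▸ Set.mem_insert a _ : a ∈ Nb D z).1
  have hb : b ∈ D := (he.symm ▸ Set.mem_insert_of_mem a (Set.mem_insert b _) : b ∈ Nb D z).1
  obtain ⟨h1, h2, -⟩ := Classes.triangle hD ha hb hab
  rw [he] at hx hy
  simp only [Set.mem_insert_iff, Set.mem_singleton_iff] at hx hy
  rcases hx with rfl | rfl | rfl <;> rcases hy with rfl | rfl | rfl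
  all_goals first
    | exact absurd rfl hne
    | exact hab
    | exact h1
    | exact h2
    | exact fun h => hab h.symm
    | exact fun h => h1 h.symm
    | exact fun h => h2 h.symm

theorem tri_eq {z x y : G} (hz : z ∈ D) (hx : x ∈ Nb D z) (hy : y ∈ Nb D z) (hne : x ≠ y) :
    Nb D z = {x, y, x * y * x} := by
  classical
  have hxy := nb_noncomm hD hT hz hx hy hne
  obtain ⟨t1, t2, -⟩ := Classes.triangle hD hx.1 hy.1 hxy
  have hc : x * y * x ∈ Nb D z := by
    refine ⟨Classes.conj_mem hD hx.1 hy.1, fun h => ?_, (hx.2.2.mul_right hy.2.2).mul_right hx.2.2⟩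
    exact t1 (h ▸ hx.2.2.symm)
  obtain ⟨a, b, hab, he⟩ := hT z hz
  symm
  refine Set.eq_of_subset_of_ncard_le ?_ ?_ (he ▸ Set.toFinite _)
  · rintro w (rfl | rfl | rfl)
    exacts [hx, hy, hc]
  · have h3 : ({x, y, x * y * x} : Set G).ncard = 3 := by
      rw [Set.ncard_eq_three]
      exact ⟨x, y, _, hne, noncommute_ne t1, noncommute_ne t2, rfl⟩
    rw [h3, he]
    calc ({a, b, a * b * a} : Set G).ncard ≤ ({b, a * b * a} : Set G).ncard + 1 := Set.ncard_insert_le _ _
      _ ≤ 3 := by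
        have := Set.ncard_insert_le b ({a * b * a} : Set G)
        rw [Set.ncard_singleton] at this
        omega

theorem nb_ncard {z : G} (hz : z ∈ D) : (Nb D z).ncard = 3 := by
  obtain ⟨a, b, hab, he⟩ := hT z hz
  have ha : a ∈ D := (he.symm ▸ Set.mem_insert a _ : a ∈ Nb D z).1
  have hb : b ∈ D := (he.symm ▸ Set.mem_insert_of_mem a (Set.mem_insert b _) : b ∈ Nb D z).1
  obtain ⟨h1, h2, -⟩ := Classes.triangle hD ha hb hab
  rw [he, Set.ncard_eq_three]
  exact ⟨a, b, _, noncommute_ne hab, noncommute_ne h1, noncommute_ne h2, rfl⟩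

omit hD hT in
theorem inv_of_pow_three {N : Subgroup G} (hN : IsPGroup 3 N) {n : G} (hn : n ∈ N) (h : n⁻¹ = n) :
    n = 1 := by
  have h2 : n ^ 2 = 1 := by rw [sq]; exact inv_eq_iff_mul_eq_one.1 h
  exact Classes.eq_one_of_mem_pGroup Nat.prime_three hN hn h2 (by norm_num)

/-- The first case: the graph is `K₃,₃`. -/
theorem bipartite [Finite G]
    (hN : ∀ d ∈ D, Nat.card ↥(Cfsg.pCore 3 G ⊓ Subgroup.centralizer ({d} : Set G)) ≤ 3)
    {d a b : G} (hd : d ∈ D) (ha : a ∈ Nb D d) (hb : b ∈ Nb D d) (hab : a ≠ b)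
    (hsame : Nb D a = Nb D b) : D = Nb D d ∪ Nb D a ∧ Nb D d ∩ Nb D a = ∅ ∧
      ∀ x ∈ Nb D d, ∀ y ∈ Nb D a, Commute x y := by
  classical
  haveI : Fact (Nat.Prime 3) := ⟨Nat.prime_three⟩
  have hdA : d ∈ Nb D a := nb_symm hd ha
  have hQ : Nb D d = {a, b, a * b * a} := tri_eq hD hT hd ha hb hab
  have hP : ∀ y ∈ Nb D a, Nb D y = Nb D d := fun y hy => by
    rw [hQ]
    exact tri_eq hD hT hy.1 (nb_symm ha.1 hy) (nb_symm hb.1 (hsame ▸ hy)) hab
  have hcomm : ∀ x ∈ Nb D d, ∀ y ∈ Nb D a, Commute x y := fun x hx y hy => by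
    rw [← hP y hy] at hx; exact hx.2.2.symm
  obtain ⟨d', hd', hdd'⟩ : ∃ d' ∈ Nb D a, d' ≠ d :=
    Set.exists_ne_of_one_lt_ncard (by rw [nb_ncard hD hT ha.1]; norm_num) d
  have hQ' : ∀ x ∈ Nb D d, Nb D x = Nb D a := fun x hx => by
    rw [tri_eq hD hT ha.1 hdA hd' hdd'.symm]
    exact tri_eq hD hT hx.1 (nb_symm hd hx) (nb_symm hd'.1 ((hP d' hd').symm ▸ hx)) hdd'.symm
  refine ⟨Set.Subset.antisymm (fun e he => ?_) (Set.union_subset (fun x hx => hx.1) fun x hx => hx.1),
    ?_, hcomm⟩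
  · by_contra hcon
    rw [Set.mem_union, not_or] at hcon
    set N := Cfsg.pCore 3 G with hNdef
    haveI : N.Normal := Cores.pCore_normal 3
    have hNp : IsPGroup 3 N := Cores.pCore_isPGroup 3
    have hz : a * b ∈ N := Classes.mul_mem_pCore_three hD ha.1
      ⟨hb.1, fun y hy => by
        have := Set.ext_iff.1 hsame y
        simpa [Nb, hy] using this⟩
    have hw : d * d' ∈ N := Classes.mul_mem_pCore_three hD hd
      ⟨hd'.1, fun y hy => by
        have := Set.ext_iff.1 (hP d' hd') y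
        simpa [Nb, hy] using this.symm⟩
    have horb : ∀ n ∈ N, n * d * n⁻¹ ∈ Nb D a := by
      intro n hn
      have hsp := (Classes.samePunct_iff_mem hD hd).2
        ⟨hD.2.1 n d hd, Classes.inv_mul_conj_mem hD N hn⟩
      have h1 := (hsp.2 a ha.1).1 ⟨ha.2.1, ha.2.2⟩
      exact ⟨hsp.1, Ne.symm h1.1, h1.2.symm⟩
    set C := N ⊓ Subgroup.centralizer ({d} : Set G) with hC
    have hidx : (C.subgroupOf N).index ≤ 3 := by
      rw [Subgroup.index, ← nb_ncard hD hT ha.1]
      show Nat.card (N ⧸ C.subgroupOf N) ≤ Nat.card ↥(Nb D a)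
      refine Nat.card_le_card_of_injective
        (fun q => ⟨(q.out : G) * d * (q.out : G)⁻¹, horb _ q.out.2⟩) fun p q h => ?_
      rw [← QuotientGroup.out_eq' p, ← QuotientGroup.out_eq' q, QuotientGroup.eq,
        Subgroup.mem_subgroupOf]
      have h1 : (p.out : G) * d * (p.out : G)⁻¹ = (q.out : G) * d * (q.out : G)⁻¹ :=
        congrArg Subtype.val h
      refine Subgroup.mem_inf.2 ⟨(p.out⁻¹ * q.out).2, Subgroup.mem_centralizer_singleton_iff.2 ?_⟩
      rw [Subgroup.coe_mul, Subgroup.coe_inv]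
      calc (p.out : G)⁻¹ * q.out * d = (p.out : G)⁻¹ * ((q.out : G) * d * (q.out : G)⁻¹) * q.out := by group
        _ = (p.out : G)⁻¹ * ((p.out : G) * d * (p.out : G)⁻¹) * q.out := by rw [h1]
        _ = d * ((p.out : G)⁻¹ * q.out) := by group
    have hN9 : Nat.card N ≤ 9 := by
      rw [← Subgroup.card_mul_index (C.subgroupOf N),
        Nat.card_congr (Subgroup.subgroupOfEquivOfLe (inf_le_left : C ≤ N)).toEquiv]
      exact Nat.mul_le_mul (hN d hd) hidx
    have habel : ∀ x ∈ N, ∀ y ∈ N, x * y = y * x := by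
      obtain ⟨k, hk⟩ := IsPGroup.iff_card.1 hNp
      have hk2 : k ≤ 2 := by
        by_contra h
        have : 3 ^ 3 ≤ 3 ^ k := Nat.pow_le_pow_right (by norm_num) (by omega)
        omega
      intro x hx y hy
      suffices h : (⟨x, hx⟩ : N) * ⟨y, hy⟩ = ⟨y, hy⟩ * ⟨x, hx⟩ from congrArg Subtype.val h
      rcases (show k = 0 ∨ k = 1 ∨ k = 2 by omega) with rfl | rfl | rfl
      · haveI := (Nat.card_eq_one_iff_unique.1 (show Nat.card ↥N = 1 from hk)).1
        exact Subsingleton.elim _ _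
      · haveI : IsCyclic N := isCyclic_of_prime_card (by simpa using hk)
        obtain ⟨g, hg⟩ := IsCyclic.exists_generator (α := N)
        obtain ⟨i, hi⟩ := Subgroup.mem_zpowers_iff.1 (hg ⟨x, hx⟩)
        obtain ⟨j, hj⟩ := Subgroup.mem_zpowers_iff.1 (hg ⟨y, hy⟩)
        rw [← hi, ← hj]; exact (Commute.refl g).zpow_zpow i j
      · exact IsPGroup.commutative_of_card_eq_prime_sq hk _ _
    set u := a * d with hu
    have hui : u⁻¹ = u := inv_eq_of_mul_eq_one_left (by
      rw [hu, mul_assoc, ← mul_assoc d a, ha.2.2.eq, mul_assoc a d, Classes.sq hD hd, mul_one,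
        Classes.sq hD ha.1])
    let I : Subgroup G :=
      { carrier := {n | n ∈ N ∧ u * n * u⁻¹ = n⁻¹}
        one_mem' := ⟨N.one_mem, by simp⟩
        mul_mem' := fun {x y} hx hy => ⟨N.mul_mem hx.1 hy.1, by
          rw [show u * (x * y) * u⁻¹ = (u * x * u⁻¹) * (u * y * u⁻¹) by group, hx.2, hy.2,
            ← mul_inv_rev, habel x hx.1 y hy.1]⟩
        inv_mem' := fun {x} hx => ⟨N.inv_mem hx.1, by
          rw [show u * x⁻¹ * u⁻¹ = (u * x * u⁻¹)⁻¹ by group, hx.2]⟩ }
    have ca : ∀ t : G, a * (a * t) = t := WidthOne.mul_mul_cancel_left (Classes.sq hD ha.1)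
    have cd : ∀ t : G, d * (d * t) = t := WidthOne.mul_mul_cancel_left (Classes.sq hD hd)
    have hzI : a * b ∈ I := ⟨hz, by
      rw [hui, mul_inv_rev, Classes.inv hD hb.1, Classes.inv hD ha.1, hu]
      have h1 : d * (a * b) = a * b * d := (ha.2.2.mul_right hb.2.2).eq
      calc a * d * (a * b) * (a * d) = a * (d * (a * b)) * (a * d) := by simp [mul_assoc]
        _ = a * (a * b * d) * (a * d) := by rw [h1]
        _ = b * (d * a) * d := by simp [mul_assoc, ca]
        _ = b * a := by rw [ha.2.2.eq]; simp [mul_assoc, Classes.sq hD hd]⟩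
    have hwI : d * d' ∈ I := ⟨hw, by
      rw [hui, mul_inv_rev, Classes.inv hD hd, Classes.inv hD hd'.1, hu]
      have h1 : a * d' = d' * a := hd'.2.2.eq
      calc a * d * (d * d') * (a * d) = a * d' * (a * d) := by simp [mul_assoc, cd]
        _ = d' * d := by rw [h1]; simp [mul_assoc, ca]⟩
    have hIN : N ≤ I := by
      have hle : I ≤ N := fun x hx => hx.1
      have hIp : IsPGroup 3 I := hNp.to_le hle
      obtain ⟨k, hk⟩ := IsPGroup.iff_card.1 hIp
      have hnc : ¬ Commute (a * b) a := fun h => nb_noncomm hD hT hd ha hb hab (by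
        show a * b = b * a
        have h1 : a * b * a = a * (a * b) := h.eq
        rw [ca] at h1
        conv_rhs => rw [← h1]
        simp [mul_assoc, Classes.sq hD ha.1])
      have hcw : Commute (d * d') a := hdA.2.2.symm.mul_left hd'.2.2.symm
      have hz1 : a * b ≠ 1 := fun h => hnc (h ▸ Commute.one_left a)
      have hk2 : 2 ≤ k := by
        by_contra h
        have hcard : Nat.card I ≤ 3 := by
          rw [hk]
          calc 3 ^ k ≤ 3 ^ 1 := Nat.pow_le_pow_right (by norm_num) (by omega)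
            _ = 3 := by norm_num
        have hsub : ({1, a * b, (a * b)⁻¹, d * d'} : Set G) ⊆ (I : Set G) := by
          rintro t (rfl | rfl | rfl | rfl)
          exacts [I.one_mem, hzI, I.inv_mem hzI, hwI]
        have hne1 : a * b ≠ (a * b)⁻¹ := fun h' => hz1 (inv_of_pow_three hNp hz h'.symm)
        have hw1 : d * d' ≠ 1 := fun h' => hdd'
          ((eq_inv_of_mul_eq_one_right h').trans (Classes.inv hD hd))
        have h4 : ({1, a * b, (a * b)⁻¹, d * d'} : Set G).ncard = 4 := by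
          rw [Set.ncard_insert_of_notMem, Set.ncard_insert_of_notMem, Set.ncard_pair]
          · intro h'
            exact hnc (by
              have h5 : Commute (a * b)⁻¹ a := h' ▸ hcw
              exact Commute.inv_left_iff.1 h5)
          · simp only [Set.mem_insert_iff, Set.mem_singleton_iff, not_or]
            exact ⟨hne1, fun h' => hnc (h' ▸ hcw)⟩
          · simp only [Set.mem_insert_iff, Set.mem_singleton_iff, not_or]
            exact ⟨hz1.symm, fun h' => hz1 (inv_eq_one.1 h'.symm), hw1.symm⟩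
        have := Set.ncard_le_ncard hsub (Set.toFinite _)
        rw [h4] at this
        have h5 : (I : Set G).ncard = Nat.card I := (Nat.card_coe_set_eq _).symm
        omega
      have hIge : 9 ≤ Nat.card I := by
        rw [hk]
        calc 9 = 3 ^ 2 := by norm_num
          _ ≤ 3 ^ k := Nat.pow_le_pow_right (by norm_num) hk2
      exact (Subgroup.eq_of_le_of_card_ge hle (by omega)).symm.le
    have hed : ¬ Commute d e := fun h => hcon.1 ⟨he, fun h' => hcon.2 (h' ▸ hdA), h⟩
    have hea : ¬ Commute a e := fun h => hcon.2 ⟨he, fun h' => hcon.1 (h' ▸ ha), h⟩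
    set x := d * e with hx
    have hx3 : x ^ 3 = 1 := Basic.cube_of_not_commute hD.1 hd he hed
    have hux : u * x = a * e := by rw [hu, hx]; simp [mul_assoc, cd]
    have hux3 : (u * x) ^ 3 = 1 := by rw [hux]; exact Basic.cube_of_not_commute hD.1 ha.1 he hea
    have step : ∀ n ∈ N, (u * x) * n * (u * x)⁻¹ = (x * n * x⁻¹)⁻¹ := fun n hn => by
      have hm : x * n * x⁻¹ ∈ N := Subgroup.Normal.conj_mem inferInstance n hn x
      rw [← (hIN hm).2]; group
    have hmem : ∀ n ∈ N, x * n * x⁻¹ ∈ N := fun n hn => Subgroup.Normal.conj_mem inferInstance n hn x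
    set z := a * b
    have h0 : (u * x) ^ 3 * z * ((u * x) ^ 3)⁻¹ = z := by rw [hux3]; simp
    rw [show (u * x) ^ 3 * z * ((u * x) ^ 3)⁻¹ =
        (u * x) * ((u * x) * ((u * x) * z * (u * x)⁻¹) * (u * x)⁻¹) * (u * x)⁻¹ by
          simp [pow_succ, mul_assoc],
      step z hz, step _ (N.inv_mem (hmem z hz)), step _ (N.inv_mem (hmem _ (N.inv_mem (hmem z hz))))] at h0
    have h1 : (x * (x * (x * z * x⁻¹)⁻¹ * x⁻¹)⁻¹ * x⁻¹)⁻¹ = (x ^ 3 * z * (x ^ 3)⁻¹)⁻¹ := by
      simp [pow_succ, mul_assoc]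
    rw [h1, hx3, one_mul, inv_one, mul_one] at h0
    have hz1 : z ≠ 1 := fun h => hab
      ((eq_inv_of_mul_eq_one_left h).trans (Classes.inv hD hb.1))
    exact hz1 (inv_of_pow_three hNp hz h0)
  · refine Set.eq_empty_iff_forall_notMem.2 fun x ⟨hx, hx'⟩ => ?_
    have h := hQ' x hx
    exact (h ▸ hx' : x ∈ Nb D x).2.1 rfl

/-- The second case: the class is the ten transpositions of `S₅`. -/
theorem petersen [Finite G] (hgirth : ∀ d ∈ D, ∀ a ∈ Nb D d, ∀ b ∈ Nb D d, a ≠ b → Nb D a ≠ Nb D b)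
    {d₀ : G} (hd₀ : d₀ ∈ D) : Nonempty (G ≃* Equiv.Perm (Fin 5)) := by
  classical
  obtain ⟨a, b, hab, he⟩ := hT d₀ hd₀
  have ha : a ∈ Nb D d₀ := he.symm ▸ Set.mem_insert a _
  have hb : b ∈ Nb D d₀ := he.symm ▸ Set.mem_insert_of_mem a (Set.mem_insert b _)
  have hne := noncommute_ne hab
  have hdA : d₀ ∈ Nb D a := nb_symm hd₀ ha
  obtain ⟨a₁, ha₁, ha₁d⟩ : ∃ a₁ ∈ Nb D a, a₁ ≠ d₀ :=
    Set.exists_ne_of_one_lt_ncard (by rw [nb_ncard hD hT ha.1]; norm_num) d₀
  have ha₁b : ¬ Commute a₁ b := by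
    intro h
    refine hgirth a ha.1 d₀ hdA a₁ ha₁ ha₁d.symm ?_
    have h1 : a ∈ Nb D a₁ := nb_symm ha.1 ha₁
    have h2 : b ∈ Nb D a₁ := ⟨hb.1, fun e => hab (e ▸ ha₁.2.2), h⟩
    rw [tri_eq hD hT hd₀ ha hb hne, tri_eq hD hT ha₁.1 h1 h2 hne]
  have hda₁ : ¬ Commute d₀ a₁ := nb_noncomm hD hT ha.1 hdA ha₁ ha₁d.symm
  obtain ⟨f, hf⟩ := SymFive.exists_hom ![d₀, a₁, b, a]
    (fun i => by fin_cases i <;> simp [Classes.sq hD hd₀, Classes.sq hD ha₁.1, Classes.sq hD hb.1,
      Classes.sq hD ha.1])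
    (Basic.cube_of_not_commute hD.1 hd₀ ha₁.1 hda₁)
    (Basic.cube_of_not_commute hD.1 ha₁.1 hb.1 ha₁b)
    (Basic.cube_of_not_commute hD.1 hb.1 ha.1 fun h => hab h.symm)
    hb.2.2 ha.2.2 ha₁.2.2.symm
  have f0 : f (Equiv.swap 0 1) = d₀ := hf 0
  have f1 : f (Equiv.swap 1 2) = a₁ := hf 1
  have hinj : Function.Injective f := SymFive.injective_of (by rw [f0, f1]; exact ha₁d.symm)
  have hsD : ∀ i j : Fin 5, i ≠ j → f (Equiv.swap i j) ∈ D := by
    intro i j hij
    obtain ⟨g, hg⟩ := isConj_iff.1 (Equiv.Perm.isConj_swap (α := Fin 5)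
      (show (0 : Fin 5) ≠ 1 by decide) hij)
    rw [← hg, map_mul, map_mul, map_inv, f0]
    exact hD.2.1 _ _ hd₀
  set T : Set G := {t | ∃ i j : Fin 5, i ≠ j ∧ t = f (Equiv.swap i j)} with hT'
  have hTD : T ⊆ D := by rintro t ⟨i, j, hij, rfl⟩; exact hsD i j hij
  have hclosed : ∀ t ∈ T, ∀ e ∈ Nb D t, e ∈ T := by
    rintro _ ⟨i, j, hij, rfl⟩ e he
    obtain ⟨k, l, m, hkl, hkm, hlm, hk, hl, hm⟩ : ∃ k l m : Fin 5, k ≠ l ∧ k ≠ m ∧ l ≠ m ∧
        (k ≠ i ∧ k ≠ j) ∧ (l ≠ i ∧ l ≠ j) ∧ (m ≠ i ∧ m ≠ j) := by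
      exact exists_three i j hij
    have hmem : ∀ p q : Fin 5, p ≠ q → (p ≠ i ∧ p ≠ j) → (q ≠ i ∧ q ≠ j) →
        f (Equiv.swap p q) ∈ Nb D (f (Equiv.swap i j)) := fun p q hpq hp hq => by
      refine ⟨hsD p q hpq, fun h => ?_, ((Equiv.Perm.disjoint_swap_swap ?_).commute).map f⟩
      · have h1 := congrArg (fun σ : Equiv.Perm (Fin 5) => σ p) (hinj h)
        simp only [Equiv.swap_apply_left, Equiv.swap_apply_of_ne_of_ne hp.1 hp.2] at h1
        exact hpq h1.symm
      · simp [hij, hpq, hp.1.symm, hp.2.symm, hq.1.symm, hq.2.symm]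
    have hd12 : f (Equiv.swap k l) ≠ f (Equiv.swap k m) := fun h => hlm (by
      have h1 := congrArg (fun σ : Equiv.Perm (Fin 5) => σ k) (hinj h)
      simpa using h1)
    rw [tri_eq hD hT (hsD i j hij) (hmem k l hkl hk hl) (hmem k m hkm hk hm) hd12] at he
    simp only [Set.mem_insert_iff, Set.mem_singleton_iff] at he
    rcases he with rfl | rfl | rfl
    · exact ⟨k, l, hkl, rfl⟩
    · exact ⟨k, m, hkm, rfl⟩
    · refine ⟨l, m, hlm, ?_⟩
      rw [← map_mul, ← map_mul]
      congr 1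
      rw [Equiv.swap_comm k m, Equiv.swap_mul_swap_mul_swap hkm.symm hlm.symm]
  have hall : D ⊆ T := by
    intro e he
    by_contra heT
    have hnc : ∀ t ∈ T, ¬ Commute t e := fun t ht h =>
      heT (hclosed t ht e ⟨he, fun h' => heT (h' ▸ ht), h⟩)
    have hte : ∀ t ∈ T, t * e * t = e * t * e := fun t ht =>
      Basic.braid hD.1 (hTD ht) he (hnc t ht)
    have hfix : ∀ t ∈ T, ∀ u ∈ T, t ≠ u → ¬ Commute (t * u) e := by
      intro t ht u hu htu hc
      by_cases hcom : Commute t u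
      · refine htu ?_
        have ct : ∀ y : G, t * (t * y) = y := WidthOne.mul_mul_cancel_left (Classes.sq hD (hTD ht))
        have cu : ∀ y : G, u * (u * y) = y := WidthOne.mul_mul_cancel_left (Classes.sq hD (hTD hu))
        have ce : ∀ y : G, e * (e * y) = y := WidthOne.mul_mul_cancel_left (Classes.sq hD he)
        have h1 : e * (t * u) * e = t * u := by
          rw [← hc.eq]; simp [mul_assoc, Classes.sq hD he]
        have h2 : (e * t * e) * (e * u * e) = t * u := by rw [← h1]; simp [mul_assoc, ce]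
        rw [← hte t ht, ← hte u hu] at h2
        have h3 := congrArg (fun y => t * y * u) h2
        simp [mul_assoc, ct, cu, Classes.sq hD (hTD hu)] at h3
        have h4 : t * u = 1 := by
          have := congrArg (fun y => e * y * e) h3
          simpa [mul_assoc, ce, Classes.sq hD he] using this
        exact (eq_inv_of_mul_eq_one_left h4).trans (Classes.inv hD (hTD hu))
      · refine htu (Classes.eq_of_conj_eq hD (hTD ht) (hTD hu) he (hnc t ht) (hnc u hu) ?_)
        have h1 : t * u * e = e * (t * u) := hc.eq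
        calc t * e * t⁻¹ = t * (e * (t * u)) * (t * u)⁻¹ * t⁻¹ := by group
          _ = t * (t * u * e) * (t * u)⁻¹ * t⁻¹ := by rw [h1]
          _ = (t * t) * (u * e * u⁻¹) * (t * t)⁻¹ := by group
          _ = u * e * u⁻¹ := by rw [Classes.sq hD (hTD ht)]; group
    let y : Fin 9 → G := fun i => f (SymFive.dperm i) * e * f (SymFive.dperm i)
    have hy : ∀ i, y i ∈ Nb D e := by
      intro i
      obtain ⟨h1, h2, h3, h4⟩ := SymFive.dbl_spec i
      set t := f (Equiv.swap (SymFive.dbl i).1.1 (SymFive.dbl i).1.2) with ht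
      set u := f (Equiv.swap (SymFive.dbl i).2.1 (SymFive.dbl i).2.2) with hu
      have htT : t ∈ T := ⟨_, _, h1, rfl⟩
      have huT : u ∈ T := ⟨_, _, h2, rfl⟩
      have hc : t * u = u * t := by rw [ht, hu, ← map_mul, h4, map_mul]
      have ht2 := Classes.sq hD (hTD htT)
      have ct : ∀ y : G, t * (t * y) = y := WidthOne.mul_mul_cancel_left ht2
      have cu : ∀ y : G, u * (u * y) = y := WidthOne.mul_mul_cancel_left (Classes.sq hD (hTD huT))
      have ce : ∀ y : G, e * (e * y) = y := WidthOne.mul_mul_cancel_left (Classes.sq hD he)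
      have hx : f (SymFive.dperm i) = t * u := map_mul f _ _
      have hinv : (t * u)⁻¹ = t * u := inv_eq_of_mul_eq_one_left (by
        conv_lhs => arg 2; rw [hc]
        simp [mul_assoc, cu, ht2])
      refine ⟨?_, fun h => hfix t htT u huT (fun h' => h3 (hinj h')) ?_, ?_⟩
      · show f (SymFive.dperm i) * e * f (SymFive.dperm i) ∈ D
        rw [hx]
        have := hD.2.1 (t * u) e he
        rwa [hinv] at this
      · show t * u * e = e * (t * u)
        have h' : t * u * e * (t * u) = e := by rw [← hx]; exact h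
        calc t * u * e = t * u * e * ((t * u) * (t * u)⁻¹) := by group
          _ = t * u * e * (t * u) * (t * u) := by rw [hinv]; simp [mul_assoc]
          _ = e * (t * u) := by rw [h']
      · show Commute e (f (SymFive.dperm i) * e * f (SymFive.dperm i))
        rw [hx]
        refine (eq_mul_inv_iff_mul_eq.1 ?_).symm
        rw [Classes.inv hD he]
        symm
        calc e * (t * u * e * (t * u)) * e
            = (e * t) * (u * e * u) * (t * e) := by conv_lhs => arg 1; arg 2; arg 2; rw [hc]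
                                                    simp [mul_assoc]
          _ = (e * t) * (e * u * e) * (t * e) := by rw [hte u huT]
          _ = (e * t * e) * u * (e * t * e) := by simp [mul_assoc]
          _ = (t * e * t) * u * (t * e * t) := by rw [← hte t htT]
          _ = t * e * (t * u * t) * e * t := by simp [mul_assoc]
          _ = t * e * u * e * t := by rw [hc]; simp [mul_assoc, ht2]
          _ = t * (u * e * u) * t := by rw [hte u huT]; simp [mul_assoc]
          _ = t * u * e * (t * u) := by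
            rw [show t * (u * e * u) * t = t * u * e * (u * t) by simp [mul_assoc], ← hc]
    haveI : Finite ↥(Nb D e) := Subtype.finite
    have hcard : Nat.card ↥(Nb D e) = 3 := by rw [Nat.card_coe_set_eq, nb_ncard hD hT he]
    let eq3 : ↥(Nb D e) ≃ Fin 3 := Finite.equivFinOfCardEq hcard
    obtain ⟨⟨i, j⟩, hij, hcol⟩ := SymFive.no_colouring fun i => eq3 ⟨y i, hy i⟩
    have hyy : y i = y j := congrArg Subtype.val (eq3.injective hcol)
    obtain ⟨p, q, r, s, hpq, hrs, hne', hprod⟩ := SymFive.edge_spec (i, j) hij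
    refine hfix _ ⟨p, q, hpq, rfl⟩ _ ⟨r, s, hrs, rfl⟩ (fun h => hne' (hinj h)) ?_
    rw [← map_mul, ← hprod, map_mul]
    set P := f (SymFive.dperm i)
    set Q := f (SymFive.dperm j)
    have hsq : ∀ i, f (SymFive.dperm i) * f (SymFive.dperm i) = 1 := fun i => by
      obtain ⟨-, -, -, h4⟩ := SymFive.dbl_spec i
      rw [← map_mul, ← map_one f]
      congr 1
      show _ * _ * (_ * _) = 1
      conv_lhs => arg 2; rw [h4]
      simp [mul_assoc]
    have cP : ∀ y : G, P * (P * y) = y := WidthOne.mul_mul_cancel_left (hsq i)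
    have hyy' : P * e * P = Q * e * Q := hyy
    show P * Q * e = e * (P * Q)
    calc P * Q * e = P * (Q * e * Q) * Q := by simp [mul_assoc, hsq j, Q]
      _ = P * (P * e * P) * Q := by rw [hyy']
      _ = e * (P * Q) := by simp [mul_assoc, cP]
  have hsurj : Function.Surjective f := by
    rw [← MonoidHom.range_eq_top, eq_top_iff, ← hD.2.2, Subgroup.closure_le]
    intro x hx
    obtain ⟨i, j, -, rfl⟩ := hall hx
    exact ⟨_, rfl⟩
  exact ⟨(MulEquiv.ofBijective f ⟨hinj, hsurj⟩).symm⟩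

end Cfsg.Agent.ThreeTransp.LocalSThree
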