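import Cfsg.Agent.Lib.ThreeTransp.Ortho3
import Cfsg.Agent.Lib.Classical.IsoInvariant.TypeSplit
import Cfsg.Agent.Lib.Components.Local

/-!
The projective reflection group of a six-dimensional orthogonal space over the field with three
elements: its order, given that it divides 6531840, and its derived group.
-/

set_option autoImplicit false
set_option linter.unusedSectionVars false

namespace Cfsg.Agent.ThreeTransp.Ortho3Six

open Matrix Cfsg.Agent.Forms.QuadStd Cfsg.Agent.Forms.Reflections Cfsg.Agent.Forms.Spinor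

section

variable {n : ℕ} {Q : QuadraticForm (ZMod 3) (Fin n → ZMod 3)} (hn : 5 ≤ n)
  (hQ : (QuadraticMap.polarBilin Q).Nondegenerate) {c : ZMod 3} (hc : c ≠ 0)
include hn hQ hc

/-- The centre of the reflection subgroup has order at most two. -/
theorem center_card_le :
    Nat.card ↥(Subgroup.center ↥(Cfsg.reflectionSubgroup (⇑Q) c)) ≤ 2 := by
  classical
  set R := Cfsg.reflectionSubgroup (⇑Q) c with hR
  have f3 : ∀ x : ZMod 3, x ≠ 0 → x = 1 ∨ x = -1 := by decide
  have sgn : ∀ z : ↥R, z ∈ Subgroup.center ↥R → ∀ v, Q v = c →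
      ∃ s : ZMod 3, act (z : Cfsg.isometryGroup (ZMod 3) ⇑Q) v = s • v := by
    intro z hz v hv
    have hcm : reflect Q v * (z : Cfsg.isometryGroup (ZMod 3) ⇑Q) = z * reflect Q v :=
      congrArg Subtype.val (Subgroup.mem_center_iff.1 hz ⟨reflect Q v, Ortho3.reflect_mem hv⟩)
    have h := congrArg (fun g => act g v) hcm
    simp only [act_mul] at h
    rw [act_reflect v v, QuadraticMap.polar_self, hv, act_reflect] at h
    set w := act (z : Cfsg.isometryGroup (ZMod 3) ⇑Q) v with hw
    have h2 : v - (c⁻¹ * (2 • c)) • v = (-1 : ZMod 3) • v := by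
      have : ∀ c : ZMod 3, c ≠ 0 → (1 : ZMod 3) - c⁻¹ * (2 • c) = -1 := by decide +kernel
      rw [← this c hc, sub_smul, one_smul]
    rw [h2, map_smul, ← hw, neg_one_smul] at h
    refine ⟨2⁻¹ * (c⁻¹ * QuadraticMap.polar (⇑Q) v w), ?_⟩
    rw [hv] at h
    rw [mul_smul]
    rw [sub_eq_iff_eq_add, eq_neg_add_iff_add_eq] at h
    rw [← h, smul_add, ← add_smul]
    have : (2⁻¹ : ZMod 3) + 2⁻¹ = 1 := by decide +kernel
    rw [this, one_smul]
  have sgn1 : ∀ z : ↥R, z ∈ Subgroup.center ↥R → ∀ v, Q v = c → ∀ u, Q u = c → ∀ s t : ZMod 3,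
      act (z : Cfsg.isometryGroup (ZMod 3) ⇑Q) v = s • v →
      act (z : Cfsg.isometryGroup (ZMod 3) ⇑Q) u = t • u → QuadraticMap.polar (⇑Q) v u ≠ 0 → s = t := by
    intro z _ v hv u hu s t hs ht hb
    have h1 := act_map (z : Cfsg.isometryGroup (ZMod 3) ⇑Q) v
    have h2 := act_polar (z : Cfsg.isometryGroup (ZMod 3) ⇑Q) v u
    rw [hs, QuadraticMap.map_smul, hv, smul_eq_mul] at h1
    rw [hs, ht, QuadraticMap.polar_smul_left, QuadraticMap.polar_smul_right, smul_eq_mul,
      smul_eq_mul] at h2
    have key : ∀ c b s t : ZMod 3, c ≠ 0 → b ≠ 0 → s * s * c = c → s * (t * b) = b → s = t := by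
      decide
    exact key c _ s t hc hb h1 h2
  have kfact : ∀ c : ZMod 3, c ≠ 0 → 2 • c + 0 + 0 ≠ 0 := by decide
  have kone : ∀ c : ZMod 3, c + c + 0 + -c + (0 + 0) = c := by decide
  have ktwo : ∀ c : ZMod 3, -c + -c + 0 = c := by decide
  have kthree : ∀ c : ZMod 3, -c + -c + -0 = c := by decide
  obtain ⟨v₀, hv₀⟩ := exists_value hQ Ortho3.two_ne (by rw [Fintype.card_fin]; omega) hc
  have same : ∀ z : ↥R, z ∈ Subgroup.center ↥R → ∀ s : ZMod 3,
      act (z : Cfsg.isometryGroup (ZMod 3) ⇑Q) v₀ = s • v₀ → ∀ x,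
      act (z : Cfsg.isometryGroup (ZMod 3) ⇑Q) x = s • x := by
    intro z hz s hs
    have hcv : ∀ v, Q v = c → act (z : Cfsg.isometryGroup (ZMod 3) ⇑Q) v = s • v := by
      intro v hv
      obtain ⟨t, ht⟩ := sgn z hz v hv
      by_cases hb : QuadraticMap.polar (⇑Q) v₀ v = 0
      · obtain ⟨e, he, hae, hbe⟩ := Ortho3.exists_perp hn hQ (a := v₀) (b := v)
          (by rw [hv₀]; exact hc) (-c)
        have hu : Q (v₀ + v + e) = c := by
          rw [QuadraticMap.map_add (⇑Q), QuadraticMap.map_add (⇑Q), QuadraticMap.polar_add_left, hb, hae,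
            hbe, hv₀, hv, he]
          exact kone c
        obtain ⟨r, hr⟩ := sgn z hz _ hu
        have e1 := sgn1 z hz v₀ hv₀ _ hu s r hs hr (by
          rw [QuadraticMap.polar_add_right, QuadraticMap.polar_add_right, hb, hae,
            QuadraticMap.polar_self, hv₀]
          exact kfact c hc)
        have e2 := sgn1 z hz v hv _ hu t r ht hr (by
          rw [QuadraticMap.polar_add_right, QuadraticMap.polar_add_right, hbe,
            QuadraticMap.polar_comm, hb, QuadraticMap.polar_self, hv]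
          simpa only [zero_add, add_zero] using kfact c hc)
        rw [ht, e2, ← e1]
      · rw [ht, sgn1 z hz v₀ hv₀ v hv s t hs ht hb]
    intro x
    rcases eq_or_ne (Q x) c with hx | hx
    · exact hcv x hx
    by_cases h0 : Q x = 0
    · obtain ⟨e, he, -, hbe⟩ := Ortho3.exists_perp hn hQ (a := v₀) (b := x)
        (by rw [hv₀]; exact hc) c
      have h1 : Q (x + e) = c := by rw [QuadraticMap.map_add (⇑Q), hbe, h0, he]; simp
      have h2 : x = (x + e) - e := by abel
      rw [h2, map_sub, hcv _ h1, hcv _ he, smul_sub]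
    · have hx' : Q x = -c := (Ortho3.value_cases h0 hc).resolve_left hx
      obtain ⟨e, he, hae, -⟩ := Ortho3.exists_perp hn hQ (a := x) (b := x) h0 (-c)
      have h1 : Q (x + e) = c := by
        rw [QuadraticMap.map_add (⇑Q), hae, hx', he]; exact ktwo c
      have h2 : Q (x - e) = c := by
        rw [sub_eq_add_neg, QuadraticMap.map_add (⇑Q), QuadraticMap.map_neg,
          QuadraticMap.polar_neg_right, hae, hx', he]
        exact kthree c
      have h3 : x = -((x + e) + (x - e)) := by
        have : ∀ a b : ZMod 3, a = -((a + b) + (a - b)) := by decide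
        funext i
        exact this (x i) (e i)
      have h4 := congrArg (act (z : Cfsg.isometryGroup (ZMod 3) ⇑Q)) h3
      rw [map_neg, map_add, hcv _ h1, hcv _ h2, ← smul_add, ← smul_neg, ← h3] at h4
      exact h4
  refine (Nat.card_le_card_of_injective (β := Bool)
    (fun z : ↥(Subgroup.center ↥R) =>
      decide (act ((z : ↥R) : Cfsg.isometryGroup (ZMod 3) ⇑Q) v₀ = v₀)) ?_).trans
    (by simp)
  intro z z' h
  obtain ⟨s, hs⟩ := sgn z z.2 v₀ hv₀
  obtain ⟨s', hs'⟩ := sgn z' z'.2 v₀ hv₀
  have hs0 : ∀ (z : ↥R) (s : ZMod 3), act (z : Cfsg.isometryGroup (ZMod 3) ⇑Q) v₀ = s • v₀ →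
      s = 1 ∨ s = -1 := fun z s hs => f3 s fun h0 => hc (by
    rw [← hv₀, ← act_map (z : Cfsg.isometryGroup (ZMod 3) ⇑Q) v₀, hs, h0, zero_smul,
      QuadraticMap.map_zero])
  have hne : (-1 : ZMod 3) • v₀ ≠ v₀ := fun e => hc (by
    have h3 : ∀ a : ZMod 3, -1 * a = a → a = 0 := by decide
    have : v₀ = 0 := funext fun i => h3 _ (congrFun e i)
    rw [← hv₀, this, QuadraticMap.map_zero])
  have hss : s = s' := by
    simp only [decide_eq_decide, hs, hs'] at h
    rcases hs0 _ _ hs with rfl | rfl <;> rcases hs0 _ _ hs' with rfl | rfl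
    · rfl
    · exact absurd (h.1 (one_smul _ _)) hne
    · exact absurd (h.2 (one_smul _ _)) hne
    · rfl
  refine Subtype.ext (Subtype.ext (iso_ext fun x => ?_))
  rw [← act_apply, ← act_apply, same z z.2 s hs x, same z' z'.2 s' hs' x, hss]

/-- The derived group of the projective reflection group is quasisimple of index at most two. -/
theorem proj_commutator {X : Type*} [Group X]
    (φ : X ≃* ↥(Cfsg.reflectionSubgroup (⇑Q) c) ⧸
      Subgroup.center ↥(Cfsg.reflectionSubgroup (⇑Q) c)) :
    Cfsg.IsQuasisimple ↥(commutator X) ∧ (commutator X).index ≤ 2 := by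
  set R := Cfsg.reflectionSubgroup (⇑Q) c with hR
  set π : ↥R →* X := φ.symm.toMonoidHom.comp (QuotientGroup.mk' (Subgroup.center ↥R)) with hπ
  have hsurj : Function.Surjective π :=
    φ.symm.surjective.comp (QuotientGroup.mk'_surjective _)
  have hmap : (commutator ↥R).map π = commutator X := by
    rw [commutator_def, Subgroup.map_commutator, Subgroup.map_top_of_surjective _ hsurj,
      commutator_def]
  have hK := Ortho3.commutator_quasisimple hn hQ hc
  constructor
  · refine Components.Basic.quasisimple_of_mulEquiv (MulEquiv.subgroupCongr hmap) ?_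
    have hs : Function.Surjective (π.subgroupMap (commutator ↥R)) :=
      π.subgroupMap_surjective _
    haveI : Nontrivial ↥((commutator ↥R).map π) := by
      rw [Subgroup.nontrivial_iff_ne_bot]
      intro h
      rw [Subgroup.map_eq_bot_iff] at h
      refine Components.Basic.quasisimple_center_ne_top hK (eq_top_iff.2 fun x _ => ?_)
      refine Subgroup.mem_center_iff.2 fun y => Subtype.ext ?_
      have hx : π x = 1 := MonoidHom.mem_ker.1 (h x.2)
      have hxc : (x : ↥R) ∈ Subgroup.center ↥R :=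
        (QuotientGroup.eq_one_iff _).1 (φ.symm.injective (hx.trans (map_one φ.symm).symm))
      exact Subgroup.mem_center_iff.1 hxc y
    exact Components.Local.isQuasisimple_of_surjective hs hK
  · rw [← hmap, ← Ortho3.commutator_index hn hQ hc]
    exact Nat.le_of_dvd (Nat.pos_of_ne_zero Subgroup.index_ne_zero_of_finite)
      (Subgroup.index_map_dvd _ hsurj)

end

/-- The order and the derived group. -/
theorem proj_order {X : Type*} [Group X] [Finite X] {μ c : ZMod 3} (hc : c ≠ 0)
    (h : Cfsg.IsProjReflectionGroupModThree X 6 μ c) (hdvd : Nat.card X ∣ 6531840) :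
    Nat.card X = 6531840 ∧ Cfsg.IsQuasisimple ↥(commutator X) ∧ (commutator X).index ≤ 2 := by
  classical
  obtain ⟨Q, hQ, -, ⟨φ⟩⟩ := h
  refine ⟨?_, proj_commutator (by norm_num) hQ hc φ⟩
  set R := Cfsg.reflectionSubgroup (⇑Q) c with hR
  obtain ⟨T, hT1, hT2, hT⟩ := Classical.IsoInvariant.TypeSplit.natCard_O (d := 3) (by norm_num)
    (Fintype.card_fin 6) hQ
  rw [ZMod.card] at hT hT1 hT2
  rw [show (3 : ℕ) - 1 = 2 from rfl, Finset.prod_range_succ, Finset.prod_range_succ,
    Finset.prod_range_zero] at hT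
  have h1 := R.card_mul_index
  rw [Ortho3.index_two (by norm_num) hQ hc, hT] at h1
  have h2 := Subgroup.card_eq_card_quotient_mul_card_subgroup (Subgroup.center ↥R)
  rw [← Nat.card_congr φ.toEquiv] at h2
  have h3 := center_card_le (show 5 ≤ 6 by norm_num) hQ hc
  rw [← hR] at h3
  have h4 : 0 < Nat.card ↥(Subgroup.center ↥R) := Nat.card_pos
  have hT' : T = 26 ∨ T = 28 := by
    by_cases hp : Classical.OrthTypes.IsPlus Q 3
    · left; rw [hT1 hp]; norm_num
    · right; rw [hT2 hp]; norm_num
  generalize Nat.card X = N at h2 hdvd ⊢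
  rw [h2] at h1
  generalize Nat.card ↥(Subgroup.center ↥R) = z at h1 h3 h4
  have hN : N = 12130560 ∨ N = 6065280 ∨ N = 13063680 ∨ N = 6531840 := by
    norm_num at h1
    rcases hT' with rfl | rfl <;> interval_cases z <;> omega
  rcases hN with rfl | rfl | rfl | rfl <;> first | rfl | norm_num at hdvd

end Cfsg.Agent.ThreeTransp.Ortho3Six
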