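import Cfsg.Agent.Lib.ThreeTransp.Primitive
import Cfsg.Agent.Lib.Components.Basic

/-!
A transitive 3-transposition group whose derived group is quasisimple of index at most two acts
primitively.
-/

set_option autoImplicit false

namespace Cfsg.Agent.ThreeTransp.PrimitiveComm

open scoped commutatorElement

theorem primitive {H : Type*} [Group H] [Finite H] {D : Set H}
    (hG : Cfsg.IsThreeTranspositionGroup D)
    (htrans : ∀ a ∈ D, ∀ b ∈ D, ∃ g : H, g * a * g⁻¹ = b)
    (hD2 : ∃ a ∈ D, ∃ b ∈ D, a ≠ b) (hK : Cfsg.IsQuasisimple ↥(commutator H))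
    (hidx : (commutator H).index ≤ 2) : Cfsg.IsPrimitiveUnderConj D := by
  have hKc : Cfsg.IsComponent (commutator H) :=
    ⟨(inferInstance : (commutator H).Normal).isSubnormal, hK⟩
  have hlayer : Cfsg.layer H ≠ ⊥ := fun h => by
    have hle : commutator H ≤ Cfsg.layer H := le_sSup hKc
    rw [h] at hle
    refine Components.Basic.quasisimple_center_ne_top hK (eq_top_iff.2 fun x _ => ?_)
    exact Subgroup.mem_center_iff.2 fun y => Subtype.ext (by
      rw [Subgroup.coe_mul, Subgroup.coe_mul, Subgroup.mem_bot.1 (hle x.2),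
        Subgroup.mem_bot.1 (hle y.2)])
  have z2 : Cfsg.pCore 2 H ≤ Subgroup.center H := by
    by_contra h; exact hlayer (Structure.layer_eq_bot_of_two hG htrans h)
  have z3 : Cfsg.pCore 3 H ≤ Subgroup.center H := by
    by_contra h; exact hlayer (Structure.layer_eq_bot_of_three hG htrans h)
  obtain ⟨L, hLn, hL, hF⟩ := Structure.exists_component hG htrans hD2 z2 z3
  have hperf : ∀ {M : Subgroup H}, Cfsg.IsQuasisimple M → ⁅M, M⁆ = M := fun {M} h => by
    haveI := h.1
    rw [← Subgroup.map_subtype_commutator, Group.IsPerfect.commutator_eq_top,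
      ← MonoidHom.range_eq_map, Subgroup.range_subtype]
  have hLK : L = commutator H := by
    refine le_antisymm ?_ ?_
    · conv_lhs => rw [← hperf hL.2]
      exact Subgroup.commutator_mono le_top le_top
    · have hle : commutator H ≤ L ⊔ Subgroup.center H :=
        hF ▸ (le_sSup (s := {K : Subgroup H | Cfsg.IsComponent K}) hKc).trans le_sup_left
      conv_lhs => rw [← hperf hK]
      refine le_trans (Subgroup.commutator_mono hle hle)
        (Subgroup.commutator_le.2 fun x hx y hy => ?_)
      obtain ⟨l, hl, z, hz, rfl⟩ := Subgroup.mem_sup_of_normal_left.1 hx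
      obtain ⟨l', hl', z', hz', rfl⟩ := Subgroup.mem_sup_of_normal_left.1 hy
      refine (QuotientGroup.eq_one_iff _).1 ?_
      show QuotientGroup.mk' L ⁅l * z, l' * z'⁆ = 1
      rw [map_commutatorElement, map_mul, map_mul,
        show QuotientGroup.mk' L l = 1 from (QuotientGroup.eq_one_iff _).2 hl,
        show QuotientGroup.mk' L l' = 1 from (QuotientGroup.eq_one_iff _).2 hl', one_mul, one_mul,
        ← map_commutatorElement, commutatorElement_eq_one_iff_mul_comm.2
          (Subgroup.mem_center_iff.1 hz z').symm, map_one]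
  subst hLK
  exact Primitive.primitive_of_index hG htrans hD2 z2 z3 hL.2 hF hidx

end Cfsg.Agent.ThreeTransp.PrimitiveComm
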