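import Cfsg.Agent.Lib.ThreeTransp.Radical
import Cfsg.Agent.Lib.ThreeTransp.LocalSThree
import Cfsg.Agent.Lib.Cores.Basic

/-!
A noncentral odd core in the group generated by the members commuting with a member `x` gives two
members with the same commuting set there (twins); twins force the commuting graph to be triangle
free, and then the commuting sets have 3-power sizes.
-/

set_option autoImplicit false

namespace Cfsg.Agent.ThreeTransp.OddLocal

open Cfsg.Agent.ThreeTransp
open Cfsg.Agent.ThreeTransp.LocalSThree (Nb)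

variable {G : Type*} [Group G] {D : Set G}

/-- Two members commuting with `x`, not with each other, having the same further neighbours. -/
def Twin (D : Set G) (x a b : G) : Prop :=
  a ∈ Nb D x ∧ b ∈ Nb D x ∧ ¬ Commute a b ∧
    ∀ c ∈ Nb D x, c ≠ a → c ≠ b → (Commute c a ↔ Commute c b)

section
variable (hG : Cfsg.IsThreeTranspositionGroup D)
include hG

theorem nb_conj_iff (g : G) {d y : G} : g * y * g⁻¹ ∈ Nb D (g * d * g⁻¹) ↔ y ∈ Nb D d := by
  refine ⟨fun ⟨h1, h2, h3⟩ => ⟨?_, fun e => h2 (e ▸ rfl), Basic.commute_conj.1 h3⟩,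
    fun ⟨h1, h2, h3⟩ => ⟨hG.2.1 g y h1, fun e => h2 (mul_left_cancel (mul_right_cancel e)),
      Basic.commute_conj.2 h3⟩⟩
  have := Classes.inv_conj_mem hG g h1
  rwa [show g⁻¹ * (g * y * g⁻¹) * g = y by group] at this

theorem nb_image (g d : G) : (fun y => g * y * g⁻¹) '' Nb D d = Nb D (g * d * g⁻¹) := by
  ext y
  refine ⟨fun ⟨z, hz, e⟩ => e ▸ (nb_conj_iff hG g).2 hz, fun hy => ⟨g⁻¹ * y * g, ?_, by group⟩⟩
  rw [← nb_conj_iff hG g, show g * (g⁻¹ * y * g) * g⁻¹ = y by group]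
  exact hy

theorem nb_ncard_conj (g d : G) : (Nb D (g * d * g⁻¹)).ncard = (Nb D d).ncard := by
  rw [← nb_image hG]
  exact Set.ncard_image_of_injective _ fun y z e => mul_left_cancel (mul_right_cancel e)

theorem inter_ncard_conj (g a c : G) :
    (Nb D (g * a * g⁻¹) ∩ Nb D (g * c * g⁻¹)).ncard = (Nb D a ∩ Nb D c).ncard := by
  have hinj : Function.Injective fun y => g * y * g⁻¹ := fun y z e =>
    mul_left_cancel (mul_right_cancel e)
  rw [← nb_image hG, ← nb_image hG, ← Set.image_inter hinj]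
  exact Set.ncard_image_of_injective _ hinj

theorem twin_conj (g : G) {x a b : G} (h : Twin D x a b) :
    Twin D (g * x * g⁻¹) (g * a * g⁻¹) (g * b * g⁻¹) := by
  obtain ⟨ha, hb, hab, hc⟩ := h
  refine ⟨(nb_conj_iff hG g).2 ha, (nb_conj_iff hG g).2 hb, fun e => hab (Basic.commute_conj.1 e),
    fun c hcm h1 h2 => ?_⟩
  obtain ⟨z, rfl⟩ : ∃ z, c = g * z * g⁻¹ := ⟨g⁻¹ * c * g, by group⟩
  rw [Basic.commute_conj, Basic.commute_conj]
  exact hc z ((nb_conj_iff hG g).1 hcm) (fun e => h1 (by rw [e])) fun e => h2 (by rw [e])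

theorem cc {t a b : G} (ht : t ∈ D) : Commute (t * a * t) (t * b * t) ↔ Commute a b := by
  have := Basic.commute_conj (g := t) (a := a) (b := b)
  rwa [Classes.inv hG ht] at this

theorem conj_of_commute {t a : G} (ht : t ∈ D) (h : Commute t a) : t * a * t = a := by
  rw [h.eq, mul_assoc, Classes.sq hG ht, mul_one]

theorem nb_closed {x a b : G} (hx : x ∈ D) (ha : a ∈ Nb D x) (hb : b ∈ Nb D x) :
    a * b * a ∈ Nb D x := by
  refine ⟨Classes.conj_mem hG ha.1 hb.1, fun e => hb.2.1 ?_,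
    (ha.2.2.mul_right hb.2.2).mul_right ha.2.2⟩
  have h1 := conj_of_commute hG ha.1 ha.2.2.symm
  have ca : ∀ t : G, a * (a * t) = t := WidthOne.mul_mul_cancel_left (Classes.sq hG ha.1)
  calc b = a * (a * b * a) * a := by simp [mul_assoc, ca, Classes.sq hG ha.1]
    _ = x := by rw [e, h1]

/-- A noncentral odd core yields twins. -/
theorem exists_twin [Finite G] {x : G} (hx : x ∈ D)
    (h : ¬ Cfsg.oddCore ↥(Subgroup.closure (Nb D x)) ≤
      Subgroup.center ↥(Subgroup.closure (Nb D x))) : ∃ a b : G, Twin D x a b := by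
  set H := Subgroup.closure (Nb D x) with hH
  set N := Cfsg.oddCore ↥H with hN
  obtain ⟨n, hn, hnc⟩ := SetLike.not_le_iff_exists.1 h
  obtain ⟨y, hy, hyn⟩ : ∃ y ∈ Nb D x, ¬ Commute (n : G) y := by
    by_contra! hall
    refine hnc (Subgroup.mem_center_iff.2 fun g => Subtype.ext ?_)
    have hle : H ≤ Subgroup.centralizer ({(n : G)} : Set G) :=
      (Subgroup.closure_le _).2 fun y hy => Subgroup.mem_centralizer_singleton_iff.2 (hall y hy).eq.symm
    show (g : G) * n = n * g
    exact (Subgroup.mem_centralizer_singleton_iff.1 (hle g.2))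
  have hxH : ∀ g ∈ H, Commute x g := by
    intro g hg
    induction hg using Subgroup.closure_induction with
    | mem z hz => exact hz.2.2
    | one => exact Commute.one_right x
    | mul p q _ _ hp hq => exact hp.mul_right hq
    | inv p _ hp => exact hp.inv_right
  have hyH : y ∈ H := Subgroup.subset_closure hy
  set NG := N.map H.subtype with hNG
  have hodd : ∀ m ∈ NG, m * m = 1 → m = 1 := by
    intro m hm h2
    have hcard : Odd (Nat.card NG) := by
      rw [hNG, Nat.card_congr (N.equivMapOfInjective _ H.subtype_injective).symm.toEquiv]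
      exact Cores.oddCore_odd
    have h1 : orderOf m ∣ Nat.card NG := by
      have := orderOf_dvd_natCard (⟨m, hm⟩ : NG)
      rwa [Subgroup.orderOf_mk] at this
    have h2' : orderOf m ∣ 2 := orderOf_dvd_of_pow_eq_one (by rw [pow_two, h2])
    have : orderOf m ∣ 1 := (Nat.coprime_two_right.2 hcard) ▸ Nat.dvd_gcd h1 h2'
    exact orderOf_eq_one_iff.1 (Nat.dvd_one.1 this)
  have hnorm : ∀ g ∈ H, ∀ m ∈ NG, g * m * g⁻¹ ∈ NG := by
    intro g hg m hm
    obtain ⟨m', hm', rfl⟩ := Subgroup.mem_map.1 hm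
    exact Subgroup.mem_map.2 ⟨⟨g, hg⟩ * m' * ⟨g, hg⟩⁻¹,
      (inferInstance : N.Normal).conj_mem m' hm' ⟨g, hg⟩, rfl⟩
  set b := (n : G) * y * (n : G)⁻¹ with hb
  have hbx : b ∈ Nb D x := by
    refine ⟨hG.2.1 _ y hy.1, fun e => hy.2.1 ?_, ?_⟩
    · have h1 : (n : G) * y * (n : G)⁻¹ = n * x * (n : G)⁻¹ := by
        rw [← hb, e, RankThree.conj_self_of_commute (hxH n n.2)]
      exact mul_left_cancel (mul_right_cancel h1)
    · exact ((hxH n n.2).mul_right hy.2.2).mul_right (hxH n n.2).inv_right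
  have hnG : (n : G) ∈ NG := Subgroup.mem_map.2 ⟨n, hn, rfl⟩
  have hyb : y * b ∈ NG := by
    rw [show y * b = (y * n * y⁻¹) * (n : G)⁻¹ by rw [hb, Classes.inv hG hy.1]; group]
    exact NG.mul_mem (hnorm y hyH _ hnG) (NG.inv_mem hnG)
  have hby : b * y ∈ NG := by
    have := NG.inv_mem hyb
    rwa [mul_inv_rev, Classes.inv hG hy.1, Classes.inv hG hbx.1] at this
  have hne : y * b ≠ 1 := fun e => hyn (by
    have h1 : b = y := by rw [eq_inv_of_mul_eq_one_right e, Classes.inv hG hy.1]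
    show (n : G) * y = y * n
    exact mul_inv_eq_iff_eq_mul.1 h1)
  have hnc' : ¬ Commute y b := fun e => hne (hodd _ hyb (by
    rw [mul_assoc, ← mul_assoc b y, ← e.eq, mul_assoc y b b, Classes.sq hG hbx.1, mul_one,
      Classes.sq hG hy.1]))
  have key : ∀ p q : G, p ∈ Nb D x → q ∈ Nb D x → p * q ∈ NG → ∀ c ∈ Nb D x, c ≠ p →
      Commute c p → Commute c q := by
    intro p q hp hq hpq c hc hcp h1
    by_contra h2
    have hcH : c ∈ H := Subgroup.subset_closure hc
    have cp : ∀ t : G, p * (p * t) = t := WidthOne.mul_mul_cancel_left (Classes.sq hG hp.1)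
    have cq : ∀ t : G, q * (q * t) = t := WidthOne.mul_mul_cancel_left (Classes.sq hG hq.1)
    have h3 : p * (c * q * c) ∈ NG := by
      have := hnorm c hcH _ hpq
      rwa [Classes.inv hG hc.1, show c * (p * q) * c = p * (c * q * c) by
        rw [show c * (p * q) = (c * p) * q by rw [mul_assoc], h1.eq]; simp [mul_assoc]] at this
    have h4 : (q * c) * (q * c) ∈ NG := by
      have := NG.mul_mem (NG.inv_mem hpq) h3
      rwa [mul_inv_rev, Classes.inv hG hp.1, Classes.inv hG hq.1,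
        show q * p * (p * (c * q * c)) = (q * c) * (q * c) by simp [mul_assoc, cp]] at this
    have h5 : q * c ∈ NG := by
      have h6 := Basic.cube_of_not_commute hG.1 hq.1 hc.1 (fun e => h2 e.symm)
      have := NG.mul_mem h4 h4
      rwa [show (q * c) * (q * c) * ((q * c) * (q * c)) = (q * c) ^ 3 * (q * c) by
        simp [pow_succ, mul_assoc], h6, one_mul] at this
    have h7 := NG.mul_mem hpq h5
    rw [show p * q * (q * c) = p * c by simp [mul_assoc, cq]] at h7
    have h8 : p * c = 1 := hodd _ h7 (by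
      rw [mul_assoc, ← mul_assoc c p, h1.eq, mul_assoc p c c, Classes.sq hG hc.1, mul_one,
        Classes.sq hG hp.1])
    exact hcp ((eq_inv_of_mul_eq_one_right h8).trans (Classes.inv hG hp.1))
  exact ⟨y, b, hy, hbx, hnc', fun c hc h1 h2 =>
    ⟨key y b hy hbx hyb c hc h1, key b y hbx hy hby c hc h2⟩⟩

/-- A set of members closed under mutual conjugation with no two distinct ones commuting has
3-power size. -/
theorem exists_pow_three [Finite G] {S : Set G} (hS : S ⊆ D) (hne : S.Nonempty)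
    (hcl : ∀ a ∈ S, ∀ b ∈ S, a * b * a ∈ S) (hw : ∀ a ∈ S, ∀ b ∈ S, Commute a b → a = b) :
    ∃ s : ℕ, S.ncard = 3 ^ s := by
  haveI : Fact (Nat.Prime 3) := ⟨Nat.prime_three⟩
  set K := Subgroup.closure S with hK
  set S' : Set ↥K := {d | (d : G) ∈ S} with hS'
  have hset : Cfsg.IsThreeTranspositionSet S' := by
    refine ⟨fun d hd => by rw [← Subgroup.orderOf_coe]; exact hG.1.1 _ (hS hd), fun d hd e he => ?_⟩
    exact (hG.1.2 _ (hS hd) _ (hS he)).imp (fun h => Subtype.ext h) fun h => Subtype.ext h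
  have hkey : ∀ g ∈ K, ∀ d ∈ S, g * d * g⁻¹ ∈ S := by
    intro g hg
    induction hg using Subgroup.closure_induction'' with
    | one => intro d hd; simpa using hd
    | mem z hz => intro d hd; rw [Classes.inv hG (hS hz)]; exact hcl z hz d hd
    | inv_mem z hz =>
      intro d hd; rw [inv_inv, Classes.inv hG (hS hz)]; exact hcl z hz d hd
    | mul p q _ _ hp hq =>
      intro d hd
      rw [show p * q * d * (p * q)⁻¹ = p * (q * d * q⁻¹) * p⁻¹ by group]
      exact hp _ (hq d hd)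
  have hconj : ∀ g : ↥K, ∀ d ∈ S', g * d * g⁻¹ ∈ S' := fun g d hd => hkey g g.2 d hd
  obtain ⟨o, ho⟩ := hne
  let o' : ↥K := ⟨o, Subgroup.subset_closure ho⟩
  have ho' : o' ∈ S' := ho
  set O := Cfsg.pCore 3 ↥K with hO
  letI : MulAction ↥O ↥K := MulAction.compHom ↥K (MulAut.conj.comp O.subtype)
  have horb : MulAction.orbit ↥O o' = S' := by
    ext d
    refine ⟨?_, fun hd => ?_⟩
    · rintro ⟨g, rfl⟩
      exact hconj g o' ho'
    · rcases eq_or_ne d o' with rfl | hne
      · exact MulAction.mem_orbit_self _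
      refine ⟨⟨o' * d, WidthOne.mul_mem_pCore hset hconj
        (fun a ha b hb h => Subtype.ext (hw _ ha _ hb (h.map K.subtype))) ho' hd⟩, ?_⟩
      show MulAut.conj (o' * d) o' = d
      refine Subtype.ext ?_
      show o * d * o * (o * (d : G))⁻¹ = d
      have hdo : ¬ Commute o (d : G) := fun h => hne (Subtype.ext (hw _ hd _ ho h.symm))
      rw [mul_inv_rev, Classes.inv hG (hS ho), Classes.inv hG (hS hd),
        Basic.braid hG.1 (hS ho) (hS hd) hdo]
      have co : ∀ t : G, o * (o * t) = t := WidthOne.mul_mul_cancel_left (Classes.sq hG (hS ho))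
      have cd : ∀ t : G, (d : G) * (d * t) = t :=
        WidthOne.mul_mul_cancel_left (Classes.sq hG (hS hd))
      have hb := Basic.braid hG.1 (hS ho) (hS hd) hdo
      calc (d : G) * o * d * (d * o) = d * (o * o) := by simp [mul_assoc, cd]
        _ = d := by rw [Classes.sq hG (hS ho), mul_one]
  obtain ⟨s, hs⟩ := (Cores.pCore_isPGroup (G := ↥K) 3).card_orbit o'
  refine ⟨s, ?_⟩
  rw [← hs, horb, Nat.card_coe_set_eq, ← Set.ncard_image_of_injective S' K.subtype_injective]
  congr 1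
  ext d
  exact ⟨fun hd => ⟨⟨d, Subgroup.subset_closure hd⟩, hd, rfl⟩, fun ⟨e, he, h⟩ => h ▸ he⟩

end

section
variable [Finite G] (hsol : ∀ N : Subgroup G, N.Normal → Group.IsSolvable ↥N → N = ⊥)
  (hD : Cfsg.IsThreeTranspositionClass D)
include hsol hD

/-- Noncommuting members have different punctured commuting sets. -/
theorem nb_not_subset {a b : G} (ha : a ∈ D) (hb : b ∈ D) (hab : ¬ Commute a b) :
    ∃ v ∈ Nb D a, ¬ Commute b v := by
  haveI : Fact (Nat.Prime 3) := ⟨Nat.prime_three⟩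
  obtain ⟨hG, htrans⟩ := Classes.of_class hD
  by_contra! hall
  obtain ⟨g, rfl⟩ := htrans a ha b hb
  have hsub : Nb D a ⊆ Nb D (g * a * g⁻¹) := fun y hy =>
    ⟨hy.1, fun e => hab (e ▸ hy.2.2), hall y hy⟩
  have heq := Set.eq_of_subset_of_ncard_le hsub (nb_ncard_conj hG g a).le (Set.toFinite _)
  have hp : Classes.SamePunct D a (g * a * g⁻¹) := ⟨hb, fun y hy => by
    simpa [Nb, hy] using Set.ext_iff.1 heq y⟩
  have := Classes.mul_mem_pCore_three hG ha hp
  rw [Radical.pCore_eq_bot hsol 3, Subgroup.mem_bot] at this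
  apply hab
  rw [eq_inv_of_mul_eq_one_right this, Classes.inv hG ha]

variable (hperf : ⁅commutator G, commutator G⁆ = commutator G)
include hperf

/-- Twins exclude triangles in the commuting graph. -/
theorem no_twin {x a b u : G} (hx : x ∈ D) (htw : Twin D x a b) (hu : u ∈ Nb D x)
    (hua : u ∈ Nb D a) : False := by
  obtain ⟨hG, htrans⟩ := Classes.of_class hD
  obtain ⟨ha, hb, hab, hiff⟩ := htw
  have htw : Twin D x a b := ⟨ha, hb, hab, hiff⟩
  have hub : u ≠ b := fun e => hab (e ▸ hua.2.2)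
  have cub : Commute u b := (hiff u hu hua.2.1 hub).1 hua.2.2.symm
  -- a neighbour of `a` outside
  obtain ⟨v, hva, hvb⟩ := nb_not_subset hsol hD ha.1 hb.1 hab
  have hvb' : v ≠ b := fun e => hab (e ▸ hva.2.2)
  have hvx : ¬ Commute x v := fun e => hvb ((hiff v ⟨hva.1, fun h => hvb (h ▸ hb.2.2.symm), e⟩
    hva.2.1 hvb').1 hva.2.2.symm).symm
  have hne_ax : a ≠ x := ha.2.1
  -- the flip
  obtain ⟨f, hf⟩ := SymFive.exists_hom ![x, v, b, a]
    (fun i => by fin_cases i <;> simp [Classes.sq hG hx, Classes.sq hG hva.1, Classes.sq hG hb.1,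
      Classes.sq hG ha.1])
    (Basic.cube_of_not_commute hG.1 hx hva.1 hvx)
    (Basic.cube_of_not_commute hG.1 hva.1 hb.1 fun h => hvb h.symm)
    (Basic.cube_of_not_commute hG.1 hb.1 ha.1 fun h => hab h.symm)
    hb.2.2 ha.2.2 hva.2.2.symm
  have f0 : f (Equiv.swap 0 1) = x := hf 0
  have f1 : f (Equiv.swap 1 2) = v := hf 1
  have f2 : f (Equiv.swap 2 3) = b := hf 2
  have f3 : f (Equiv.swap 3 4) = a := hf 3
  set g := f Fin.revPerm with hg
  have e0 : g * x * g⁻¹ = a := by
    rw [hg, ← f0, ← f3, ← map_inv, ← map_mul, ← map_mul]; congr 1; decide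
  have e3 : g * a * g⁻¹ = x := by
    rw [hg, ← f0, ← f3, ← map_inv, ← map_mul, ← map_mul]; congr 1; decide
  have e2 : g * b * g⁻¹ = v := by
    rw [hg, ← f1, ← f2, ← map_inv, ← map_mul, ← map_mul]; congr 1; decide
  have htv : Twin D a x v := by
    have := twin_conj hG g htw
    rwa [e0, e3, e2] at this
  obtain ⟨-, -, -, hiffv⟩ := htv
  have htv : Twin D a x v := by
    have := twin_conj hG g htw
    rwa [e0, e3, e2] at this
  have cuv : Commute u v :=
    (hiffv u hua hu.2.1 fun e => hvx (e ▸ hu.2.2)).1 hu.2.2.symm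
  -- the twins of `x` at `u` and at `a`
  obtain ⟨g', g'x, g'a⟩ := Radical.exists_pair hsol hperf hD hx ha.1 hx hu.1 ha.2.2 hu.2.2
    ha.2.1 hu.2.1
  have hT : {w | Twin D u x w}.ncard = {w | Twin D a x w}.ncard := by
    have himg : (fun w => g' * w * g'⁻¹) '' {w | Twin D a x w} = {w | Twin D u x w} := by
      ext w
      refine ⟨fun ⟨z, hz, e⟩ => ?_, fun hw => ⟨g'⁻¹ * w * g', ?_, by group⟩⟩
      · have := twin_conj hG g' hz
        rw [g'x, g'a] at this
        exact e ▸ this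
      · have := twin_conj hG g'⁻¹ hw
        simp only [inv_inv] at this
        rwa [show g'⁻¹ * u * g' = a by rw [← g'a]; group,
          show g'⁻¹ * x * g' = x by conv_lhs => rw [← g'x]
                                    group] at this
    rw [← himg]
    exact Set.ncard_image_of_injective _ fun y z e => mul_left_cancel (mul_right_cancel e)
  obtain ⟨x3, hx3, hx3'⟩ : ∃ x3, Twin D u x x3 ∧ ¬ Twin D a x x3 := by
    by_contra! hcon
    have heq := Set.eq_of_subset_of_ncard_le (fun w hw => hcon w hw : {w | Twin D u x w} ⊆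
      {w | Twin D a x w}) hT.ge (Set.toFinite _)
    have hv : v ∈ {w | Twin D u x w} := heq.symm ▸ htv
    exact hvb ((hv.2.2.2 b ⟨hb.1, hub.symm, cub⟩ hb.2.1 hvb'.symm).1 hb.2.2.symm)
  obtain ⟨-, hx3u, hxx3, hiff3⟩ := hx3
  have cax3 : Commute a x3 :=
    (hiff3 a ⟨ha.1, hua.2.1.symm, hua.2.2.symm⟩ ha.2.1 fun e => hxx3 (e ▸ ha.2.2)).1 ha.2.2.symm
  have cbx3 : Commute b x3 :=
    (hiff3 b ⟨hb.1, hub.symm, cub⟩ hb.2.1 fun e => hxx3 (e ▸ hb.2.2)).1 hb.2.2.symm
  have hx3a : x3 ∈ Nb D a := ⟨hx3u.1, fun e => hxx3 (e ▸ ha.2.2), cax3⟩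
  -- a common neighbour of `a`, `x` not commuting with `x3`
  obtain ⟨u3, hu3x, hu3a, hu3n⟩ : ∃ u3, u3 ∈ Nb D x ∧ u3 ∈ Nb D a ∧ ¬ Commute x3 u3 := by
    by_contra! hcon
    have hsub : Nb D a ∩ Nb D x ⊆ Nb D a ∩ Nb D x3 := fun c hc =>
      ⟨hc.1, hc.1.1, fun e => hxx3 (e ▸ hc.2.2.2), hcon c hc.2 hc.1⟩
    obtain ⟨g3, g3a, g3x⟩ := Radical.exists_pair hsol hperf hD ha.1 hx ha.1 hx3a.1 ha.2.2.symm
      cax3 ha.2.1.symm hx3a.2.1
    have hcard : (Nb D a ∩ Nb D x3).ncard = (Nb D a ∩ Nb D x).ncard := by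
      conv_lhs => rw [← g3a, ← g3x]
      exact inter_ncard_conj hG g3 a x
    have heq := Set.eq_of_subset_of_ncard_le hsub hcard.le (Set.toFinite _)
    refine hx3' ⟨⟨hx, ha.2.1.symm, ha.2.2.symm⟩, hx3a, hxx3, fun c hc h1 h2 => ?_⟩
    constructor
    · intro h
      have : c ∈ Nb D a ∩ Nb D x3 := heq ▸ ⟨hc, hc.1, h1, h.symm⟩
      exact this.2.2.2.symm
    · intro h
      have : c ∈ Nb D a ∩ Nb D x := heq.symm ▸ ⟨hc, hc.1, h2, h.symm⟩
      exact this.2.2.2.symm
  have cu3b : Commute u3 b :=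
    (hiff u3 hu3x hu3a.2.1 fun e => hab (e ▸ hu3a.2.2)).1 hu3a.2.2.symm
  have cu3v : Commute u3 v :=
    (hiffv u3 hu3a hu3x.2.1 fun e => hvx (e ▸ hu3x.2.2)).1 hu3x.2.2.symm
  -- the contradiction
  set p := x * x3 * x with hp
  have hpD : p ∈ D := Classes.conj_mem hG hx hx3a.1
  obtain ⟨hxp, -, hxpx, -⟩ := Classes.triangle hG hx hx3a.1 hxx3
  have hp' : x3 * x * x3 = p := (Basic.braid hG.1 hx hx3a.1 hxx3).symm
  have cap : Commute a p := (ha.2.2.symm.mul_right cax3).mul_right ha.2.2.symm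
  have cbp : Commute b p := (hb.2.2.symm.mul_right cbx3).mul_right hb.2.2.symm
  have hpa : p ≠ a := fun e => hxp (by rw [← hp, e]; exact ha.2.2)
  have hpv : ¬ Commute p v := by
    intro h
    have h1 := (hiffv p ⟨hpD, hpa, cap⟩ (fun e => hxp (by rw [← hp, e]))
      fun e => hvb (by rw [← e]; exact cbp)).2 h
    exact hxp (by rw [← hp]; exact h1.symm)
  have hpu3 : ¬ Commute p u3 := by
    intro h
    apply hu3n
    have := (cc hG hx).2 h
    rwa [hp, hxpx, conj_of_commute hG hx hu3x.2.2] at this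
  set q := v * p * v with hq
  have hqD : q ∈ D := Classes.conj_mem hG hva.1 hpD
  have hq' : p * v * p = q := Basic.braid hG.1 hpD hva.1 hpv
  have caq : Commute a q := (hva.2.2.mul_right cap).mul_right hva.2.2
  have hu3q : u3 * q * u3 ∈ D := Classes.conj_mem hG hu3a.1 hqD
  set y := x3 * (u3 * q * u3) * x3 with hy
  have hyD : y ∈ D := Classes.conj_mem hG hx3a.1 hu3q
  have cya : Commute y a :=
    ((cax3.mul_right ((hu3a.2.2.mul_right caq).mul_right hu3a.2.2)).mul_right cax3).symm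
  have cyx : Commute y x := by
    have h1 : Commute (p * v * p) (p * u3 * p) := (cc hG hpD).2 cu3v.symm
    rw [hq', Basic.braid hG.1 hpD hu3a.1 hpu3] at h1
    have h2 := (cc hG hu3a.1).2 h1
    have c3 : ∀ t : G, u3 * (u3 * t) = t := WidthOne.mul_mul_cancel_left (Classes.sq hG hu3a.1)
    rw [show u3 * (u3 * p * u3) * u3 = p by simp [mul_assoc, c3, Classes.sq hG hu3a.1], ← hp'] at h2
    have h3 := (cc hG hx3a.1).2 h2
    have cx3 : ∀ t : G, x3 * (x3 * t) = t := WidthOne.mul_mul_cancel_left (Classes.sq hG hx3a.1)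
    rwa [show x3 * (x3 * x * x3) * x3 = x by simp [mul_assoc, cx3, Classes.sq hG hx3a.1]] at h3
  have hyb : ¬ Commute y b := by
    intro h
    have h1 : Commute y (x3 * b * x3) := by rwa [conj_of_commute hG hx3a.1 cbx3.symm]
    rw [hy, cc hG hx3a.1, ← conj_of_commute hG hu3a.1 cu3b, cc hG hu3a.1,
      ← hq', ← conj_of_commute hG hpD cbp.symm, cc hG hpD] at h1
    exact hvb h1.symm
  have hyx : y ∈ Nb D x := ⟨hyD, fun e => hyb (e ▸ hb.2.2), cyx.symm⟩
  have hya : y ≠ a := by
    intro e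
    apply hpa
    have h1 : u3 * q * u3 = a := by
      have c3 : ∀ t : G, x3 * (x3 * t) = t := WidthOne.mul_mul_cancel_left (Classes.sq hG hx3a.1)
      rw [← conj_of_commute hG hx3a.1 cax3.symm, ← e, hy]
      simp [mul_assoc, c3, Classes.sq hG hx3a.1]
    have h2 : q = a := by
      have c3 : ∀ t : G, u3 * (u3 * t) = t := WidthOne.mul_mul_cancel_left (Classes.sq hG hu3a.1)
      rw [← conj_of_commute hG hu3a.1 hu3a.2.2.symm, ← h1]
      simp [mul_assoc, c3, Classes.sq hG hu3a.1]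
    have c3 : ∀ t : G, v * (v * t) = t := WidthOne.mul_mul_cancel_left (Classes.sq hG hva.1)
    rw [← conj_of_commute hG hva.1 hva.2.2.symm, ← h2, hq]
    simp [mul_assoc, c3, Classes.sq hG hva.1]
  exact hyb ((hiff y hyx hya fun e => hyb (e ▸ Commute.refl y)).1 cya)

/-- With twins, no two distinct commuting members of a commuting set. -/
theorem eq_of_commute {x a b : G} (hx : x ∈ D) (htw : Twin D x a b) {d p q : G} (hd : d ∈ D)
    (hp : p ∈ Nb D d) (hq : q ∈ Nb D d) (hpq : Commute p q) : p = q := by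
  by_contra hne
  obtain ⟨hG, -⟩ := Classes.of_class hD
  obtain ⟨g, gd, gp⟩ := Radical.exists_pair hsol hperf hD hd hp.1 hx htw.1.1 hp.2.2 htw.1.2.2
    hp.2.1 htw.1.2.1
  have h1 := (nb_conj_iff hG g).2 hq
  have h2 : q ∈ Nb D p := ⟨hq.1, Ne.symm hne, hpq⟩
  have h3 := (nb_conj_iff hG g).2 h2
  rw [gd] at h1
  rw [gp] at h3
  exact no_twin hsol hD hperf hx htw h1 h3

end

end Cfsg.Agent.ThreeTransp.OddLocal
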