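import Cfsg.Agent.Lib.ThreeTransp.M22Prime.Prime
import Cfsg.Agent.GenA.Tower.Proj

/-!
Subgroups of odd prime order centralising a member, seen in the local quotient.
-/

set_option autoImplicit false
set_option linter.unusedSectionVars false

namespace Cfsg.Agent.ThreeTransp.PrimeLift

open Cfsg.Agent.ThreeTransp
open Cfsg.Agent.ThreeTransp.Factor (nb Hd mem_Hd Sd Dq Dl Sep)
open Cfsg.Agent.ThreeTransp.M22Prime
open Cfsg.Agent.GenA.Tower (pr pr_mk pr_mul pr_mem pr_inj pr_inv image_nb_pr)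

universe u

variable {G : Type u} [Group G] [Finite G] {D : Set G}

/-- What is needed at a member: its centraliser is `Hd D a`, with centre generated by `a`. -/
structure At (D : Set G) (a : G) : Prop where
  mem : a ∈ D
  cent : Subgroup.centralizer ({a} : Set G) = Hd D a
  center : Subgroup.center ↥(Hd D a) = (Subgroup.zpowers a).subgroupOf (Hd D a)
  sep : Sep D a

/-- The image of a subgroup in the local quotient. -/
def image (D : Set G) (a : G) (X : Subgroup G) : Subgroup (Sd D a) :=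
  (X.subgroupOf (Hd D a)).map (QuotientGroup.mk' (Subgroup.center ↥(Hd D a)))

variable (hD : Cfsg.IsThreeTranspositionGroup D) {a : G} (A : At D a)

include A in
theorem le_Hd {X : Subgroup G} (hXa : a ∈ fixIn D X) : X ≤ Hd D a := by
  rw [← A.cent]
  exact fun x hx => fun y hy => by rw [Set.mem_singleton_iff.1 hy]; exact (hXa.2 x hx).symm

include A in
theorem self_mem : a ∈ Hd D a := by
  rw [← A.cent]
  exact fun x hx => by rw [Set.mem_singleton_iff.1 hx]

include hD A

theorem card_ker : Nat.card ↥(QuotientGroup.mk' (Subgroup.center ↥(Hd D a))).ker = 2 := by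
  rw [QuotientGroup.ker_mk', A.center, Nat.card_congr (Subgroup.subgroupOfEquivOfLe
    (Subgroup.zpowers_le.2 (self_mem A))).toEquiv, Nat.card_zpowers, hD.1.1 a A.mem]

theorem coprime_ker {p : ℕ} [Fact p.Prime] (hp : p ≠ 2) :
    (Nat.card ↥(QuotientGroup.mk' (Subgroup.center ↥(Hd D a))).ker).Coprime p := by
  rw [card_ker hD A]; exact (Nat.coprime_primes Nat.prime_two Fact.out).2 hp.symm

variable {p : ℕ} [Fact p.Prime] (hp : p ≠ 2) {X : Subgroup G} (hX : Nat.card ↥X = p)
  (hXa : a ∈ fixIn D X)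

include hp hX hXa

theorem card_sub : Nat.card ↥(X.subgroupOf (Hd D a)) = p := by
  rw [Nat.card_congr (Subgroup.subgroupOfEquivOfLe (le_Hd A hXa)).toEquiv, hX]

theorem card_image : Nat.card ↥(image D a X) = p :=
  card_map_of_prime _ (coprime_ker hD A hp) (card_sub hD A hp hX hXa)

/-- Normaliser and centraliser inside the centraliser of a fixed member. -/
theorem card_at :
    Nat.card ↥(Subgroup.normalizer (X : Set G) ⊓ Subgroup.centralizer ({a} : Set G)) =
        2 * Nat.card ↥(Subgroup.normalizer ((image D a X : Subgroup (Sd D a)) : Set (Sd D a))) ∧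
      Nat.card ↥(Subgroup.centralizer (X : Set G) ⊓ Subgroup.centralizer ({a} : Set G)) =
        2 * Nat.card ↥(Subgroup.centralizer ((image D a X : Subgroup (Sd D a)) : Set (Sd D a))) := by
  obtain ⟨hN, hC⟩ := card_lift _ (QuotientGroup.mk'_surjective _)
    (le_of_eq (QuotientGroup.ker_mk' _)) (coprime_ker hD A hp) (card_sub hD A hp hX hXa)
  rw [card_ker hD A] at hN hC
  rw [A.cent]
  refine ⟨?_, ?_⟩
  · rw [image, ← hN, ← Nat.card_congr (Subgroup.subgroupOfEquivOfLe
      (inf_le_right : Subgroup.normalizer (X : Set G) ⊓ Hd D a ≤ Hd D a)).toEquiv,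
      Subgroup.inf_subgroupOf_right, Subgroup.subgroupOf_normalizer_eq (le_Hd A hXa)]
  · rw [image, ← hC, ← Nat.card_congr (Subgroup.subgroupOfEquivOfLe
      (inf_le_right : Subgroup.centralizer (X : Set G) ⊓ Hd D a ≤ Hd D a)).toEquiv,
      Subgroup.inf_subgroupOf_right]
    suffices e : (Subgroup.centralizer (X : Set G)).subgroupOf (Hd D a) =
        Subgroup.centralizer ((X.subgroupOf (Hd D a) : Subgroup ↥(Hd D a)) : Set ↥(Hd D a)) by
      rw [e]
    ext g
    rw [Subgroup.mem_subgroupOf, Subgroup.mem_centralizer_iff, Subgroup.mem_centralizer_iff]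
    exact ⟨fun h x hx => Subtype.ext (h x.1 hx),
      fun h x hx => congrArg Subtype.val (h ⟨x, le_Hd A hXa hx⟩ hx)⟩

/-- The fixed neighbours are the fixed members of the local quotient. -/
theorem image_fix : pr D a '' fixIn (nb D a) X = fixIn (Dq D a) (image D a X) := by
  ext y
  constructor
  · rintro ⟨z, hz, rfl⟩
    refine ⟨pr_mem hz.1, ?_⟩
    rintro _ ⟨⟨x, hxH⟩, hx, rfl⟩
    rw [pr_mk (mem_Hd hz.1)]
    exact ((show Commute (⟨x, hxH⟩ : ↥(Hd D a)) ⟨z, mem_Hd hz.1⟩ from
      Subtype.ext (hz.2 x hx)).map (QuotientGroup.mk' _)).eq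
  · rintro ⟨hy, hc⟩
    rw [← image_nb_pr] at hy
    obtain ⟨z, hz, rfl⟩ := hy
    refine ⟨z, ⟨hz, fun x hx => ?_⟩, rfl⟩
    have hxH := le_Hd A hXa hx
    have hz' : x * z * x⁻¹ ∈ nb D a := by
      have hxa : x * a * x⁻¹ = a := mul_inv_eq_iff_eq_mul.2 (hXa.2 x hx)
      refine ⟨hD.2.1 x z hz.1, fun e => hz.2.1 (mul_left_cancel (mul_right_cancel
        (e.trans hxa.symm))), ?_⟩
      have := (Commute.conj_iff x).2 hz.2.2
      rwa [hxa] at this
    have e : pr D a (x * z * x⁻¹) = pr D a z := by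
      rw [pr_mul (mul_mem hxH (mem_Hd hz)) (inv_mem hxH), pr_mul hxH (mem_Hd hz), pr_inv hxH,
        mul_inv_eq_iff_eq_mul]
      refine hc _ ⟨⟨x, hxH⟩, hx, ?_⟩
      rw [pr_mk hxH]; rfl
    exact mul_inv_eq_iff_eq_mul.1 (pr_inj A.sep hz' hz e)

theorem ncard_fix : (fixIn (nb D a) X).ncard = (fixIn (Dq D a) (image D a X)).ncard := by
  rw [← image_fix hD A hp hX hXa]
  exact (Set.InjOn.ncard_image fun x hx y hy h => pr_inj A.sep hx.1 hy.1 h).symm

/-- Subgroups with conjugate images are conjugate in the centraliser. -/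
theorem conj_of_image {Y : Subgroup G} (hY : Nat.card ↥Y = p) (hYa : a ∈ fixIn D Y)
    (h : ∃ g : Sd D a, (image D a X).map (MulAut.conj g).toMonoidHom = image D a Y) :
    ∃ g ∈ Subgroup.centralizer ({a} : Set G), X.map (MulAut.conj g).toMonoidHom = Y := by
  obtain ⟨g, hg⟩ := h
  obtain ⟨g, rfl⟩ := QuotientGroup.mk'_surjective _ g
  refine ⟨g, by rw [A.cent]; exact g.2, Subgroup.eq_of_le_of_card_ge ?_ ?_⟩
  · rintro _ ⟨x, hx, rfl⟩
    have hxH := le_Hd A hXa hx
    obtain ⟨⟨y, hyH⟩, hy, e⟩ : QuotientGroup.mk' (Subgroup.center ↥(Hd D a))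
        (g * ⟨x, hxH⟩ * g⁻¹) ∈ image D a Y := by
      rw [← hg, map_mul, map_mul, map_inv]
      exact ⟨_, ⟨⟨x, hxH⟩, hx, rfl⟩, rfl⟩
    have hpow : ∀ (W : Subgroup G), Nat.card ↥W = p → ∀ w ∈ W, w ^ p = 1 := fun W hW w hw => by
      have := pow_card_eq_one' (x := (⟨w, hw⟩ : ↥W))
      rw [hW] at this
      exact congrArg Subtype.val this
    have := eq_of_map_eq _ (le_of_eq (QuotientGroup.ker_mk' _)) (coprime_ker hD A hp)
      (show (⟨y, hyH⟩ : ↥(Hd D a)) ^ p = 1 from Subtype.ext (hpow Y hY y hy))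
      (by rw [← MulAut.conj_apply, ← map_pow,
        show (⟨x, hxH⟩ : ↥(Hd D a)) ^ p = 1 from Subtype.ext (hpow X hX x hx), map_one]) e
    show (g : G) * x * (g : G)⁻¹ ∈ Y
    rw [show (g : G) * x * (g : G)⁻¹ = y from (congrArg Subtype.val this).symm]
    exact hy
  · rw [hY, Subgroup.card_map_of_injective (MulAut.conj (g : G)).injective, hX]

end Cfsg.Agent.ThreeTransp.PrimeLift
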