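import Cfsg.Agent.Lib.ThreeTransp.Classes

/-!
The lines of a set of 3-transpositions form a Fischer space: two lines through a point generate a
dual affine plane of order two or an affine plane of order three.
-/

set_option autoImplicit false

namespace Cfsg.Agent.ThreeTransp.Planes

open Cfsg.Agent.ThreeTransp

/-- Recognition of the subspace generated by two lines. -/
theorem isomorphic_span {X P : Type*} (L : Set (Set X)) (M : Set (Set P))
    (hpl : Cfsg.LineSystem.IsPartialLinear L)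
    (h2 : ∀ l ∈ L, ∀ x ∈ l, ∃ y ∈ l, y ≠ x) (hempty : ∀ l ∈ L, ¬ ¬ l.Nonempty) (φ : P → X) (hφ : Function.Injective φ)
    (himg : ∀ m ∈ M, φ '' m ∈ L)
    (hcov : ∀ p q : P, p ≠ q → (∃ l ∈ L, φ p ∈ l ∧ φ q ∈ l) → ∃ m ∈ M, p ∈ m ∧ q ∈ m)
    (T : Set X) (hT : T ⊆ Set.range φ)
    (hgen : ∀ S, T ⊆ S → Cfsg.LineSystem.IsSubspace L S → Set.range φ ⊆ S) :
    Cfsg.LineSystem.Isomorphic (Cfsg.LineSystem.restrict L (Cfsg.LineSystem.span L T)) M := by
  have hsub : Cfsg.LineSystem.IsSubspace L (Set.range φ) := by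
    rintro l hl _ ⟨p, rfl⟩ _ ⟨q, rfl⟩ hne hp hq
    obtain ⟨m, hm, hpm, hqm⟩ := hcov p q (fun h => hne (congrArg φ h)) ⟨l, hl, hp, hq⟩
    rw [hpl l hl _ (himg m hm) _ _ hne hp hq ⟨p, hpm, rfl⟩ ⟨q, hqm, rfl⟩]
    exact Set.image_subset_range φ m
  have hspan : Cfsg.LineSystem.span L T = Set.range φ :=
    Set.Subset.antisymm (Set.sInter_subset_of_mem ⟨hT, hsub⟩)
      (Set.subset_sInter fun S hS => hgen S hS.1 hS.2)
  rw [hspan]
  refine ⟨(Equiv.ofInjective φ hφ).symm, fun k => ?_⟩
  have key : ∀ m : Set P, (Equiv.ofInjective φ hφ).symm '' {x : Set.range φ | (x : X) ∈ φ '' m} = m := by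
    intro m
    ext p
    constructor
    · rintro ⟨⟨_, q, rfl⟩, hq, hqp⟩
      rw [Equiv.ofInjective_symm_apply] at hqp
      subst hqp
      exact (hφ.mem_set_image).1 hq
    · intro hp
      exact ⟨⟨φ p, p, rfl⟩, ⟨p, hp, rfl⟩, Equiv.ofInjective_symm_apply hφ p⟩
  constructor
  · rintro ⟨l, hl, hlS, rfl⟩
    by_cases hne : l.Nonempty
    · obtain ⟨x, hx⟩ := hne
      obtain ⟨y, hy, hyx⟩ := h2 l hl x hx
      obtain ⟨p, rfl⟩ := hlS hx
      obtain ⟨q, rfl⟩ := hlS hy
      obtain ⟨m, hm, hpm, hqm⟩ := hcov p q (fun h => hyx (congrArg φ h.symm)) ⟨l, hl, hx, hy⟩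
      rw [hpl l hl _ (himg m hm) _ _ (Ne.symm hyx) hx hy ⟨p, hpm, rfl⟩ ⟨q, hqm, rfl⟩, key]
      exact hm
    · exfalso
      exact hempty l hl hne
  · intro hk
    refine ⟨φ '' ((Equiv.ofInjective φ hφ).symm '' k), himg _ hk, Set.image_subset_range φ _, ?_⟩
    apply (Equiv.ofInjective φ hφ).symm.injective.image_injective
    exact (key _).symm

section Lines

variable {G : Type*} [Group G] {D : Set G} (hD : Cfsg.IsThreeTranspositionGroup D)
include hD

/-- A line is determined by any two of its points. -/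
theorem line_eq {l : Set D} (hl : l ∈ Cfsg.threeTranspositionLines D) {p q : D} (hp : p ∈ l)
    (hq : q ∈ l) (hne : p ≠ q) :
    ¬ Commute (p : G) (q : G) ∧
      l = {z : D | (z : G) = p ∨ (z : G) = q ∨ (z : G) = (p : G) * q * p} := by
  obtain ⟨x, y, hxy, rfl⟩ := hl
  obtain ⟨n1, n2, i1, i2, i3, i4⟩ := Classes.triangle hD x.2 y.2 hxy
  have hb := Basic.braid hD.1 x.2 y.2 hxy
  rw [Set.mem_setOf_eq, Classes.inv hD y.2, ← hb] at hp hq
  have hne' : (p : G) ≠ q := fun h => hne (Subtype.ext h)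
  refine ⟨fun hc => ?_, Set.ext fun z => ?_⟩
  · rcases hp with hp | hp | hp <;> rcases hq with hq | hq | hq <;> rw [hp, hq] at hc hne' <;>
      first
        | exact hne' rfl
        | exact hxy hc
        | exact hxy hc.symm
        | exact n1 hc
        | exact n1 hc.symm
        | exact n2 hc
        | exact n2 hc.symm
  · rw [Set.mem_setOf_eq, Set.mem_setOf_eq, Classes.inv hD y.2, ← hb]
    rcases hp with hp | hp | hp <;> rcases hq with hq | hq | hq <;> rw [hp, hq] at hne' ⊢ <;>
      first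
        | exact absurd rfl hne'
        | (rw [i3]; tauto)
        | (rw [i4]; tauto)
        | (rw [i1]; tauto)
        | (rw [i2]; tauto)
        | (rw [← hb]; tauto)
        | tauto

theorem line_ncard {l : Set D} (hl : l ∈ Cfsg.threeTranspositionLines D) : l.ncard = 3 := by
  obtain ⟨x, y, hxy, rfl⟩ := hl
  obtain ⟨n1, n2, -, -, -, -⟩ := Classes.triangle hD x.2 y.2 hxy
  have hb := Basic.braid hD.1 x.2 y.2 hxy
  let z : D := ⟨(x : G) * y * x, Classes.conj_mem hD x.2 y.2⟩
  have e : {w : D | (w : G) = x ∨ (w : G) = y ∨ (w : G) = (y : G) * x * (y : G)⁻¹} = {x, y, z} := by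
    ext w
    rw [Set.mem_setOf_eq, Classes.inv hD y.2, ← hb]
    simp [Subtype.ext_iff, z]
  rw [e, Set.ncard_eq_three]
  refine ⟨x, y, z, fun h => hxy (h ▸ Commute.refl _), fun h => n1 ?_, fun h => n2 ?_, rfl⟩
  · rw [← show (x : G) = x * y * x from congrArg Subtype.val h]
  · rw [← show (y : G) = x * y * x from congrArg Subtype.val h]

theorem partialLinear : Cfsg.LineSystem.IsPartialLinear (Cfsg.threeTranspositionLines D) :=
  fun _l hl _m hm p q hne hpl hql hpm hqm =>
    (line_eq hD hl hpl hql hne).2.trans (line_eq hD hm hpm hqm hne).2.symm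

theorem line_mem {p q : D} (h : ¬ Commute (p : G) (q : G)) :
    {z : D | (z : G) = p ∨ (z : G) = q ∨ (z : G) = (p : G) * q * p} ∈
      Cfsg.threeTranspositionLines D :=
  ⟨p, q, h, by rw [Classes.inv hD q.2, Basic.braid hD.1 p.2 q.2 h]⟩

theorem third_mem {S : Set D} (hS : Cfsg.LineSystem.IsSubspace (Cfsg.threeTranspositionLines D) S)
    {p q r : D} (hp : p ∈ S) (hq : q ∈ S) (h : ¬ Commute (p : G) (q : G))
    (hr : (r : G) = (p : G) * q * p) : r ∈ S :=
  hS _ (line_mem hD h) p hp q hq (fun e => h (e ▸ Commute.refl _)) (Or.inl rfl) (Or.inr (Or.inl rfl))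
    (Or.inr (Or.inr hr))

/-- Two lines with commuting ends span a dual affine plane. -/
theorem dual_case {a b e : D} (hab : ¬ Commute (a : G) b) (hae : ¬ Commute (a : G) e)
    (hbe : Commute (b : G) e) (hne : b ≠ e) :
    Cfsg.LineSystem.Isomorphic
      (Cfsg.LineSystem.restrict (Cfsg.threeTranspositionLines D)
        (Cfsg.LineSystem.span (Cfsg.threeTranspositionLines D)
          ({z : D | (z : G) = a ∨ (z : G) = b ∨ (z : G) = (a : G) * b * a} ∪
            {z : D | (z : G) = a ∨ (z : G) = e ∨ (z : G) = (a : G) * e * a})))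
      Cfsg.dualAffinePlaneTwo := by
  obtain ⟨ac, bc, i1, i2, -, -⟩ := Classes.triangle hD a.2 b.2 hab
  obtain ⟨af, ef, j1, j2, -, -⟩ := Classes.triangle hD a.2 e.2 hae
  have ca := WidthOne.mul_mul_cancel_left (Classes.sq hD a.2)
  have hba := Basic.braid hD.1 a.2 b.2 hab
  have hea := Basic.braid hD.1 a.2 e.2 hae
  let c : D := ⟨(a : G) * b * a, Classes.conj_mem hD a.2 b.2⟩
  let f : D := ⟨(a : G) * e * a, Classes.conj_mem hD a.2 e.2⟩
  let g : D := ⟨(e : G) * c * e, Classes.conj_mem hD e.2 c.2⟩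
  have hcf : Commute (c : G) f := by
    have := (Basic.commute_conj (g := (a : G))).2 hbe
    rwa [Classes.inv hD a.2] at this
  have ec : ¬ Commute (e : G) c := fun h => by
    have h' := (hbe.symm.mul_right h).mul_right hbe.symm
    rw [show (b : G) * c * b = a from i2] at h'
    exact hae h'.symm
  have bf : ¬ Commute (b : G) f := fun h => by
    have h' := (hbe.mul_right h).mul_right hbe
    rw [show (e : G) * f * e = a from j2] at h'
    exact hab h'.symm
  obtain ⟨eg, cg, -, -, -, -⟩ := Classes.triangle hD e.2 c.2 ec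
  have hg : (g : G) = b * f * b := by
    calc (g : G) = e * (b * a * b) * e := by rw [← hba]
      _ = (e * b) * a * (b * e) := by simp [mul_assoc]
      _ = (b * e) * a * (e * b) := by rw [hbe.eq]
      _ = b * (e * a * e) * b := by simp [mul_assoc]
      _ = b * f * b := by rw [← hea]
  obtain ⟨bg, fg, -, -, -, -⟩ := Classes.triangle hD b.2 f.2 bf
  rw [← hg] at bg fg
  have hag : Commute (a : G) g := by
    show (a : G) * g = g * a
    have : (a : G) * g * a = g := by
      calc (a : G) * g * a = ((a : G) * e * a) * b * (a * e * a) := by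
            show (a : G) * (e * (a * b * a) * e) * a = _
            simp [mul_assoc]
        _ = f * b * f := rfl
        _ = b * f * b := Basic.braid hD.1 f.2 b.2 fun h => bf h.symm
        _ = g := hg.symm
    nth_rewrite 2 [← this]
    simp [mul_assoc, Classes.sq hD a.2]
  have hag' : a ≠ g := fun h => hne (by
    have h1 : (a : G) = e * c * e := congrArg Subtype.val h
    have h2 : (c : G) = f := by
      show (c : G) = (a : G) * e * a
      rw [hea]; nth_rewrite 1 [h1]
      simp [mul_assoc, WidthOne.mul_mul_cancel_left (Classes.sq hD e.2), Classes.sq hD e.2]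
    exact Subtype.ext (mul_left_cancel (mul_right_cancel h2)))
  have hcf' : c ≠ f := fun h => hne (Subtype.ext
    (mul_left_cancel (mul_right_cancel (congrArg Subtype.val h))))
  let φ : Cfsg.DualAffinePoint → D := fun s =>
    if s.val = {0, 1} then a else if s.val = {0, 2} then b else if s.val = {1, 2} then c
    else if s.val = {1, 3} then e else if s.val = {0, 3} then f else g
  have hcases : ∀ s : Cfsg.DualAffinePoint, s.val = {0, 1} ∨ s.val = {0, 2} ∨ s.val = {1, 2} ∨
      s.val = {1, 3} ∨ s.val = {0, 3} ∨ s.val = {2, 3} := by decide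
  have nn : ∀ {p q : D}, ¬ Commute (p : G) (q : G) → p ≠ q := fun h e => h (e ▸ Commute.refl _)
  have hinj : Function.Injective φ := by
    intro s t hst
    rcases hcases s with hs | hs | hs | hs | hs | hs <;>
      rcases hcases t with ht | ht | ht | ht | ht | ht <;>
      simp [φ, hs, ht, Finset.ext_iff, Fin.forall_fin_succ] at hst <;>
      first
        | exact Subtype.ext (hs.trans ht.symm)
        | exact absurd hst (nn hab)
        | exact absurd hst.symm (nn hab)
        | exact absurd hst (nn hae)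
        | exact absurd hst.symm (nn hae)
        | exact absurd hst (nn ac)
        | exact absurd hst.symm (nn ac)
        | exact absurd hst (nn af)
        | exact absurd hst.symm (nn af)
        | exact absurd hst hag'
        | exact absurd hst.symm hag'
        | exact absurd hst hne
        | exact absurd hst.symm hne
        | exact absurd hst (nn bc)
        | exact absurd hst.symm (nn bc)
        | exact absurd hst (nn bf)
        | exact absurd hst.symm (nn bf)
        | exact absurd hst (nn bg)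
        | exact absurd hst.symm (nn bg)
        | exact absurd hst hcf'
        | exact absurd hst.symm hcf'
        | exact absurd hst (nn ec)
        | exact absurd hst.symm (nn ec)
        | exact absurd hst (nn cg)
        | exact absurd hst.symm (nn cg)
        | exact absurd hst (nn ef)
        | exact absurd hst.symm (nn ef)
        | exact absurd hst (nn eg)
        | exact absurd hst.symm (nn eg)
        | exact absurd hst (nn fg)
        | exact absurd hst.symm (nn fg)
  have L1 : {z : D | (z : G) = a ∨ (z : G) = b ∨ (z : G) = c} ∈ Cfsg.threeTranspositionLines D :=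
    line_mem hD hab
  have L2 : {z : D | (z : G) = a ∨ (z : G) = e ∨ (z : G) = f} ∈ Cfsg.threeTranspositionLines D :=
    line_mem hD hae
  have L3 : {z : D | (z : G) = e ∨ (z : G) = c ∨ (z : G) = g} ∈ Cfsg.threeTranspositionLines D :=
    line_mem hD ec
  have L4 : {z : D | (z : G) = b ∨ (z : G) = f ∨ (z : G) = g} ∈ Cfsg.threeTranspositionLines D := by
    rw [hg]; exact line_mem hD bf
  refine isomorphic_span _ _ (partialLinear hD) (fun l hl x hx => ?_)
    (fun l hl h => h (Set.nonempty_of_ncard_ne_zero (by rw [line_ncard hD hl]; norm_num))) φ ?_ ?_ ?_ _ ?_ ?_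
  · exact Set.exists_ne_of_one_lt_ncard (by rw [line_ncard hD hl]; norm_num) x
  · exact hinj
  · rintro m ⟨i, rfl⟩
    have key : ∀ (p q r : Cfsg.DualAffinePoint), (∀ s : Cfsg.DualAffinePoint,
        i ∉ s.val ↔ s = p ∨ s = q ∨ s = r) →
        {z : D | (z : G) = φ p ∨ (z : G) = φ q ∨ (z : G) = φ r} ∈ Cfsg.threeTranspositionLines D →
        φ '' {s | i ∉ s.val} ∈ Cfsg.threeTranspositionLines D := by
      intro p q r h hl
      convert hl using 1
      ext z
      simp only [Set.mem_image, Set.mem_setOf_eq, h, ← Subtype.ext_iff]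
      constructor
      · rintro ⟨s, rfl | rfl | rfl, rfl⟩ <;> tauto
      · rintro (rfl | rfl | rfl) <;> exact ⟨_, by tauto, rfl⟩
    fin_cases i
    · refine key ⟨{1, 3}, rfl⟩ ⟨{1, 2}, rfl⟩ ⟨{2, 3}, rfl⟩ (by decide) ?_
      simpa [φ, Finset.ext_iff, Fin.forall_fin_succ] using L3
    · refine key ⟨{0, 2}, rfl⟩ ⟨{0, 3}, rfl⟩ ⟨{2, 3}, rfl⟩ (by decide) ?_
      simpa [φ, Finset.ext_iff, Fin.forall_fin_succ] using L4
    · refine key ⟨{0, 1}, rfl⟩ ⟨{1, 3}, rfl⟩ ⟨{0, 3}, rfl⟩ (by decide) ?_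
      simpa [φ, Finset.ext_iff, Fin.forall_fin_succ] using L2
    · refine key ⟨{0, 1}, rfl⟩ ⟨{0, 2}, rfl⟩ ⟨{1, 2}, rfl⟩ (by decide) ?_
      simpa [φ, Finset.ext_iff, Fin.forall_fin_succ] using L1
  · rintro p q hpq ⟨l, hl, hpl, hql⟩
    by_contra hno
    have hne' : φ p ≠ φ q := fun h => hpq (hinj h)
    have hnc := (line_eq hD hl hpl hql hne').1
    have hpart : ∀ s t : Cfsg.DualAffinePoint, s ≠ t →
        (¬ ∃ m ∈ Cfsg.dualAffinePlaneTwo, s ∈ m ∧ t ∈ m) →
        (s.val = {0, 1} ∧ t.val = {2, 3}) ∨ (s.val = {2, 3} ∧ t.val = {0, 1}) ∨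
        (s.val = {0, 2} ∧ t.val = {1, 3}) ∨ (s.val = {1, 3} ∧ t.val = {0, 2}) ∨
        (s.val = {1, 2} ∧ t.val = {0, 3}) ∨ (s.val = {0, 3} ∧ t.val = {1, 2}) := by
      intro s t hst hn
      have hn' : s.val ∪ t.val = Finset.univ := by
        by_contra h
        obtain ⟨i, hi⟩ : ∃ i, i ∉ s.val ∪ t.val := by
          simpa [Finset.eq_univ_iff_forall] using h
        rw [Finset.mem_union, not_or] at hi
        exact hn ⟨_, ⟨i, rfl⟩, hi.1, hi.2⟩
      clear hn
      revert s t
      decide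
    rcases hpart p q hpq hno with ⟨h, k⟩ | ⟨h, k⟩ | ⟨h, k⟩ | ⟨h, k⟩ | ⟨h, k⟩ | ⟨h, k⟩ <;>
      simp [φ, h, k, Finset.ext_iff, Fin.forall_fin_succ] at hnc <;>
      first
        | exact hnc hag
        | exact hnc hag.symm
        | exact hnc hbe
        | exact hnc hbe.symm
        | exact hnc hcf
        | exact hnc hcf.symm
  · rintro z ((hz | hz | hz) | (hz | hz | hz))
    · exact ⟨⟨{0, 1}, rfl⟩, Subtype.ext (by simpa [φ] using hz.symm)⟩
    · exact ⟨⟨{0, 2}, rfl⟩, Subtype.ext (by simpa [φ, Finset.ext_iff, Fin.forall_fin_succ] using hz.symm)⟩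
    · exact ⟨⟨{1, 2}, rfl⟩, Subtype.ext (by simpa [φ, Finset.ext_iff, Fin.forall_fin_succ, c] using hz.symm)⟩
    · exact ⟨⟨{0, 1}, rfl⟩, Subtype.ext (by simpa [φ] using hz.symm)⟩
    · exact ⟨⟨{1, 3}, rfl⟩, Subtype.ext (by simpa [φ, Finset.ext_iff, Fin.forall_fin_succ] using hz.symm)⟩
    · exact ⟨⟨{0, 3}, rfl⟩, Subtype.ext (by simpa [φ, Finset.ext_iff, Fin.forall_fin_succ, f] using hz.symm)⟩
  · rintro S hTS hS _ ⟨s, rfl⟩
    have ha : a ∈ S := hTS (Or.inl (Or.inl rfl))
    have hb : b ∈ S := hTS (Or.inl (Or.inr (Or.inl rfl)))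
    have he : e ∈ S := hTS (Or.inr (Or.inr (Or.inl rfl)))
    have hc : c ∈ S := third_mem hD hS ha hb hab rfl
    have hf : f ∈ S := third_mem hD hS ha he hae rfl
    have hgS : g ∈ S := third_mem hD hS he hc ec rfl
    simp only [φ]
    split_ifs <;> assumption

/-- Two lines without commuting ends span an affine plane. -/
theorem affine_case {a b e : D} (hab : ¬ Commute (a : G) b) (hae : ¬ Commute (a : G) e)
    (hbe : ¬ Commute (b : G) e) (hbf : ¬ Commute (b : G) ((a : G) * e * a))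
    (hce : ¬ Commute ((a : G) * b * a) e) :
    Cfsg.LineSystem.Isomorphic
      (Cfsg.LineSystem.restrict (Cfsg.threeTranspositionLines D)
        (Cfsg.LineSystem.span (Cfsg.threeTranspositionLines D)
          ({z : D | (z : G) = a ∨ (z : G) = b ∨ (z : G) = (a : G) * b * a} ∪
            {z : D | (z : G) = a ∨ (z : G) = e ∨ (z : G) = (a : G) * e * a})))
      Cfsg.affinePlaneThree := by
  have hA : (a : G) * a = 1 := Classes.sq hD a.2
  have hai := Classes.inv hD a.2
  have hbi := Classes.inv hD b.2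
  have hei := Classes.inv hD e.2
  set x := (a : G) * b with hx
  set y := (a : G) * e with hy
  have x3 : x ^ 3 = 1 := Basic.cube_of_not_commute hD.1 a.2 b.2 hab
  have y3 : y ^ 3 = 1 := Basic.cube_of_not_commute hD.1 a.2 e.2 hae
  have hxi : x⁻¹ = b * a := by rw [hx, mul_inv_rev, hai, hbi]
  have hyi : y⁻¹ = e * a := by rw [hy, mul_inv_rev, hai, hei]
  set W := x⁻¹ * y⁻¹ * x * y with hW
  have hrel1 : y⁻¹ * x = e * b := by
    rw [hyi, hx, mul_assoc, WidthOne.mul_mul_cancel_left hA]
  have cx : Commute x W := by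
    refine WidthOneCert.commute_comm ?_ ?_ y3
    · rw [show y * x = ((a : G) * e * a) * b by rw [hx, hy]; simp [mul_assoc]]
      exact Basic.cube_of_not_commute hD.1 (Classes.conj_mem hD a.2 e.2) b.2 fun h => hbf h.symm
    · rw [hrel1]
      exact Basic.cube_of_not_commute hD.1 e.2 b.2 fun h => hbe h.symm
  have cy : Commute y W := by
    have h : Commute y (y⁻¹ * x⁻¹ * y * x) := by
      refine WidthOneCert.commute_comm ?_ ?_ x3
      · rw [show x * y = ((a : G) * b * a) * e by rw [hx, hy]; simp [mul_assoc]]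
        exact Basic.cube_of_not_commute hD.1 (Classes.conj_mem hD a.2 b.2) e.2 hce
      · rw [hxi, hy, show (b : G) * a * (a * e) = b * e by rw [mul_assoc, WidthOne.mul_mul_cancel_left hA]]
        exact Basic.cube_of_not_commute hD.1 b.2 e.2 hbe
    rw [show W = (y⁻¹ * x⁻¹ * y * x)⁻¹ by rw [hW]; group]
    exact h.inv_right
  have hxy : x * y = y * x * W := by rw [hW]; group
  have W3 : W ^ 3 = 1 := by
    have h1 : y⁻¹ * x * y = x * W := by rw [mul_assoc, hxy]; group
    have h2 : (y⁻¹ * x * y) ^ 3 = 1 := by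
      have := conj_pow (a := y⁻¹) (b := x) (i := 3)
      rw [inv_inv, x3, mul_one, inv_mul_cancel] at this
      exact this
    rw [h1, cx.mul_pow, x3, one_mul] at h2
    exact h2
  have hyx : y * x = x * y * W ^ 2 := by rw [hxy, mul_assoc (y * x), ← pow_succ', W3, mul_one]
  have yj : ∀ j : ℕ, y ^ j * x = x * (y ^ j * W ^ (2 * j)) := by
    intro j
    induction j with
    | zero => simp
    | succ j ih =>
      calc y ^ (j + 1) * x = y ^ j * (y * x) := by rw [pow_succ, mul_assoc]
        _ = (y ^ j * x) * (y * W ^ 2) := by rw [hyx]; simp [mul_assoc]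
        _ = x * (y ^ j * (W ^ (2 * j) * y) * W ^ 2) := by rw [ih]; simp [mul_assoc]
        _ = x * (y ^ (j + 1) * W ^ (2 * (j + 1))) := by
          rw [← (cy.pow_right (2 * j)).eq, show 2 * (j + 1) = 2 * j + 2 by omega, pow_add W,
            pow_succ y]
          simp only [mul_assoc]
  have yje : ∀ j k : ℕ, y ^ j * x ^ k = x ^ k * (y ^ j * W ^ (2 * j * k)) := by
    intro j k
    induction k with
    | zero => simp
    | succ k ih =>
      calc y ^ j * x ^ (k + 1) = (y ^ j * x ^ k) * x := by rw [pow_succ, mul_assoc]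
        _ = x ^ k * ((y ^ j * x) * W ^ (2 * j * k)) := by
          rw [ih, mul_assoc, mul_assoc, ← (cx.pow_right (2 * j * k)).eq]; simp [mul_assoc]
        _ = x ^ (k + 1) * (y ^ j * W ^ (2 * j * (k + 1))) := by
          rw [yj, pow_succ, mul_add, mul_one, add_comm (2 * j * k), pow_add]
          simp [mul_assoc]
  -- coordinates
  let E : ZMod 3 → ZMod 3 → ZMod 3 → G := fun i j k => x ^ i.val * (y ^ j.val * W ^ k.val)
  have hval : ∀ (u : G), u ^ 3 = 1 → ∀ n : ℕ, u ^ ((n : ZMod 3)).val = u ^ n := by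
    intro u hu n
    rw [ZMod.val_natCast]
    exact (pow_eq_pow_mod n hu).symm
  have hE : ∀ i j k i' j' k' : ZMod 3, E i j k * E i' j' k' = E (i + i') (j + j') (k + k' + 2 * j * i') := by
    intro i j k i' j' k'
    have c1 : (i + i' : ZMod 3) = ((i.val + i'.val : ℕ) : ZMod 3) := by simp
    have c2 : (j + j' : ZMod 3) = ((j.val + j'.val : ℕ) : ZMod 3) := by simp
    have c3 : (k + k' + 2 * j * i' : ZMod 3) =
        ((k.val + k'.val + 2 * j.val * i'.val : ℕ) : ZMod 3) := by simp
    show x ^ i.val * (y ^ j.val * W ^ k.val) * (x ^ i'.val * (y ^ j'.val * W ^ k'.val)) = _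
    simp only [E]
    rw [c1, c2, c3, hval x x3, hval y y3, hval W W3]
    calc x ^ i.val * (y ^ j.val * W ^ k.val) * (x ^ i'.val * (y ^ j'.val * W ^ k'.val))
        = x ^ i.val * (y ^ j.val * (W ^ k.val * x ^ i'.val) * (y ^ j'.val * W ^ k'.val)) := by
          simp [mul_assoc]
      _ = x ^ i.val * ((y ^ j.val * x ^ i'.val) * W ^ k.val * (y ^ j'.val * W ^ k'.val)) := by
          rw [← (cx.pow_pow i'.val k.val).eq]; simp [mul_assoc]
      _ = x ^ i.val * x ^ i'.val * (y ^ j.val * (W ^ (2 * j.val * i'.val + k.val) * y ^ j'.val) *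
            W ^ k'.val) := by rw [yje, pow_add]; simp [mul_assoc]
      _ = x ^ i.val * x ^ i'.val * (y ^ j.val * y ^ j'.val *
            (W ^ (2 * j.val * i'.val + k.val) * W ^ k'.val)) := by
          rw [← (cy.pow_pow j'.val (2 * j.val * i'.val + k.val)).eq]; simp [mul_assoc]
      _ = _ := by
          rw [← pow_add, ← pow_add, ← pow_add,
            show k.val + k'.val + 2 * j.val * i'.val = 2 * j.val * i'.val + k.val + k'.val by omega]
  have hE0 : E 0 0 0 = 1 := by simp [E]
  -- conjugation by `a`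
  have hca : Commute (a : G) W := by
    have h1 : (a : G) * W = (x * y * x⁻¹ * y⁻¹) * a := by
      rw [hW, hxi, hyi, hx, hy]; simp [mul_assoc, hA, WidthOne.mul_mul_cancel_left hA]
    have h2 : x * y * x⁻¹ * y⁻¹ = W := by
      calc x * y * x⁻¹ * y⁻¹ = (x * y) * (x⁻¹ * y⁻¹ * x * y) * (x * y)⁻¹ := by group
        _ = W := by rw [← hW, (cx.mul_left cy).eq, mul_inv_cancel_right]
    rw [h2] at h1
    exact h1
  have haE : ∀ i j k : ZMod 3, (a : G) * E i j k * (a : G)⁻¹ = E (-i) (-j) k := by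
    intro i j k
    have e1 : ∀ (u : G), u ^ 3 = 1 → ∀ z : ZMod 3, u⁻¹ ^ z.val = u ^ (-z).val := by
      intro u hu z
      rw [inv_pow]
      refine inv_eq_of_mul_eq_one_left ?_
      rw [← pow_add, ← hval u hu, Nat.cast_add, ZMod.natCast_val, ZMod.natCast_val, ZMod.cast_id,
        ZMod.cast_id, neg_add_cancel, ZMod.val_zero, pow_zero]
    have ax : (a : G) * x * (a : G)⁻¹ = x⁻¹ := by rw [hxi, hx, hai, ← mul_assoc, hA, one_mul]
    have ay : (a : G) * y * (a : G)⁻¹ = y⁻¹ := by rw [hyi, hy, hai, ← mul_assoc, hA, one_mul]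
    have aW : (a : G) * W * (a : G)⁻¹ = W := by rw [hca.eq, mul_inv_cancel_right]
    calc (a : G) * E i j k * (a : G)⁻¹ = ((a : G) * x ^ i.val * (a : G)⁻¹) *
          (((a : G) * y ^ j.val * (a : G)⁻¹) * ((a : G) * W ^ k.val * (a : G)⁻¹)) := by
          simp only [E]; group
      _ = _ := by rw [← conj_pow, ← conj_pow, ← conj_pow, ax, ay, aW, e1 x x3, e1 y y3]
  let φ : (Fin 2 → ZMod 3) → D := fun v =>
    ⟨E (v 0) (v 1) 0 * a * (E (v 0) (v 1) 0)⁻¹, hD.2.1 _ _ a.2⟩
  have hWconj : ∀ i j k : ZMod 3, E i j k * a * (E i j k)⁻¹ = E i j 0 * a * (E i j 0)⁻¹ := by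
    intro i j k
    have h1 : E i j k = E i j 0 * E 0 0 k := by rw [hE]; simp
    have h2 : E 0 0 k = W ^ k.val := by simp [E]
    rw [h1, h2]
    calc E i j 0 * W ^ k.val * a * (E i j 0 * W ^ k.val)⁻¹
        = E i j 0 * (W ^ k.val * a * (W ^ k.val)⁻¹) * (E i j 0)⁻¹ := by group
      _ = _ := by rw [← (hca.pow_right k.val).eq, mul_inv_cancel_right]
  -- every point is a translate
  have hrel : ∀ v w : Fin 2 → ZMod 3, (φ w : G) =
      E (v 0) (v 1) 0 * (φ (w - v) : G) * (E (v 0) (v 1) 0)⁻¹ := by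
    intro v w
    show E (w 0) (w 1) 0 * a * (E (w 0) (w 1) 0)⁻¹ =
      E (v 0) (v 1) 0 * (E (w 0 - v 0) (w 1 - v 1) 0 * a * (E (w 0 - v 0) (w 1 - v 1) 0)⁻¹) *
        (E (v 0) (v 1) 0)⁻¹
    rw [show E (v 0) (v 1) 0 * (E (w 0 - v 0) (w 1 - v 1) 0 * a * (E (w 0 - v 0) (w 1 - v 1) 0)⁻¹) *
        (E (v 0) (v 1) 0)⁻¹ = (E (v 0) (v 1) 0 * E (w 0 - v 0) (w 1 - v 1) 0) * a *
          (E (v 0) (v 1) 0 * E (w 0 - v 0) (w 1 - v 1) 0)⁻¹ by group, hE]
    simp [hWconj]
  -- only the origin gives `a`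
  have hfix : ∀ v : Fin 2 → ZMod 3, (φ v : G) = a → v = 0 := by
    intro v hv
    have h1 : E (v 0) (v 1) 0 = E (-(v 0)) (-(v 1)) 0 := by
      rw [← haE]
      have h := mul_inv_eq_iff_eq_mul.1 (show E (v 0) (v 1) 0 * a * (E (v 0) (v 1) 0)⁻¹ = a from hv)
      rw [← h, mul_inv_cancel_right]
    have h2 := congrArg (fun t => E (v 0) (v 1) 0 * t) h1
    simp only [hE] at h2
    obtain ⟨k, hk⟩ : ∃ k, E (v 0 + v 0) (v 1 + v 1) k = 1 := by
      refine ⟨2 * v 1 * v 0 - (2 * v 1 * -(v 0)), ?_⟩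
      have h3 := congrArg (fun t => t * E 0 0 (- (2 * v 1 * -(v 0)))) h2
      simp only [hE] at h3
      simpa [sub_eq_add_neg, hE0] using h3
    -- no nontrivial element of this shape is trivial
    have key : ∀ i j : ZMod 3, (∃ k, E i j k = 1) → i = 0 ∧ j = 0 := by
      rintro i j ⟨k, hk⟩
      have hW1 : i ≠ 0 → W = 1 := by
        intro hi
        have hc : Commute y (x ^ i.val) := by
          have h : x ^ i.val = (y ^ j.val * W ^ k.val)⁻¹ := eq_inv_of_mul_eq_one_left hk
          rw [h]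
          exact (((Commute.refl y).pow_right _).mul_right (cy.pow_right _)).inv_right
        have hxc : Commute y x := by
          have h2 : (i.val = 1 ∨ i.val = 2) := by
            have := ZMod.val_lt i
            have : i.val ≠ 0 := (ZMod.val_ne_zero i).2 hi
            omega
          rcases h2 with h2 | h2 <;> rw [h2] at hc
          · rwa [pow_one] at hc
          · have := hc.pow_right 2
            rwa [← pow_mul, show 2 * 2 = 3 + 1 from rfl, pow_succ, x3, one_mul] at this
        rw [hW, mul_assoc, ← hxc.eq]; group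
      by_cases hi : i = 0
      · refine ⟨hi, ?_⟩
        subst hi
        by_contra hj
        have hc : Commute (a : G) (y ^ j.val) := by
          have h : y ^ j.val = (W ^ k.val)⁻¹ := eq_inv_of_mul_eq_one_left (by simpa [E] using hk)
          rw [h]; exact (hca.pow_right _).inv_right
        have hy1 : Commute (a : G) y := by
          have h2 : (j.val = 1 ∨ j.val = 2) := by
            have := ZMod.val_lt j
            have : j.val ≠ 0 := (ZMod.val_ne_zero j).2 hj
            omega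
          rcases h2 with h2 | h2 <;> rw [h2] at hc
          · rwa [pow_one] at hc
          · have := hc.pow_right 2
            rwa [← pow_mul, show 2 * 2 = 3 + 1 from rfl, pow_succ, y3, one_mul] at this
        refine hae ?_
        have := (Commute.refl (a : G)).mul_right hy1
        rwa [hy, WidthOne.mul_mul_cancel_left hA] at this
      exfalso
      have hW' := hW1 hi
      have hk' : x ^ i.val * y ^ j.val = 1 := by simpa [E, hW'] using hk
      have := ZMod.val_lt i
      have := ZMod.val_lt j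
      have hi0 : i.val ≠ 0 := (ZMod.val_ne_zero i).2 hi
      have hx0 : x ≠ 1 := fun h => hab (by
        rw [← hbi, ← eq_inv_of_mul_eq_one_left h])
      have hx2 : x * x = x⁻¹ := eq_inv_of_mul_eq_one_left (by rw [← x3]; simp [pow_succ])
      have hy2 : y * y = y⁻¹ := eq_inv_of_mul_eq_one_left (by rw [← y3]; simp [pow_succ])
      have case1 : x ≠ y := fun h => hbe (by
        rw [show (b : G) = e from mul_left_cancel h])
      have case2 : x ≠ y⁻¹ := fun h => hbf (by
        rw [hyi] at h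
        rw [show (b : G) = a * e * a by
          rw [← WidthOne.mul_mul_cancel_left hA (b : G), ← hx, h, mul_assoc]])
      have hi' : i.val = 1 ∨ i.val = 2 := by omega
      have hj' : j.val = 0 ∨ j.val = 1 ∨ j.val = 2 := by omega
      rcases hi' with hi' | hi' <;> rcases hj' with hj' | hj' | hj' <;>
        simp only [hi', hj', pow_zero, pow_one, pow_two, mul_one, hx2, hy2] at hk'
      · exact hx0 hk'
      · exact case2 (eq_inv_of_mul_eq_one_left hk')
      · exact case1 (mul_inv_eq_one.1 hk')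
      · exact hx0 (inv_eq_one.1 hk')
      · exact case1 (inv_mul_eq_one.1 hk')
      · exact case2 (inv_injective (eq_inv_of_mul_eq_one_left hk'))
    obtain ⟨k0, k1⟩ := key _ _ ⟨k, hk⟩
    funext t
    have hdbl : ∀ z : ZMod 3, z + z = 0 → z = 0 := by decide
    fin_cases t
    · exact hdbl _ k0
    · exact hdbl _ k1
  have hinj : Function.Injective φ := by
    intro v w h
    have h1 : (φ (w - v) : G) = a := by
      refine mul_left_cancel (a := E (v 0) (v 1) 0) (mul_right_cancel (b := (E (v 0) (v 1) 0)⁻¹) ?_)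
      rw [← hrel, ← h]
    exact (sub_eq_zero.1 (hfix _ h1)).symm
  have hnc : ∀ v w : Fin 2 → ZMod 3, v ≠ w → ¬ Commute (φ v : G) (φ w) := by
    intro v w hvw hc
    rw [hrel v w, show (φ v : G) = E (v 0) (v 1) 0 * (a : G) * (E (v 0) (v 1) 0)⁻¹ from rfl,
      Basic.commute_conj] at hc
    set u := w - v with hu
    have hu0 : u ≠ 0 := sub_ne_zero.2 (Ne.symm hvw)
    -- then `a * φ u * a = φ u`, so `u = -u`
    have h1 : φ (-u) = φ u := Subtype.ext (by
      have h2 : (a : G) * (φ u : G) * (a : G)⁻¹ = φ u := by rw [hc.eq, mul_inv_cancel_right]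
      refine Eq.trans ?_ h2
      show E (-(u 0)) (-(u 1)) 0 * a * (E (-(u 0)) (-(u 1)) 0)⁻¹ =
        (a : G) * (E (u 0) (u 1) 0 * a * (E (u 0) (u 1) 0)⁻¹) * (a : G)⁻¹
      rw [← haE]; group)
    refine hu0 ?_
    funext t
    have := congrFun (hinj h1) t
    have hneg : ∀ z : ZMod 3, -z = z → z = 0 := by decide
    exact hneg _ this
  have hthird : ∀ v w : Fin 2 → ZMod 3, v ≠ w → (φ (-v - w) : G) = (φ v : G) * φ w * φ v := by
    intro v w hvw
    rw [hrel v (-v - w), hrel v w]
    have e0 : -v - w - v = -(w - v) := by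
      funext t
      simp only [Pi.sub_apply, Pi.neg_apply]
      have : ∀ p q : ZMod 3, -p - q - p = -(q - p) := by decide
      exact this _ _
    rw [e0]
    set u := w - v
    set Ev := E (v 0) (v 1) 0
    show Ev * (φ (-u) : G) * Ev⁻¹ = Ev * (a : G) * Ev⁻¹ * (Ev * (φ u : G) * Ev⁻¹) * (Ev * (a : G) * Ev⁻¹)
    have h2 : (φ (-u) : G) = (a : G) * (φ u : G) * (a : G) := by
      conv_rhs => arg 2; rw [← hai]
      show E (-(u 0)) (-(u 1)) 0 * a * (E (-(u 0)) (-(u 1)) 0)⁻¹ =
        (a : G) * (E (u 0) (u 1) 0 * a * (E (u 0) (u 1) 0)⁻¹) * (a : G)⁻¹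
      rw [← haE]; group
    rw [h2]; group
  have hline : ∀ v u : Fin 2 → ZMod 3, u ≠ 0 →
      φ '' {p | ∃ c : ZMod 3, p = v + c • u} ∈ Cfsg.threeTranspositionLines D := by
    intro v u hu
    have hne : v ≠ v + u := fun h => hu (left_eq_add.1 h)
    convert line_mem hD (hnc v (v + u) hne) using 1
    ext z
    rw [Set.mem_setOf_eq, ← hthird v (v + u) hne, ← Subtype.ext_iff, ← Subtype.ext_iff,
      ← Subtype.ext_iff]
    have e1 : -v - (v + u) = v + (2 : ZMod 3) • u := by
      funext t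
      simp only [Pi.sub_apply, Pi.neg_apply, Pi.add_apply, Pi.smul_apply, smul_eq_mul]
      have : ∀ p q : ZMod 3, -p - (p + q) = p + 2 * q := by decide
      exact this _ _
    rw [e1]
    constructor
    · rintro ⟨_, ⟨c, rfl⟩, rfl⟩
      obtain rfl | rfl | rfl : c = 0 ∨ c = 1 ∨ c = 2 := by revert c; decide
      · exact Or.inl (by rw [zero_smul, add_zero])
      · exact Or.inr (Or.inl (by rw [one_smul]))
      · exact Or.inr (Or.inr rfl)
    · rintro (rfl | rfl | rfl)
      exacts [⟨v, ⟨0, by simp⟩, rfl⟩, ⟨v + u, ⟨1, by simp⟩, rfl⟩, ⟨_, ⟨2, rfl⟩, rfl⟩]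
  have p0 : φ 0 = a := Subtype.ext (by simp [φ, E])
  have hE1 : ∀ i : ZMod 3, E i 0 0 = x ^ i.val := fun i => by simp [E]
  have hE2 : ∀ i : ZMod 3, E 0 i 0 = y ^ i.val := fun i => by simp [E]
  have line1 : ∀ p : D, ¬ Commute (a : G) p → (a : G) * p * a * ((a : G) * p)⁻¹ = p := by
    intro p hp
    rw [mul_inv_rev, hai, Classes.inv hD p.2]
    calc (a : G) * p * a * (p * a) = ((a : G) * p * a) * p * a := by simp [mul_assoc]
      _ = ((p : G) * a * p) * p * a := by rw [Basic.braid hD.1 a.2 p.2 hp]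
      _ = p := by simp [mul_assoc, Classes.sq hD p.2, hA,
          WidthOne.mul_mul_cancel_left (Classes.sq hD p.2)]
  have pb : φ ![1, 0] = b := Subtype.ext (by
    show E 1 0 0 * a * (E 1 0 0)⁻¹ = b
    rw [hE1, show ((1 : ZMod 3)).val = 1 from rfl, pow_one, hx]
    exact line1 b hab)
  have pe : φ ![0, 1] = e := Subtype.ext (by
    show E 0 1 0 * a * (E 0 1 0)⁻¹ = e
    rw [hE2, show ((1 : ZMod 3)).val = 1 from rfl, pow_one, hy]
    exact line1 e hae)
  have n01 : (0 : Fin 2 → ZMod 3) ≠ ![1, 0] := by decide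
  have n02 : (0 : Fin 2 → ZMod 3) ≠ ![0, 1] := by decide
  have pc : (φ ![2, 0] : G) = (a : G) * b * a := by
    rw [show (![2, 0] : Fin 2 → ZMod 3) = -0 - ![1, 0] by decide, hthird _ _ n01, p0, pb]
  have pf : (φ ![0, 2] : G) = (a : G) * e * a := by
    rw [show (![0, 2] : Fin 2 → ZMod 3) = -0 - ![0, 1] by decide, hthird _ _ n02, p0, pe]
  refine isomorphic_span _ _ (partialLinear hD) (fun l hl z hz => ?_)
    (fun l hl h => h (Set.nonempty_of_ncard_ne_zero (by rw [line_ncard hD hl]; norm_num))) φ hinj ?_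
    ?_ _ ?_ ?_
  · exact Set.exists_ne_of_one_lt_ncard (by rw [line_ncard hD hl]; norm_num) z
  · rintro m ⟨v, u, hu, rfl⟩
    exact hline v u hu
  · intro v w hvw _
    exact ⟨_, ⟨v, w - v, sub_ne_zero.2 (Ne.symm hvw), rfl⟩, ⟨0, by simp⟩, ⟨1, by simp⟩⟩
  · rintro z ((hz | hz | hz) | (hz | hz | hz))
    · exact ⟨0, p0.trans (Subtype.ext hz).symm⟩
    · exact ⟨_, pb.trans (Subtype.ext hz).symm⟩
    · exact ⟨_, Subtype.ext (pc.trans hz.symm)⟩
    · exact ⟨0, p0.trans (Subtype.ext hz).symm⟩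
    · exact ⟨_, pe.trans (Subtype.ext hz).symm⟩
    · exact ⟨_, Subtype.ext (pf.trans hz.symm)⟩
  · rintro S hTS hS _ ⟨v, rfl⟩
    have m0 : φ 0 ∈ S := hTS (Or.inl (Or.inl (congrArg Subtype.val p0)))
    have m1 : φ ![1, 0] ∈ S := hTS (Or.inl (Or.inr (Or.inl (congrArg Subtype.val pb))))
    have m2 : φ ![0, 1] ∈ S := hTS (Or.inr (Or.inr (Or.inl (congrArg Subtype.val pe))))
    have step : ∀ p q : Fin 2 → ZMod 3, p ≠ q → φ p ∈ S → φ q ∈ S → φ (-p - q) ∈ S :=
      fun p q hpq hp hq => third_mem hD hS hp hq (hnc p q hpq) (hthird p q hpq)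
    have m3 := step _ _ n01 m0 m1
    have m4 := step _ _ n02 m0 m2
    have m5 := step ![1, 0] ![0, 1] (by decide) m1 m2
    have m6 := step _ _ (show (0 : Fin 2 → ZMod 3) ≠ -![1, 0] - ![0, 1] by decide) m0 m5
    have m7 := step ![1, 0] _ (show ![1, 0] ≠ (-0 - ![0, 1] : Fin 2 → ZMod 3) by decide) m1 m4
    have m8 := step ![0, 1] _ (show ![0, 1] ≠ (-0 - ![1, 0] : Fin 2 → ZMod 3) by decide) m2 m3
    have hall : ∀ w : Fin 2 → ZMod 3, w = 0 ∨ w = ![1, 0] ∨ w = ![0, 1] ∨ w = -0 - ![1, 0] ∨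
        w = -0 - ![0, 1] ∨ w = -![1, 0] - ![0, 1] ∨ w = -0 - (-![1, 0] - ![0, 1]) ∨
        w = -![1, 0] - (-0 - ![0, 1]) ∨ w = -![0, 1] - (-0 - ![1, 0]) := by decide
    rcases hall v with rfl | rfl | rfl | rfl | rfl | rfl | rfl | rfl | rfl <;> assumption


/-- The lines form a Fischer space. -/
theorem isFischerSpace : Cfsg.IsFischerSpace (Cfsg.threeTranspositionLines D) := by
  refine ⟨partialLinear hD, fun l hl => line_ncard hD hl, fun l hl m hm hlm hne => ?_⟩
  obtain ⟨a, hal, ham⟩ := hne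
  obtain ⟨b, hb, hba⟩ := Set.exists_ne_of_one_lt_ncard (by rw [line_ncard hD hl]; norm_num) a
  obtain ⟨e, he, hea⟩ := Set.exists_ne_of_one_lt_ncard (by rw [line_ncard hD hm]; norm_num) a
  obtain ⟨hab, el⟩ := line_eq hD hl hal hb hba.symm
  obtain ⟨hae, em⟩ := line_eq hD hm ham he hea.symm
  have hne' : ∀ p ∈ l, ∀ q ∈ m, p ≠ a → p ≠ q := fun p hp q hq hpa hpq =>
    hlm (partialLinear hD l hl m hm p a hpa hp hal (hpq ▸ hq) ham)
  obtain ⟨-, -, i1, -, -, -⟩ := Classes.triangle hD a.2 b.2 hab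
  obtain ⟨-, -, j1, -, -, -⟩ := Classes.triangle hD a.2 e.2 hae
  have hc : (⟨(a : G) * b * a, Classes.conj_mem hD a.2 b.2⟩ : D) ∈ l := by
    rw [el]; exact Or.inr (Or.inr rfl)
  have hf : (⟨(a : G) * e * a, Classes.conj_mem hD a.2 e.2⟩ : D) ∈ m := by
    rw [em]; exact Or.inr (Or.inr rfl)
  set c : D := ⟨(a : G) * b * a, Classes.conj_mem hD a.2 b.2⟩
  set f : D := ⟨(a : G) * e * a, Classes.conj_mem hD a.2 e.2⟩
  by_cases h1 : Commute (b : G) e
  · left; rw [el, em]
    exact dual_case hD hab hae h1 (hne' b hb e he hba)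
  by_cases h2 : Commute (b : G) f
  · left
    have hfa : f ≠ a := fun h => hae (by
      have h' : (a : G) * e * a = a := congrArg Subtype.val h
      show (a : G) * e = e * a
      calc (a : G) * e = (a : G) * e * a * a := by rw [mul_assoc _ (a : G), Classes.sq hD a.2, mul_one]
        _ = a * ((a : G) * e * a) := by rw [h']
        _ = e * a := by simp [mul_assoc, WidthOne.mul_mul_cancel_left (Classes.sq hD a.2)])
    obtain ⟨haf, em'⟩ := line_eq hD hm ham hf hfa.symm
    rw [el, em']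
    exact dual_case hD hab haf h2 (hne' b hb f hf hba)
  by_cases h3 : Commute (c : G) e
  · left
    have hca : c ≠ a := fun h => hab (by
      have h' : (a : G) * b * a = a := congrArg Subtype.val h
      show (a : G) * b = b * a
      calc (a : G) * b = (a : G) * b * a * a := by rw [mul_assoc _ (a : G), Classes.sq hD a.2, mul_one]
        _ = a * ((a : G) * b * a) := by rw [h']
        _ = b * a := by simp [mul_assoc, WidthOne.mul_mul_cancel_left (Classes.sq hD a.2)])
    obtain ⟨hac, el'⟩ := line_eq hD hl hal hc hca.symm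
    rw [el', em]
    exact dual_case hD hac hae h3 (hne' c hc e he hca)
  right
  rw [el, em]
  exact affine_case hD hab hae h1 h2 h3

end Lines

end Cfsg.Agent.ThreeTransp.Planes
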