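import Mathlib
import Cfsg.Agent.Lib.Golay.Basic
import Cfsg.Agent.Lib.Forms.Spinor

/-!
Derivations of `Ω(Q)` over the field with two elements into the natural module, by a checked
certificate for a root system of transvections.
-/

set_option autoImplicit false
set_option maxRecDepth 10000

namespace Cfsg.Agent.ThreeTransp.ReflCoh

open Cfsg.Agent.Golay.Basic

open scoped commutatorElement

theorem commutator_le_of_index_two {G : Type*} [Group G] {H : Subgroup G} (h : H.index = 2) :
    commutator G ≤ H := by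
  rw [commutator_def, Subgroup.commutator_le]
  intro x _ y _
  rw [commutatorElement_def]
  simp only [Subgroup.mul_mem_iff_of_index_two h, inv_mem_iff]
  tauto

/-- The data of a certificate. -/
structure Cert where
  d : ℕ
  n : ℕ
  vecs : List ℕ
  cols : List (List ℕ)
  rels : List (ℕ × ℕ × ℕ)
  L : List ℕ
  P : List (List ℕ)
  tree : List (ℕ × ℕ × ℕ)

/-- A map of natural numbers respecting the exclusive or. -/
def Add2 (f : ℕ → ℕ) : Prop := ∀ a b, f (a ^^^ b) = f a ^^^ f b

theorem add2_zero {f : ℕ → ℕ} (hf : Add2 f) : f 0 = 0 := by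
  have := hf 0 0
  simpa using this

theorem add2_enc (L : List ℕ) : Add2 (enc L) := enc_xor L

theorem add2_comp {f g : ℕ → ℕ} (hf : Add2 f) (hg : Add2 g) : Add2 fun x => f (g x) := fun a b => by
  show f (g (a ^^^ b)) = _; rw [hg, hf]

theorem add2_xor {f g : ℕ → ℕ} (hf : Add2 f) (hg : Add2 g) : Add2 fun x => f x ^^^ g x := fun a b => by
  show f (a ^^^ b) ^^^ g (a ^^^ b) = (f a ^^^ g a) ^^^ (f b ^^^ g b)
  rw [hf, hg]; ac_rfl

theorem add2_id : Add2 fun x => x := fun _ _ => rfl

theorem add2_const_zero : Add2 fun _ => (0 : ℕ) := fun _ _ => (Nat.xor_self 0).symm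

theorem add2_shiftl (k : ℕ) : Add2 fun x => x <<< k := fun _ _ => Nat.shiftLeft_xor_distrib

/-- A linear map vanishing on the unit vectors vanishes. -/
theorem eq_zero_of_basis {f : ℕ → ℕ} (hf : Add2 f) :
    ∀ M, (∀ k < M, f (2 ^ k) = 0) → ∀ v < 2 ^ M, f v = 0
  | 0, _, v, hv => by
    obtain rfl : v = 0 := by simpa using hv
    exact add2_zero hf
  | M + 1, h, v, hv => by
    have ih := eq_zero_of_basis hf M fun k hk => h k (by omega)
    rcases Nat.lt_or_ge v (2 ^ M) with hlt | hge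
    · exact ih v hlt
    · have hb : v.testBit M = true := Nat.testBit_of_two_pow_le_and_two_pow_add_one_gt hge hv
      have hlt : v ^^^ 2 ^ M < 2 ^ M := by
        refine Nat.lt_pow_two_of_testBit _ fun i hi => ?_
        rw [Nat.testBit_xor, Nat.testBit_two_pow]
        rcases Nat.eq_or_lt_of_le hi with rfl | hi'
        · simp [hb]
        · rw [Nat.testBit_eq_false_of_lt (lt_of_lt_of_le hv (Nat.pow_le_pow_right (by norm_num) hi'))]
          simp [Nat.ne_of_lt hi']
      have h1 := ih _ hlt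
      rwa [hf, h M (by omega), Nat.xor_zero] at h1

/-- The exclusive or of the values on a list. -/
def xsum {α : Type*} : List α → (α → ℕ) → ℕ
  | [], _ => 0
  | a :: l, f => f a ^^^ xsum l f

theorem add2_xsum {α : Type*} : ∀ (l : List α) (F : ℕ → α → ℕ), (∀ a ∈ l, Add2 fun x => F x a) →
    Add2 fun x => xsum l (F x)
  | [], _, _ => add2_const_zero
  | a :: l, F, h => add2_xor (h a List.mem_cons_self)
      (add2_xsum l F fun b hb => h b (List.mem_cons_of_mem _ hb))

theorem xsum_congr {α : Type*} : ∀ (l : List α) (f g : α → ℕ), (∀ a ∈ l, f a = g a) →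
    xsum l f = xsum l g
  | [], _, _, _ => rfl
  | a :: l, f, g, h => by
    simp only [xsum, h a List.mem_cons_self,
      xsum_congr l f g fun b hb => h b (List.mem_cons_of_mem _ hb)]

theorem map_xsum {α : Type*} {g : ℕ → ℕ} (hg : Add2 g) : ∀ (l : List α) (f : α → ℕ),
    g (xsum l f) = xsum l fun a => g (f a)
  | [], _ => add2_zero hg
  | a :: l, f => by
    show g (f a ^^^ xsum l f) = _
    rw [hg, map_xsum hg l f]; rfl

theorem xsum_single {i : ℕ} (x : ℕ → ℕ) : ∀ n, xsum (List.range n) (fun j => if j = i then x j else 0) =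
    if i < n then x i else 0
  | 0 => rfl
  | n + 1 => by
    have h : ∀ (l : List ℕ) (b : ℕ) (f : ℕ → ℕ), xsum (l ++ [b]) f = xsum l f ^^^ f b := by
      intro l b f
      induction l with
      | nil => simp [xsum]
      | cons c l ihl => simp [xsum, ihl, Nat.xor_assoc]
    rw [List.range_succ, h, xsum_single x n]
    rcases Nat.lt_trichotomy i n with h1 | h1 | h1
    · rw [if_pos h1, if_neg (Nat.ne_of_gt h1), Nat.xor_zero, if_pos (by omega)]
    · subst h1; simp
    · rw [if_neg (by omega), if_neg (Nat.ne_of_lt h1), if_neg (by omega), Nat.xor_zero]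

theorem enc_lt {M : ℕ} : ∀ (L : List ℕ), (∀ b ∈ L, b < 2 ^ M) → ∀ a, enc L a < 2 ^ M
  | [], _, _ => Nat.two_pow_pos M
  | b :: bs, h, a => by
    simp only [enc]
    refine Nat.xor_lt_two_pow ?_ (enc_lt bs (fun c hc => h c (List.mem_cons_of_mem _ hc)) _)
    rcases Nat.mod_two_eq_zero_or_one a with ha | ha <;> simp [ha, h b List.mem_cons_self]

theorem xsum_lt {α : Type*} {M : ℕ} : ∀ (l : List α) (f : α → ℕ), (∀ a ∈ l, f a < 2 ^ M) →
    xsum l f < 2 ^ M
  | [], _, _ => Nat.two_pow_pos M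
  | a :: l, f, h => Nat.xor_lt_two_pow (h a List.mem_cons_self)
      (xsum_lt l f fun b hb => h b (List.mem_cons_of_mem _ hb))

variable (C : Cert)

/-- The transvection with the given number. -/
def S (j x : ℕ) : ℕ := enc (C.cols.getD j []) x

/-- A block of coordinates. -/
def blk (j v : ℕ) : ℕ := (v >>> (C.d * j)) % 2 ^ C.d

/-- Partial sums of the powers of a product of two transvections. -/
def hor (i j : ℕ) : ℕ → ℕ → ℕ
  | 0, _ => 0
  | k + 1, y => y ^^^ S C i (S C j (hor i j k y))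

/-- The equation attached to a relation. -/
def eqn (r : ℕ × ℕ × ℕ) (v : ℕ) : ℕ :=
  hor C r.1 r.2.1 r.2.2 (S C r.1 (S C 0 (blk C r.1 v ^^^ blk C r.2.1 v)))

/-- The inner derivations. -/
def inner (w : ℕ) : ℕ :=
  xsum (List.range C.n) fun j => (S C 0 (S C j w) ^^^ w) <<< (C.d * j)

/-- The identity checked on the unit vectors. -/
def resid (v : ℕ) : ℕ :=
  v ^^^ inner C (enc C.L v) ^^^ (xsum (C.rels.zip C.P) fun p => enc p.2 (eqn C p.1 v)) ^^^
    enc (C.P.getD C.rels.length []) (blk C 0 v)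

/-- The vectors reached from the basic ones. -/
def reach : List (ℕ × ℕ × ℕ) → List ℕ → List ℕ
  | [], K => K
  | (t, r, j) :: l, K =>
    if (S C j r == t && K.contains r && decide (j < C.n)) = true then reach l (t :: K) else K

/-- All checks. -/
def ok : Bool :=
  (C.n != 0) && (C.vecs.length == C.n) &&
  ((List.range (C.n * C.d)).all fun k => resid C (2 ^ k) == 0) &&
  (C.L.all fun b => decide (b < 2 ^ C.d)) &&
  ((List.range C.n).all fun i => (List.range C.n).all fun j => (List.range C.d).all fun k =>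
    blk C i (2 ^ k <<< (C.d * j)) == (if j = i then 2 ^ k else 0) &&
      decide (2 ^ k <<< (C.d * j) < 2 ^ (C.n * C.d))) &&
  (C.rels.all fun r => decide (r.1 < C.n) && decide (r.2.1 < C.n) &&
    ((List.range C.d).all fun k => Nat.iterate (fun x => S C r.1 (S C r.2.1 x)) r.2.2 (2 ^ k) == 2 ^ k))

theorem add2_S (j : ℕ) : Add2 (S C j) := add2_enc _

theorem add2_blk (j : ℕ) : Add2 (blk C j) := fun a b => by
  simp [blk, Nat.shiftRight_xor_distrib, Nat.xor_mod_two_pow]

theorem add2_hor (i j : ℕ) : ∀ k, Add2 (hor C i j k)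
  | 0 => add2_const_zero
  | k + 1 => add2_xor add2_id (add2_comp (add2_S C i) (add2_comp (add2_S C j) (add2_hor i j k)))

theorem add2_eqn (r : ℕ × ℕ × ℕ) : Add2 (eqn C r) :=
  add2_comp (f := hor C r.1 r.2.1 r.2.2) (add2_hor C _ _ _)
    (add2_comp (f := S C r.1) (add2_S C _)
      (add2_comp (f := S C 0) (add2_S C 0) (add2_xor (add2_blk C _) (add2_blk C _))))

theorem add2_inner : Add2 (inner C) :=
  add2_xsum _ (fun w j => (S C 0 (S C j w) ^^^ w) <<< (C.d * j)) fun j _ =>
    add2_comp (add2_shiftl _) (add2_xor (add2_comp (add2_S C 0) (add2_S C j)) add2_id)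

theorem add2_resid : Add2 (resid C) :=
  add2_xor (add2_xor (add2_xor add2_id (add2_comp (add2_inner C) (add2_enc _)))
    (add2_xsum (C.rels.zip C.P) (fun v (p : (ℕ × ℕ × ℕ) × List ℕ) => enc p.2 (eqn C p.1 v))
      fun p _ => add2_comp (add2_enc _) (add2_eqn C _)))
    (add2_comp (add2_enc _) (add2_blk C 0))

section

variable {C} (hok : ok C = true)
include hok

theorem n_pos : 0 < C.n := by
  simp only [ok, Bool.and_eq_true, bne_iff_ne] at hok
  exact Nat.pos_of_ne_zero hok.1.1.1.1.1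

theorem rels_ok {r : ℕ × ℕ × ℕ} (hr : r ∈ C.rels) : r.1 < C.n ∧ r.2.1 < C.n ∧
    ∀ x < 2 ^ C.d, Nat.iterate (fun x => S C r.1 (S C r.2.1 x)) r.2.2 x = x := by
  simp only [ok, Bool.and_eq_true, List.all_eq_true, List.mem_range, decide_eq_true_eq, beq_iff_eq] at hok
  obtain ⟨⟨h1, h2⟩, h3⟩ := hok.2 r hr
  refine ⟨h1, h2, fun x hx => ?_⟩
  have hadd : ∀ k, Add2 fun x => Nat.iterate (fun x => S C r.1 (S C r.2.1 x)) k x := by
    intro k
    induction k with
    | zero => exact add2_id
    | succ k ih =>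
      intro a b
      simp only [Function.iterate_succ', Function.comp_apply]
      rw [show (fun x => S C r.1 (S C r.2.1 x))^[k] (a ^^^ b) = _ from ih a b, add2_S C, add2_S C]
  have := eq_zero_of_basis (add2_xor (hadd r.2.2) add2_id) C.d
    (fun k hk => by simp [h3 k hk]) x hx
  simpa using this

theorem blk_shift {i j : ℕ} (hi : i < C.n) (hj : j < C.n) {x : ℕ} (hx : x < 2 ^ C.d) :
    blk C i (x <<< (C.d * j)) = (if j = i then x else 0) ∧ x <<< (C.d * j) < 2 ^ (C.n * C.d) := by
  have h : ∀ k < C.d, blk C i (2 ^ k <<< (C.d * j)) = (if j = i then 2 ^ k else 0) := by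
    simp only [ok, Bool.and_eq_true, List.all_eq_true, List.mem_range, decide_eq_true_eq, beq_iff_eq] at hok
    exact fun k hk => (hok.1.2 i hi j hj k hk).1
  constructor
  · by_cases hji : j = i
    · have := eq_zero_of_basis (add2_xor (add2_comp (add2_blk C i) (add2_shiftl (C.d * j))) add2_id)
        C.d (fun k hk => by subst hji; simp [h k hk]) x hx
      rw [if_pos hji]; simpa using this
    · have := eq_zero_of_basis (add2_comp (add2_blk C i) (add2_shiftl (C.d * j)))
        C.d (fun k hk => by simp [h k hk, hji]) x hx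
      rw [if_neg hji]; exact this
  · rw [Nat.shiftLeft_eq]
    calc x * 2 ^ (C.d * j) < 2 ^ C.d * 2 ^ (C.d * j) := Nat.mul_lt_mul_of_pos_right hx (Nat.two_pow_pos _)
      _ = 2 ^ (C.d * (j + 1)) := by rw [← pow_add]; ring_nf
      _ ≤ 2 ^ (C.n * C.d) := Nat.pow_le_pow_right (by norm_num) (by rw [mul_comm C.n]; exact Nat.mul_le_mul_left _ hj)

theorem blk_xsum {i : ℕ} (hi : i < C.n) {u : ℕ → ℕ} (hu : ∀ j < C.n, u j < 2 ^ C.d) :
    blk C i (xsum (List.range C.n) fun j => u j <<< (C.d * j)) = u i := by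
  rw [map_xsum (add2_blk C i), xsum_congr (g := fun j => if j = i then u j else 0) _ _ fun j hj =>
    (blk_shift hok hi (List.mem_range.1 hj) (hu j (List.mem_range.1 hj))).1, xsum_single, if_pos hi]

theorem solve {u : ℕ → ℕ} (hu : ∀ j < C.n, u j < 2 ^ C.d) (hS : ∀ j < C.n, ∀ x, x < 2 ^ C.d → S C j x < 2 ^ C.d)
    (h0 : u 0 = 0)
    (heq : ∀ r ∈ C.rels, hor C r.1 r.2.1 r.2.2 (S C r.1 (S C 0 (u r.1 ^^^ u r.2.1))) = 0) :
    ∃ w < 2 ^ C.d, ∀ j < C.n, u j = S C 0 (S C j w) ^^^ w := by
  set v := xsum (List.range C.n) fun j => u j <<< (C.d * j) with hv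
  have hlt : v < 2 ^ (C.n * C.d) := xsum_lt _ _ fun j hj =>
    (blk_shift hok (n_pos hok) (List.mem_range.1 hj) (hu j (List.mem_range.1 hj))).2
  have hres : resid C v = 0 := by
    refine eq_zero_of_basis (add2_resid C) _ (fun k hk => ?_) v hlt
    simp only [ok, Bool.and_eq_true, List.all_eq_true, List.mem_range, beq_iff_eq] at hok
    exact hok.1.1.1.2 k hk
  have hz : (xsum (C.rels.zip C.P) fun p => enc p.2 (eqn C p.1 v)) = 0 := by
    rw [xsum_congr (g := fun _ => 0) _ _ fun p hp => ?_]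
    · induction (C.rels.zip C.P) with
      | nil => rfl
      | cons a l ih => simp [xsum, ih]
    · have hr := (List.of_mem_zip hp).1
      obtain ⟨h1, h2, -⟩ := rels_ok hok hr
      rw [eqn, blk_xsum hok h1 hu, blk_xsum hok h2 hu, heq _ hr, enc_zero]
  have hb0 : blk C 0 v = 0 := by rw [blk_xsum hok (n_pos hok) hu, h0]
  rw [resid, hz, hb0, enc_zero, Nat.xor_zero, Nat.xor_zero, Nat.xor_eq_zero_iff] at hres
  have hw : enc C.L v < 2 ^ C.d := by
    refine enc_lt _ (fun b hb => ?_) _
    simp only [ok, Bool.and_eq_true, List.all_eq_true, decide_eq_true_eq] at hok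
    exact hok.1.1.2 b hb
  refine ⟨enc C.L v, hw, fun j hj => ?_⟩
  rw [← blk_xsum hok hj hu, ← hv]
  conv_lhs => rw [hres]
  exact blk_xsum hok hj (u := fun j => S C 0 (S C j (enc C.L v)) ^^^ enc C.L v) fun i hi =>
    Nat.xor_lt_two_pow (hS 0 (n_pos hok) _ (hS i hi _ hw)) hw

end

section Group

open Cfsg.Agent.Forms.QuadStd Cfsg.Agent.Forms.Reflections Cfsg.Agent.Forms.Spinor

variable {ι : Type} [Fintype ι] [DecidableEq ι]

/-- The number of a vector. -/
def code {d : ℕ} (σ : Fin d ≃ ι) (x : ι → ZMod 2) : ℕ :=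
  Nat.ofBits fun k : Fin d => decide (x (σ k) = 1)

/-- The vector of a number. -/
def vec {d : ℕ} (σ : Fin d ≃ ι) (m : ℕ) : ι → ZMod 2 := fun i => if m.testBit (σ.symm i) then 1 else 0

theorem code_lt {d : ℕ} (σ : Fin d ≃ ι) (x : ι → ZMod 2) : code σ x < 2 ^ d :=
  Nat.ofBits_lt_two_pow _

theorem vec_code {d : ℕ} (σ : Fin d ≃ ι) (x : ι → ZMod 2) : vec σ (code σ x) = x := by
  funext i
  simp only [vec, code, Nat.testBit_ofBits_lt _ _ (σ.symm i).2, Fin.eta, Equiv.apply_symm_apply]
  have : ∀ a : ZMod 2, (if decide (a = 1) = true then (1 : ZMod 2) else 0) = a := by decide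
  exact this _

theorem code_vec {d : ℕ} (σ : Fin d ≃ ι) {m : ℕ} (hm : m < 2 ^ d) : code σ (vec σ m) = m := by
  refine Nat.eq_of_testBit_eq fun i => ?_
  rcases Nat.lt_or_ge i d with hi | hi
  · rw [code, Nat.testBit_ofBits_lt _ _ hi]
    simp only [vec, Equiv.symm_apply_apply]
    cases m.testBit i <;> decide
  · rw [code, Nat.testBit_ofBits_ge _ _ hi,
      Nat.testBit_eq_false_of_lt (lt_of_lt_of_le hm (Nat.pow_le_pow_right (by norm_num) hi))]

theorem code_add {d : ℕ} (σ : Fin d ≃ ι) (x y : ι → ZMod 2) :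
    code σ (x + y) = code σ x ^^^ code σ y := by
  refine Nat.eq_of_testBit_eq fun i => ?_
  rcases Nat.lt_or_ge i d with hi | hi
  · simp only [code, Nat.testBit_xor, Nat.testBit_ofBits_lt _ _ hi, Pi.add_apply]
    have : ∀ a b : ZMod 2, decide (a + b = 1) = (decide (a = 1) ^^ decide (b = 1)) := by decide
    exact this _ _
  · simp [code, Nat.testBit_xor, Nat.testBit_ofBits_ge _ _ hi]

theorem code_zero {d : ℕ} (σ : Fin d ≃ ι) : code σ (0 : ι → ZMod 2) = 0 := by
  have := code_add σ (0 : ι → ZMod 2) 0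
  rwa [add_zero, Nat.xor_self] at this

theorem code_inj {d : ℕ} (σ : Fin d ≃ ι) {x y : ι → ZMod 2} (h : code σ x = code σ y) : x = y := by
  rw [← vec_code σ x, h, vec_code]

theorem neg_two {V : Type*} [AddCommGroup V] [Module (ZMod 2) V] (x : V) : x + x = 0 := by
  rw [← two_smul (ZMod 2), show (2 : ZMod 2) = 0 from rfl, zero_smul]

/-- The basic vectors of a certificate. -/
def root (C : Cert) (σ : Fin C.d ≃ ι) (j : ℕ) : ι → ZMod 2 := vec σ (C.vecs.getD j 0)

/-- A certificate fits a form. -/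
def Fits (C : Cert) (σ : Fin C.d ≃ ι) (q : (ι → ZMod 2) → ZMod 2) : Prop :=
  ∀ j < C.n, q (root C σ j) = 1 ∧ ∀ x : ι → ZMod 2,
    code σ (x + QuadraticMap.polar q (root C σ j) x • root C σ j) = S C j (code σ x)

variable (Q : QuadraticForm (ZMod 2) (ι → ZMod 2))

/-- The transvection subgroup of a certificate. -/
noncomputable def rootGroup (C : Cert) (σ : Fin C.d ≃ ι) : Subgroup (Cfsg.isometryGroup (ZMod 2) ⇑Q) :=
  Subgroup.closure {g | ∃ j < C.n, g = reflect Q (root C σ j)}

variable {Q} {C : Cert} {σ : Fin C.d ≃ ι} (hfit : Fits C σ ⇑Q)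
include hfit

theorem code_act {j : ℕ} (hj : j < C.n) (x : ι → ZMod 2) :
    code σ (act (reflect Q (root C σ j)) x) = S C j (code σ x) := by
  rw [act_reflect, (hfit j hj).1, inv_one, one_mul, sub_eq_add_neg,
    neg_eq_of_add_eq_zero_left (neg_two _), (hfit j hj).2]

theorem S_lt {j : ℕ} (hj : j < C.n) (x : ℕ) (hx : x < 2 ^ C.d) : S C j x < 2 ^ C.d := by
  rw [← code_vec σ hx, ← code_act hfit hj]; exact code_lt σ _

theorem reflect_mem_of_reach : ∀ (T : List (ℕ × ℕ × ℕ)) (K : List ℕ),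
    (∀ t ∈ K, t < 2 ^ C.d ∧ reflect Q (vec σ t) ∈ rootGroup Q C σ) →
    ∀ t ∈ reach C T K, t < 2 ^ C.d ∧ reflect Q (vec σ t) ∈ rootGroup Q C σ
  | [], _, h => h
  | (t₀, r, j) :: l, K, h => by
    rw [reach]
    split_ifs with hc
    · simp only [Bool.and_eq_true, beq_iff_eq, decide_eq_true_eq, List.contains_iff_mem] at hc
      obtain ⟨⟨he, hr⟩, hj⟩ := hc
      obtain ⟨hlt, hmem⟩ := h r hr
      refine reflect_mem_of_reach l _ fun t ht => ?_
      rcases List.mem_cons.1 ht with rfl | ht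
      · refine ⟨he ▸ S_lt hfit hj r hlt, ?_⟩
        have hv : vec σ t = act (reflect Q (root C σ j)) (vec σ r) := by
          conv_rhs => rw [← vec_code σ (act (reflect Q (root C σ j)) (vec σ r)), code_act hfit hj,
            code_vec σ hlt, he]
        have hg : reflect Q (root C σ j) ∈ rootGroup Q C σ := Subgroup.subset_closure ⟨j, hj, rfl⟩
        rw [hv, ← reflect_conj]
        exact mul_mem (mul_mem hg hmem) (inv_mem hg)
      · exact h t ht
    · exact h

/-- The root transvections give all transvections. -/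
theorem refGroup_le (hlen : C.vecs.length = C.n) (hlt : ∀ t ∈ C.vecs, t < 2 ^ C.d)
    (hcov : ∀ x, Q x = 1 → code σ x ∈ reach C C.tree C.vecs) : refGroup Q ≤ rootGroup Q C σ := by
  refine (Subgroup.closure_le _).2 ?_
  rintro _ ⟨v, hv, rfl⟩
  have h1 : Q v = 1 := by
    have : ∀ a : ZMod 2, a ≠ 0 → a = 1 := by decide
    exact this _ hv
  have := (reflect_mem_of_reach hfit C.tree C.vecs (fun t ht => ⟨hlt t ht, ?_⟩) _ (hcov v h1)).2
  · rwa [vec_code] at this
  · obtain ⟨i, hi, rfl⟩ := List.getElem_of_mem ht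
    refine Subgroup.subset_closure ⟨i, hlen ▸ hi, ?_⟩
    rw [root, List.getD_eq_getElem _ _ hi]

/-- Derivations of `Ω` are inner. -/
theorem derivation_inner (hQ : (QuadraticMap.polarBilin Q).Nondegenerate) (hok : ok C = true)
    (htop : rootGroup Q C σ = ⊤)
    (f : ↥(Cfsg.Omega (ZMod 2) ⇑Q) → (ι → ZMod 2))
    (hf : ∀ g h, f (g * h) = f g + act (g : Cfsg.isometryGroup (ZMod 2) ⇑Q) (f h)) :
    ∃ v, ∀ g, f g = act (g : Cfsg.isometryGroup (ZMod 2) ⇑Q) v - v := by
  classical
  set O := Cfsg.isometryGroup (ZMod 2) ⇑Q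
  set s : ℕ → O := fun j => reflect Q (root C σ j) with hs
  have h0n : 0 < C.n := n_pos hok
  have hsq : ∀ j, s j * s j = 1 := fun j => reflect_sq _
  have hinv : ∀ j, (s j)⁻¹ = s j := fun j => inv_eq_of_mul_eq_one_right (hsq j)
  have hcoms : ∀ i j, i < C.n → j < C.n → s i * s j ∈ Cfsg.Omega (ZMod 2) ⇑Q := by
    intro i j hi hj
    obtain ⟨g, hg⟩ := exists_conj_char_two hQ (a := root C σ i) (b := root C σ j)
      (by rw [(hfit i hi).1]; exact one_ne_zero) (by rw [(hfit j hj).1]; exact one_ne_zero)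
    have he : s i * s j = (s i)⁻¹ * (g * s i * g⁻¹) := by rw [hinv, ← hg]
    rw [he, show (s i)⁻¹ * (g * s i * g⁻¹) = ⁅(s i)⁻¹, g⁆ by rw [commutatorElement_def, inv_inv]; group]
    exact Subgroup.commutator_mem_commutator (Subgroup.mem_top _) (Subgroup.mem_top _)
  let x : ℕ → ↥(Cfsg.Omega (ZMod 2) ⇑Q) := fun j =>
    if h : j < C.n then ⟨s 0 * s j, hcoms 0 j h0n h⟩ else 1
  have hx : ∀ j < C.n, ((x j : ↥(Cfsg.Omega (ZMod 2) ⇑Q)) : O) = s 0 * s j := fun j hj => by simp [x, hj]
  have hcode : ∀ (i j : ℕ), i < C.n → j < C.n → ∀ v, code σ (act (s i * s j) v) = S C i (S C j (code σ v)) :=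
    fun i j hi hj v => by rw [act_mul, code_act hfit hi, code_act hfit hj]
  have f1 : f 1 = 0 := by
    have h := hf 1 1
    rw [one_mul, Subgroup.coe_one, act_one, neg_two] at h
    exact h
  have finv : ∀ g, f g⁻¹ = act ((g : O)⁻¹) (f g) := fun g => by
    have h := hf g⁻¹ g
    rw [inv_mul_cancel, f1, Subgroup.coe_inv] at h
    rw [← sub_eq_zero, sub_eq_add_neg, neg_eq_of_add_eq_zero_left (neg_two _), ← h]
  set u : ℕ → ℕ := fun j => code σ (f (x j)) with hu
  have hu0 : u 0 = 0 := by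
    have : x 0 = 1 := Subtype.ext (by rw [hx 0 h0n, hsq]; rfl)
    show code σ (f (x 0)) = 0
    rw [this, f1, code_zero]
  have heq : ∀ r ∈ C.rels, hor C r.1 r.2.1 r.2.2 (S C r.1 (S C 0 (u r.1 ^^^ u r.2.1))) = 0 := by
    intro r hr
    obtain ⟨hi, hj, hrel⟩ := rels_ok hok hr
    set y := (x r.1)⁻¹ * x r.2.1 with hy
    have hyc : (y : O) = s r.1 * s r.2.1 := by
      rw [hy, Subgroup.coe_mul, Subgroup.coe_inv, hx _ hi, hx _ hj, _root_.mul_inv_rev, hinv, hinv,
        mul_assoc, ← mul_assoc (s 0), hsq, one_mul]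
    have hfy : code σ (f y) = S C r.1 (S C 0 (u r.1 ^^^ u r.2.1)) := by
      rw [hy, hf, finv, Subgroup.coe_inv, hx _ hi, _root_.mul_inv_rev, hinv, hinv, ← map_add,
        hcode _ _ hi h0n, code_add]
    have hpow : ∀ k, code σ (f (y ^ k)) = hor C r.1 r.2.1 k (code σ (f y)) := by
      intro k
      induction k with
      | zero => rw [pow_zero, f1, code_zero]; rfl
      | succ k ih => rw [pow_succ', hf, code_add, hyc, hcode _ _ hi hj, ih]; rfl
    have hit : ∀ k (v : ι → ZMod 2), code σ (act ((y : O) ^ k) v) =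
        Nat.iterate (fun x => S C r.1 (S C r.2.1 x)) k (code σ v) := by
      intro k
      induction k with
      | zero => intro v; rw [pow_zero, act_one]; rfl
      | succ k ih =>
        intro v
        rw [pow_succ, act_mul, ih, Function.iterate_succ_apply, hyc, hcode _ _ hi hj]
    have hone : y ^ r.2.2 = 1 := by
      refine Subtype.ext (Subgroup.coe_pow _ y r.2.2 ▸ ?_)
      refine iso_ext fun v => ?_
      rw [← act_apply, ← act_apply]
      refine code_inj σ ?_
      rw [hit, hrel _ (code_lt σ v), Subgroup.coe_one, act_one]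
    rw [← hfy, ← hpow, hone, f1, code_zero]
  obtain ⟨w, hw, hsol⟩ := solve hok (u := u) (fun j _ => code_lt σ _)
    (fun j hj => S_lt hfit hj) hu0 heq
  refine ⟨vec σ w, ?_⟩
  have hgen : ∀ j < C.n, f (x j) = act (x j : O) (vec σ w) - vec σ w := by
    intro j hj
    rw [sub_eq_add_neg, neg_eq_of_add_eq_zero_left (neg_two _)]
    refine code_inj σ ?_
    rw [code_add, hx j hj, hcode _ _ h0n hj, code_vec σ hw]
    exact hsol j hj
  -- the products `s 0 * s j` generate
  set K := Subgroup.closure {g : O | ∃ j < C.n, g = s 0 * s j} with hK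
  have hall : ∀ g : O, g ∈ K ∨ g * s 0 ∈ K := by
    intro g
    have hg : g ∈ rootGroup Q C σ := htop ▸ Subgroup.mem_top g
    have step : ∀ (g : O) (j : ℕ), j < C.n → (g ∈ K ∨ g * s 0 ∈ K) → (g * s j ∈ K ∨ g * s j * s 0 ∈ K) := by
      intro g j hj h
      have hm : s 0 * s j ∈ K := Subgroup.subset_closure ⟨j, hj, rfl⟩
      rcases h with h | h
      · right
        rw [mul_assoc, show s j * s 0 = (s 0 * s j)⁻¹ by rw [_root_.mul_inv_rev, hinv, hinv]]
        exact K.mul_mem h (K.inv_mem hm)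
      · left
        have := K.mul_mem h hm
        rwa [← mul_assoc, mul_assoc g, hsq, mul_one] at this
    induction hg using Subgroup.closure_induction_right with
    | one => exact Or.inl K.one_mem
    | mul_right z _ y hy ih => obtain ⟨j, hj, rfl⟩ := hy; exact step z j hj ih
    | mul_inv_cancel z _ y hy ih => obtain ⟨j, hj, rfl⟩ := hy; rw [hinv]; exact step z j hj ih
  have hΩ : Cfsg.Omega (ZMod 2) ⇑Q ≤ K := by
    by_cases h0 : s 0 ∈ K
    · intro g _
      rcases hall g with h | h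
      · exact h
      · have := K.mul_mem h h0
        rwa [mul_assoc, hsq, mul_one] at this
    · have h2 : K.index = 2 := Subgroup.index_eq_two_iff.2 ⟨s 0, fun b => by
        rcases hall b with h | h
        · refine Or.inr ⟨h, fun h' => h0 ?_⟩
          have := K.mul_mem (K.inv_mem h) h'
          rwa [inv_mul_cancel_left] at this
        · refine Or.inl ⟨h, fun h' => h0 ?_⟩
          have := K.mul_mem (K.inv_mem h') h
          rwa [inv_mul_cancel_left] at this⟩
      exact commutator_le_of_index_two h2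
  let Z : Subgroup ↥(Cfsg.Omega (ZMod 2) ⇑Q) :=
    { carrier := {g | f g = act (g : O) (vec σ w) - vec σ w}
      one_mem' := by show f 1 = _; rw [f1, Subgroup.coe_one, act_one, sub_self]
      mul_mem' := fun {g h} hg hh => by
        show f (g * h) = _
        rw [hf, hg, hh, Subgroup.coe_mul, act_mul, map_sub]; abel
      inv_mem' := fun {g} hg => by
        show f g⁻¹ = _
        rw [finv, hg, Subgroup.coe_inv, map_sub, ← act_mul, inv_mul_cancel, act_one,
          sub_eq_add_neg, sub_eq_add_neg, neg_eq_of_add_eq_zero_left (neg_two _),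
          neg_eq_of_add_eq_zero_left (neg_two _), add_comm] }
  intro g
  have hKZ : K ≤ Z.map (Cfsg.Omega (ZMod 2) ⇑Q).subtype := by
    refine (Subgroup.closure_le _).2 ?_
    rintro y ⟨j, hj, rfl⟩
    exact ⟨x j, hgen j hj, hx j hj⟩
  obtain ⟨z, hz, hze⟩ := hKZ (hΩ g.2)
  obtain rfl : z = g := Subtype.ext hze
  exact hz

end Group

end Cfsg.Agent.ThreeTransp.ReflCoh
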