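import Mathlib
import Cfsg.Prelude.Def_RootSubgroups
import Cfsg.Agent.Lib.ThreeTransp.RankOne
import Cfsg.Agent.Lib.ThreeTransp.RootSets
import Cfsg.Agent.S5018
import Cfsg.Agent.S5028

/-!
Commutator pairs in sets of abstract root subgroups: the subgroup `A[A,B]`, triples `A, B, C`
with `A, C` commuting and both in the commutator case with `B`.
-/

set_option autoImplicit false

namespace Cfsg.Agent.ThreeTransp.RootLines

open Cfsg
open Cfsg.Agent.ThreeTransp.RankOne
open Cfsg.Agent.ThreeTransp.RootSets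
open scoped commutatorElement

variable {G : Type*} [Group G] {S : Set (Subgroup G)}

/-! ### Conjugation -/

theorem rankOne_conj {A B : Subgroup G} (h : IsRankOnePair A B) (g : G) :
    IsRankOnePair (conjBy A g) (conjBy B g) := by
  have cond : ∀ {A B : Subgroup G}, RankOneCondition A B → RankOneCondition (conjBy A g) (conjBy B g) := by
    intro A B hc x hx hx1
    obtain ⟨b, hb, hb1, e⟩ := hc (g⁻¹ * x * g) (mem_conjBy.1 hx) (fun e => hx1 (by
      calc x = g * (g⁻¹ * x * g) * g⁻¹ := by group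
        _ = 1 := by rw [e]; simp))
    refine ⟨g * b * g⁻¹, conj_mem_conjBy hb, fun e' => hb1 (conj_eq_one_iff.1 e'), ?_⟩
    rw [conjBy_conjBy, conjBy_conjBy]
    have h1 : (g * b * g⁻¹)⁻¹ * g = g * b⁻¹ := by group
    have h2 : x⁻¹ * g = g * (g⁻¹ * x * g)⁻¹ := by group
    rw [h1, h2, ← conjBy_conjBy, e, conjBy_conjBy]
  refine ⟨fun e => h.ne (conjBy_inj.1 e), ?_, ?_, cond h.cond_left, cond h.cond_right⟩
  · haveI := h.nilpotent_left
    exact Group.nilpotent_of_mulEquiv (A.equivMapOfInjective _ (MulAut.conj g).injective)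
  · haveI := h.nilpotent_right
    exact Group.nilpotent_of_mulEquiv (B.equivMapOfInjective _ (MulAut.conj g).injective)

theorem fAdj_conj (hS : IsRootSubgroupSet S) {A B : Subgroup G} (h : FAdj S A B) (g : G) :
    FAdj S (conjBy A g) (conjBy B g) :=
  ⟨hS.conj_mem _ h.1 g, hS.conj_mem _ h.2.1 g, rankOne_conj h.2.2 g⟩

theorem fAdj_symm {A B : Subgroup G} (h : FAdj S A B) : FAdj S B A :=
  ⟨h.2.1, h.1, RankOnePair_symm h.2.2⟩

theorem path_conj (hS : IsRootSubgroupSet S) {A B : Subgroup G} (h : Relation.ReflTransGen (FAdj S) A B) (g : G) :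
    Relation.ReflTransGen (FAdj S) (conjBy A g) (conjBy B g) :=
  by
    induction h with
    | refl => exact .refl
    | tail _ h2 ih => exact ih.tail (fAdj_conj hS h2 g)

theorem path_symm {A B : Subgroup G} (h : Relation.ReflTransGen (FAdj S) A B) :
    Relation.ReflTransGen (FAdj S) B A := by
  induction h with
  | refl => exact .refl
  | tail _ h2 ih => exact Relation.ReflTransGen.head (fAdj_symm h2) ih

theorem not_isolated_of_partner {A D : Subgroup G} (hA : A ∈ S) (hD : D ∈ S) (hp : IsRankOnePair A D) :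
    ¬ IsIsolatedIn (FAdj S) S A := fun h => (h.2 D).1 ⟨hA, hD, hp⟩

theorem not_isolated_conj (hS : IsRootSubgroupSet S) {A : Subgroup G} (hA : ¬ IsIsolatedIn (FAdj S) S A)
    (hAS : A ∈ S) (g : G) : ¬ IsIsolatedIn (FAdj S) S (conjBy A g) := by
  obtain ⟨D, hD, hp⟩ := exists_partner hS hA hAS
  exact not_isolated_of_partner (hS.conj_mem A hAS g) (hS.conj_mem D hD g) (rankOne_conj hp g)

/-- No rank one pair lies in a nilpotent subgroup. -/
theorem not_nilpotent {A D K : Subgroup G} (hp : IsRankOnePair A D) (hA : A ≤ K) (hD : D ≤ K) :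
    ¬ Group.IsNilpotent ↥K := by
  intro hn
  have hle : A ⊔ D ≤ K := sup_le hA hD
  haveI : Group.IsNilpotent ↥(A ⊔ D) :=
    Group.nilpotent_of_mulEquiv (Subgroup.subgroupOfEquivOfLe hle)
  set X := A ⊔ D
  have hcl : Subgroup.normalClosure ((A.subgroupOf X : Subgroup ↥X) : Set ↥X) = ⊤ := by
    set N := Subgroup.normalClosure ((A.subgroupOf X : Subgroup ↥X) : Set ↥X)
    have hAN : A ≤ N.map X.subtype := fun a ha =>
      ⟨⟨a, Subgroup.mem_sup_left ha⟩, Subgroup.subset_normalClosure ha, rfl⟩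
    have hDN : D ≤ N.map X.subtype := by
      intro d hd
      obtain ⟨x, hx, e⟩ := right_mem hp
      rw [e, mem_conjBy] at hd
      have hmem : (⟨x⁻¹ * d * x, Subgroup.mem_sup_left hd⟩ : ↥X) ∈ N := Subgroup.subset_normalClosure hd
      refine ⟨⟨x, hx⟩ * ⟨x⁻¹ * d * x, Subgroup.mem_sup_left hd⟩ * ⟨x, hx⟩⁻¹,
        Subgroup.normalClosure_normal.conj_mem _ hmem _, ?_⟩
      simp [mul_assoc]
    rw [eq_top_iff]
    rintro ⟨x, hx⟩ -
    obtain ⟨y, hy, e⟩ := sup_le hAN hDN hx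
    rwa [show y = ⟨x, hx⟩ from Subtype.ext e] at hy
  have htop := Cfsg.Agent.S5018.eq_top_of_normalClosure _ hcl
  obtain ⟨d, hd, hd1⟩ := exists_ne_one (RankOnePair_symm hp)
  have hm : (⟨d, Subgroup.mem_sup_right hd⟩ : ↥X) ∈ A.subgroupOf X := htop ▸ Subgroup.mem_top _
  exact hd1 (inf_normalizer (RankOnePair_symm hp) hd (Subgroup.le_normalizer hm))

/-! ### The commutator case -/

/-- If `[A, B] ∈ S` then the pair is in the commutator case. -/
theorem case_of_mem (hS : IsRootSubgroupSet S) {A B : Subgroup G} (hA : A ∈ S) (hB : B ∈ S)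
    (hC : ⁅A, B⁆ ∈ S) : RootCommutatorCase S A B := by
  rcases hS.pair A hA B hB with h | h | h
  · exact absurd h (hS.ne_bot _ hC)
  · exfalso
    have hle : ⁅A, B⁆ ≤ A ⊔ B := (Subgroup.commutator_le.2 fun a ha b hb => by
      rw [commutatorElement_def]
      exact Subgroup.mul_mem _ (Subgroup.mul_mem _ (Subgroup.mul_mem _ (Subgroup.mem_sup_left ha)
        (Subgroup.mem_sup_right hb)) (inv_mem (Subgroup.mem_sup_left ha))) (inv_mem (Subgroup.mem_sup_right hb)))
    have hnorm : ∀ x ∈ A ⊔ B, conjBy ⁅A, B⁆ x = ⁅A, B⁆ := by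
      intro x hx
      rw [conjBy_eq_iff]
      exact (sup_le (Subgroup.normalizer_commutator_ge_left A B) (Subgroup.normalizer_commutator_ge_right A B)) hx
    rcases member_in_pair hS hA h hC hle with hU | hU
    · obtain ⟨y, hy, e⟩ := hU
      have hC' : ⁅A, B⁆ = A := by
        have h1 := hnorm y⁻¹ (inv_mem hy)
        rw [e, conjBy_conjBy, inv_mul_cancel, conjBy_one] at h1
        exact e.trans h1.symm
      have hnA : B ≤ Subgroup.normalizer (A : Set G) := by
        intro b hb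
        have h1 := hnorm b (Subgroup.mem_sup_right hb)
        rw [hC'] at h1
        exact conjBy_eq_iff.1 h1
      obtain ⟨b, hb, hb1⟩ := exists_ne_one (RankOnePair_symm h)
      exact hb1 (inf_normalizer (RankOnePair_symm h) hb (hnA hb))
    · have cA : ∀ c ∈ ⁅A, B⁆, ∀ x ∈ A, c * x = x * c := commutator_eq_bot_iff.1 (hU A self_mem)
      have cB : ∀ c ∈ ⁅A, B⁆, ∀ x ∈ B, c * x = x * c := commutator_eq_bot_iff.1 (hU B (right_mem h))
      obtain ⟨a, ha, ha1⟩ := exists_ne_one h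
      obtain ⟨b, hb, hb1⟩ := exists_ne_one (RankOnePair_symm h)
      by_cases hab : b * a * b⁻¹ = a
      · obtain ⟨b', hb', hb'1, e⟩ := h.cond_left a ha ha1
        have : a⁻¹ * b * a = b := by
          rw [mul_inv_eq_iff_eq_mul] at hab
          rw [mul_assoc, hab, inv_mul_cancel_left]
        have hb2 : b ∈ conjBy B a⁻¹ := by rw [mem_conjBy, inv_inv]; rwa [show a * b * a⁻¹ = b by
          rw [mul_inv_eq_iff_eq_mul] at hab ⊢; exact hab.symm]
        have hne : conjBy B a⁻¹ ≠ B := fun e => ha1 <| inv_eq_one.1 <|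
          inf_normalizer h (A.inv_mem ha) (conjBy_eq_iff.1 e)
        exact hb1 (eq_one_of_normalizes h (right_mem h)
          (RankOne.conj_mem (right_mem h) (Subgroup.mem_sup_left (A.inv_mem ha))) hne.symm hb
          (Subgroup.le_normalizer hb2))
      · have hz : b * a * b⁻¹ * a⁻¹ ∈ ⁅A, B⁆ := by
          rw [Subgroup.commutator_comm]
          exact Subgroup.commutator_mem_commutator hb ha
        have := mul_notMem_rootElements hS hA ⟨hB, h⟩ (z := b * a * b⁻¹ * a⁻¹) ?_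
          (fun e => hab (mul_inv_eq_one.1 e)) ha ha1
        · apply this
          rw [inv_mul_cancel_right]
          exact ⟨fun e => ha1 (conj_eq_one_iff.1 e), conjBy A b, hS.conj_mem A hA b, conj_mem_conjBy ha⟩
        · rw [← Subgroup.zpowers_le, Subgroup.le_centralizer_iff]
          refine sup_le ?_ ?_ <;> intro x hx <;> rw [Subgroup.mem_centralizer_iff] <;> intro w hw <;>
            obtain ⟨k, rfl⟩ := Subgroup.mem_zpowers_iff.1 hw
          · exact ((show Commute (b * a * b⁻¹ * a⁻¹) x from cA _ hz x hx).zpow_left k).eq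
          · exact ((show Commute (b * a * b⁻¹ * a⁻¹) x from cB _ hz x hx).zpow_left k).eq
  · exact h

theorem case_symm {A B : Subgroup G} (h : RootCommutatorCase S A B) : RootCommutatorCase S B A := by
  obtain ⟨h1, h2, h3, h4⟩ := h
  have key : ∀ (x : G) (Y : Subgroup G),
      Subgroup.closure ((fun y : G => y * x * y⁻¹ * x⁻¹) '' (Y : Set G)) =
      Subgroup.closure ((fun y : G => x * y * x⁻¹ * y⁻¹) '' (Y : Set G)) := by
    intro x Y
    have e : ∀ y : G, (x * y * x⁻¹ * y⁻¹)⁻¹ = y * x * y⁻¹ * x⁻¹ := fun y => by group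
    have e' : ∀ y : G, (y * x * y⁻¹ * x⁻¹)⁻¹ = x * y * x⁻¹ * y⁻¹ := fun y => by group
    apply le_antisymm <;> rw [Subgroup.closure_le] <;> rintro _ ⟨y, hy, rfl⟩
    · show y * x * y⁻¹ * x⁻¹ ∈ _
      rw [← e]; exact inv_mem (Subgroup.subset_closure ⟨y, hy, rfl⟩)
    · show x * y * x⁻¹ * y⁻¹ ∈ _
      rw [← e']; exact inv_mem (Subgroup.subset_closure ⟨y, hy, rfl⟩)
  rw [RootCommutatorCase, Subgroup.commutator_comm B A, sup_comm B A]
  exact ⟨h1, h2, fun b hb hb1 => (key b A).symm.trans (h4 b hb hb1), fun a ha ha1 => (key a B).trans (h3 a ha ha1)⟩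

theorem case_comm_mem {A B : Subgroup G} {a b : G} (ha : a ∈ A) (hb : b ∈ B) :
    b * a * b⁻¹ * a⁻¹ ∈ ⁅A, B⁆ := by
  rw [Subgroup.commutator_comm]
  exact Subgroup.commutator_mem_commutator hb ha

/-- `[A, B]` lies in `A` times any non-trivial conjugate of `A` under `B`. -/
theorem case_gen {A B : Subgroup G} (h : RootCommutatorCase S A B) {b : G} (hb : b ∈ B) (hb1 : b ≠ 1)
    {W : Subgroup G} (hA : A ≤ W) (hAb : conjBy A b ≤ W) : ⁅A, B⁆ ≤ W := by
  rw [← h.2.2.2 b hb hb1, Subgroup.closure_le]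
  rintro _ ⟨a, ha, rfl⟩
  have : a * b * a⁻¹ * b⁻¹ = a * (b * a⁻¹ * b⁻¹) := by group
  show a * b * a⁻¹ * b⁻¹ ∈ W
  rw [this]
  exact W.mul_mem (hA ha) (hAb (conj_mem_conjBy (A.inv_mem ha)))

/-- A class-two subgroup. -/
theorem commutator_closure_le {V : Set G} {Z : Subgroup G}
    (hZ : ∀ z ∈ Z, ∀ v ∈ Subgroup.closure V, z * v = v * z)
    (hcomm : ∀ u ∈ V, ∀ v ∈ V, u * v * u⁻¹ * v⁻¹ ∈ Z) :
    ∀ x ∈ Subgroup.closure V, ∀ y ∈ Subgroup.closure V, x * y * x⁻¹ * y⁻¹ ∈ Z := by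
  have one : ∀ u ∈ V, ∀ y ∈ Subgroup.closure V, u * y * u⁻¹ * y⁻¹ ∈ Z := by
    intro u hu y hy
    induction hy using Subgroup.closure_induction with
    | mem v hv => exact hcomm u hu v hv
    | one => simp
    | mul v w hv hw iv iw =>
      have e : u * (v * w) * u⁻¹ * (v * w)⁻¹ = (u * v * u⁻¹ * v⁻¹) * (v * (u * w * u⁻¹ * w⁻¹) * v⁻¹) := by group
      rw [e, ← hZ _ iw v hv, mul_inv_cancel_right]
      exact mul_mem iv iw
    | inv v hv iv =>
      have e : u * v⁻¹ * u⁻¹ * v⁻¹⁻¹ = v⁻¹ * (u * v * u⁻¹ * v⁻¹)⁻¹ * v⁻¹⁻¹ := by group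
      rw [e, ← hZ _ (inv_mem iv) v⁻¹ (inv_mem hv), mul_inv_cancel_right]
      exact inv_mem iv
  intro x hx y hy
  induction hx using Subgroup.closure_induction with
  | mem u hu => exact one u hu y hy
  | one => simp
  | mul u v hu hv iu iv =>
    have e : u * v * y * (u * v)⁻¹ * y⁻¹ = (u * (v * y * v⁻¹ * y⁻¹) * u⁻¹) * (u * y * u⁻¹ * y⁻¹) := by group
    rw [e, ← hZ _ iv u hu, mul_inv_cancel_right]
    exact mul_mem iv iu
  | inv u hu iu =>
    have e : u⁻¹ * y * u⁻¹⁻¹ * y⁻¹ = u⁻¹ * (u * y * u⁻¹ * y⁻¹)⁻¹ * u⁻¹⁻¹ := by group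
    rw [e, ← hZ _ (inv_mem iu) u⁻¹ (inv_mem hu), mul_inv_cancel_right]
    exact inv_mem iu

/-! ### Triples -/

/-- `A`, `C` commute and both are in the commutator case with `B`. -/
structure Triple (S : Set (Subgroup G)) (A B C : Subgroup G) : Prop where
  hA : A ∈ S
  hB : B ∈ S
  hC : C ∈ S
  comm : ∀ a ∈ A, ∀ c ∈ C, a * c = c * a
  cA : RootCommutatorCase S A B
  cC : RootCommutatorCase S C B

theorem Triple.symm {A B C : Subgroup G} (T : Triple S A B C) : Triple S C B A :=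
  ⟨T.hC, T.hB, T.hA, fun c hc a ha => (T.comm a ha c hc).symm, T.cC, T.cA⟩

variable {A B C : Subgroup G}

theorem conj_conj_commute (hS : IsRootSubgroupSet S) (hA : A ∈ S) (h : RootCommutatorCase S A B)
    {b b' : G} (hb : b ∈ B) (hb' : b' ∈ B) : ∀ x ∈ conjBy A b, ∀ y ∈ conjBy A b', x * y = y * x := by
  have h1 := commutator_eq_bot_iff.1 (case_conj_commute hS hA (case_symm h) (e := b'⁻¹ * b)
    (B.mul_mem (B.inv_mem hb') hb))
  intro x hx y hy
  rw [mem_conjBy] at hx hy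
  have hx' : b'⁻¹ * x * b' ∈ conjBy A (b'⁻¹ * b) := by
    rw [mem_conjBy]; convert hx using 1; group
  have e := h1 _ hx' _ hy
  calc x * y = b' * ((b'⁻¹ * x * b') * (b'⁻¹ * y * b')) * b'⁻¹ := by group
    _ = _ := by rw [e]; group

/-- A `B`-conjugate of `C` and `A` commute or are in the commutator case. -/
theorem Triple.pair (hS : IsRootSubgroupSet S) (T : Triple S A B C) {b : G} (hb : b ∈ B) :
    ⁅A, conjBy C b⁆ = ⊥ ∨ RootCommutatorCase S A (conjBy C b) := by
  rcases hS.pair A T.hA (conjBy C b) (hS.conj_mem C T.hC b) with h | h | h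
  · exact Or.inl h
  · exfalso
    -- `C` centralizes the rank one pair
    by_cases hb1 : b = 1
    · subst hb1
      rw [conjBy_one] at h
      exact RankOne.not_commute h (commutator_eq_bot_iff.2 T.comm)
    obtain ⟨c', hc', hc'1⟩ := exists_ne_one (RankOnePair_symm h)
    set c := b⁻¹ * c' * b with hc
    have hcC : c ∈ C := mem_conjBy.1 hc'
    have hcc : ∀ x ∈ C, x * c = c * x := fun x hx => comm_self hS T.hC x hx c hcC
    by_cases hfix : c' = c
    · -- then `c'` centralizes `A`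
      have : c' ∈ Subgroup.normalizer (A : Set G) := mem_normalizer_of_centralizes fun a ha =>
        (hfix ▸ T.comm a ha c hcC).symm
      exact hc'1 (inf_normalizer (RankOnePair_symm h) hc' this)
    have hzc : c⁻¹ ∈ Subgroup.centralizer ((conjBy C b ⊔ A : Subgroup G) : Set G) := by
      rw [← Subgroup.zpowers_le, Subgroup.le_centralizer_iff]
      refine sup_le ?_ ?_ <;> intro x hx <;> rw [Subgroup.mem_centralizer_iff] <;> intro w hw <;>
        obtain ⟨k, rfl⟩ := Subgroup.mem_zpowers_iff.1 hw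
      · have h1 := conj_conj_commute hS T.hC T.cC hb B.one_mem x hx c (by rw [conjBy_one]; exact hcC)
        exact ((show Commute c x from h1.symm).inv_left.zpow_left k).eq
      · exact ((show Commute c x from (T.comm x hx c hcC).symm).inv_left.zpow_left k).eq
    have hc1 : c⁻¹ ≠ 1 := fun e => hc'1 (by
      have : c = 1 := inv_eq_one.1 e
      calc c' = b * c * b⁻¹ := by rw [hc]; group
        _ = 1 := by rw [this]; simp)
    have := mul_notMem_rootElements hS (hS.conj_mem C T.hC b) ⟨T.hA, RankOnePair_symm h⟩ hzc hc1 hc' hc'1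
    apply this
    refine ⟨fun e => hfix (inv_mul_eq_one.1 e).symm, ⁅C, B⁆, T.cC.1, ?_⟩
    have h1 : b * c * b⁻¹ * c⁻¹ ∈ ⁅C, B⁆ := case_comm_mem hcC hb
    have h2 := T.cC.2.1 _ h1 c (Subgroup.mem_sup_left hcC)
    have : c⁻¹ * c' = b * c * b⁻¹ * c⁻¹ := by
      rw [inv_mul_eq_iff_eq_mul, ← h2, hc]; group
    rw [this]; exact h1
  · exact Or.inr h

/-- The `B`-invariant subgroup `W = ⟨A, C, [A,B], [C,B]⟩`. -/
def tripleGroup (A B C : Subgroup G) : Subgroup G := (A ⊔ ⁅A, B⁆) ⊔ (C ⊔ ⁅C, B⁆)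

theorem Triple.centralizes (hS : IsRootSubgroupSet S) (T : Triple S A B C) :
    ∀ x ∈ A, ∀ e ∈ ⁅C, B⁆,
      x * e * x⁻¹ * e⁻¹ ∈ (Subgroup.center ↥(tripleGroup A B C)).map (tripleGroup A B C).subtype := by
  intro x hx e he
  set W := tripleGroup A B C with hW
  have hAW : A ≤ W := le_sup_left.trans le_sup_left
  have hFW : ⁅A, B⁆ ≤ W := le_sup_right.trans le_sup_left
  have hCW : C ≤ W := le_sup_left.trans le_sup_right
  have hEW : ⁅C, B⁆ ≤ W := le_sup_right.trans le_sup_right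
  -- fix a non-trivial element of `B`
  obtain ⟨b, hb, hb1⟩ := (Subgroup.bot_or_exists_ne_one B).resolve_left (hS.ne_bot B T.hB)
  have hAbW : conjBy A b ≤ W := fun y hy => by
    have hy' := mem_conjBy.1 hy
    have e : y = (b * (b⁻¹ * y * b) * b⁻¹ * (b⁻¹ * y * b)⁻¹) * (b⁻¹ * y * b) := by group
    rw [e]; exact W.mul_mem (hFW (case_comm_mem hy' hb)) (hAW hy')
  have hCbW : conjBy C b ≤ W := fun y hy => by
    have hy' := mem_conjBy.1 hy
    have e : y = (b * (b⁻¹ * y * b) * b⁻¹ * (b⁻¹ * y * b)⁻¹) * (b⁻¹ * y * b) := by group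
    rw [e]; exact W.mul_mem (hEW (case_comm_mem hy' hb)) (hCW hy')
  set Y := ⁅A, conjBy C b⁆ with hY
  have hYA : ∀ y ∈ Y, ∀ v ∈ A, y * v = v * y := by
    intro y hy v hv
    rcases T.pair hS hb with h | h
    · rw [hY, h, Subgroup.mem_bot] at hy; subst hy; simp
    · exact h.2.1 y hy v (Subgroup.mem_sup_left hv)
  have hYC' : ∀ y ∈ Y, ∀ v ∈ conjBy C b, y * v = v * y := by
    intro y hy v hv
    rcases T.pair hS hb with h | h
    · rw [hY, h, Subgroup.mem_bot] at hy; subst hy; simp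
    · exact h.2.1 y hy v (Subgroup.mem_sup_right hv)
  have hYcent : ∀ v : G, (∀ a ∈ A, a * v = v * a) → (∀ c ∈ conjBy C b, c * v = v * c) →
      ∀ y ∈ Y, y * v = v * y := by
    intro v h1 h2 y hy
    have : Y ≤ Subgroup.centralizer ({v} : Set G) := by
      rw [hY, Subgroup.commutator_le]
      intro a ha c hc
      have k1 : a ∈ Subgroup.centralizer ({v} : Set G) := Subgroup.mem_centralizer_singleton_iff.2 (h1 a ha)
      have k2 : c ∈ Subgroup.centralizer ({v} : Set G) := Subgroup.mem_centralizer_singleton_iff.2 (h2 c hc)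
      rw [commutatorElement_def]
      exact mul_mem (mul_mem (mul_mem k1 k2) (inv_mem k1)) (inv_mem k2)
    exact Subgroup.mem_centralizer_singleton_iff.1 (this hy)
  have hYC : ∀ y ∈ Y, ∀ v ∈ C, y * v = v * y := fun y hy v hv =>
    hYcent v (fun a ha => T.comm a ha v hv)
      (fun c hc => conj_conj_commute hS T.hC T.cC hb B.one_mem c hc v (by rw [conjBy_one]; exact hv)) y hy
  have hYA' : ∀ y ∈ Y, ∀ v ∈ conjBy A b, y * v = v * y := fun y hy v hv =>
    hYcent v (fun a ha => (conj_conj_commute hS T.hA T.cA hb B.one_mem v hv a (by rw [conjBy_one]; exact ha)).symm)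
      (fun c hc => by
        rw [mem_conjBy] at hv hc
        have := T.comm _ hv _ hc
        calc c * v = b * ((b⁻¹ * c * b) * (b⁻¹ * v * b)) * b⁻¹ := by group
          _ = _ := by rw [← this]; group) y hy
  let Z := Subgroup.centralizer (Y : Set G)
  have inZ : ∀ {U : Subgroup G}, (∀ y ∈ Y, ∀ v ∈ U, y * v = v * y) → U ≤ Z := fun h v hv =>
    Subgroup.mem_centralizer_iff.2 fun y hy => h y hy v hv
  have hWZ : W ≤ Z :=
    sup_le (sup_le (inZ hYA) (case_gen T.cA hb hb1 (inZ hYA) (inZ hYA')))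
      (sup_le (inZ hYC) (case_gen T.cC hb hb1 (inZ hYC) (inZ hYC')))
  have hYW : Y ≤ W := by
    rw [hY, Subgroup.commutator_le]
    intro a ha c hc
    rw [commutatorElement_def]
    exact W.mul_mem (W.mul_mem (W.mul_mem (hAW ha) (hCbW hc)) (W.inv_mem (hAW ha))) (W.inv_mem (hCbW hc))
  have hcen : Y ≤ (Subgroup.center ↥W).map W.subtype := fun y hy =>
    ⟨⟨y, hYW hy⟩, Subgroup.mem_center_iff.2 fun v =>
      Subtype.ext ((Subgroup.mem_centralizer_iff.1 (hWZ v.2) y hy).symm), rfl⟩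
  -- `[C, B]` lies in `C C^b`
  have heV : e ∈ Subgroup.closure ((C : Set G) ∪ conjBy C b) :=
    case_gen T.cC hb hb1 (fun v hv => Subgroup.subset_closure (Or.inl hv))
      (fun v hv => Subgroup.subset_closure (Or.inr hv)) he
  have hVW : Subgroup.closure ((C : Set G) ∪ conjBy C b) ≤ W := by
    rw [Subgroup.closure_le]
    rintro v (hv | hv)
    · exact hCW hv
    · exact hCbW hv
  apply hcen
  clear he
  induction heV using Subgroup.closure_induction with
  | mem v hv =>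
    rcases hv with hv | hv
    · rw [T.comm x hx v hv]; simp
    · exact Subgroup.commutator_mem_commutator hx hv
  | one => simp
  | mul v w hv hw iv iw =>
    have e2 : x * (v * w) * x⁻¹ * (v * w)⁻¹ = (x * v * x⁻¹ * v⁻¹) * (v * (x * w * x⁻¹ * w⁻¹) * v⁻¹) := by group
    have h3 : (x * w * x⁻¹ * w⁻¹) * v = v * (x * w * x⁻¹ * w⁻¹) :=
      Subgroup.mem_centralizer_iff.1 (hWZ (hVW hv)) _ iw
    rw [e2, ← h3, mul_inv_cancel_right]
    exact mul_mem iv iw
  | inv v hv iv =>
    have e2 : x * v⁻¹ * x⁻¹ * v⁻¹⁻¹ = v⁻¹ * (x * v * x⁻¹ * v⁻¹)⁻¹ * v⁻¹⁻¹ := by group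
    have h3 : (x * v * x⁻¹ * v⁻¹)⁻¹ * v⁻¹ = v⁻¹ * (x * v * x⁻¹ * v⁻¹)⁻¹ :=
      Subgroup.mem_centralizer_iff.1 (hWZ (hVW (inv_mem hv))) _ (inv_mem iv)
    rw [e2, ← h3, mul_inv_cancel_right]
    exact inv_mem iv

theorem tripleGroup_symm (A B C : Subgroup G) : tripleGroup A B C = tripleGroup C B A := sup_comm _ _

theorem Triple.le_normalizer (hS : IsRootSubgroupSet S) (T : Triple S A B C) :
    A ⊔ B ⊔ C ≤ Subgroup.normalizer (tripleGroup A B C : Set G) := by
  set W := tripleGroup A B C with hW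
  have hAW : A ≤ W := le_sup_left.trans le_sup_left
  have hFW : ⁅A, B⁆ ≤ W := le_sup_right.trans le_sup_left
  have hCW : C ≤ W := le_sup_left.trans le_sup_right
  have hEW : ⁅C, B⁆ ≤ W := le_sup_right.trans le_sup_right
  refine sup_le (sup_le (hAW.trans Subgroup.le_normalizer) ?_) (hCW.trans Subgroup.le_normalizer)
  rw [Subgroup.le_normalizer_iff]
  intro b hb w hw
  have hle : W ≤ W.comap (MulAut.conj b).toMonoidHom := by
    have key : ∀ {U : Subgroup G}, RootCommutatorCase S U B → U ≤ W → ⁅U, B⁆ ≤ W →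
        U ⊔ ⁅U, B⁆ ≤ W.comap (MulAut.conj b).toMonoidHom := by
      intro U hU h1 h2
      refine sup_le (fun u hu => ?_) (fun u hu => ?_)
      · show b * u * b⁻¹ ∈ W
        have : b * u * b⁻¹ = (b * u * b⁻¹ * u⁻¹) * u := by group
        rw [this]; exact W.mul_mem (h2 (case_comm_mem hu hb)) (h1 hu)
      · show b * u * b⁻¹ ∈ W
        rw [← hU.2.1 u hu b (Subgroup.mem_sup_right hb), mul_inv_cancel_right]
        exact h2 hu
    exact sup_le (key T.cA hAW hFW) (key T.cC hCW hEW)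
  exact hle hw

/-- `⟨A, B, C⟩` is nilpotent. -/
theorem Triple.nilpotent (hS : IsRootSubgroupSet S) (T : Triple S A B C) :
    Group.IsNilpotent ↥(A ⊔ B ⊔ C) := by
  set K := A ⊔ B ⊔ C with hK
  set F := ⁅A, B⁆ with hF
  set E := ⁅C, B⁆ with hE
  set W := tripleGroup A B C with hW
  have hAW : A ≤ W := le_sup_left.trans le_sup_left
  have hFW : F ≤ W := le_sup_right.trans le_sup_left
  have hCW : C ≤ W := le_sup_left.trans le_sup_right
  have hEW : E ≤ W := le_sup_right.trans le_sup_right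
  set Z := (Subgroup.center ↥W).map W.subtype with hZdef
  have hZ : ∀ z ∈ Z, ∀ v ∈ W, z * v = v * z := by
    rintro _ ⟨z, hz, rfl⟩ v hv
    exact (congrArg Subtype.val (Subgroup.mem_center_iff.1 hz ⟨v, hv⟩)).symm
  have cAE : ∀ x ∈ A, ∀ e ∈ E, x * e * x⁻¹ * e⁻¹ ∈ Z := T.centralizes hS
  have cCF : ∀ x ∈ C, ∀ f ∈ F, x * f * x⁻¹ * f⁻¹ ∈ Z := by
    intro x hx f hf
    have := T.symm.centralizes hS x hx f hf
    rw [← tripleGroup_symm] at this
    exact this
  have inv' : ∀ {p q : G}, p * q * p⁻¹ * q⁻¹ ∈ Z → q * p * q⁻¹ * p⁻¹ ∈ Z := fun {p q} h => by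
    have e : q * p * q⁻¹ * p⁻¹ = (p * q * p⁻¹ * q⁻¹)⁻¹ := by group
    rw [e]; exact inv_mem h
  have triv : ∀ {p q : G}, p * q = q * p → p * q * p⁻¹ * q⁻¹ ∈ Z := fun {p q} h => by
    rw [h]; simp
  -- `[E, F]` is central in `W`
  have cEF : ∀ e ∈ E, ∀ f ∈ F, e * f * e⁻¹ * f⁻¹ ∈ Z := by
    obtain ⟨b, hb, hb1⟩ := (Subgroup.bot_or_exists_ne_one B).resolve_left (hS.ne_bot B T.hB)
    intro e he f hf
    have gen : ∀ {U : Subgroup G}, RootCommutatorCase S U B → ∀ y ∈ ⁅U, B⁆,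
        y ∈ Subgroup.closure ((fun u : G => b * u * b⁻¹ * u⁻¹) '' (U : Set G)) := by
      intro U hU y hy
      have h1 := (case_symm hU).2.2.1 b hb hb1
      rw [Subgroup.commutator_comm] at h1
      rwa [h1]
    have base : ∀ a ∈ A, ∀ c ∈ C, (b * c * b⁻¹ * c⁻¹) * (b * a * b⁻¹ * a⁻¹) * (b * c * b⁻¹ * c⁻¹)⁻¹ * (b * a * b⁻¹ * a⁻¹)⁻¹ ∈ Z := by
      intro a ha c hc
      have h1 := cAE a ha _ (case_comm_mem hc hb)
      have h2 := cCF c hc _ (case_comm_mem ha hb)
      have hac := T.comm a ha c hc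
      have hac' : (b * a * b⁻¹) * (b * c * b⁻¹) = (b * c * b⁻¹) * (b * a * b⁻¹) := by
        calc (b * a * b⁻¹) * (b * c * b⁻¹) = b * (a * c) * b⁻¹ := by group
          _ = _ := by rw [hac]; group
      have hec : (b * c * b⁻¹ * c⁻¹) * c = c * (b * c * b⁻¹ * c⁻¹) :=
        T.cC.2.1 _ (case_comm_mem hc hb) c (Subgroup.mem_sup_left hc)
      have hfa : (b * a * b⁻¹ * a⁻¹) * a = a * (b * a * b⁻¹ * a⁻¹) :=
        T.cA.2.1 _ (case_comm_mem ha hb) a (Subgroup.mem_sup_left ha)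
      generalize he' : b * c * b⁻¹ * c⁻¹ = u at h1 hec ⊢
      generalize hf' : b * a * b⁻¹ * a⁻¹ = v at h2 hfa ⊢
      have hbc : b * c * b⁻¹ = u * c := by rw [← he']; group
      have hba : b * a * b⁻¹ = v * a := by rw [← hf']; group
      rw [hbc, hba] at hac'
      have huW : u ∈ W := he' ▸ hEW (case_comm_mem hc hb)
      have hvW : v ∈ W := hf' ▸ hFW (case_comm_mem ha hb)
      generalize hs : a * u * a⁻¹ * u⁻¹ = s at h1
      generalize ht : c * v * c⁻¹ * v⁻¹ = t at h2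
      have e1 : u * c * (v * a) = u * (t * v) * (c * a) := by rw [← ht]; group
      have e2 : v * a * (u * c) = v * (s * u) * (a * c) := by rw [← hs]; group
      rw [e1, e2, ← hac] at hac'
      have hac3 := mul_right_cancel hac'
      -- hac3 : v * (s * u) = u * (t * v)
      have e3 : u * v * u⁻¹ * v⁻¹ = t⁻¹ * s := by
        rw [← mul_assoc v s, ← hZ s h1 v hvW, mul_assoc s v, ← mul_assoc u t, ← hZ t h2 u huW,
          mul_assoc t u] at hac3
        have : u * v = t⁻¹ * (s * (v * u)) := by rw [hac3]; group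
        rw [this]; group
      rw [e3]
      exact mul_mem (inv_mem h2) h1
    have hV : ∀ {U : Subgroup G}, U ⊔ ⁅U, B⁆ ≤ W → ∀ u ∈ U, b * u * b⁻¹ * u⁻¹ ∈ W := fun hle u hu =>
      hle (Subgroup.mem_sup_right (case_comm_mem hu hb))
    set V := ((fun u : G => b * u * b⁻¹ * u⁻¹) '' (C : Set G)) ∪ ((fun u : G => b * u * b⁻¹ * u⁻¹) '' (A : Set G))
    have hVW : Subgroup.closure V ≤ W := by
      rw [Subgroup.closure_le]
      rintro _ (⟨u, hu, rfl⟩ | ⟨u, hu, rfl⟩)
      · exact hV (sup_le hCW hEW) u hu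
      · exact hV (sup_le hAW hFW) u hu
    refine commutator_closure_le (fun z hz v hv => hZ z hz v (hVW hv)) ?_ e
      (Subgroup.closure_mono Set.subset_union_left (gen T.cC e he)) f
      (Subgroup.closure_mono Set.subset_union_right (gen T.cA f hf))
    rintro _ (⟨u, hu, rfl⟩ | ⟨u, hu, rfl⟩) _ (⟨v, hv, rfl⟩ | ⟨v, hv, rfl⟩)
    · exact triv (comm_self hS T.cC.1 _ (case_comm_mem hu hb) _ (case_comm_mem hv hb))
    · exact base v hv u hu
    · exact inv' (base u hu v hv)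
    · exact triv (comm_self hS T.cA.1 _ (case_comm_mem hu hb) _ (case_comm_mem hv hb))
  -- all commutators inside `W` are central
  have hgenW : W = Subgroup.closure (((A : Set G) ∪ F) ∪ ((C : Set G) ∪ E)) := by
    rw [hW, tripleGroup, Subgroup.closure_union, Subgroup.closure_union, Subgroup.closure_union,
      Subgroup.closure_eq, Subgroup.closure_eq, Subgroup.closure_eq, Subgroup.closure_eq]
  have hWW : ∀ x ∈ W, ∀ y ∈ W, x * y * x⁻¹ * y⁻¹ ∈ Z := by
    have hlt := commutator_closure_le (V := ((A : Set G) ∪ F) ∪ ((C : Set G) ∪ E)) (Z := Z)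
      (fun z hz v hv => hZ z hz v (hgenW ▸ hv)) ?_
    · intro x hx y hy
      exact hlt x (hgenW ▸ hx) y (hgenW ▸ hy)
    rintro u ((hu | hu) | (hu | hu)) v ((hv | hv) | (hv | hv))
    · exact triv (comm_self hS T.hA u hu v hv)
    · exact triv (T.cA.2.1 v hv u (Subgroup.mem_sup_left hu)).symm
    · exact triv (T.comm u hu v hv)
    · exact cAE u hu v hv
    · exact triv (T.cA.2.1 u hu v (Subgroup.mem_sup_left hv))
    · exact triv (comm_self hS T.cA.1 u hu v hv)
    · exact inv' (cCF v hv u hu)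
    · exact inv' (cEF v hv u hu)
    · exact triv (T.comm v hv u hu).symm
    · exact cCF u hu v hv
    · exact triv (comm_self hS T.hC u hu v hv)
    · exact triv (T.cC.2.1 v hv u (Subgroup.mem_sup_left hu)).symm
    · exact inv' (cAE v hv u hu)
    · exact cEF u hu v hv
    · exact triv (T.cC.2.1 u hu v (Subgroup.mem_sup_left hv))
    · exact triv (comm_self hS T.cC.1 u hu v hv)
  -- membership helpers
  have hAK : A ≤ K := le_sup_left.trans le_sup_left
  have hBK : B ≤ K := le_sup_right.trans le_sup_left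
  have hCK : C ≤ K := le_sup_right
  -- upper central series by descending steps
  have hWn := T.le_normalizer hS
  set U2 := Subgroup.upperCentralSeries ↥K 2 with hU2
  have step : ∀ (n : ℕ) (x : ↥K), (∀ y : ↥K, ((y : G) ∈ A ∨ (y : G) ∈ B ∨ (y : G) ∈ C) →
      ⁅x, y⁆ ∈ Subgroup.upperCentralSeries ↥K n) → x ∈ Subgroup.upperCentralSeries ↥K (n + 1) := by
    intro n x h
    rw [Subgroup.mem_upperCentralSeries_succ_iff]
    set U := Subgroup.upperCentralSeries ↥K n with hU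
    haveI : U.Normal := by rw [hU]; infer_instance
    have hall : K ≤ (Subgroup.comap (QuotientGroup.mk' U)
        (Subgroup.centralizer ({QuotientGroup.mk' U x} : Set (↥K ⧸ U)))).map K.subtype := by
      have one : ∀ y : ↥K, ((y : G) ∈ A ∨ (y : G) ∈ B ∨ (y : G) ∈ C) →
          y ∈ Subgroup.comap (QuotientGroup.mk' U) (Subgroup.centralizer ({QuotientGroup.mk' U x} : Set (↥K ⧸ U))) := by
        intro y hy
        rw [Subgroup.mem_comap, Subgroup.mem_centralizer_singleton_iff]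
        have := (QuotientGroup.eq_one_iff (N := U) ⁅x, y⁆).2 (h y hy)
        rw [← QuotientGroup.mk'_apply, map_commutatorElement, commutatorElement_eq_one_iff_mul_comm] at this
        exact this.symm
      refine sup_le (sup_le ?_ ?_) ?_ <;> intro y hy
      · exact ⟨⟨y, hAK hy⟩, one _ (Or.inl hy), rfl⟩
      · exact ⟨⟨y, hBK hy⟩, one _ (Or.inr (Or.inl hy)), rfl⟩
      · exact ⟨⟨y, hCK hy⟩, one _ (Or.inr (Or.inr hy)), rfl⟩
    intro y
    obtain ⟨y', hy', e⟩ := hall y.2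
    rw [show y = y' from (Subtype.ext e).symm]
    rw [SetLike.mem_coe, Subgroup.mem_comap, Subgroup.mem_centralizer_singleton_iff] at hy'
    rw [← QuotientGroup.eq_one_iff (N := U), ← QuotientGroup.mk'_apply, map_commutatorElement,
      commutatorElement_eq_one_iff_mul_comm]
    exact hy'.symm
  have lev1 : ∀ x : ↥K, (x : G) ∈ Z → (∀ b ∈ B, (x : G) * b = b * x) → x ∈ Subgroup.upperCentralSeries ↥K 1 := by
    intro x hx hxB
    refine step 0 x fun y hy => ?_
    rw [Subgroup.upperCentralSeries_zero, Subgroup.mem_bot]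
    apply Subtype.ext
    show (x : G) * y * (x : G)⁻¹ * (y : G)⁻¹ = 1
    have : (x : G) * y = y * x := by
      rcases hy with hy | hy | hy
      · exact hZ _ hx _ (hAW hy)
      · exact hxB _ hy
      · exact hZ _ hx _ (hCW hy)
    rw [this]; simp
  -- centralizer of B meets the gens
  have hEB : ∀ e ∈ E, ∀ b ∈ B, e * b = b * e := fun e he b hb => T.cC.2.1 e he b (Subgroup.mem_sup_right hb)
  have hFB : ∀ f ∈ F, ∀ b ∈ B, f * b = b * f := fun f hf b hb => T.cA.2.1 f hf b (Subgroup.mem_sup_right hb)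
  have hWK : W ≤ K := by
    have : ∀ {U : Subgroup G}, U ≤ K → U ⊔ ⁅U, B⁆ ≤ K := fun {U} hU => sup_le hU (by
      rw [Subgroup.commutator_le]
      intro u hu b hb
      rw [commutatorElement_def]
      exact K.mul_mem (K.mul_mem (K.mul_mem (hU hu) (hBK hb)) (K.inv_mem (hU hu))) (K.inv_mem (hBK hb)))
    exact sup_le (this hAK) (this hCK)
  have hZW : Z ≤ W := Subgroup.map_subtype_le _
  -- [E,F] is central in K
  have levEF : ∀ e ∈ E, ∀ f ∈ F, ∀ x : ↥K, (x : G) = e * f * e⁻¹ * f⁻¹ → x ∈ Subgroup.upperCentralSeries ↥K 1 := by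
    intro e he f hf x hx
    refine lev1 x (hx ▸ cEF e he f hf) fun b hb => ?_
    have hec := Subgroup.mem_centralizer_singleton_iff.2 (hEB e he b hb)
    have hfc := Subgroup.mem_centralizer_singleton_iff.2 (hFB f hf b hb)
    rw [hx]
    exact Subgroup.mem_centralizer_singleton_iff.1 (mul_mem (mul_mem (mul_mem hec hfc) (inv_mem hec)) (inv_mem hfc))
  -- [A,E], [C,F] lie in the second centre
  have lev2 : ∀ {U U' : Subgroup G}, RootCommutatorCase S U B → RootCommutatorCase S U' B → U ≤ W → U' ≤ W →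
      ⁅U, B⁆ ≤ W → ⁅U', B⁆ ≤ W → (∀ e ∈ ⁅U', B⁆, ∀ f ∈ ⁅U, B⁆, ∀ x : ↥K, (x : G) = f * e * f⁻¹ * e⁻¹ → x ∈ Subgroup.upperCentralSeries ↥K 1) →
      ∀ u ∈ U, ∀ e ∈ ⁅U', B⁆, u * e * u⁻¹ * e⁻¹ ∈ Z → ∀ x : ↥K, (x : G) = u * e * u⁻¹ * e⁻¹ → x ∈ U2 := by
    intro U U' hU hU' hUW hU'W hFU hEU hef u hu e he hz x hx
    refine step 1 x fun y hy => ?_
    rcases hy with hy | hy | hy
    · rw [show ⁅x, y⁆ = 1 from Subtype.ext (by
        show (x : G) * y * (x : G)⁻¹ * (y : G)⁻¹ = 1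
        rw [hx, hZ _ hz _ (hAW hy)]; group)]
      exact one_mem _
    · -- conjugation by `y` changes `u` by an element of `[U, B]`
      set f := (y : G) * u * (y : G)⁻¹ * u⁻¹ with hf
      have hfm : f ∈ ⁅U, B⁆ := case_comm_mem hu hy
      have hey : (y : G) * e * (y : G)⁻¹ = e := by
        rw [← hU'.2.1 e he _ (Subgroup.mem_sup_right hy), mul_inv_cancel_right]
      have hfe : f * e * f⁻¹ * e⁻¹ ∈ Z := by
        have := hWW f (hFU hfm) e (hEU he)
        exact this
      have e1 : (y : G) * (u * e * u⁻¹ * e⁻¹) * (y : G)⁻¹ = (u * e * u⁻¹ * e⁻¹) * (f * e * f⁻¹ * e⁻¹) := by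
        calc (y : G) * (u * e * u⁻¹ * e⁻¹) * (y : G)⁻¹
            = ((y : G) * u * (y : G)⁻¹) * ((y : G) * e * (y : G)⁻¹) * ((y : G) * u * (y : G)⁻¹)⁻¹ * ((y : G) * e * (y : G)⁻¹)⁻¹ := by group
          _ = (f * u) * e * (f * u)⁻¹ * e⁻¹ := by rw [hey, hf]; group
          _ = (f * (u * e * u⁻¹ * e⁻¹) * f⁻¹) * (f * e * f⁻¹ * e⁻¹) := by group
          _ = _ := by rw [← hZ _ hz f (hFU hfm)]; group
      have hm : ⁅y, x⁆ ∈ Subgroup.upperCentralSeries ↥K 1 := by
        refine hef e he f hfm _ ?_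
        show (y : G) * x * (y : G)⁻¹ * (x : G)⁻¹ = _
        rw [hx, e1, hZ _ hz _ (W.mul_mem (W.mul_mem (W.mul_mem (hFU hfm) (hEU he)) (W.inv_mem (hFU hfm))) (W.inv_mem (hEU he))),
          mul_inv_cancel_right]
      rw [← commutatorElement_inv]
      exact inv_mem hm
    · rw [show ⁅x, y⁆ = 1 from Subtype.ext (by
        show (x : G) * y * (x : G)⁻¹ * (y : G)⁻¹ = 1
        rw [hx, hZ _ hz _ (hCW hy)]; group)]
      exact one_mem _
  have lev2AE : ∀ a ∈ A, ∀ e ∈ E, ∀ x : ↥K, (x : G) = a * e * a⁻¹ * e⁻¹ → x ∈ U2 := fun a ha e he x hx =>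
    lev2 T.cA T.cC hAW hCW hFW hEW (fun e he f hf x hx => by
      have h1 := levEF e he f hf x⁻¹ (by rw [Subgroup.coe_inv, hx]; group)
      exact inv_mem_iff.1 h1) a ha e he (cAE a ha e he) x hx
  have lev2CF : ∀ c ∈ C, ∀ f ∈ F, ∀ x : ↥K, (x : G) = c * f * c⁻¹ * f⁻¹ → x ∈ U2 := fun c hc f hf x hx =>
    lev2 T.cC T.cA hCW hAW hEW hFW (fun f hf e he x hx => levEF e he f hf x hx) c hc f hf (cCF c hc f hf) x hx
  -- E and F lie in the third centre
  have lev3 : ∀ x : ↥K, ((x : G) ∈ E ∨ (x : G) ∈ F) → x ∈ Subgroup.upperCentralSeries ↥K 3 := by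
    intro x hx
    refine step 2 x fun y hy => ?_
    have triv' : (x : G) * y = y * x → ⁅x, y⁆ ∈ Subgroup.upperCentralSeries ↥K 2 := fun e => by
      rw [show ⁅x, y⁆ = 1 from Subtype.ext (by
        show (x : G) * y * (x : G)⁻¹ * (y : G)⁻¹ = 1
        rw [e]; simp)]
      exact one_mem _
    rcases hx with hx | hx <;> rcases hy with hy | hy | hy
    · have h1 := lev2AE _ hy _ hx ⁅y, x⁆ rfl
      rw [← commutatorElement_inv]; exact inv_mem h1
    · exact triv' (hEB _ hx _ hy)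
    · exact triv' (T.cC.2.1 _ hx _ (Subgroup.mem_sup_left hy))
    · exact triv' (T.cA.2.1 _ hx _ (Subgroup.mem_sup_left hy))
    · exact triv' (hFB _ hx _ hy)
    · have h1 := lev2CF _ hy _ hx ⁅y, x⁆ rfl
      rw [← commutatorElement_inv]; exact inv_mem h1
  -- everything lies in the fourth centre
  rw [Subgroup.nilpotent_iff_lowerCentralSeries] at *
  suffices h4 : Subgroup.upperCentralSeries ↥K 4 = ⊤ by
    have hnil : Group.IsNilpotent ↥K := ⟨⟨4, h4⟩⟩
    exact Subgroup.nilpotent_iff_lowerCentralSeries.1 hnil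
  rw [eq_top_iff]
  rintro x -
  have one4 : ∀ y : ↥K, ((y : G) ∈ A ∨ (y : G) ∈ B ∨ (y : G) ∈ C) → y ∈ Subgroup.upperCentralSeries ↥K 4 := by
    intro x hx
    refine step 3 x fun y hy => ?_
    have triv' : (x : G) * y = y * x → ⁅x, y⁆ ∈ Subgroup.upperCentralSeries ↥K 3 := fun e => by
      rw [show ⁅x, y⁆ = 1 from Subtype.ext (by
        show (x : G) * y * (x : G)⁻¹ * (y : G)⁻¹ = 1
        rw [e]; simp)]
      exact one_mem _
    rcases hx with hx | hx | hx <;> rcases hy with hy | hy | hy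
    · exact triv' (comm_self hS T.hA _ hx _ hy)
    · exact lev3 _ (Or.inr (Subgroup.commutator_mem_commutator hx hy))
    · exact triv' (T.comm _ hx _ hy)
    · exact lev3 _ (Or.inr (case_comm_mem hy hx))
    · exact triv' (comm_self hS T.hB _ hx _ hy)
    · exact lev3 _ (Or.inl (case_comm_mem hy hx))
    · exact triv' (T.comm _ hy _ hx).symm
    · exact lev3 _ (Or.inl (Subgroup.commutator_mem_commutator hx hy))
    · exact triv' (comm_self hS T.hC _ hx _ hy)
  have hall : K ≤ (Subgroup.upperCentralSeries ↥K 4).map K.subtype :=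
    sup_le (sup_le (fun y hy => ⟨⟨y, hAK hy⟩, one4 _ (Or.inl hy), rfl⟩)
      (fun y hy => ⟨⟨y, hBK hy⟩, one4 _ (Or.inr (Or.inl hy)), rfl⟩))
      (fun y hy => ⟨⟨y, hCK hy⟩, one4 _ (Or.inr (Or.inr hy)), rfl⟩)
  obtain ⟨y, hy, e⟩ := hall x.2
  rwa [show x = y from (Subtype.ext e).symm]

end Cfsg.Agent.ThreeTransp.RootLines
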