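import Cfsg.Agent.Lib.ThreeTransp.RootLines

/-!
The subgroup `A[A,B]` for a commutator pair with `A` not isolated, and paths in the rank one graph.
-/

set_option autoImplicit false

namespace Cfsg.Agent.ThreeTransp.RootPartition

open Cfsg
open Cfsg.Agent.ThreeTransp.RankOne
open Cfsg.Agent.ThreeTransp.RootSets
open Cfsg.Agent.ThreeTransp.RootLines
open scoped commutatorElement

variable {G : Type*} [Group G] {S : Set (Subgroup G)} {A B : Subgroup G}

theorem eq_of_mem (hS : IsRootSubgroupSet S) (hA : ¬ IsIsolatedIn (FAdj S) S A) (hAS : A ∈ S)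
    {M : Subgroup G} (hM : M ∈ S) {x : G} (hxA : x ∈ A) (hxM : x ∈ M) (hx : x ≠ 1) : A = M :=
  (Cfsg.Agent.S5028.result hS hA hAS M hM).resolve_left fun e =>
    hx (Subgroup.mem_bot.1 (e ▸ (⟨hxA, hxM⟩ : x ∈ A ⊓ M)))

/-- In a commutator pair with `A` not isolated, non-trivial elements do not commute. -/
theorem case_inj (hS : IsRootSubgroupSet S) (hA : ¬ IsIsolatedIn (FAdj S) S A) (hAS : A ∈ S)
    (h : RootCommutatorCase S A B) {a b : G} (ha : a ∈ A) (ha1 : a ≠ 1) (hb : b ∈ B)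
    (hab : a * b = b * a) : b = 1 := by
  by_contra hb1
  have hm : a ∈ conjBy A b := by
    rw [mem_conjBy, mul_assoc, hab, inv_mul_cancel_left]; exact ha
  have heq := eq_of_mem hS hA hAS (hS.conj_mem A hAS b) ha hm ha1
  have hle : ⁅A, B⁆ ≤ A := case_gen h hb hb1 le_rfl heq.ge
  obtain ⟨c, hc, hc1⟩ := (Subgroup.bot_or_exists_ne_one ⁅A, B⁆).resolve_left (hS.ne_bot _ h.1)
  exact (case_facts h (hS.ne_bot _ h.1)).2.2 (eq_of_mem hS hA hAS h.1 (hle hc) hc hc1).symm

theorem case_map_surjective (h : RootCommutatorCase S A B) (hBS : IsRootSubgroupSet S) {a : G}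
    (ha : a ∈ A) (ha1 : a ≠ 1) :
    ∀ c ∈ ⁅A, B⁆, ∃ b ∈ B, a⁻¹ * b⁻¹ * a * b = c := by
  have hmem : ∀ b ∈ B, a⁻¹ * b⁻¹ * a * b ∈ ⁅A, B⁆ := fun b hb => by
    have := Subgroup.commutator_mem_commutator (A.inv_mem ha) (B.inv_mem hb)
    rwa [commutatorElement_def, inv_inv, inv_inv] at this
  intro c hc
  rw [← h.2.2.1 a⁻¹ (A.inv_mem ha) (inv_ne_one.2 ha1)] at hc
  have hmul : ∀ u ∈ B, ∀ v ∈ B,
      a⁻¹ * (u * v)⁻¹ * a * (u * v) = (a⁻¹ * u⁻¹ * a * u) * (a⁻¹ * v⁻¹ * a * v) := by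
    intro u hu v hv
    have h1 := h.2.1 _ (hmem u hu) v (Subgroup.mem_sup_right hv)
    have h2 := comm_self hBS h.1 _ (hmem u hu) _ (hmem v hv)
    calc a⁻¹ * (u * v)⁻¹ * a * (u * v) = a⁻¹ * v⁻¹ * a * ((a⁻¹ * u⁻¹ * a * u) * v) := by group
      _ = (a⁻¹ * v⁻¹ * a * v) * (a⁻¹ * u⁻¹ * a * u) := by rw [h1]; group
      _ = _ := h2.symm
  induction hc using Subgroup.closure_induction with
  | mem x hx =>
    obtain ⟨y, hy, rfl⟩ := hx
    exact ⟨y⁻¹, B.inv_mem hy, by group⟩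
  | one => exact ⟨1, B.one_mem, by group⟩
  | mul x y _ _ ix iy =>
    obtain ⟨u, hu, rfl⟩ := ix
    obtain ⟨v, hv, rfl⟩ := iy
    exact ⟨u * v, B.mul_mem hu hv, hmul u hu v hv⟩
  | inv x _ ix =>
    obtain ⟨u, hu, rfl⟩ := ix
    refine ⟨u⁻¹, B.inv_mem hu, eq_inv_of_mul_eq_one_right ?_⟩
    rw [← hmul u hu u⁻¹ (B.inv_mem hu), mul_inv_cancel]; group

theorem case_map_hom (hS : IsRootSubgroupSet S) (h : RootCommutatorCase S A B) {a u v : G}
    (ha : a ∈ A) (hu : u ∈ B) (hv : v ∈ B) :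
    a⁻¹ * (u * v)⁻¹ * a * (u * v) = (a⁻¹ * u⁻¹ * a * u) * (a⁻¹ * v⁻¹ * a * v) := by
  have hmem : ∀ b ∈ B, a⁻¹ * b⁻¹ * a * b ∈ ⁅A, B⁆ := fun b hb => by
    have := Subgroup.commutator_mem_commutator (A.inv_mem ha) (B.inv_mem hb)
    rwa [commutatorElement_def, inv_inv, inv_inv] at this
  have h1 := h.2.1 _ (hmem u hu) v (Subgroup.mem_sup_right hv)
  have h2 := comm_self hS h.1 _ (hmem u hu) _ (hmem v hv)
  calc a⁻¹ * (u * v)⁻¹ * a * (u * v) = a⁻¹ * v⁻¹ * a * ((a⁻¹ * u⁻¹ * a * u) * v) := by group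
    _ = (a⁻¹ * v⁻¹ * a * v) * (a⁻¹ * u⁻¹ * a * u) := by rw [h1]; group
    _ = _ := h2.symm

theorem case_map_injective (hS : IsRootSubgroupSet S) (hA : ¬ IsIsolatedIn (FAdj S) S A) (hAS : A ∈ S)
    (h : RootCommutatorCase S A B) {a u v : G} (ha : a ∈ A) (ha1 : a ≠ 1) (hu : u ∈ B) (hv : v ∈ B)
    (e : a⁻¹ * u⁻¹ * a * u = a⁻¹ * v⁻¹ * a * v) : u = v := by
  have e' : a⁻¹ * (u * v⁻¹)⁻¹ * a * (u * v⁻¹) = 1 := by
    rw [case_map_hom hS h ha hu (B.inv_mem hv), e, ← case_map_hom hS h ha hv (B.inv_mem hv),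
      mul_inv_cancel]
    group
  have hc : a * (u * v⁻¹) = (u * v⁻¹) * a := by
    calc a * (u * v⁻¹) = (u * v⁻¹) * a * (a⁻¹ * (u * v⁻¹)⁻¹ * a * (u * v⁻¹)) := by group
      _ = _ := by rw [e', mul_one]
  exact mul_inv_eq_one.1 (case_inj hS hA hAS h ha ha1 (B.mul_mem hu (B.inv_mem hv)) hc)

/-- The elements of `A[A,B]`. -/
theorem mem_sup_cases (hS : IsRootSubgroupSet S) (h : RootCommutatorCase S A B) {x : G}
    (hx : x ∈ A ⊔ ⁅A, B⁆) : x ∈ ⁅A, B⁆ ∨ ∃ b ∈ B, x ∈ conjBy A b := by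
  have hn : A ≤ Subgroup.normalizer ((⁅A, B⁆ : Subgroup G) : Set G) := fun a ha =>
    mem_normalizer_of_centralizes fun c hc => (h.2.1 c hc a (Subgroup.mem_sup_left ha)).symm
  rw [sup_comm, ← SetLike.mem_coe, Subgroup.coe_mul_of_right_le_normalizer_left _ _ hn] at hx
  obtain ⟨c, hc, a, ha, rfl⟩ := hx
  by_cases ha1 : a = 1
  · left; simpa [ha1] using hc
  obtain ⟨y, hy, e⟩ := case_map_surjective h hS (A.inv_mem ha) (inv_ne_one.2 ha1) c⁻¹ (inv_mem hc)
  refine Or.inr ⟨y⁻¹, B.inv_mem hy, ?_⟩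
  rw [mem_conjBy]
  have : y * (c * a) * y⁻¹ = a := by
    have e' : c = (a⁻¹⁻¹ * y⁻¹ * a⁻¹ * y)⁻¹ := by rw [e, inv_inv]
    rw [e']; group
  rw [inv_inv]
  show y * (c * a) * y⁻¹ ∈ A
  rw [this]; exact ha

theorem member_le_commutator (hS : IsRootSubgroupSet S) (hA : ¬ IsIsolatedIn (FAdj S) S A) (hAS : A ∈ S)
    (hBS : B ∈ S) (h : RootCommutatorCase S A B) {M : Subgroup G} (hM : M ∈ S) (hle : M ≤ ⁅A, B⁆) :
    M = ⁅A, B⁆ := by
  obtain ⟨D, hD, hp⟩ := exists_partner hS hA hAS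
  obtain ⟨a, ha, ha1⟩ := exists_ne_one hp
  obtain ⟨m, hm, hm1⟩ := (Subgroup.bot_or_exists_ne_one M).resolve_left (hS.ne_bot M hM)
  have noC : ∀ z ∈ ⁅A, B⁆, z ≠ 1 → ¬ ∀ d ∈ D, z * d = d * z := by
    intro z hz hz1 hzD
    apply mul_notMem_rootElements hS hAS ⟨hD, hp⟩ (z := z) ?_ hz1 ha ha1
    · obtain ⟨y, hy, e⟩ := case_map_surjective h hS (A.inv_mem ha) (inv_ne_one.2 ha1) z⁻¹ (inv_mem hz)
      have e' : z * a = y⁻¹ * a * y := by
        have e' : z = (a⁻¹⁻¹ * y⁻¹ * a⁻¹ * y)⁻¹ := by rw [e, inv_inv]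
        rw [e']; group
      refine ⟨fun e1 => ha1 ?_, conjBy A y⁻¹, hS.conj_mem A hAS _, ?_⟩
      · rw [e'] at e1
        calc a = y * (y⁻¹ * a * y) * y⁻¹ := by group
          _ = 1 := by rw [e1]; simp
      · rw [e']; simpa using conj_mem_conjBy (g := y⁻¹) ha
    · rw [← Subgroup.zpowers_le, Subgroup.le_centralizer_iff]
      refine sup_le ?_ ?_ <;> intro x hx <;> rw [Subgroup.mem_centralizer_iff] <;> intro w hw <;>
        obtain ⟨k, rfl⟩ := Subgroup.mem_zpowers_iff.1 hw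
      · exact ((show Commute z x from h.2.1 z hz x (Subgroup.mem_sup_left hx)).zpow_left k).eq
      · exact ((show Commute z x from hzD x hx).zpow_left k).eq
  rcases hS.pair M hM D hD with hMD | hMD | hMD
  · exact absurd (commutator_eq_bot_iff.1 hMD m hm) (noC m (hle hm) hm1)
  · exact eq_of_mem hS (not_isolated_of_partner hM hD hMD) hM h.1 hm (hle hm) hm1
  rcases hS.pair ⁅A, B⁆ h.1 D hD with hCD | hCD | hCD
  · exact absurd (commutator_eq_bot_iff.1 hCD m (hle hm)) (noC m (hle hm) hm1)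
  · exact (eq_of_mem hS (not_isolated_of_partner h.1 hD hCD) h.1 hM (hle hm) hm hm1).symm
  refine le_antisymm hle fun c hc => ?_
  have hDni := not_isolated_of_partner hD hAS (RankOnePair_symm hp)
  obtain ⟨d, hd, hd1⟩ := exists_ne_one (RankOnePair_symm hp)
  have c1 := case_symm hCD
  have c2 := case_symm hMD
  have hEE : ⁅D, M⁆ = ⁅D, ⁅A, B⁆⁆ := by
    refine le_antisymm (Subgroup.commutator_mono le_rfl hle) ?_
    rw [← c1.2.2.2 m (hle hm) hm1, Subgroup.closure_le]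
    rintro _ ⟨d', hd', rfl⟩
    exact Subgroup.commutator_mem_commutator hd' hm
  have hcm : d⁻¹ * c⁻¹ * d * c ∈ ⁅D, M⁆ := by
    rw [hEE]
    have := Subgroup.commutator_mem_commutator (D.inv_mem hd) (inv_mem hc)
    rwa [commutatorElement_def, inv_inv, inv_inv] at this
  obtain ⟨m', hm', e⟩ := case_map_surjective c2 hS hd hd1 _ hcm
  rw [← case_map_injective hS hDni hD c1 hd hd1 (hle hm') hc e]
  exact hm'

theorem members_eq (hS : IsRootSubgroupSet S) (hA : ¬ IsIsolatedIn (FAdj S) S A) (hAS : A ∈ S)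
    (hBS : B ∈ S) (h : RootCommutatorCase S A B) :
    membersIn S (A ⊔ ⁅A, B⁆) = (fun b : G => conjBy A b) '' (B : Set G) ∪ {⁅A, B⁆} := by
  ext M
  constructor
  · rintro ⟨hM, hle⟩
    by_cases hMC : M ≤ ⁅A, B⁆
    · exact Or.inr (member_le_commutator hS hA hAS hBS h hM hMC)
    · obtain ⟨x, hx, hxC⟩ := SetLike.not_le_iff_exists.1 hMC
      obtain ⟨b, hb, hxb⟩ := (mem_sup_cases hS h (hle hx)).resolve_left hxC
      refine Or.inl ⟨b, hb, eq_of_mem hS (not_isolated_conj hS hA hAS b) (hS.conj_mem A hAS b) hM hxb hx ?_⟩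
      intro e; exact hxC (e ▸ one_mem _)
  · rintro (⟨b, hb, rfl⟩ | rfl)
    · refine ⟨hS.conj_mem A hAS b, fun x hx => ?_⟩
      have hx' := mem_conjBy.1 hx
      have e : x = (b * (b⁻¹ * x * b) * b⁻¹ * (b⁻¹ * x * b)⁻¹) * (b⁻¹ * x * b) := by group
      rw [e]
      exact Subgroup.mul_mem _ (Subgroup.mem_sup_right (case_comm_mem hx' hb)) (Subgroup.mem_sup_left hx')
    · exact ⟨h.1, le_sup_right⟩

theorem partition (hS : IsRootSubgroupSet S) (hA : ¬ IsIsolatedIn (FAdj S) S A) (hAS : A ∈ S)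
    (hBS : B ∈ S) (h : RootCommutatorCase S A B) :
    IsSubgroupPartition (A ⊔ ⁅A, B⁆) (membersIn S (A ⊔ ⁅A, B⁆)) := by
  refine ⟨fun M hM => hM.2, fun x hx hx1 => ?_, fun M hM M' hM' hne => ?_⟩
  · rcases mem_sup_cases hS h hx with h' | ⟨b, hb, h'⟩
    · exact ⟨⁅A, B⁆, ⟨h.1, le_sup_right⟩, h'⟩
    · exact ⟨conjBy A b, by rw [members_eq hS hA hAS hBS h]; exact Or.inl ⟨b, hb, rfl⟩, h'⟩
  · by_contra hne'
    obtain ⟨x, ⟨hx, hx'⟩, hx1⟩ := (Subgroup.bot_or_exists_ne_one (M ⊓ M')).resolve_left hne'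
    have e := members_eq hS hA hAS hBS h
    rcases (e ▸ hM : M ∈ _) with ⟨b, hb, rfl⟩ | rfl
    · exact hne (eq_of_mem hS (not_isolated_conj hS hA hAS b) (hS.conj_mem A hAS b) hM'.1 hx hx' hx1)
    · rcases (e ▸ hM' : M' ∈ _) with ⟨b, hb, rfl⟩ | rfl
      · exact hne (eq_of_mem hS (not_isolated_conj hS hA hAS b) (hS.conj_mem A hAS b) h.1 hx' hx hx1).symm
      · exact hne rfl

/-- Conjugation by `B` preserves the component of `A`. -/
theorem path_case (hS : IsRootSubgroupSet S) (hA : ¬ IsIsolatedIn (FAdj S) S A) (hAS : A ∈ S)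
    (hBS : B ∈ S) (h : RootCommutatorCase S A B) {b : G} (hb : b ∈ B) :
    Relation.ReflTransGen (FAdj S) A (conjBy A b) := by
  by_cases hb1 : b = 1
  · rw [hb1, conjBy_one]
  obtain ⟨D, hD, hp⟩ := exists_partner hS hA hAS
  obtain ⟨a, ha, ha1⟩ := exists_ne_one hp
  have hCb : conjBy ⁅A, B⁆ b = ⁅A, B⁆ := conjBy_eq_iff.2 (mem_normalizer_of_centralizes fun c hc =>
    (h.2.1 c hc b (Subgroup.mem_sup_right hb)).symm)
  have pAD : Relation.ReflTransGen (FAdj S) A D := .single ⟨hAS, hD, hp⟩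
  rcases hS.pair ⁅A, B⁆ h.1 D hD with hCD | hCD | hCD
  · exfalso
    have hz : b * a * b⁻¹ * a⁻¹ ∈ ⁅A, B⁆ := case_comm_mem ha hb
    apply mul_notMem_rootElements hS hAS ⟨hD, hp⟩ (z := b * a * b⁻¹ * a⁻¹) ?_ ?_ ha ha1
    · rw [inv_mul_cancel_right]
      exact ⟨fun e => ha1 (conj_eq_one_iff.1 e), conjBy A b, hS.conj_mem A hAS b, conj_mem_conjBy ha⟩
    · rw [← Subgroup.zpowers_le, Subgroup.le_centralizer_iff]
      refine sup_le ?_ ?_ <;> intro x hx <;> rw [Subgroup.mem_centralizer_iff] <;> intro w hw <;>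
        obtain ⟨k, rfl⟩ := Subgroup.mem_zpowers_iff.1 hw
      · exact ((show Commute (b * a * b⁻¹ * a⁻¹) x from h.2.1 _ hz x (Subgroup.mem_sup_left hx)).zpow_left k).eq
      · exact ((show Commute (b * a * b⁻¹ * a⁻¹) x from commutator_eq_bot_iff.1 hCD _ hz x hx).zpow_left k).eq
    · intro e
      exact hb1 (case_inj hS hA hAS h ha ha1 hb (mul_inv_eq_iff_eq_mul.1 (mul_inv_eq_one.1 e)).symm)
  · have pAC : Relation.ReflTransGen (FAdj S) A ⁅A, B⁆ := pAD.tail (fAdj_symm ⟨h.1, hD, hCD⟩)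
    have := path_conj hS pAC b
    rw [hCb] at this
    exact pAC.trans (path_symm this)
  have hA' := hS.conj_mem A hAS b
  have cA'C : ∀ x ∈ conjBy A b, ∀ c ∈ ⁅A, B⁆, x * c = c * x := by
    intro x hx c hc
    have hx' := mem_conjBy.1 hx
    have h1 := h.2.1 c hc _ (Subgroup.mem_sup_left hx')
    have h2 := h.2.1 c hc b (Subgroup.mem_sup_right hb)
    have h3 : b⁻¹ * c * b = c := by rw [mul_assoc, h2, inv_mul_cancel_left]
    calc x * c = b * ((b⁻¹ * x * b) * (b⁻¹ * c * b)) * b⁻¹ := by group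
      _ = b * (c * (b⁻¹ * x * b)) * b⁻¹ := by rw [h3, ← h1]
      _ = b * c * b⁻¹ * x := by group
      _ = c * x := by rw [← h2, mul_inv_cancel_right]
  set K := conjBy A b ⊔ D ⊔ ⁅A, B⁆ with hK
  have hAK : A ≤ K := fun x hx => by
    have e : x = (b * x * b⁻¹ * x⁻¹)⁻¹ * (b * x * b⁻¹) := by group
    rw [e]
    exact K.mul_mem (K.inv_mem (Subgroup.mem_sup_right (case_comm_mem hx hb)))
      (Subgroup.mem_sup_left (Subgroup.mem_sup_left (conj_mem_conjBy hx)))
  have hDK : D ≤ K := le_sup_right.trans le_sup_left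
  rcases hS.pair (conjBy A b) hA' D hD with hAD | hAD | hAD
  · exfalso
    apply not_nilpotent hp hAK hDK
    have cAD := commutator_eq_bot_iff.1 hAD
    set E := ⁅(⁅A, B⁆ : Subgroup G), D⁆ with hE
    have hKc : K = Subgroup.closure (((conjBy A b : Set G) ∪ D) ∪ (⁅A, B⁆ : Subgroup G)) := by
      rw [hK, Subgroup.closure_union, Subgroup.closure_union, Subgroup.closure_eq, Subgroup.closure_eq,
        Subgroup.closure_eq]
    have hEK : E ≤ K := by
      rw [hE, Subgroup.commutator_le]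
      intro c hc d hd
      rw [commutatorElement_def]
      exact K.mul_mem (K.mul_mem (K.mul_mem (Subgroup.mem_sup_right hc) (hDK hd)) (K.inv_mem (Subgroup.mem_sup_right hc))) (K.inv_mem (hDK hd))
    have hEc : ∀ e ∈ E, ∀ v ∈ K, e * v = v * e := by
      intro e he v hv
      have hle : K ≤ Subgroup.centralizer ({e} : Set G) := by
        refine sup_le (sup_le ?_ ?_) ?_
        · intro x hx
          rw [Subgroup.mem_centralizer_singleton_iff]
          have hle2 : E ≤ Subgroup.centralizer ({x} : Set G) := by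
            rw [hE, Subgroup.commutator_le]
            intro c hc d hd
            have k1 : c ∈ Subgroup.centralizer ({x} : Set G) :=
              Subgroup.mem_centralizer_singleton_iff.2 (cA'C x hx c hc).symm
            have k2 : d ∈ Subgroup.centralizer ({x} : Set G) :=
              Subgroup.mem_centralizer_singleton_iff.2 (cAD x hx d hd).symm
            rw [commutatorElement_def]
            exact mul_mem (mul_mem (mul_mem k1 k2) (inv_mem k1)) (inv_mem k2)
          exact (Subgroup.mem_centralizer_singleton_iff.1 (hle2 he)).symm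
        · intro x hx
          exact Subgroup.mem_centralizer_singleton_iff.2 (hCD.2.1 e he x (Subgroup.mem_sup_right hx)).symm
        · intro x hx
          exact Subgroup.mem_centralizer_singleton_iff.2 (hCD.2.1 e he x (Subgroup.mem_sup_left hx)).symm
      exact (Subgroup.mem_centralizer_singleton_iff.1 (hle hv)).symm
    have triv : ∀ {p q : G}, p * q = q * p → p * q * p⁻¹ * q⁻¹ ∈ E := fun {p q} h => by rw [h]; simp
    have hKK := commutator_closure_le (V := ((conjBy A b : Set G) ∪ D) ∪ (⁅A, B⁆ : Subgroup G)) (Z := E)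
      (fun e he v hv => hEc e he v (hKc ▸ hv)) (by
        rintro u ((hu | hu) | hu) v ((hv | hv) | hv)
        · exact triv (comm_self hS hA' u hu v hv)
        · exact triv (cAD u hu v hv)
        · exact triv (cA'C u hu v hv)
        · exact triv (cAD v hv u hu).symm
        · exact triv (comm_self hS hD u hu v hv)
        · have e : u * v * u⁻¹ * v⁻¹ = (v * u * v⁻¹ * u⁻¹)⁻¹ := by group
          rw [e]; exact inv_mem (Subgroup.commutator_mem_commutator hv hu)
        · exact triv (cA'C v hv u hu).symm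
        · exact Subgroup.commutator_mem_commutator hu hv
        · exact triv (comm_self hS h.1 u hu v hv))
    refine ⟨⟨2, ?_⟩⟩
    rw [eq_top_iff]
    intro x _
    rw [Subgroup.mem_upperCentralSeries_succ_iff]
    intro y
    rw [Subgroup.upperCentralSeries_one, Subgroup.mem_center_iff]
    intro v
    apply Subtype.ext
    show (v : G) * ((x : G) * y * (x : G)⁻¹ * (y : G)⁻¹) = ((x : G) * y * (x : G)⁻¹ * (y : G)⁻¹) * v
    exact (hEc _ (hKK x (hKc ▸ x.2) y (hKc ▸ y.2)) v v.2).symm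
  · exact pAD.tail (fAdj_symm ⟨hA', hD, hAD⟩)
  · exfalso
    apply not_nilpotent hp hAK hDK
    exact Triple.nilpotent hS (A := conjBy A b) (B := D) (C := ⁅A, B⁆) ⟨hA', hD, h.1, cA'C, hAD, hCD⟩

/-- A generating set of non-isolated members: conjugation preserves components. -/
theorem path_conjBy (hS : IsRootSubgroupSet S) (hF : ∀ A ∈ S, ¬ IsIsolatedIn (FAdj S) S A) (g : G) :
    ∀ A ∈ S, Relation.ReflTransGen (FAdj S) A (conjBy A g) := by
  let H : Subgroup G :=
    { carrier := {g | ∀ A ∈ S, Relation.ReflTransGen (FAdj S) A (conjBy A g)}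
      one_mem' := fun A _ => by rw [conjBy_one]
      mul_mem' := by
        intro x y hx hy A hA
        rw [← conjBy_conjBy]
        exact (hy A hA).trans (hx _ (hS.conj_mem A hA y))
      inv_mem' := by
        intro x hx A hA
        have := hx _ (hS.conj_mem A hA x⁻¹)
        rw [conjBy_conjBy, mul_inv_cancel, conjBy_one] at this
        exact path_symm this }
  have hle : (⊤ : Subgroup G) ≤ H := by
    rw [← hS.generates]
    refine iSup₂_le fun B hB b hb A hA => ?_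
    rcases hS.pair A hA B hB with h | h | h
    · rw [conjBy_eq_iff.2 (mem_normalizer_of_centralizes fun x hx =>
        (commutator_eq_bot_iff.1 h x hx b hb).symm)]
    · have p : Relation.ReflTransGen (FAdj S) A B := .single ⟨hA, hB, h⟩
      have := path_conj hS p b
      rw [conjBy_eq_self_of_mem hb] at this
      exact p.trans (path_symm this)
    · exact path_case hS (hF A hA) hA hB h hb
  exact hle (Subgroup.mem_top g)

end Cfsg.Agent.ThreeTransp.RootPartition
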