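import Cfsg.Agent.Lib.ThreeTransp.Heis
import Cfsg.Agent.Lib.Classical.UnitaryBasic
import Cfsg.Agent.S0282
import Cfsg.Agent.S0827

/-!
The derived group of `SU_3(2)` is `3^{1+2}:2`, with explicit generators.
-/

set_option autoImplicit false

namespace Cfsg.Agent.ThreeTransp.SUThreeTwo

open scoped commutatorElement
open Cfsg.Agent.Classical Cfsg.Agent.Forms Cfsg.Agent.ThreeTransp

theorem q8_sq : ∀ x y : QuaternionGroup 2, (x * y * x⁻¹ * y⁻¹) * (x * y * x⁻¹ * y⁻¹) = 1 := by decide

theorem q8_mul : ∀ x y : QuaternionGroup 2, x * x = 1 → y * y = 1 → x * y * (x * y) = 1 := by decide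

theorem q8_inv : ∀ x : QuaternionGroup 2, x * x = 1 → x⁻¹ * x⁻¹ = 1 := by decide

theorem q8_cube : ∀ x : QuaternionGroup 2, x * x * x = 1 → x = 1 := by decide

theorem q8_noncomm : ∃ x y : QuaternionGroup 2, x * y * x⁻¹ * y⁻¹ ≠ 1 := by decide

/-- The elements squaring to one. -/
def q8Two : Subgroup (QuaternionGroup 2) where
  carrier := {x | x * x = 1}
  one_mem' := one_mul 1
  mul_mem' := fun {x y} hx hy => q8_mul x y hx hy
  inv_mem' := fun {x} hx => q8_inv x hx

theorem natCard_q8Two : Nat.card q8Two = 2 := by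
  show Nat.card {x : QuaternionGroup 2 // x * x = 1} = 2
  rw [Nat.card_eq_fintype_card]
  decide

variable {F : Type} [Field F] [Fintype F]

set_option maxHeartbeats 800000 in
/-- Monomial generators of a `3^{1+2}:2` in `SU_3(2)`. -/
theorem exists_SU_rels (hF : Fintype.card F = 4) :
    ∃ u y z d : Cfsg.SU 3 F 2, Heis.Rels u y z d ∧ Function.Injective (Heis.nf u y z d) := by
  classical
  have hF' : Fintype.card F = 2 ^ 2 := by rw [hF]; norm_num
  haveI : CharP F 2 := by
    obtain ⟨p, hp⟩ := CharP.exists F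
    haveI := hp
    haveI : Fact p.Prime := ⟨CharP.char_is_prime F p⟩
    obtain ⟨n, -, hn⟩ := FiniteField.card F p
    have : p ∣ 2 ^ 2 := by rw [← hF', hn]; exact dvd_pow_self p n.ne_zero
    have hp2 := (Nat.prime_dvd_prime_iff_eq (Fact.out : p.Prime) Nat.prime_two).1
      ((Fact.out : p.Prime).dvd_of_dvd_pow this)
    subst hp2
    exact hp
  obtain ⟨w, hw0, hw1⟩ : ∃ w : F, w ≠ 0 ∧ w ≠ 1 := by
    by_contra h
    push Not at h
    have : (Finset.univ : Finset F) ⊆ {0, 1} := fun x _ => by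
      by_cases hx : x = 0
      · simp [hx]
      · simp [h x hx]
    have := Finset.card_le_card this
    rw [Finset.card_univ, hF] at this
    have := this.trans Finset.card_le_two
    omega
  have h2 : (2 : F) = 0 := CharTwo.two_eq_zero
  have hww : w * w = w + 1 := by
    have h4 := FiniteField.pow_card w
    rw [hF] at h4
    have : w * (w - 1) * (w * w + w + 1) = 0 := by linear_combination h4
    have := (mul_eq_zero.1 this).resolve_left (mul_ne_zero hw0 (sub_ne_zero.2 hw1))
    linear_combination this - (w + 1) * h2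
  have hw3 : w * w * w = 1 := by linear_combination (w + 1) * hww + w * h2
  have hq : ∀ x : F, HermStd.qHom hF' x = x ^ 2 := fun x => rfl
  have hext : ∀ a b : Cfsg.SU 3 F 2, Unitary.mat a = Unitary.mat b → a = b :=
    fun a b h => Unitary.SU_ext fun x => by rw [h]
  obtain ⟨U, mU⟩ : ∃ U : Cfsg.SU 3 F 2, Unitary.mat U = !![1, 0, 0; 0, w, 0; 0, 0, w * w] := ⟨Unitary.suMk _
    (by rw [Matrix.det_fin_three]; simp; linear_combination hw3)
    ((Unitary.preserves_iff hF' _).2 (by
      ext i j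
      fin_cases i <;> fin_cases j <;> simp [Matrix.mul_apply, Fin.sum_univ_three, hq]
      · linear_combination hw3
      · linear_combination (w * w * w + 1) * hw3)), rfl⟩
  obtain ⟨Y, mY⟩ : ∃ Y : Cfsg.SU 3 F 2, Unitary.mat Y = !![0, 1, 0; 0, 0, 1; 1, 0, 0] := ⟨Unitary.suMk _
    (by rw [Matrix.det_fin_three]; simp)
    ((Unitary.preserves_iff hF' _).2 (by
      ext i j
      fin_cases i <;> fin_cases j <;> simp [Matrix.mul_apply, Fin.sum_univ_three, hq])), rfl⟩
  obtain ⟨Z, mZ⟩ : ∃ Z : Cfsg.SU 3 F 2, Unitary.mat Z = !![w, 0, 0; 0, w, 0; 0, 0, w] := ⟨Unitary.suMk _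
    (by rw [Matrix.det_fin_three]; simp; linear_combination hw3)
    ((Unitary.preserves_iff hF' _).2 (by
      ext i j
      fin_cases i <;> fin_cases j <;> simp [Matrix.mul_apply, Fin.sum_univ_three, hq] <;>
        linear_combination hw3)), rfl⟩
  obtain ⟨T, mT⟩ : ∃ T : Cfsg.SU 3 F 2, Unitary.mat T = !![1, 0, 0; 0, 0, 1; 0, 1, 0] := ⟨Unitary.suMk _
    (by rw [Matrix.det_fin_three]; simp; linear_combination -h2)
    ((Unitary.preserves_iff hF' _).2 (by
      ext i j
      fin_cases i <;> fin_cases j <;> simp [Matrix.mul_apply, Fin.sum_univ_three, hq])), rfl⟩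
  have hu3 : U ^ 3 = 1 := hext _ _ (by
    rw [pow_succ, pow_two, Unitary.mat_mul, Unitary.mat_mul, Unitary.mat_one, mU]
    ext i j
    fin_cases i <;> fin_cases j <;> simp [Matrix.mul_apply, Fin.sum_univ_three]
    · linear_combination hw3
    · linear_combination (w * w * w + 1) * hw3)
  have hy3 : Y ^ 3 = 1 := hext _ _ (by
    rw [pow_succ, pow_two, Unitary.mat_mul, Unitary.mat_mul, Unitary.mat_one, mY]
    ext i j
    fin_cases i <;> fin_cases j <;> simp [Matrix.mul_apply, Fin.sum_univ_three])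
  have hz3 : Z ^ 3 = 1 := hext _ _ (by
    rw [pow_succ, pow_two, Unitary.mat_mul, Unitary.mat_mul, Unitary.mat_one, mZ]
    ext i j
    fin_cases i <;> fin_cases j <;> simp [Matrix.mul_apply, Fin.sum_univ_three] <;>
      linear_combination hw3)
  have hd2 : T * T = 1 := hext _ _ (by
    rw [Unitary.mat_mul, Unitary.mat_one, mT]
    ext i j
    fin_cases i <;> fin_cases j <;> simp [Matrix.mul_apply, Fin.sum_univ_three])
  have hzu : Commute Z U := hext _ _ (by
    rw [Unitary.mat_mul, Unitary.mat_mul, mZ, mU]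
    ext i j
    fin_cases i <;> fin_cases j <;> simp [Matrix.mul_apply, Fin.sum_univ_three] <;> ring)
  have hzy : Commute Z Y := hext _ _ (by
    rw [Unitary.mat_mul, Unitary.mat_mul, mZ, mY]
    ext i j
    fin_cases i <;> fin_cases j <;> simp [Matrix.mul_apply, Fin.sum_univ_three])
  have hzd : Commute Z T := hext _ _ (by
    rw [Unitary.mat_mul, Unitary.mat_mul, mZ, mT]
    ext i j
    fin_cases i <;> fin_cases j <;> simp [Matrix.mul_apply, Fin.sum_univ_three])
  have hyu : Y * U = Z * (U * Y) := hext _ _ (by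
    rw [Unitary.mat_mul, Unitary.mat_mul, Unitary.mat_mul, mZ, mU, mY]
    ext i j
    fin_cases i <;> fin_cases j <;> simp [Matrix.mul_apply, Fin.sum_univ_three]
    linear_combination -hw3)
  have hdu : T * U * T = U⁻¹ := by
    refine eq_inv_of_mul_eq_one_left (hext _ _ ?_)
    rw [Unitary.mat_mul, Unitary.mat_mul, Unitary.mat_mul, Unitary.mat_one, mT, mU]
    ext i j
    fin_cases i <;> fin_cases j <;> simp [Matrix.mul_apply, Fin.sum_univ_three] <;>
      linear_combination hw3
  have hdy : T * Y * T = Y⁻¹ := by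
    refine eq_inv_of_mul_eq_one_left (hext _ _ ?_)
    rw [Unitary.mat_mul, Unitary.mat_mul, Unitary.mat_mul, Unitary.mat_one, mT, mY]
    ext i j
    fin_cases i <;> fin_cases j <;> simp [Matrix.mul_apply, Fin.sum_univ_three]
  have hR : Heis.Rels U Y Z T := ⟨hu3, hy3, hz3, hd2, hzu, hzy, hzd, hyu, hdu, hdy⟩
  have mzk : ∀ k : ℕ, Unitary.mat (Z ^ k) = !![w ^ k, 0, 0; 0, w ^ k, 0; 0, 0, w ^ k] := by
    intro k
    induction k with
    | zero =>
      rw [pow_zero, Unitary.mat_one]
      ext i j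
      fin_cases i <;> fin_cases j <;> simp
    | succ k ih =>
      rw [pow_succ Z, Unitary.mat_mul, ih, mZ]
      ext i j
      fin_cases i <;> fin_cases j <;> simp [Matrix.mul_apply, Fin.sum_univ_three, pow_succ]
  have muk : ∀ k : ℕ, Unitary.mat (U ^ k) = !![1, 0, 0; 0, w ^ k, 0; 0, 0, (w * w) ^ k] := by
    intro k
    induction k with
    | zero =>
      rw [pow_zero, Unitary.mat_one]
      ext i j
      fin_cases i <;> fin_cases j <;> simp
    | succ k ih =>
      rw [pow_succ U, Unitary.mat_mul, ih, mU]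
      ext i j
      fin_cases i <;> fin_cases j <;> simp [Matrix.mul_apply, Fin.sum_univ_three, pow_succ]
  have hzne : Z ≠ 1 := fun h => by
    have := congrFun (congrFun (congrArg Unitary.mat h) 0) 0
    rw [mZ, Unitary.mat_one] at this
    simp at this
    exact hw1 this
  have hune : ∀ k : ℕ, U ≠ Z ^ k := fun k h => by
    have e0 := congrFun (congrFun (congrArg Unitary.mat h) 0) 0
    have e1 := congrFun (congrFun (congrArg Unitary.mat h) 1) 1
    rw [mU, mzk] at e0 e1
    simp at e0 e1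
    exact hw1 (e1.trans e0.symm)
  have hyne : ∀ k l : ℕ, Y ≠ Z ^ k * U ^ l := fun k l h => by
    have e := congrFun (congrFun (congrArg Unitary.mat h) 0) 1
    rw [Unitary.mat_mul, mY, mzk, muk] at e
    simp [Matrix.mul_apply, Fin.sum_univ_three] at e
  have hinj := Heis.injective_nf hR hzne hune hyne (Heis.d_ne_form hR hune)
  exact ⟨U, Y, Z, T, hR, hinj⟩

set_option maxHeartbeats 800000 in
/-- The derived group of `SU_3(2)`: generators, relations and unique normal forms. -/
theorem exists_rels (hF : Fintype.card F = 4) :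
    ∃ u y z d : ↥(commutator ↥(Cfsg.SU 3 F 2)), Heis.Rels u y z d ∧
      Function.Injective (Heis.nf u y z d) ∧
      Subgroup.closure ({u, y, d} : Set ↥(commutator ↥(Cfsg.SU 3 F 2))) = ⊤ := by
  classical
  have hF' : Fintype.card F = 2 ^ 2 := by rw [hF]; norm_num
  obtain ⟨U, Y, Z, T, hR, hinj⟩ := exists_SU_rels hF
  obtain ⟨hu3, hy3, hz3, hd2, hzu, hzy, hzd, hyu, hdu, hdy⟩ := hR
  have hR : Heis.Rels U Y Z T := ⟨hu3, hy3, hz3, hd2, hzu, hzy, hzd, hyu, hdu, hdy⟩
  -- the map to the quaternion group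
  obtain ⟨N, hN, hN9, -, ⟨e⟩⟩ := S0827.result (F := F) hF
  haveI := hN
  let φ : Cfsg.SU 3 F 2 →* QuaternionGroup 2 :=
    e.toMonoidHom.comp ((QuotientGroup.mk' N).comp (QuotientGroup.mk' (Subgroup.center _)))
  have hφ : Function.Surjective φ :=
    e.surjective.comp ((QuotientGroup.mk'_surjective N).comp (QuotientGroup.mk'_surjective _))
  have hSU : Nat.card (Cfsg.SU 3 F 2) = 216 := by
    rw [Subgroup.card_eq_card_quotient_mul_card_subgroup (Subgroup.center (Cfsg.SU 3 F 2)),
      Unitary.natCard_center hF' (by norm_num), (S0282.result hF).1]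
    norm_num
  set C := commutator ↥(Cfsg.SU 3 F 2) with hC
  set M := q8Two.comap φ with hM
  have hM54 : Nat.card M = 54 := by
    have h1 : M.index = q8Two.index := Subgroup.index_comap_of_surjective _ hφ
    have h2 := q8Two.card_mul_index
    rw [natCard_q8Two, Nat.card_eq_fintype_card (α := QuaternionGroup 2), QuaternionGroup.card] at h2
    have h3 := M.card_mul_index
    rw [hSU, h1, show q8Two.index = 4 by omega] at h3
    omega
  have hCM : C ≤ M := by
    rw [hC, commutator_def, Subgroup.commutator_le]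
    intro g _ h _
    show φ ⁅g, h⁆ * φ ⁅g, h⁆ = 1
    rw [map_commutatorElement, commutatorElement_def]
    exact q8_sq _ _
  have hU : U ∈ C := by
    have : U = T * U * T⁻¹ * U⁻¹ := by
      rw [Heis.d_inv hR, hdu]
      refine (eq_mul_inv_iff_mul_eq).2 ?_
      rw [eq_inv_iff_mul_eq_one, ← pow_two, ← pow_succ, hu3]
    rw [this]
    exact Subgroup.commutator_mem_commutator (Subgroup.mem_top T) (Subgroup.mem_top U)
  have hY : Y ∈ C := by
    have : Y = T * Y * T⁻¹ * Y⁻¹ := by
      rw [Heis.d_inv hR, hdy]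
      refine (eq_mul_inv_iff_mul_eq).2 ?_
      rw [eq_inv_iff_mul_eq_one, ← pow_two, ← pow_succ, hy3]
    rw [this]
    exact Subgroup.commutator_mem_commutator (Subgroup.mem_top T) (Subgroup.mem_top Y)
  have hZ : Z ∈ C := by
    have : Z = Y * U * (U * Y)⁻¹ := by rw [hyu, mul_inv_cancel_right]
    rw [this]
    exact mul_mem (mul_mem hY hU) (inv_mem (mul_mem hU hY))
  -- the twenty-seven forms lie in the kernel
  have hker : ∀ x : Cfsg.SU 3 F 2, x ^ 3 = 1 → x ∈ φ.ker := fun x hx => by
    refine q8_cube _ ?_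
    rw [← map_mul, ← map_mul, ← pow_two, ← pow_succ, hx, map_one]
  let g : ZMod 3 × ZMod 3 × ZMod 3 → ↥(C ⊓ φ.ker) := fun p =>
    ⟨Heis.nf U Y Z T (p.1, p.2.1, p.2.2, 0), by
      simp only [Heis.nf, ZMod.val_zero, pow_zero, mul_one]
      exact ⟨mul_mem (mul_mem (pow_mem hZ _) (pow_mem hY _)) (pow_mem hU _),
        mul_mem (mul_mem (pow_mem (hker _ hz3) _) (pow_mem (hker _ hy3) _)) (pow_mem (hker _ hu3) _)⟩⟩
  have h27 : 27 ≤ Nat.card ↥(C ⊓ φ.ker) := by
    have hg : Function.Injective g := fun p q h => by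
      have := hinj (congrArg Subtype.val h)
      simp only [Prod.mk.injEq, and_true] at this
      exact Prod.ext this.1 (Prod.ext this.2.1 this.2.2)
    have := Nat.card_le_card_of_injective g hg
    rwa [show Nat.card (ZMod 3 × ZMod 3 × ZMod 3) = 27 by simp [Nat.card_eq_fintype_card]] at this
  have hC54 : Nat.card C = 54 := by
    have hdvd : Nat.card C ∣ 54 := hM54 ▸ Subgroup.card_dvd_of_le hCM
    have hle : 27 ≤ Nat.card C := h27.trans (Subgroup.card_le_of_le inf_le_left)
    by_contra hne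
    have h27' : Nat.card C = 27 := by
      have hle' := Nat.le_of_dvd (by norm_num) hdvd
      interval_cases Nat.card C <;> first | rfl | norm_num at *
    have heq : C ⊓ φ.ker = C := Subgroup.eq_of_le_of_card_ge inf_le_left (h27' ▸ h27)
    obtain ⟨a, b, hab⟩ := q8_noncomm
    obtain ⟨g', rfl⟩ := hφ a
    obtain ⟨h', rfl⟩ := hφ b
    refine hab ?_
    rw [← map_inv, ← map_inv, ← map_mul, ← map_mul, ← map_mul]
    exact (inf_eq_left.1 heq) (Subgroup.commutator_mem_commutator (Subgroup.mem_top g') (Subgroup.mem_top h'))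
  have hCM' : C = M := Subgroup.eq_of_le_of_card_ge hCM (by omega)
  have hT : T ∈ C := by
    rw [hCM']
    show φ T * φ T = 1
    rw [← map_mul, hd2, map_one]
  let u' : C := ⟨U, hU⟩
  let y' : C := ⟨Y, hY⟩
  let z' : C := ⟨Z, hZ⟩
  let d' : C := ⟨T, hT⟩
  have hR' : Heis.Rels u' y' z' d' := ⟨Subtype.ext hu3, Subtype.ext hy3, Subtype.ext hz3,
    Subtype.ext hd2, Subtype.ext hzu, Subtype.ext hzy, Subtype.ext hzd, Subtype.ext hyu,
    Subtype.ext hdu, Subtype.ext hdy⟩
  have hnf : ∀ p, ((Heis.nf u' y' z' d' p : C) : Cfsg.SU 3 F 2) = Heis.nf U Y Z T p := fun p => rfl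
  have hinj' : Function.Injective (Heis.nf u' y' z' d') := fun p q h => hinj (by rw [← hnf, ← hnf, h])
  haveI : Fintype C := Fintype.ofFinite _
  have hbij : Function.Bijective (Heis.nf u' y' z' d') := (Fintype.bijective_iff_injective_and_card _).2
    ⟨hinj', by rw [← Nat.card_eq_fintype_card (α := C), hC54]; simp⟩
  refine ⟨u', y', z', d', hR', hinj', eq_top_iff.2 fun x _ => ?_⟩
  obtain ⟨p, rfl⟩ := hbij.2 x
  have mu : u' ∈ Subgroup.closure ({u', y', d'} : Set C) := Subgroup.subset_closure (by simp)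
  have my : y' ∈ Subgroup.closure ({u', y', d'} : Set C) := Subgroup.subset_closure (by simp)
  have md : d' ∈ Subgroup.closure ({u', y', d'} : Set C) := Subgroup.subset_closure (by simp)
  have mz : z' ∈ Subgroup.closure ({u', y', d'} : Set C) := by
    have : z' = y' * u' * (u' * y')⁻¹ := by rw [hR'.yu, mul_inv_cancel_right]
    rw [this]
    exact mul_mem (mul_mem my mu) (inv_mem (mul_mem mu my))
  exact mul_mem (mul_mem (mul_mem (pow_mem mz _) (pow_mem my _)) (pow_mem mu _)) (pow_mem md _)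

end Cfsg.Agent.ThreeTransp.SUThreeTwo
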