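import Cfsg.Agent.Lib.ThreeTransp.Classes
import Cfsg.Agent.Lib.Coprime.SchurZassenhaus

/-!
When commuting coincides with equality of commuting sets, some conjugation-closed subset meets
every class and has no two distinct commuting members; hence a member normalizes a Sylow
3-subgroup covering `G / O₂`.
-/

set_option autoImplicit false

namespace Cfsg.Agent.ThreeTransp.SylowSection

open Cfsg.Agent.ThreeTransp
open scoped Pointwise commutatorElement

variable {G : Type*} [Group G]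

/-- An involution normalizing a split extension of an abelian normal 2-group `A` by an odd group
`P` is conjugate to one normalizing `P`, provided its conjugates by elements of `P` congruent to
it modulo `A` are conjugate to it under `A`. -/
theorem exists_conj_normalizes [Finite G] (A P : Subgroup G) [A.Normal] [IsMulCommutative A]
    (hA : IsPGroup 2 A) (hP : Odd (Nat.card P)) {d : G} (hd : d * d = 1)
    (hnorm : P.map (MulAut.conj d).toMonoidHom ≤ A ⊔ P)
    (hcl : ∀ p ∈ P, p * d * p⁻¹ * d ∈ A → ∃ a ∈ A, p * d * p⁻¹ = a * d * a⁻¹) :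
    ∃ g : G, g * d * g⁻¹ ∈ Subgroup.normalizer (P : Set G) := by
  classical
  haveI : Fintype P := Fintype.ofFinite P
  have hcomm : ∀ x ∈ A, ∀ y ∈ A, x * y = y * x := fun x hx y hy =>
    congrArg Subtype.val (mul_comm' (⟨x, hx⟩ : A) ⟨y, hy⟩)
  have hcop : ∀ Q : Subgroup G, Nat.card Q = Nat.card P → (Nat.card A).Coprime (Nat.card Q) := by
    intro Q hQ
    obtain ⟨k, hk⟩ := IsPGroup.iff_card.1 hA
    rw [hk, hQ]
    exact (Nat.coprime_two_left.2 hP).pow_left k
  have hconjA : ∀ g : G, ∀ x ∈ A, g * x * g⁻¹ ∈ A := fun g x hx =>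
    Subgroup.Normal.conj_mem inferInstance x hx g
  set Pd := P.map (MulAut.conj d).toMonoidHom with hPd
  have hsup : A ⊔ P = A ⊔ Pd := by
    symm
    refine Subgroup.eq_of_le_of_card_ge (sup_le le_sup_left hnorm) ?_
    have hAd : A.map (MulAut.conj d).toMonoidHom = A := by
      refine Subgroup.eq_of_le_of_card_ge ?_ (Subgroup.card_map_of_injective
        (MulAut.conj d).injective).ge
      rintro _ ⟨x, hx, rfl⟩
      exact hconjA d x hx
    have e : A ⊔ Pd = (A ⊔ P).map (MulAut.conj d).toMonoidHom := by rw [Subgroup.map_sup, hAd]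
    rw [e]
    exact (Subgroup.card_map_of_injective (MulAut.conj d).injective).ge
  obtain ⟨m, hm, hmP⟩ := Coprime.exists_conj_eq_of_sup_eq (N := A) (H := P) (K := Pd)
    Subgroup.le_normalizer_of_normal Subgroup.le_normalizer_of_normal hsup (hcop P rfl)
    (hcop Pd (Subgroup.card_map_of_injective (MulAut.conj d).injective))
    (Or.inl (by haveI := hA.isNilpotent; infer_instance))
  have hcent : ∀ x ∈ A, x ∈ Subgroup.normalizer (P : Set G) → ∀ q ∈ P, q * x * q⁻¹ = x := by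
    intro x hx hxn q hq
    have h1 : q * x * q⁻¹ * x⁻¹ ∈ A ⊓ P := by
      refine ⟨A.mul_mem (hconjA q x hx) (A.inv_mem hx), ?_⟩
      rw [show q * x * q⁻¹ * x⁻¹ = q * (x * q⁻¹ * x⁻¹) by group]
      exact P.mul_mem hq ((Subgroup.mem_normalizer_iff.1 hxn _).1 (P.inv_mem hq))
    rw [Subgroup.inf_eq_bot_of_coprime (hcop P rfl), Subgroup.mem_bot] at h1
    exact mul_inv_eq_one.1 h1
  -- the norm over `P`
  letI : CommGroup A := { (inferInstance : Group A) with mul_comm := mul_comm' }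
  let act : P → A →* A := fun p => MonoidHom.mk'
    (fun x => ⟨(p : G) * x * (p : G)⁻¹, hconjA _ _ x.2⟩)
    fun u v => Subtype.ext (by simp only [Subgroup.coe_mul]; group)
  let σ : A →* A := MonoidHom.mk' (fun x => ⟨d * x * d⁻¹, hconjA _ _ x.2⟩)
    fun u v => Subtype.ext (by simp only [Subgroup.coe_mul]; group)
  let Nm : A →* A := ∏ p : P, act p
  have hNm : ∀ x, Nm x = ∏ p : P, act p x := fun x => by simp [Nm]
  have hNm_fix : ∀ (x : A) (q : P), act q (Nm x) = Nm x := by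
    intro x q
    rw [hNm, map_prod]
    refine Fintype.prod_equiv (Equiv.mulLeft q) _ _ fun p => Subtype.ext ?_
    show (q : G) * ((p : G) * x * (p : G)⁻¹) * (q : G)⁻¹ =
      ((q * p : P) : G) * x * ((q * p : P) : G)⁻¹
    simp only [Subgroup.coe_mul]
    group
  have hfix_pow : ∀ x : A, (∀ q : P, act q x = x) → Nm x = x ^ Nat.card P := by
    intro x hx
    rw [hNm]; simp only [hx, Finset.prod_const, Finset.card_univ, Nat.card_eq_fintype_card]
  -- adjust the element of `A` to have norm one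
  set z := (powCoprime (hcop P rfl)).symm (Nm ⟨m, hm⟩) with hzdef
  have hzq : z ^ Nat.card P = Nm ⟨m, hm⟩ :=
    (powCoprime (hcop P rfl)).apply_symm_apply (Nm ⟨m, hm⟩)
  have hzfix : ∀ q : P, act q z = z := fun q => (powCoprime (hcop P rfl)).injective (by
    show (act q z) ^ Nat.card P = z ^ Nat.card P
    rw [← map_pow, hzq, hNm_fix])
  set t : A := ⟨m, hm⟩ * z⁻¹ with ht
  have htNm : Nm t = 1 := by
    rw [ht, map_mul, map_inv, hfix_pow z hzfix, hzq, mul_inv_cancel]
  have hzc : ∀ q ∈ P, (z : G) * q * (z : G)⁻¹ = q := by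
    intro q hq
    have h1 : q * (z : G) * q⁻¹ = z := congrArg Subtype.val (hzfix ⟨q, hq⟩)
    rw [← mul_inv_eq_iff_eq_mul.1 h1, mul_inv_cancel_right]
  set h := d * (t : G) with hh
  have hdi : d⁻¹ = d := inv_eq_of_mul_eq_one_left hd
  have htP : ∀ q ∈ P, (t : G) * q * (t : G)⁻¹ = m * q * m⁻¹ := by
    intro q hq
    have h1 : (z : G)⁻¹ * q * (z : G) = q := by
      conv_lhs => rw [← hzc q hq]
      group
    calc (t : G) * q * (t : G)⁻¹ = m * ((z : G)⁻¹ * q * (z : G)) * m⁻¹ := by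
          rw [ht, Subgroup.coe_mul, Subgroup.coe_inv]; group
      _ = m * q * m⁻¹ := by rw [h1]
  have hnP : h ∈ Subgroup.normalizer (P : Set G) := by
    refine Subgroup.mem_normalizer_iff_map_conj_eq.2 (Subgroup.eq_of_le_of_card_ge ?_
      (Subgroup.card_map_of_injective (MulAut.conj h).injective).ge)
    rintro _ ⟨q, hq, rfl⟩
    have h1 : m * q * m⁻¹ ∈ Pd := hmP ▸ Subgroup.smul_mem_pointwise_smul q (MulAut.conj m) P hq
    obtain ⟨q', hq', hqq⟩ := h1
    have hqq' : d * q' * d⁻¹ = m * q * m⁻¹ := hqq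
    show h * q * h⁻¹ ∈ P
    rw [show h * q * h⁻¹ = d * ((t : G) * q * (t : G)⁻¹) * d⁻¹ by rw [hh]; group, htP q hq, ← hqq',
      show d * (d * q' * d⁻¹) * d⁻¹ = (d * d) * q' * (d * d)⁻¹ by group, hd]
    simpa using hq'
  have hπmem : ∀ p : P, h * p * h⁻¹ ∈ P := fun p => (Subgroup.mem_normalizer_iff.1 hnP _).1 p.2
  let π : P → P := fun p => ⟨h * p * h⁻¹, hπmem p⟩
  have hσσ : ∀ x : A, σ (σ x) = x := fun x => Subtype.ext (by
    show d * (d * x * d⁻¹) * d⁻¹ = x
    rw [hdi, ← mul_assoc, ← mul_assoc, hd, one_mul, mul_assoc, hd, mul_one])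
  have hσ_act : ∀ (p : P) (x : A), act (π p) (σ x) = σ (act p x) := by
    intro p x
    apply Subtype.ext
    show h * p * h⁻¹ * (d * x * d⁻¹) * (h * p * h⁻¹)⁻¹ = d * ((p : G) * x * (p : G)⁻¹) * d⁻¹
    have e1 : (t : G)⁻¹ * x * (t : G) = x := by
      rw [mul_assoc, hcomm _ x.2 _ t.2, inv_mul_cancel_left]
    have e2 : (t : G) * ((p : G) * x * (p : G)⁻¹) * (t : G)⁻¹ = (p : G) * x * (p : G)⁻¹ := by
      rw [hcomm _ t.2 _ (hconjA _ _ x.2), mul_inv_cancel_right]
    calc h * p * h⁻¹ * (d * x * d⁻¹) * (h * p * h⁻¹)⁻¹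
        = d * ((t : G) * ((p : G) * ((t : G)⁻¹ * x * (t : G)) * (p : G)⁻¹) * (t : G)⁻¹) * d⁻¹ := by
          rw [hh]; group
      _ = _ := by rw [e1, e2]
  have hπbij : Function.Bijective π := by
    refine Finite.injective_iff_bijective.1 fun p q hpq => Subtype.ext ?_
    exact mul_left_cancel (mul_right_cancel (congrArg Subtype.val hpq))
  have hσNm : Nm (σ t) = σ (Nm t) := by
    rw [hNm, hNm, map_prod]
    exact (Fintype.prod_bijective π hπbij _ _ fun p => (hσ_act p t).symm).symm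
  have hcfix : ∀ q : P, act q (σ t * t) = σ t * t := by
    intro q
    refine Subtype.ext (hcent _ (σ t * t).2 ?_ q q.2)
    have e : ((σ t * t : A) : G) = h * h := by
      show d * t * d⁻¹ * t = h * h
      rw [hh, hdi]; group
    rw [e]; exact Subgroup.mul_mem _ hnP hnP
  have hh2' : σ t * t = 1 := by
    refine (powCoprime (hcop P rfl)).injective ?_
    show (σ t * t) ^ Nat.card P = 1 ^ Nat.card P
    rw [← hfix_pow _ hcfix, map_mul, hσNm, htNm, map_one, one_mul, one_pow]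
  have hσt : σ t = t⁻¹ := eq_inv_of_mul_eq_one_left hh2'
  have hh2 : h * h = 1 := by
    have := congrArg Subtype.val hh2'
    simp only [σ, MonoidHom.mk'_apply, Subgroup.coe_mul, Subgroup.coe_one, hdi] at this
    rw [hh, ← this]; group
  -- it suffices that `t` is a twisted commutator
  let f : A →* A := σ / MonoidHom.id A
  have hf : ∀ x, f x = σ x / x := fun x => rfl
  let φ : A →* A ⧸ f.range := QuotientGroup.mk' f.range
  have hφf : ∀ x, φ (σ x) = φ x := fun x => by
    rw [← div_eq_one, ← map_div, ← hf]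
    exact (QuotientGroup.eq_one_iff _).2 ⟨x, rfl⟩
  have hφt2 : φ t * φ t = 1 := by
    have := hφf t
    rw [hσt, map_inv] at this
    nth_rewrite 1 [← this]
    rw [inv_mul_cancel]
  have hpair : ∀ p : P, φ (act p t) * φ (act (π p) t) = 1 := by
    intro p
    have e : act (π p) (σ t⁻¹) = σ (act p t⁻¹) := hσ_act p t⁻¹
    rw [map_inv, hσt, inv_inv] at e
    rw [e, hφf, ← map_mul, map_inv, mul_inv_cancel, map_one]
  have hfixp : ∀ p : P, π p = p → φ (act p t) = φ t := by
    intro p hp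
    have hp' : h * p * h⁻¹ = p := congrArg Subtype.val hp
    have hx : (p : G) * d * (p : G)⁻¹ = h * ((act p t⁻¹ : A) : G) := by
      show (p : G) * d * (p : G)⁻¹ = h * ((p : G) * (t : G)⁻¹ * (p : G)⁻¹)
      calc (p : G) * d * (p : G)⁻¹ = (h * p * h⁻¹) * d * (p : G)⁻¹ := by rw [hp']
        _ = _ := by rw [hh]; group
    obtain ⟨a, ha, hax⟩ := hcl p p.2 (by
      rw [hx, show h * ((act p t⁻¹ : A) : G) * d =
        (d * ((t : G) * ((act p t⁻¹ : A) : G)) * d⁻¹) * (d * d) by rw [hh]; group, hd, mul_one]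
      exact hconjA _ _ (A.mul_mem t.2 (act p t⁻¹).2))
    have e2 : t * act p t⁻¹ = σ ⟨a, ha⟩ / ⟨a, ha⟩ := by
      apply Subtype.ext
      rw [hax] at hx
      rw [div_eq_mul_inv]
      show (t : G) * ((act p t⁻¹ : A) : G) = d * a * d⁻¹ * a⁻¹
      calc (t : G) * ((act p t⁻¹ : A) : G) = d⁻¹ * (h * ((act p t⁻¹ : A) : G)) := by rw [hh]; group
        _ = d⁻¹ * (a * d * a⁻¹) := by rw [hx]
        _ = _ := by rw [hdi]; group
    have e3 := congrArg φ e2
    have e4 : φ (f ⟨a, ha⟩) = 1 := (QuotientGroup.eq_one_iff _).2 ⟨_, rfl⟩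
    rw [← hf, map_mul, map_inv, map_inv, e4] at e3
    exact (mul_inv_eq_one.1 e3).symm
  let C : Subgroup P := (Subgroup.centralizer ({h} : Set G)).comap P.subtype
  have hC : ∀ p : P, p ∈ C ↔ π p = p := by
    intro p
    show (p : G) ∈ Subgroup.centralizer ({h} : Set G) ↔ _
    rw [Subgroup.mem_centralizer_singleton_iff, Subtype.ext_iff]
    show _ ↔ h * p * h⁻¹ = p
    rw [mul_inv_eq_iff_eq_mul]
    exact eq_comm
  have hφt : φ t = 1 := by
    have hall : ∏ p : P, φ (act p t) = 1 := by rw [← map_prod, ← hNm, htNm, map_one]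
    rw [← Finset.prod_filter_mul_prod_filter_not Finset.univ (fun p => π p = p),
      Finset.prod_congr rfl (fun p hp => hfixp p (Finset.mem_filter.1 hp).2), Finset.prod_const,
      Finset.prod_involution (s := Finset.univ.filter fun p => ¬ π p = p) (fun p _ => π p)
        (fun p _ => hpair p) (fun p hp _ => (Finset.mem_filter.1 hp).2)
        (fun p hp => by
          simp only [Finset.mem_filter, Finset.mem_univ, true_and] at hp ⊢
          exact fun h' => hp (hπbij.1 h'))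
        (fun p _ => Subtype.ext (by
          show h * (h * p * h⁻¹) * h⁻¹ = p
          rw [← mul_assoc, ← mul_assoc, hh2, one_mul, inv_eq_of_mul_eq_one_left hh2, mul_assoc, hh2,
            mul_one])), mul_one] at hall
    have hcard : (Finset.univ.filter fun p => π p = p).card = Nat.card C := by
      rw [Nat.card_eq_fintype_card]
      refine (Fintype.card_of_subtype _ fun p => ?_).symm
      simp [hC]
    rw [hcard] at hall
    obtain ⟨j, hj⟩ := Odd.of_dvd_nat hP (Subgroup.card_subgroup_dvd_card C)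
    rw [hj, pow_succ, pow_mul, pow_two, hφt2, one_pow, one_mul] at hall
    exact hall
  obtain ⟨a, ha⟩ := (QuotientGroup.eq_one_iff _).1 hφt
  refine ⟨a, ?_⟩
  have e : h = (a : G) * d * (a : G)⁻¹ := by
    have h1 : (t : G) = d * a * d⁻¹ * (a : G)⁻¹ := by
      rw [← ha, hf, div_eq_mul_inv]; rfl
    calc h = d * (d * a * d⁻¹ * (a : G)⁻¹) := by rw [hh, h1]
      _ = (d * d) * a * d⁻¹ * (a : G)⁻¹ := by group
      _ = _ := by rw [hd, one_mul, hdi]
  exact e ▸ hnP

/-- A conjugation-closed subset meeting every class in which no two distinct members commute. -/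
theorem exists_section [Finite G] {D : Set G} (hD : Cfsg.IsThreeTranspositionGroup D)
    (htrans : ∀ a ∈ D, ∀ b ∈ D, ∃ g : G, g * a * g⁻¹ = b) (h2 : ∃ a ∈ D, ∃ b ∈ D, a ≠ b)
    (heq : ∀ a ∈ D, ∀ b ∈ D, Commute a b → Classes.SameComm D a b) {d : G} (hd : d ∈ D) :
    ∃ U ⊆ D, d ∈ U ∧ (∀ u ∈ U, ∀ v ∈ U, u * v * u ∈ U) ∧
      (∀ x ∈ D, ∃ u ∈ U, Classes.SameComm D x u) ∧ ∀ u ∈ U, ∀ v ∈ U, Commute u v → u = v := by
  haveI : Fact (Nat.Prime 2) := ⟨Nat.prime_two⟩
  haveI : Fact (Nat.Prime 3) := ⟨Nat.prime_three⟩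
  let F : Set (Set G) := {U | U ⊆ D ∧ (∀ u ∈ U, ∀ v ∈ U, u * v * u ∈ U) ∧
    ∀ x ∈ D, ∃ u ∈ U, Classes.SameComm D x u}
  have hDF : D ∈ F := ⟨subset_rfl, fun u hu v hv => Classes.conj_mem hD hu hv,
    fun x hx => ⟨x, hx, hx, fun _ _ => Iff.rfl⟩⟩
  obtain ⟨U, ⟨hUD, hUc, hUm⟩, hmin⟩ :=
    Set.Finite.exists_minimalFor Set.ncard F (Set.toFinite F) ⟨D, hDF⟩
  suffices hone : ∀ u ∈ U, ∀ v ∈ U, Commute u v → u = v by
    obtain ⟨u₀, hu₀, -⟩ := hUm d hd
    obtain ⟨g, hg⟩ := htrans u₀ (hUD hu₀) d hd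
    refine ⟨(fun x => g * x * g⁻¹) '' U, ?_, ⟨u₀, hu₀, hg⟩, ?_, fun x hx => ?_, ?_⟩
    · rintro _ ⟨x, hx, rfl⟩; exact hD.2.1 g x (hUD hx)
    · rintro _ ⟨x, hx, rfl⟩ _ ⟨y, hy, rfl⟩
      exact ⟨x * y * x, hUc x hx y hy, by group⟩
    · obtain ⟨u, hu, hxu⟩ := hUm (g⁻¹ * x * g) (Classes.inv_conj_mem hD g hx)
      refine ⟨_, ⟨u, hu, rfl⟩, ?_⟩
      have h := Classes.sameComm_conj hD hxu g
      rwa [show g * (g⁻¹ * x * g) * g⁻¹ = x by group] at h
    · rintro _ ⟨x, hx, rfl⟩ _ ⟨y, hy, rfl⟩ hc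
      rw [hone x hx y hy (Basic.commute_conj.1 hc)]
  by_contra hcon
  push_neg at hcon
  obtain ⟨u₁, hu₁, v₁, hv₁, hc₁, hne₁⟩ := hcon
  -- every member has a noncommuting partner inside
  have hnc : ∀ u ∈ U, ∃ e ∈ U, ¬ Commute u e := by
    intro u hu
    obtain ⟨e₀, he₀, hue⟩ := Classes.exists_noncomm hD htrans h2 (hUD hu)
    obtain ⟨e, he, hee⟩ := hUm e₀ he₀
    exact ⟨e, he, fun h => hue ((hee.2 u (hUD hu)).1 h.symm).symm⟩
  set H := Subgroup.closure U with hH
  let UH : Set H := {x | (x : G) ∈ U}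
  have hUHc : ∀ g : H, ∀ x ∈ UH, g * x * g⁻¹ ∈ UH := by
    rintro ⟨g, hg⟩ x hx
    show g * (x : G) * g⁻¹ ∈ U
    induction hg using Subgroup.closure_induction'' generalizing x with
    | one => simp only [one_mul, inv_one, mul_one]; exact hx
    | mem y hy => rw [Classes.inv hD (hUD hy)]; exact hUc y hy x hx
    | inv_mem y hy =>
      rw [inv_inv, Classes.inv hD (hUD hy)]; exact hUc y hy x hx
    | mul y z hy hz ihy ihz =>
      have h1 := ihz x hx
      have h3 := ihy ⟨_, Subgroup.subset_closure h1⟩ h1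
      rwa [show y * z * (x : G) * (y * z)⁻¹ = y * (z * (x : G) * z⁻¹) * y⁻¹ by group]
  have hUHset : Cfsg.IsThreeTranspositionSet UH := by
    refine ⟨fun x hx => ?_, fun x hx y hy => ?_⟩
    · rw [← Subgroup.orderOf_coe]; exact hD.1.1 _ (hUD hx)
    · exact (hD.1.2 _ (hUD hx) _ (hUD hy)).imp (fun h => Subtype.ext (by simpa using h))
        fun h => Subtype.ext (by simpa using h)
  have hUHgen : Subgroup.closure UH = ⊤ := by
    rw [eq_top_iff]
    rintro ⟨g, hg⟩ -
    have key : Subgroup.closure U ≤ (Subgroup.closure UH).map H.subtype := by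
      rw [Subgroup.closure_le]
      exact fun y hy => ⟨⟨y, Subgroup.subset_closure hy⟩, Subgroup.subset_closure hy, rfl⟩
    obtain ⟨y, hy, hyg⟩ := key hg
    rwa [← Subtype.ext (show (y : G) = ((⟨g, hg⟩ : H) : G) from hyg)]
  have hHG : Cfsg.IsThreeTranspositionGroup UH := ⟨hUHset, hUHc, hUHgen⟩
  have hcc : ∀ {x y : H}, Commute x y ↔ Commute (x : G) (y : G) := fun {x y} =>
    ⟨fun h => congrArg Subtype.val h.eq, fun h => Subtype.ext h.eq⟩
  have hsame : ∀ {x y : H}, x ∈ UH → y ∈ UH → Commute x y → Classes.SameComm UH x y :=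
    fun {x y} hx hy h => ⟨hy, fun e he => by
      rw [hcc, hcc]; exact (heq _ (hUD hx) _ (hUD hy) (hcc.1 h)).2 _ (hUD he)⟩
  -- the subgroup generated by products of commuting members
  let T : Subgroup H := Subgroup.closure {t | ∃ x ∈ UH, ∃ y ∈ UH, Commute x y ∧ t = y * x}
  haveI hTn : T.Normal := by
    refine ⟨fun t ht g => ?_⟩
    induction ht using Subgroup.closure_induction with
    | mem z hz =>
      obtain ⟨x, hx, y, hy, hxy, rfl⟩ := hz
      exact Subgroup.subset_closure ⟨_, hUHc g x hx, _, hUHc g y hy, Basic.commute_conj.2 hxy,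
        by group⟩
    | one => simp
    | mul y z _ _ hy hz =>
      rw [show g * (y * z) * g⁻¹ = (g * y * g⁻¹) * (g * z * g⁻¹) by group]; exact mul_mem hy hz
    | inv y _ hy => rw [show g * y⁻¹ * g⁻¹ = (g * y * g⁻¹)⁻¹ by group]; exact inv_mem hy
  have hT2 : IsPGroup 2 T := by
    refine IsPGroup.to_le (Cores.pCore_isPGroup 2) ((Subgroup.closure_le _).2 ?_)
    rintro _ ⟨x, hx, y, hy, hxy, rfl⟩
    exact Classes.mul_mem_pCore_two hHG hx (hsame hx hy hxy)
  have hTne : T ≠ ⊥ := by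
    intro hT
    let a : H := ⟨u₁, Subgroup.subset_closure hu₁⟩
    let b : H := ⟨v₁, Subgroup.subset_closure hv₁⟩
    have hm : b * a ∈ T :=
      Subgroup.subset_closure ⟨a, hu₁, b, hv₁, hcc.2 hc₁, rfl⟩
    rw [hT, Subgroup.mem_bot] at hm
    have h1 := eq_inv_of_mul_eq_one_left (congrArg Subtype.val hm : v₁ * u₁ = 1)
    rw [Classes.inv hD (hUD hu₁)] at h1
    exact hne₁ h1.symm
  haveI : Group.IsNilpotent T := hT2.isNilpotent
  have hlt : ⁅T, T⁆ < T := by
    haveI : Nontrivial T := (Subgroup.nontrivial_iff_ne_bot T).2 hTne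
    refine lt_of_le_of_ne (Subgroup.commutator_le_self T) fun h => ?_
    refine (Group.IsSolvable.commutator_lt_top_of_nontrivial (G := T)).ne ?_
    refine Subgroup.map_injective T.subtype_injective ?_
    rw [Subgroup.map_subtype_commutator, h, ← MonoidHom.range_eq_map, Subgroup.range_subtype]
  set N : Subgroup H := ⁅T, T⁆ with hN
  haveI : N.Normal := Subgroup.commutator_normal T T
  set π := QuotientGroup.mk' N with hπ
  have hπs : Function.Surjective π := QuotientGroup.mk'_surjective N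
  set A := T.map π with hA
  haveI : A.Normal := hTn.map _ hπs
  haveI : IsMulCommutative A := by
    refine ⟨⟨fun x y => Subtype.ext ?_⟩⟩
    obtain ⟨_, a, ha, rfl⟩ := x
    obtain ⟨_, b, hb, rfl⟩ := y
    show π a * π b = π b * π a
    rw [← map_mul, ← map_mul]
    refine QuotientGroup.eq.2 ?_
    rw [show (a * b)⁻¹ * (b * a) = ⁅b⁻¹, a⁻¹⁆ by rw [commutatorElement_def]; group]
    exact Subgroup.commutator_mem_commutator (inv_mem hb) (inv_mem ha)
  have hA2 : IsPGroup 2 A := hT2.map π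
  have hpre : ∀ x : H, π x ∈ A ↔ x ∈ T := fun x => ⟨fun ⟨a, ha, hax⟩ => by
    have := hlt.le (QuotientGroup.eq.1 hax)
    simpa using T.mul_mem ha this, fun h => ⟨x, h, rfl⟩⟩
  -- a 3-subgroup covering the quotient by `A`
  have hnotT : ∀ u ∈ UH, u ∉ T := by
    intro u hu hT
    obtain ⟨e, he, hue⟩ := hnc _ hu
    let e' : H := ⟨e, Subgroup.subset_closure he⟩
    have he'' : e' * e' = 1 := Subtype.ext (Classes.sq hD (hUD he))
    have hm : (u * e') ^ 2 ∈ T := by
      rw [pow_two, show u * e' * (u * e') = u * (e' * u * e'⁻¹) * (e' * e') by group, he'', mul_one]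
      exact T.mul_mem hT (hTn.conj_mem u hT e')
    have h3 : (u * e') ^ 3 = 1 :=
      Subtype.ext (by simpa using Basic.cube_of_not_commute hD.1 (hUD hu) (hUD he) hue)
    have h1 := Classes.eq_one_of_mem_pGroup Nat.prime_two hT2 hm (n := 3)
      (by rw [← pow_mul, mul_comm, pow_mul, h3, one_pow]) (by norm_num)
    rw [pow_succ, h1, one_mul] at h3
    rw [h3, one_pow] at h1
    exact hue ((Basic.sq_prod_eq_one_iff (Classes.sq hD (hUD hu)) (Classes.sq hD (hUD he))).1
      (by rw [show (u : G) * e = ((u * e' : H) : G) from rfl, h3]; simp))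
  have hcong : ∀ u ∈ UH, ∀ v ∈ UH, u * v ∈ T ↔ Commute u v := by
    intro u hu v hv
    refine ⟨fun h => Basic.commute_of_pGroup hUHset Nat.prime_two (by norm_num) hT2 hu hv h,
      fun h => Subgroup.subset_closure ⟨v, hv, u, hu, h.symm, rfl⟩⟩
  set ρ := QuotientGroup.mk' A with hρ
  set f := ρ.comp π with hf
  have hfker : ∀ x : H, f x = 1 ↔ x ∈ T := fun x => by
    rw [← hpre]; exact QuotientGroup.eq_one_iff _
  have himg : Cfsg.IsThreeTranspositionSet (f '' UH) := by
    refine ⟨?_, ?_⟩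
    · rintro _ ⟨u, hu, rfl⟩
      refine orderOf_eq_prime ?_ fun h => hnotT u hu ((hfker u).1 h)
      rw [← map_pow, pow_two, Classes.sq hHG hu, map_one]
    · rintro _ ⟨u, hu, rfl⟩ _ ⟨v, hv, rfl⟩
      rw [← map_mul, ← map_pow, ← map_pow]
      exact (hUHset.2 u hu v hv).imp (fun h => by rw [h, map_one]) fun h => by rw [h, map_one]
  have hfs : Function.Surjective f := (QuotientGroup.mk'_surjective A).comp hπs
  have hK : ∀ u ∈ UH, ∀ v ∈ UH, f (u * v) ∈ Cfsg.pCore 3 ((H ⧸ N) ⧸ A) := by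
    intro u hu v hv
    rw [map_mul]
    refine WidthOne.mul_mem_pCore himg ?_ ?_ ⟨u, hu, rfl⟩ ⟨v, hv, rfl⟩
    · rintro g _ ⟨x, hx, rfl⟩
      obtain ⟨g, rfl⟩ := hfs g
      exact ⟨g * x * g⁻¹, hUHc g x hx, by simp⟩
    · rintro _ ⟨x, hx, rfl⟩ _ ⟨y, hy, rfl⟩ hc
      have hxy : Commute x y := by
        by_contra hn
        have h3 : (f (x * y)) ^ 3 = 1 := by
          rw [← map_pow, Basic.cube_of_not_commute hUHset hx hy hn, map_one]
        have hsq : (f (x * y)) ^ 2 = 1 := by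
          rw [map_mul, hc.mul_pow, ← map_pow, ← map_pow, pow_two, pow_two, Classes.sq hHG hx,
            Classes.sq hHG hy, map_one, one_mul]
        have h1 := pow_gcd_eq_one.2 ⟨hsq, h3⟩
        rw [show Nat.gcd 2 3 = 1 from rfl, pow_one] at h1
        exact hn ((hcong x hx y hy).1 ((hfker _).1 h1))
      have h1 := (hfker _).2 ((hcong x hx y hy).2 hxy)
      rw [map_mul] at h1
      rw [eq_inv_of_mul_eq_one_left h1, ← map_inv, Classes.inv hHG hy]
  set K := Cfsg.pCore 3 ((H ⧸ N) ⧸ A) with hKdef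
  haveI : K.Normal := Cores.pCore_normal 3
  set M := K.comap ρ with hM
  haveI : M.Normal := inferInstance
  obtain ⟨S⟩ := (inferInstance : Nonempty (Sylow 3 M))
  set P := (S : Subgroup M).map M.subtype with hP
  have hPM : P ≤ M := Subgroup.map_subtype_le _
  have hcardA : ∃ a, Nat.card A = 2 ^ a := IsPGroup.iff_card.1 hA2
  obtain ⟨a, hca⟩ := hcardA
  obtain ⟨k, hck⟩ := IsPGroup.iff_card.1 (Cores.pCore_isPGroup (G := (H ⧸ N) ⧸ A) 3)
  have hcM : Nat.card M = 2 ^ a * 3 ^ k := by rw [hM, Cores.card_comap_mk', hca, hck]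
  have hcP : Nat.card P = 3 ^ k := by
    rw [hP, Subgroup.card_map_of_injective M.subtype_injective, S.card_eq_multiplicity, hcM,
      Nat.factorization_mul (by simp) (by simp), Finsupp.add_apply,
      Nat.Prime.factorization_pow Nat.prime_two, Nat.Prime.factorization_pow Nat.prime_three]
    simp
  have hPodd : Odd (Nat.card P) := hcP ▸ (by decide : Odd 3).pow
  have hinf : A ⊓ P = ⊥ := Subgroup.inf_eq_bot_of_coprime (by
    rw [hca, hcP]; exact Nat.Coprime.pow a k (by norm_num))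
  have hAM : A ⊔ P = M := by
    have hle : A ≤ M := fun x hx => by
      have h1 : ρ x = 1 := (QuotientGroup.eq_one_iff x).2 hx
      rw [hM, Subgroup.mem_comap, h1]; exact one_mem _
    refine Subgroup.eq_of_le_of_card_ge (sup_le hle hPM) ?_
    have h := Cores.card_sup_mul_card_inf P A
    rw [inf_comm, hinf, sup_comm, Subgroup.card_bot, mul_one, hca, hcP] at h
    rw [h, hcM, mul_comm]
  obtain ⟨u₀', hu₀', -⟩ := hUm d hd
  let b : H := ⟨u₀', Subgroup.subset_closure hu₀'⟩
  have hb : b ∈ UH := hu₀'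
  obtain ⟨g, hg⟩ := exists_conj_normalizes A P hA2 hPodd (d := π b)
    (by rw [← map_mul, Classes.sq hHG hb, map_one])
    (by
      rintro _ ⟨x, hx, rfl⟩
      rw [hAM]
      exact (inferInstance : M.Normal).conj_mem x (hPM hx) _)
    (by
      intro p hp hpA
      obtain ⟨p, rfl⟩ := hπs p
      rw [← map_inv, ← map_mul, ← map_mul, ← map_mul, hpre] at hpA
      have hc := (hcong _ (hUHc p b hb) b hb).1 hpA
      obtain ⟨e, he, hbe⟩ := hnc _ hb
      let e' : H := ⟨e, Subgroup.subset_closure he⟩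
      have hbe' : ¬ Commute b e' := fun h => hbe (hcc.1 h)
      have hS := hsame hb (hUHc p b hb) hc.symm
      refine ⟨π (e' * (p * b * p⁻¹ * b) * e'⁻¹), ⟨_, hTn.conj_mem _ hpA e', rfl⟩, ?_⟩
      rw [← map_inv, ← map_mul, ← map_mul, ← map_inv, ← map_mul, ← map_mul,
        Classes.sameComm_conj_elt hHG hb hS he hbe'])
  obtain ⟨g, rfl⟩ := hπs g
  rw [← map_inv, ← map_mul, ← map_mul] at hg
  set c := g * b * g⁻¹ with hcdef
  have hcU : c ∈ UH := hUHc g b hb
  let U' : Set G := {x | ∃ hx : x ∈ U, π ⟨x, Subgroup.subset_closure hx⟩ ∈ Subgroup.normalizer (P : Set (H ⧸ N))}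
  have hU'sub : U' ⊆ U := fun x hx => hx.1
  have hU'F : U' ∈ F := by
    refine ⟨hU'sub.trans hUD, ?_, fun x hx => ?_⟩
    · rintro u ⟨hu, hun⟩ v ⟨hv, hvn⟩
      refine ⟨hUc u hu v hv, ?_⟩
      have := Subgroup.mul_mem _ (Subgroup.mul_mem _ hun hvn) hun
      rwa [← map_mul, ← map_mul] at this
    obtain ⟨u, hu, hxu⟩ := hUm x hx
    let w : H := ⟨u, Subgroup.subset_closure hu⟩
    have hw : w ∈ UH := hu
    obtain ⟨y, hy, hyn, hyw⟩ : ∃ y ∈ UH, π y ∈ Subgroup.normalizer (P : Set (H ⧸ N)) ∧ Commute w y := by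
      by_cases hwc : Commute w c
      · exact ⟨c, hcU, hg, hwc⟩
      have hbr : c * w * c * (c * w)⁻¹ = w := by
        rw [mul_inv_rev, Classes.inv hHG hcU, Classes.inv hHG hw,
          Basic.braid hUHset hcU hw fun h => hwc h.symm]
        simp [mul_assoc, WidthOne.mul_mul_cancel_left (Classes.sq hHG hw), Classes.sq hHG hcU]
      have hm : π (c * w) ∈ A ⊔ P := by rw [hAM]; exact hK c hcU w hw
      obtain ⟨a', ha', p, hp, hap⟩ := Subgroup.mem_sup_of_normal_left.1 hm
      obtain ⟨p, rfl⟩ := hπs p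
      refine ⟨p * c * p⁻¹, hUHc p c hcU, ?_, ?_⟩
      · rw [map_mul, map_mul, map_inv]
        have hpn : π p ∈ Subgroup.normalizer (P : Set (H ⧸ N)) := Subgroup.le_normalizer hp
        exact Subgroup.mul_mem _ (Subgroup.mul_mem _ hpn hg) (Subgroup.inv_mem _ hpn)
      · refine (hcong w hw _ (hUHc p c hcU)).1 ((hpre _).1 ?_)
        have hπw : π w = a' * π (p * c * p⁻¹) * a'⁻¹ := by
          calc π w = π (c * w * c * (c * w)⁻¹) := by rw [hbr]
            _ = π (c * w) * π c * (π (c * w))⁻¹ := by rw [map_mul, map_mul _ (c * w) c, map_inv]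
            _ = _ := by rw [← hap]; simp only [map_mul, map_inv]; group
        have hy2 : π (p * c * p⁻¹) * π (p * c * p⁻¹) = 1 := by
          rw [← map_mul, Classes.sq hHG (hUHc p c hcU), map_one]
        rw [map_mul, hπw, mul_assoc, mul_assoc]
        refine A.mul_mem ha' ?_
        have := (inferInstance : A.Normal).conj_mem _ (inv_mem ha') (π (p * c * p⁻¹))
        rwa [inv_eq_of_mul_eq_one_left hy2, mul_assoc] at this
    exact ⟨y, ⟨hy, hyn⟩, Classes.sameComm_trans hxu (heq _ (hUD hw) _ (hUD hy) (hcc.1 hyw))⟩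
  have hUU' : U' = U := Set.eq_of_subset_of_ncard_le hU'sub
    (hmin hU'F (Set.ncard_le_ncard hU'sub (Set.toFinite _))) (Set.toFinite _)
  -- then `P` is normal, and commuting members are congruent modulo `N`
  haveI hPn : P.Normal := by
    refine Subgroup.normalizer_eq_top_iff.1 (eq_top_iff.2 ?_)
    rw [← Subgroup.map_top_of_surjective π hπs, ← hUHgen, MonoidHom.map_closure, Subgroup.closure_le]
    rintro _ ⟨x, hx, rfl⟩
    obtain ⟨_, hn⟩ : (x : G) ∈ U' := hUU'.symm ▸ hx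
    exact hn
  have hin : ∀ u ∈ UH, ∀ v ∈ UH, ¬ Commute u v → π (u * v) ∈ P := by
    intro u hu v hv hn
    have hm : π (u * v) ∈ A ⊔ P := by rw [hAM]; exact hK u hu v hv
    obtain ⟨a', ha', p, hp, hap⟩ := Subgroup.mem_sup_of_normal_left.1 hm
    have hc : Commute a' p := by
      have h1 : a' * p * a'⁻¹ * p⁻¹ ∈ A ⊓ P := ⟨by
        rw [show a' * p * a'⁻¹ * p⁻¹ = a' * (p * a'⁻¹ * p⁻¹) by group]
        exact A.mul_mem ha' ((inferInstance : A.Normal).conj_mem _ (inv_mem ha') p),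
        P.mul_mem (hPn.conj_mem p hp a') (inv_mem hp)⟩
      rw [hinf, Subgroup.mem_bot] at h1
      exact mul_inv_eq_iff_eq_mul.1 (mul_inv_eq_one.1 h1)
    have h3 : (a' * p) ^ 3 = 1 := by
      rw [hap, ← map_pow, Basic.cube_of_not_commute hUHset hu hv hn, map_one]
    rw [hc.mul_pow] at h3
    have h4 : a' ^ 3 ∈ A ⊓ P :=
      ⟨pow_mem ha' 3, by rw [eq_inv_of_mul_eq_one_left h3]; exact P.inv_mem (P.pow_mem hp 3)⟩
    rw [hinf, Subgroup.mem_bot] at h4
    rw [← hap, Classes.eq_one_of_mem_pGroup Nat.prime_two hA2 ha' h4 (by norm_num), one_mul]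
    exact hp
  refine hlt.not_ge ((Subgroup.closure_le _).2 ?_)
  rintro _ ⟨x, hx, y, hy, hxy, rfl⟩
  obtain ⟨e, he, hxe⟩ := hnc _ hx
  let e' : H := ⟨e, Subgroup.subset_closure he⟩
  have hxe' : ¬ Commute x e' := fun h => hxe (hcc.1 h)
  have hye : ¬ Commute y e' := fun h => hxe' (((hsame hx hy hxy).2 e' he).1 h)
  have h1 : π (y * x) ∈ A ⊓ P := by
    refine ⟨(hpre _).2 (Subgroup.subset_closure ⟨x, hx, y, hy, hxy, rfl⟩), ?_⟩
    rw [show y * x = (y * e') * (e'⁻¹ * x) by group, map_mul, Classes.inv hHG (show e' ∈ UH from he)]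
    exact P.mul_mem (hin y hy e' he hye) (hin e' he x hx fun h => hxe' h.symm)
  rw [hinf, Subgroup.mem_bot] at h1
  exact (QuotientGroup.eq_one_iff _).1 h1

end Cfsg.Agent.ThreeTransp.SylowSection
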