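import Cfsg.Agent.Lib.ThreeTransp.TwoQuotientPrep
import Cfsg.Agent.Lib.ThreeTransp.Heis
import Cfsg.Agent.Lib.Cores.Basic
import Cfsg.Prelude.Def_Local

/-!
Three-transposition groups whose quotient by the self-centralizing 2-core has a normal 3-subgroup
of index 2.
-/

set_option autoImplicit false

namespace Cfsg.Agent.ThreeTransp.TwoQuotient

open Cfsg.Agent.ThreeTransp

variable {H : Type*} [Group H]

instance pCore_two_normal : (Cfsg.pCore 2 H).Normal := Cores.pCore_normal 2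

/-- The projection modulo the 2-core. -/
abbrev pr (H : Type*) [Group H] : H →* H ⧸ Cfsg.pCore 2 H := QuotientGroup.mk' _

theorem pr_eq_one {x : H} : pr H x = 1 ↔ x ∈ Cfsg.pCore 2 H := QuotientGroup.eq_one_iff x

theorem conj_mem_core {q : H} (hq : q ∈ Cfsg.pCore 2 H) (g : H) :
    g * q * g⁻¹ ∈ Cfsg.pCore 2 H :=
  (inferInstance : (Cfsg.pCore 2 H).Normal).conj_mem q hq g

/-- The hypotheses. -/
structure Setup (D : Set H) (P : Subgroup (H ⧸ Cfsg.pCore 2 H)) (d : H) : Prop where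
  grp : Cfsg.IsThreeTranspositionGroup D
  trans : ∀ a ∈ D, ∀ b ∈ D, ∃ g : H, g * a * g⁻¹ = b
  cent : Subgroup.centralizer (Cfsg.pCore 2 H : Set H) ≤ Cfsg.pCore 2 H
  nP : P.Normal
  p3 : IsPGroup 3 P
  idx : P.index = 2
  mem : d ∈ D
  notP : pr H d ∉ P

/-- An element of `P` inverted by the image of `d`. -/
def Inv (P : Subgroup (H ⧸ Cfsg.pCore 2 H)) (d : H) (i : H ⧸ Cfsg.pCore 2 H) : Prop :=
  i ∈ P ∧ pr H d * i * pr H d = i⁻¹

variable [Finite H] {D : Set H} {P : Subgroup (H ⧸ Cfsg.pCore 2 H)} {d : H}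
variable (S : Setup D P d)
include S

theorem sq_d : d * d = 1 := Classes.sq S.grp S.mem

theorem sq_pr : pr H d * pr H d = 1 := by rw [← map_mul, sq_d S, map_one]

theorem pr_inv : (pr H d)⁻¹ = pr H d := inv_eq_of_mul_eq_one_right (sq_pr S)

theorem odd_order {i : H ⧸ Cfsg.pCore 2 H} (hi : i ∈ P) : Odd (orderOf i) := by
  haveI : Fact (Nat.Prime 3) := ⟨Nat.prime_three⟩
  obtain ⟨k, hk⟩ := IsPGroup.iff_orderOf.1 S.p3 ⟨i, hi⟩
  rw [Subgroup.orderOf_mk] at hk
  rw [hk]
  exact (by decide : Odd 3).pow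

theorem eq_one_of_sq {i : H ⧸ Cfsg.pCore 2 H} (hi : i ∈ P) (h : i * i = 1) : i = 1 := by
  obtain ⟨m, hm⟩ := odd_order S hi
  have h1 := pow_orderOf_eq_one i
  rwa [hm, pow_succ, pow_mul, pow_two, h, one_pow, one_mul] at h1

theorem member_outside {e : H} (he : e ∈ D) : pr H e ∉ P := by
  obtain ⟨g, rfl⟩ := S.trans d S.mem e he
  intro h
  refine S.notP ?_
  have := S.nP.conj_mem _ h (pr H g)⁻¹
  rw [map_mul, map_mul, map_inv] at this
  simpa [mul_assoc] using this

theorem member_prod {e : H} (he : e ∈ D) : pr H (d * e) ∈ P := by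
  rw [map_mul, P.mul_mem_iff_of_index_two S.idx]
  exact iff_of_false S.notP (member_outside S he)

theorem exists_member {i : H ⧸ Cfsg.pCore 2 H} (hi : Inv P d i) :
    ∃ e ∈ D, pr H (d * e) = i := by
  have hinv : pr H d * i⁻¹ * pr H d = i⁻¹⁻¹ := by
    rw [inv_inv, ← hi.2]
    simp only [← mul_assoc, sq_pr S, one_mul]
    rw [mul_assoc, sq_pr S, mul_one]
  obtain ⟨j, -, hj⟩ := exists_conj_sqrt (sq_pr S) hinv (by rw [orderOf_inv]; exact odd_order S hi.1)
  obtain ⟨g, rfl⟩ := QuotientGroup.mk'_surjective _ j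
  refine ⟨g * d * g⁻¹, S.grp.2.1 g d S.mem, ?_⟩
  show pr H (d * (g * d * g⁻¹)) = i
  rw [map_mul, map_mul, map_mul, map_inv, show pr H g * pr H d * (pr H g)⁻¹ = i⁻¹ * pr H d from hj,
    ← mul_assoc, hinv, inv_inv]

theorem inv_cube {i : H ⧸ Cfsg.pCore 2 H} (hi : Inv P d i) : i ^ 3 = 1 := by
  obtain ⟨e, he, rfl⟩ := exists_member S hi
  rcases S.grp.1.2 d S.mem e he with h | h
  · rw [eq_one_of_sq S hi.1 (by rw [← pow_two, ← map_pow, h, map_one]), one_pow]
  · rw [← map_pow, h, map_one]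

omit S in
theorem eq_one_of_cube {r : H} (hr : r ∈ Cfsg.pCore 2 H) (h : r ^ 3 = 1) : r = 1 :=
  Classes.eq_one_of_mem_pGroup Nat.prime_two (Cores.pCore_isPGroup 2) hr h (by norm_num)

omit [Finite H] in
theorem d_eq : d⁻¹ = d := Classes.inv S.grp S.mem

/-- A member centralises the fixed points in the core of its product with another member. -/
theorem commute_of_prod {a e : H} (ha : a ∈ D) (he : e ∈ D) (h3 : (a * e) ^ 3 = 1)
    (hne : pr H (a * e) ≠ 1) {r : H} (hr : r ∈ Cfsg.pCore 2 H) (hrx : Commute r (a * e)) :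
    Commute a r := by
  set x := a * e with hx
  have hai := Classes.inv S.grp ha
  have hei := Classes.inv S.grp he
  have hax : a * x * a = x⁻¹ := by
    rw [hx, _root_.mul_inv_rev, hai, hei, ← mul_assoc, Classes.sq S.grp ha, one_mul]
  set s := r⁻¹ * a * r * a with hs
  have hsQ : s ∈ Cfsg.pCore 2 H := by
    have := conj_mem_core hr a
    rw [hai] at this
    rw [hs, show r⁻¹ * a * r * a = r⁻¹ * (a * r * a) by group]
    exact mul_mem (inv_mem hr) this
  have hconj : Commute (a * r * a) x := by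
    have h1 : Commute (a * r * a⁻¹) (a * x⁻¹ * a⁻¹) := Basic.commute_conj.2 hrx.inv_right
    rwa [hai, show a * x⁻¹ * a = x by rw [← hax, ← mul_assoc, ← mul_assoc, Classes.sq S.grp ha, one_mul, mul_assoc, Classes.sq S.grp ha, mul_one]] at h1
  have hsx : Commute s x := by
    rw [hs, show r⁻¹ * a * r * a = r⁻¹ * (a * r * a) by group]
    exact (hrx.inv_left).mul_left hconj
  set a' := r⁻¹ * a * r with ha'
  have hprod : a' * e = s * x := by
    rw [hs, hx, ha']
    simp only [mul_assoc]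
    rw [← mul_assoc a a e, Classes.sq S.grp ha, one_mul]
  rcases S.grp.1.2 a' (Classes.inv_conj_mem S.grp r ha) e he with h | h
  · exfalso
    refine hne ?_
    rw [hprod, hsx.mul_pow] at h
    have h2 : pr H x ^ 2 = 1 := by
      have := congrArg (pr H) h
      rwa [map_mul, map_pow, pr_eq_one.2 hsQ, one_pow, one_mul, map_one, map_pow] at this
    have h3' : pr H x ^ 3 = 1 := by rw [← map_pow, h3, map_one]
    simpa using pow_gcd_eq_one.2 ⟨h2, h3'⟩
  · rw [hprod, hsx.mul_pow, h3, mul_one] at h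
    have hs1 := eq_one_of_cube hsQ h
    show a * r = r * a
    rw [hs, mul_assoc, mul_assoc, inv_mul_eq_one] at hs1
    conv_rhs => rw [hs1]
    rw [mul_assoc, mul_assoc, Classes.sq S.grp ha, mul_one]

/-- A lift of order three of an inverted element is inverted by a member over the same coset,
which centralises its fixed points in the core. -/
theorem exists_inverter {c : H} (hc : c ^ 3 = 1) (hi : Inv P d (pr H c)) (hne : pr H c ≠ 1) :
    ∃ a ∈ D, pr H a = pr H d ∧ a * c * a = c⁻¹ ∧ a * c ∈ D ∧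
      ∀ r ∈ Cfsg.pCore 2 H, Commute r c → Commute a r := by
  obtain ⟨e, he, hde⟩ := exists_member S hi
  have h3 : (d * e) ^ 3 = 1 := by
    rcases S.grp.1.2 d S.mem e he with h | h
    · refine absurd (eq_one_of_sq S hi.1 ?_) hne
      rw [← hde, ← map_mul, ← pow_two, h, map_one]
    · exact h
  obtain ⟨q, hq, hqc⟩ := exists_conj_of_congr (Cores.pCore_isPGroup 2) hc h3 (QuotientGroup.eq.1 hde)
  have ha : q * d * q⁻¹ ∈ D := S.grp.2.1 q d S.mem
  have he' : q * e * q⁻¹ ∈ D := S.grp.2.1 q e he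
  have hc' : q * d * q⁻¹ * (q * e * q⁻¹) = c := by rw [← hqc]; group
  refine ⟨q * d * q⁻¹, ha, ?_, ?_, ?_, ?_⟩
  · rw [map_mul, map_mul, map_inv, pr_eq_one.2 hq, one_mul, inv_one, mul_one]
  · rw [← hc', _root_.mul_inv_rev, Classes.inv S.grp ha, Classes.inv S.grp he',
      ← mul_assoc (q * d * q⁻¹) (q * d * q⁻¹) (q * e * q⁻¹), Classes.sq S.grp ha, one_mul]
  · rw [← hc', ← mul_assoc (q * d * q⁻¹) (q * d * q⁻¹) (q * e * q⁻¹), Classes.sq S.grp ha, one_mul]
    exact he'
  · intro r hr hrc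
    refine commute_of_prod S ha he' (by rw [hc', hc]) (by rw [hc']; exact hne) hr ?_
    rw [hc']; exact hrc

omit [Finite H] in
/-- A lifting of `P`. -/
theorem exists_lift [Finite H] : ∃ s : P →* H, ∀ p : P, pr H (s p) = p := by
  haveI : Fact (Nat.Prime 2) := ⟨Nat.prime_two⟩
  haveI : Fact (Nat.Prime 3) := ⟨Nat.prime_three⟩
  exact exists_lift_hom P
    (IsPGroup.coprime_card_of_ne 2 3 (by norm_num) _ _ (Cores.pCore_isPGroup 2) S.p3)

variable (s : P →* H) (hs : ∀ p : P, pr H (s p) = p)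
include hs

theorem s_cube {p : P} (hp : Inv P d (p : H ⧸ Cfsg.pCore 2 H)) : (s p) ^ 3 = 1 := by
  rw [← map_pow, show p ^ 3 = 1 from Subtype.ext (inv_cube S hp), map_one]

/-- An inverted element centralises the invariant fixed points of another. -/
theorem centralised {a c : P} (hca : Inv P d (a : H ⧸ Cfsg.pCore 2 H))
    (hcc : Inv P d (c : H ⧸ Cfsg.pCore 2 H)) (hne : (c : H ⧸ Cfsg.pCore 2 H) ≠ 1) (R : H → Prop)
    (hR : ∀ r, R r → r ∈ Cfsg.pCore 2 H)
    (hnorm : ∀ r, R r → Commute r (s c) → R (s a * r * (s a)⁻¹) ∧ Commute (s a * r * (s a)⁻¹) (s c)) :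
    ∀ r, R r → Commute r (s c) → Commute (s a) r := by
  obtain ⟨d', hd', hpd', -, -, hfix⟩ := exists_inverter S (s_cube S s hs hcc) (by rw [hs]; exact hcc)
    (by rw [hs]; exact hne)
  intro r hr hrc
  refine commute_of_fixed (Cores.pCore_isPGroup 2) (Classes.sq S.grp hd') (s_cube S s hs hca) ?_
    (fun r => R r ∧ Commute r (s c)) (fun r hr => hnorm r hr.1 hr.2)
    (fun r hr => hfix r (hR r hr.1) hr.2) r ⟨hr, hrc⟩
  rw [← pr_eq_one, map_mul, map_mul, map_mul, hpd', hs, hca.2, inv_mul_cancel]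

omit s hs in
theorem inv_mul_of_commute {a b : H ⧸ Cfsg.pCore 2 H} (ha : Inv P d a) (hb : Inv P d b)
    (h : Commute a b) : Inv P d (a * b) := by
  refine ⟨mul_mem ha.1 hb.1, ?_⟩
  calc pr H d * (a * b) * pr H d = (pr H d * a * pr H d) * (pr H d * b * pr H d) := by
        simp only [mul_assoc]
        rw [← mul_assoc (pr H d) (pr H d), sq_pr S, one_mul]
    _ = _ := by rw [ha.2, hb.2, ← _root_.mul_inv_rev, h.eq]

omit s hs in
theorem inv_one' : Inv P d 1 := ⟨one_mem _, by rw [mul_one, sq_pr S, inv_one]⟩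

omit s hs in
theorem inv_pow {a : H ⧸ Cfsg.pCore 2 H} (ha : Inv P d a) (n : ℕ) : Inv P d (a ^ n) := by
  induction n with
  | zero => simpa using inv_one' S
  | succ n ih => rw [pow_succ]; exact inv_mul_of_commute S ih ha ((Commute.refl a).pow_left n)

theorem eq_one_of_centralises {a : P} (h : ∀ r ∈ Cfsg.pCore 2 H, Commute (s a) r) :
    (a : H ⧸ Cfsg.pCore 2 H) = 1 := by
  rw [← hs a]
  exact pr_eq_one.2 (S.cent (Subgroup.mem_centralizer_iff.2 fun r hr => (h r hr).eq.symm))

omit s hs in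
/-- Commuting inverted elements are dependent. -/
theorem dependent {a b : H ⧸ Cfsg.pCore 2 H} (ha : Inv P d a) (hb : Inv P d b) (h : Commute a b)
    (hne : a ≠ 1) : b ∈ Subgroup.zpowers a := by
  by_contra hind
  haveI : Fact (Nat.Prime 2) := ⟨Nat.prime_two⟩
  haveI : Fact (Nat.Prime 3) := ⟨Nat.prime_three⟩
  obtain ⟨s, hs⟩ := exists_lift S
  let a' : P := ⟨a, ha.1⟩
  let b' : P := ⟨b, hb.1⟩
  have hab : Commute (s a') (s b') := by
    show s a' * s b' = s b' * s a'
    rw [← map_mul, ← map_mul, show a' * b' = b' * a' from Subtype.ext h]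
  set A := Subgroup.closure ({s a', s b'} : Set H) with hA
  haveI : IsMulCommutative A := isMulCommutative_pair hab
  have hnc : ¬ IsCyclic A := by
    refine not_isCyclic_pair hab (s_cube S s hs ha) (s_cube S s hs hb) (fun h1 => hne ?_) fun h1 => hind ?_
    · rw [show a = (a' : H ⧸ Cfsg.pCore 2 H) from rfl, ← hs a', h1, map_one]
    · obtain ⟨n, hn⟩ := Subgroup.mem_zpowers_iff.1 h1
      refine Subgroup.mem_zpowers_iff.2 ⟨n, ?_⟩
      rw [show b = (b' : H ⧸ Cfsg.pCore 2 H) from rfl, ← hs b', ← hn, map_zpow, hs]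
  have hAP : A ≤ s.range := by
    rw [hA, Subgroup.closure_le]
    rintro x (rfl | rfl) <;> exact ⟨_, rfl⟩
  have hgen := Coprime.fixedGen_eq hnc (K := Cfsg.pCore 2 H) Subgroup.le_normalizer_of_normal
    (IsPGroup.coprime_card_of_ne 3 2 (by norm_num) _ _
      ((IsPGroup.of_surjective S.p3 s.rangeRestrict s.rangeRestrict_surjective).to_le hAP)
      (Cores.pCore_isPGroup 2))
  have hle : Cfsg.pCore 2 H ≤ Subgroup.centralizer ({s a'} : Set H) := by
    refine hgen.ge.trans (iSup₂_le fun x ⟨hx, hx1⟩ r ⟨hr, hrx⟩ => ?_)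
    obtain ⟨i, j, rfl⟩ := mem_closure_pair_iff hab hx
    set c : P := a' ^ i * b' ^ j with hc
    have hsc : s c = s a' ^ i * s b' ^ j := by rw [hc, map_mul, map_pow, map_pow]
    rw [← hsc] at hrx hx1
    have hci : Inv P d (c : H ⧸ Cfsg.pCore 2 H) :=
      inv_mul_of_commute S (inv_pow S ha i) (inv_pow S hb j) (h.pow_pow i j)
    have hsac : Commute (s a') (s c) := by
      rw [hsc]; exact ((Commute.refl _).pow_right i).mul_right (hab.pow_right j)
    have hrc : Commute r (s c) := Subgroup.mem_centralizer_singleton_iff.1 hrx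
    refine Subgroup.mem_centralizer_singleton_iff.2
      (centralised S s hs ha hci (fun h1 => hx1 ?_) (fun r => r ∈ Cfsg.pCore 2 H) (fun r hr => hr)
        (fun r hr hrc => ⟨conj_mem_core hr _, ?_⟩) r hr hrc).eq.symm
    · rw [show c = 1 from Subtype.ext h1, map_one]
    · have h2 : Commute (s a' * r * (s a')⁻¹) (s a' * s c * (s a')⁻¹) := Basic.commute_conj.2 hrc
      rwa [hsac.eq, mul_inv_cancel_right] at h2
  exact hne (eq_one_of_centralises S s hs fun r hr =>
    (Subgroup.mem_centralizer_singleton_iff.1 (hle hr)).symm)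

/-- The fixed points of a commutator of two inverted elements are centralised by both. -/
theorem centralises_fixed {u y z : P} (hu : Inv P d (u : H ⧸ Cfsg.pCore 2 H))
    (hy : Inv P d (y : H ⧸ Cfsg.pCore 2 H)) (hz3 : z ^ 3 = 1) (hz1 : z ≠ 1) (hzu : Commute z u)
    (hzy : Commute z y) (hyu : y * u = z * (u * y)) :
    ∀ r ∈ Cfsg.pCore 2 H, Commute r (s z) → Commute (s u) r := by
  have cz : ∀ {x : P}, Commute z x → Commute (s z) (s x) := fun h => h.map s
  have hsz1 : s z ≠ 1 := fun h => hz1 (Subtype.ext (by rw [← hs z, h, map_one]; rfl))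
  set R := Cfsg.pCore 2 H ⊓ Subgroup.centralizer ({s z} : Set H) with hR
  have hmem : ∀ {r : H}, r ∈ R → Commute r (s z) := fun hr =>
    Subgroup.mem_centralizer_singleton_iff.1 hr.2
  have hnorm : ∀ x : H, Commute (s z) x → x ∈ Subgroup.normalizer (R : Set H) := by
    intro x hx
    have key : ∀ x : H, Commute (s z) x → ∀ r ∈ R, x * r * x⁻¹ ∈ R := fun x hx r hr => by
      refine ⟨conj_mem_core hr.1 x, Subgroup.mem_centralizer_singleton_iff.2 ?_⟩
      exact (((hx.mul_right (hmem hr).symm).mul_right hx.inv_right)).eq.symm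
    rw [Subgroup.mem_normalizer_iff]
    refine fun r => ⟨key x hx r, fun h => ?_⟩
    have := key x⁻¹ hx.inv_right _ h
    simpa [mul_assoc] using this
  have main := le_of_fixed_mod (R := R) (X := Subgroup.centralizer ({s u} : Set H))
    (s_cube S s hs hu) (s_cube S s hs hy) (z := s z) (by rw [← map_pow, hz3, map_one]) hsz1
    (cz hzu) (cz hzy) (by rw [← map_mul, ← map_mul, ← map_mul, hyu])
    (fun r hr => (hmem hr).symm) ((Cores.pCore_isPGroup 2).to_le inf_le_left)
    (hnorm _ (cz hzu)) (hnorm _ (cz hzy)) ?_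
  · intro r hr hrz
    exact (Subgroup.mem_centralizer_singleton_iff.1
      (main ⟨hr, Subgroup.mem_centralizer_singleton_iff.2 hrz⟩)).symm
  intro i j hij r hr hrc
  refine Subgroup.mem_centralizer_singleton_iff.2 ?_
  set p : P := u ^ i * y ^ j with hp
  set q : P := y ^ j * u ^ i with hq
  have hpq : ∃ k : ℕ, q = z ^ k * p := by
    have hyn : ∀ n : ℕ, y ^ n * u = z ^ n * (u * y ^ n) := by
      intro n
      induction n with
      | zero => simp
      | succ n ih =>
        calc y ^ (n + 1) * u = y * (y ^ n * u) := by rw [pow_succ', mul_assoc]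
          _ = z ^ n * (y * u) * y ^ n := by
            rw [ih, ← mul_assoc y, (hzy.pow_left n).symm.eq]; simp [mul_assoc]
          _ = _ := by rw [hyu, pow_succ z, pow_succ' y]; simp [mul_assoc]
    refine ⟨j * i, ?_⟩
    rw [hp, hq]
    suffices hui : ∀ n : ℕ, y ^ j * u ^ n = z ^ (j * n) * (u ^ n * y ^ j) from hui i
    intro n
    induction n with
    | zero => simp
    | succ n ih =>
      calc y ^ j * u ^ (n + 1) = (y ^ j * u ^ n) * u := by rw [pow_succ, mul_assoc]
        _ = z ^ (j * n) * (u ^ n * z ^ j) * (u * y ^ j) := by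
          rw [ih, mul_assoc, mul_assoc (u ^ n), hyn]; simp [mul_assoc]
        _ = _ := by
          rw [(hzu.pow_pow j n).symm.eq, mul_add, mul_one, pow_add, pow_succ u]; simp [mul_assoc]
  obtain ⟨k, hk⟩ := hpq
  set c : P := p * q with hc
  have hsp : s p = s u ^ i * s y ^ j := by rw [hp, map_mul, map_pow, map_pow]
  have hrc' : Commute r (s c) := by
    rw [hc, map_mul, hk, map_mul s (z ^ k) p, map_pow, hsp]
    exact hrc.mul_right (((hmem hr).pow_right k).mul_right hrc)
  have hci : Inv P d (c : H ⧸ Cfsg.pCore 2 H) := by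
    refine ⟨c.2, ?_⟩
    have e1 := (inv_pow S hu i).2
    have e2 := (inv_pow S hy j).2
    have hc' : (c : H ⧸ Cfsg.pCore 2 H) = (u : H ⧸ Cfsg.pCore 2 H) ^ i * (y : H ⧸ Cfsg.pCore 2 H) ^ j *
        ((y : H ⧸ Cfsg.pCore 2 H) ^ j * (u : H ⧸ Cfsg.pCore 2 H) ^ i) := rfl
    set U := (u : H ⧸ Cfsg.pCore 2 H) ^ i
    set Y := (y : H ⧸ Cfsg.pCore 2 H) ^ j
    rw [hc']
    calc pr H d * (U * Y * (Y * U)) * pr H d =
          (pr H d * U * pr H d) * (pr H d * Y * pr H d) * ((pr H d * Y * pr H d) * (pr H d * U * pr H d)) := by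
          simp only [mul_assoc]
          simp only [← mul_assoc (pr H d) (pr H d), sq_pr S, one_mul]
      _ = _ := by rw [e1, e2]; group
  have hcne : (c : H ⧸ Cfsg.pCore 2 H) ≠ 1 := by
    intro h
    have h1 : u ^ i * y ^ (2 * j) * u ^ i = 1 := by
      have : c = 1 := Subtype.ext h
      rw [← this, hc, hp, hq, two_mul, pow_add]; simp [mul_assoc]
    have h2 : u ^ (2 * i) * y ^ (2 * j) = z ^ 0 := by
      rw [pow_zero, two_mul i, pow_add, mul_assoc]
      rwa [mul_eq_one_comm] at h1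
    have := indep hz3 hz1 hzu hzy hyu h2
    exact hij ⟨by omega, by omega⟩
  have huc : ∃ k : ℕ, u * c = z ^ k * (c * u) := by
    have hinv : (z⁻¹) = z ^ 2 := inv_eq_of_mul_eq_one_right (by rw [← pow_succ', hz3])
    have h1 : u * y = z ^ 2 * (y * u) := by rw [← hinv, hyu, inv_mul_cancel_left]
    have hn : ∀ n : ℕ, u * y ^ n = z ^ (2 * n) * (y ^ n * u) := by
      intro n
      induction n with
      | zero => simp
      | succ n ih =>
        calc u * y ^ (n + 1) = (u * y ^ n) * y := by rw [pow_succ, mul_assoc]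
          _ = z ^ (2 * n) * (y ^ n * z ^ 2) * (y * u) := by
            rw [ih, mul_assoc, mul_assoc (y ^ n) u y, h1]; simp [mul_assoc]
          _ = _ := by
            rw [(hzy.pow_pow 2 n).symm.eq, pow_succ y, mul_add, pow_add]; simp [mul_assoc]
    refine ⟨2 * (2 * j), ?_⟩
    have hui : Commute u (u ^ i) := (Commute.refl u).pow_right i
    have hzi : Commute (z ^ (2 * (2 * j))) (u ^ i) := hzu.pow_pow _ _
    rw [hc, hp, hq, show u ^ i * y ^ j * (y ^ j * u ^ i) = u ^ i * y ^ (2 * j) * u ^ i by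
      rw [two_mul, pow_add]; simp [mul_assoc]]
    calc u * (u ^ i * y ^ (2 * j) * u ^ i) = u ^ i * (u * y ^ (2 * j)) * u ^ i := by
          simp only [← mul_assoc]; rw [hui.eq]
      _ = (u ^ i * z ^ (2 * (2 * j))) * y ^ (2 * j) * (u * u ^ i) := by rw [hn]; simp [mul_assoc]
      _ = _ := by rw [← hzi.eq, hui.eq]; simp [mul_assoc]
  obtain ⟨k', hk'⟩ := huc
  refine (centralised S s hs hu hci hcne (fun r => r ∈ R) (fun r hr => hr.1) ?_ r hr hrc').eq.symm
  intro r hr hrc
  have hn := (Subgroup.mem_normalizer_iff.1 (hnorm _ (cz hzu)) r).1 hr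
  refine ⟨hn, ?_⟩
  set r' := s u * r * (s u)⁻¹ with hr'
  have h2 : Commute r' (s u * s c * (s u)⁻¹) := Basic.commute_conj.2 hrc
  rw [← map_mul, hk', map_mul, map_mul, map_pow, ← mul_assoc, mul_inv_cancel_right] at h2
  have h3 := ((hmem hn).pow_right k').inv_right.mul_right h2
  rwa [inv_mul_cancel_left] at h3

end Cfsg.Agent.ThreeTransp.TwoQuotient
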