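import Cfsg.Agent.Lib.ThreeTransp.TwoQuotientShape

/-!
A section over a quotient `3^{1+2}:2`.
-/

set_option autoImplicit false

namespace Cfsg.Agent.ThreeTransp.TwoQuotient

open Cfsg.Agent.ThreeTransp

variable {H : Type*} [Group H] [Finite H] {D : Set H} {P : Subgroup (H ⧸ Cfsg.pCore 2 H)} {d : H}
variable (S : Setup D P d)
include S

/-- The relations lift to the group. -/
theorem exists_lifted_rels {u y z : H ⧸ Cfsg.pCore 2 H} (hR : Heis.Rels u y z (pr H d))
    (hu : u ∈ P) (hy : y ∈ P) (hz1 : z ≠ 1) (hu1 : u ≠ 1) :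
    ∃ u' y' z' d' : H, Heis.Rels u' y' z' d' ∧
      pr H u' = u ∧ pr H y' = y ∧ pr H z' = z ∧ pr H d' = pr H d := by
  obtain ⟨s, hs⟩ := exists_lift S
  have hz : z ∈ P := by
    have : z = y * u * (u * y)⁻¹ := by rw [hR.yu, mul_inv_cancel_right]
    rw [this]
    exact mul_mem (mul_mem hy hu) (inv_mem (mul_mem hu hy))
  let uu : P := ⟨u, hu⟩
  let yy : P := ⟨y, hy⟩
  let zz : P := ⟨z, hz⟩
  have huI : Inv P d (uu : H ⧸ Cfsg.pCore 2 H) := ⟨hu, hR.du⟩
  have hyI : Inv P d (yy : H ⧸ Cfsg.pCore 2 H) := ⟨hy, hR.dy⟩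
  have h3 : zz ^ 3 = 1 := Subtype.ext hR.z3
  have czu : Commute zz uu := Subtype.ext hR.zu
  have czy : Commute zz yy := Subtype.ext hR.zy
  have hyu : yy * uu = zz * (uu * yy) := Subtype.ext hR.yu
  have hzz1 : zz ≠ 1 := fun h => hz1 (congrArg Subtype.val h)
  have hu3' := s_cube S s hs huI
  obtain ⟨d', hd', hpd, hdu, hde, hfix⟩ := exists_inverter S hu3' (by rw [hs]; exact huI)
    (by rw [hs]; exact hu1)
  have hd2 := Classes.sq S.grp hd'
  have hdi := Classes.inv S.grp hd'
  -- only one member over the coset inverts the lift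
  have huniq : ∀ a ∈ D, pr H a = pr H d → a * s uu * a = (s uu)⁻¹ → a = d' := by
    intro a ha hpa hau
    have hai := Classes.inv S.grp ha
    have hk : a * d' ∈ Cfsg.pCore 2 H := pr_eq_one.1 (by rw [map_mul, hpa, hpd, sq_pr S])
    have hcomm : Commute (a * d') (s uu) := by
      show a * d' * s uu = s uu * (a * d')
      have h1 : (a * d') * s uu * (a * d')⁻¹ = s uu := by
        rw [_root_.mul_inv_rev, hai, hdi,
          show a * d' * s uu * (d' * a) = a * (d' * s uu * d') * a by simp [mul_assoc], hdu,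
          ← hau]
        simp only [← mul_assoc]
        rw [Classes.sq S.grp ha, one_mul, mul_assoc, Classes.sq S.grp ha, mul_one]
      exact mul_inv_eq_iff_eq_mul.1 h1
    rcases S.grp.1.2 a ha _ hde with h | h <;> rw [← mul_assoc, hcomm.mul_pow] at h
    · exfalso
      have h' := congrArg (pr H) h
      rw [map_mul, map_pow, pr_eq_one.2 hk, one_pow, one_mul, map_pow, hs, map_one, pow_two] at h'
      exact hu1 (eq_one_of_sq S hu h')
    · rw [hu3', mul_one] at h
      have := eq_one_of_cube hk h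
      rwa [mul_eq_one_iff_eq_inv, hdi] at this
  have hzd : Commute (s zz) d' := by
    have hcu : Commute (s zz) (s uu) := czu.map s
    have hpz : pr H (s zz * d' * (s zz)⁻¹) = pr H d := by
      rw [map_mul, map_mul, map_inv, hs, hpd]
      exact mul_inv_eq_iff_eq_mul.2 hR.zd
    have h := huniq _ (S.grp.2.1 _ _ hd') hpz (by
      calc s zz * d' * (s zz)⁻¹ * s uu * (s zz * d' * (s zz)⁻¹)
          = s zz * (d' * ((s zz)⁻¹ * s uu * s zz) * d') * (s zz)⁻¹ := by group
        _ = s zz * (s uu)⁻¹ * (s zz)⁻¹ := by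
            rw [mul_assoc (s zz)⁻¹, ← hcu.eq, inv_mul_cancel_left, hdu]
        _ = _ := by rw [hcu.inv_right.eq, mul_inv_cancel_right])
    exact mul_inv_eq_iff_eq_mul.1 h
  refine ⟨s uu, s yy, s zz, d', ⟨hu3', s_cube S s hs hyI, by rw [← map_pow, h3, map_one], hd2,
    czu.map s, czy.map s, hzd, by rw [← map_mul, ← map_mul, ← map_mul, hyu], hdu, ?_⟩,
    hs uu, hs yy, hs zz, hpd⟩
  -- the second generator is inverted as well
  set q := d' * s yy * d' * s yy with hq
  have hqQ : q ∈ Cfsg.pCore 2 H := pr_eq_one.1 (by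
    rw [map_mul, map_mul, map_mul, hpd, hs]
    show pr H d * y * pr H d * y = 1
    rw [hR.dy, inv_mul_cancel])
  have hqz : Commute q (s zz) :=
    ((((hzd.symm).mul_left (czy.map s).symm).mul_left hzd.symm).mul_left (czy.map s).symm)
  have hqu : Commute (s uu) q :=
    centralises_fixed S s hs huI hyI h3 hzz1 czu czy hyu q hqQ hqz
  have hqy : Commute (s yy) q := by
    refine centralises_fixed S s hs hyI huI (z := zz⁻¹) (by rw [_root_.inv_pow, h3, inv_one])
      (inv_ne_one.2 hzz1) czy.inv_left czu.inv_left (by rw [hyu, inv_mul_cancel_left]) q hqQ ?_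
    rw [map_inv]
    exact hqz.inv_right
  have hqd : Commute d' q := hfix q hqQ hqu.symm
  have hdy : d' * s yy * d' = q * (s yy)⁻¹ := by rw [hq, mul_inv_cancel_right]
  have hy3 := s_cube S s hs hyI
  have h : (q * (s yy)⁻¹) ^ 3 = 1 := by
    rw [← hdy, show d' * s yy * d' = d' * s yy * d'⁻¹ by rw [hdi], conj_pow, hy3, mul_one,
      mul_inv_cancel]
  rw [(hqy.symm.inv_right).mul_pow, _root_.inv_pow, hy3, inv_one, mul_one] at h
  rw [hdy, eq_one_of_cube hqQ h, one_mul]

omit S in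
/-- A section gives a complement. -/
theorem exists_complement {u y z db : H ⧸ Cfsg.pCore 2 H} (hR : Heis.Rels u y z db)
    (hinj : Function.Injective (Heis.nf u y z db))
    (hgen : Subgroup.closure ({u, y, db} : Set (H ⧸ Cfsg.pCore 2 H)) = ⊤) {u' y' z' d' : H}
    (hR' : Heis.Rels u' y' z' d') (eu : pr H u' = u) (ey : pr H y' = y) (ez : pr H z' = z)
    (ed : pr H d' = db) : ∃ K : Subgroup H, (Cfsg.pCore 2 H).IsComplement' K := by
  obtain ⟨f, hf⟩ := Heis.exists_hom hR hR' hinj hgen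
  have hsec : ∀ k, pr H (f k) = k := by
    intro k
    obtain ⟨p, rfl⟩ := Heis.mem_range_nf hR (hgen ▸ Subgroup.mem_top k)
    rw [hf]
    simp only [Heis.nf, map_mul, map_pow, eu, ey, ez, ed]
  refine ⟨f.range, Subgroup.isComplement'_of_disjoint_and_mul_eq_univ ?_ ?_⟩
  · rw [disjoint_iff_inf_le]
    rintro x ⟨hx, k, rfl⟩
    have h1 : k = 1 := by rw [← hsec k]; exact pr_eq_one.2 hx
    rw [h1, map_one]; exact one_mem _
  · refine Set.eq_univ_of_forall fun x => ?_
    refine ⟨x * (f (pr H x))⁻¹, ?_, f (pr H x), ⟨_, rfl⟩, inv_mul_cancel_right x _⟩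
    exact pr_eq_one.1 (by rw [map_mul, map_inv, hsec, mul_inv_cancel])

end Cfsg.Agent.ThreeTransp.TwoQuotient
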