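import Mathlib
import Cfsg.Agent.Lib.ThreeTransp.Classes

/-!
A class of 3-transpositions acting on an elementary abelian self-centralising normal 2-subgroup:
the relations between the maps `τ = ρ + 1`.
-/

set_option autoImplicit false
set_option linter.unusedSectionVars false

namespace Cfsg.Agent.ThreeTransp.Unique

open Cfsg.Agent.ThreeTransp

variable {G : Type*} [Group G] {V : Type*} [AddCommGroup V]

/-- The 2-core as a module. -/
structure Rep (ρ : G →* AddMonoid.End V) (emb : V → G) : Prop where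
  two : ∀ v : V, v + v = 0
  emb_add : ∀ u v, emb (u + v) = emb u * emb v
  emb_inj : Function.Injective emb
  mem : ∀ x, x ∈ Cfsg.pCore 2 G ↔ ∃ v, emb v = x
  conj : ∀ g v, emb (ρ g v) = g * emb v * g⁻¹
  faithful : ∀ g, ρ g = 1 ↔ g ∈ Cfsg.pCore 2 G
  center : Subgroup.center G = ⊥

/-- The map `v ↦ d v + v`. -/
def tau (ρ : G →* AddMonoid.End V) (g : G) : AddMonoid.End V := ρ g + 1

variable {ρ : G →* AddMonoid.End V} {emb : V → G} (R : Rep ρ emb)
include R

theorem add_self (x : AddMonoid.End V) : x + x = 0 := AddMonoidHom.ext fun v => R.two (x v)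

theorem two_nsmul_zero (x : AddMonoid.End V) : (2 : ℕ) • x = 0 := by
  rw [two_nsmul, add_self R]

theorem two_zsmul_zero (x : AddMonoid.End V) : (2 : ℤ) • x = 0 := by
  rw [two_zsmul, add_self R]

theorem neg_self (x : AddMonoid.End V) : -x = x := neg_eq_of_add_eq_zero_left (add_self R x)

theorem sub_eq (x y : AddMonoid.End V) : x - y = x + y := by rw [sub_eq_add_neg, neg_self R]

theorem add_eq_zero {x y : AddMonoid.End V} : x + y = 0 ↔ x = y := by
  rw [← sub_eq R, sub_eq_zero]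

theorem rho_eq (g : G) : ρ g = 1 + tau ρ g := by
  rw [tau, add_comm (ρ g), ← add_assoc, add_self R, zero_add]

theorem emb_zero : emb 0 = 1 := by
  have := R.emb_add 0 0
  rw [add_zero] at this
  exact mul_eq_left.1 this.symm

theorem emb_sq (v : V) : emb v * emb v = 1 := by rw [← R.emb_add, R.two, emb_zero R]

theorem emb_inv (v : V) : (emb v)⁻¹ = emb v := inv_eq_of_mul_eq_one_right (emb_sq R v)

theorem emb_mem (v : V) : emb v ∈ Cfsg.pCore 2 G := (R.mem _).2 ⟨v, rfl⟩

theorem tau_conj (g d : G) : tau ρ (g * d * g⁻¹) = ρ g * tau ρ d * ρ g⁻¹ := by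
  rw [tau, tau, map_mul, map_mul, mul_add, add_mul, mul_one, ← map_mul ρ g g⁻¹, mul_inv_cancel,
    map_one]

theorem rho_eq_iff [Finite G] (g h : G) : ρ g = ρ h ↔ g⁻¹ * h ∈ Cfsg.pCore 2 G := by
  rw [← R.faithful, map_mul]
  constructor
  · intro e
    rw [← e, ← map_mul, inv_mul_cancel, map_one]
  · intro e
    have h1 := congrArg (fun x => ρ g * x) e
    simp only [mul_one, ← mul_assoc, ← map_mul, mul_inv_cancel, map_one, one_mul] at h1
    exact h1.symm

theorem tau_eq_iff (g h : G) : tau ρ g = tau ρ h ↔ ρ g = ρ h := by simp [tau]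

variable [Finite G] {D : Set G} (hD : Cfsg.IsThreeTranspositionClass D)
include hD

theorem grp : Cfsg.IsThreeTranspositionGroup D := (Classes.of_class hD).1

theorem rho_sq {d : G} (hd : d ∈ D) : ρ d * ρ d = 1 := by
  rw [← map_mul, Classes.sq (grp R hD) hd, map_one]

theorem tau_sq {d : G} (hd : d ∈ D) : tau ρ d * tau ρ d = 0 := by
  rw [tau, mul_add, add_mul, mul_one, one_mul, rho_sq R hD hd, add_comm 1 (ρ d)]
  exact add_self R _

theorem tau_conj' {d : G} (hd : d ∈ D) (x : G) :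
    tau ρ (d * x * d) = ρ d * tau ρ x * ρ d := by
  have h := tau_conj R d x
  rwa [Classes.inv (grp R hD) hd] at h

theorem fibre_mem {d : G} (hd : d ∈ D) (v : V) : d * emb (tau ρ d v) ∈ D := by
  have hi := Classes.inv (grp R hD) hd
  have h : d * emb (tau ρ d v) = emb v * d * (emb v)⁻¹ := by
    rw [show tau ρ d v = ρ d v + v from rfl, R.emb_add, R.conj, emb_inv R, hi,
      show d * (d * emb v * d * emb v) = (d * d) * emb v * d * emb v by group,
      Classes.sq (grp R hD) hd, one_mul]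
  rw [h]
  exact (grp R hD).2.1 _ _ hd

theorem commute_lift {a b : G} (ha : a ∈ D) (hb : b ∈ D) (h : Commute (ρ a) (ρ b)) :
    Commute a b := by
  by_contra hne
  have hG := grp R hD
  have h3 : (ρ a * ρ b) ^ 3 = 1 := by
    rw [← map_mul, ← map_pow, Basic.cube_of_not_commute hG.1 ha hb hne, map_one]
  have h2 : (ρ a * ρ b) ^ 2 = 1 := by
    rw [h.mul_pow, pow_two, pow_two, rho_sq R hD ha, rho_sq R hD hb, one_mul]
  have hm : a * b ∈ Cfsg.pCore 2 G := by
    rw [← R.faithful, map_mul]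
    rwa [pow_succ, h2, one_mul] at h3
  exact hne (Basic.commute_of_pGroup hG.1 Nat.prime_two (by norm_num) (Cores.pCore_isPGroup 2) ha hb hm)

theorem commute_congr {a a' b : G} (ha' : a' ∈ D) (hb : b ∈ D)
    (h : ρ a = ρ a') (hc : Commute a b) : Commute a' b :=
  commute_lift R hD ha' hb (h ▸ hc.map ρ)

theorem tau_comm {d k : G} (hd : d ∈ D) (hk : k ∈ D) (h : Commute d k) :
    tau ρ k * tau ρ d = 0 := by
  refine AddMonoidHom.ext fun v => ?_
  show tau ρ k (tau ρ d v) = 0
  obtain ⟨x, hx⟩ : ∃ x, x = tau ρ d v := ⟨_, rfl⟩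
  rw [← hx]
  have hm : d * emb x ∈ D := hx ▸ fibre_mem R hD hd v
  have hρ : ρ d = ρ (d * emb x) := by
    rw [map_mul, (R.faithful _).2 (emb_mem R x), mul_one]
  have hc : Commute k (d * emb x) := (commute_congr R hD hm hk hρ h).symm
  have hcx : Commute k (emb x) := by
    have := (h.symm.inv_right).mul_right hc
    rwa [inv_mul_cancel_left] at this
  apply R.emb_inj
  rw [show tau ρ k x = ρ k x + x from rfl, R.emb_add, R.conj, hcx.eq, mul_inv_cancel_right,
    emb_sq R, emb_zero R]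

theorem tau_braid {d k : G} (hd : d ∈ D) (hk : k ∈ D) (h : ¬ Commute d k) :
    tau ρ d * tau ρ k * tau ρ d = tau ρ d := by
  have hG := grp R hD
  have key : ∀ v, ρ d (ρ k (tau ρ d v)) + (tau ρ d v + ρ k (ρ d (tau ρ d v))) = 0 := by
    intro v
    obtain ⟨x, hx⟩ : ∃ x, x = tau ρ d v := ⟨_, rfl⟩
    rw [← hx]
    have hm : d * emb x ∈ D := hx ▸ fibre_mem R hD hd v
    have hne : ¬ Commute (d * emb x) k := fun hc => h (commute_congr R hD hd hk
      (by rw [map_mul, (R.faithful _).2 (emb_mem R x), mul_one]) hc)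
    have h3 := Basic.cube_of_not_commute hG.1 hm hk hne
    have hdk := Basic.cube_of_not_commute hG.1 hd hk h
    have dd := Classes.sq hG hd
    have kk := Classes.sq hG hk
    have hdi := Classes.inv hG hd
    have hki := Classes.inv hG hk
    obtain ⟨g, hg⟩ : ∃ g, g = d * k := ⟨_, rfl⟩
    obtain ⟨X, hX⟩ : ∃ X, X = emb (ρ k x) := ⟨_, rfl⟩
    have e1 : d * emb x * k = g * X := by
      rw [hg, hX, R.conj, hki, show d * k * (k * emb x * k) = d * (k * k) * emb x * k by group, kk,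
        mul_one]
    rw [e1] at h3
    rw [← hg] at hdk
    have e2 : (g * X) ^ 3 = g ^ 3 * ((g ^ 2)⁻¹ * X * g ^ 2) * (g⁻¹ * X * g) * X := by
      simp only [pow_succ, pow_zero, one_mul]; group
    rw [e2, hdk, one_mul] at h3
    have e3 : (g ^ 2)⁻¹ * X * g ^ 2 = emb (ρ g (ρ k x)) := by
      rw [R.conj, ← hX, show (g ^ 2)⁻¹ = g from inv_eq_of_mul_eq_one_right (by
        rw [← pow_succ, hdk]), show g ^ 2 = g⁻¹ from eq_inv_of_mul_eq_one_left (by
        rw [← pow_succ, hdk])]
    have e4 : g⁻¹ * X * g = emb (ρ g⁻¹ (ρ k x)) := by rw [R.conj, ← hX, inv_inv]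
    rw [e3, e4, hX, ← R.emb_add, ← R.emb_add, ← emb_zero R] at h3
    have h4 := congrArg (ρ k) (R.emb_inj h3)
    rw [map_add, map_add, map_zero] at h4
    have a1 : ρ k (ρ g (ρ k x)) = ρ k (ρ d x) := by
      show (ρ k * (ρ g * ρ k)) x = (ρ k * ρ d) x
      rw [hg, map_mul, mul_assoc (ρ d), rho_sq R hD hk, mul_one]
    have a2 : ρ k (ρ g⁻¹ (ρ k x)) = ρ d (ρ k x) := by
      show (ρ k * (ρ g⁻¹ * ρ k)) x = (ρ d * ρ k) x
      rw [hg, mul_inv_rev, hdi, hki, map_mul, ← mul_assoc, ← mul_assoc, rho_sq R hD hk, one_mul]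
    have a3 : ρ k (ρ k x) = x := by
      show (ρ k * ρ k) x = x
      rw [rho_sq R hD hk]; rfl
    rw [a1, a2, a3] at h4
    calc ρ d (ρ k x) + (x + ρ k (ρ d x)) = ρ k (ρ d x) + ρ d (ρ k x) + x := by abel
      _ = 0 := h4
  have hop : (ρ d * ρ k + (1 + ρ k * ρ d)) * tau ρ d = 0 := AddMonoidHom.ext fun v => key v
  rw [rho_eq R d, rho_eq R k] at hop
  obtain ⟨a, ha⟩ : ∃ a, a = tau ρ d := ⟨_, rfl⟩
  obtain ⟨b, hb⟩ : ∃ b, b = tau ρ k := ⟨_, rfl⟩
  have haa : a * a = 0 := ha ▸ tau_sq R hD hd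
  rw [← ha, ← hb] at hop
  rw [← ha, ← hb, ← add_eq_zero R]
  have e : ((1 + a) * (1 + b) + (1 + (1 + b) * (1 + a))) * a =
      a * b * a + a + (b * a + b * a) + (b * (a * a) + (a * a + a * a)) + (a + a) := by noncomm_ring
  simpa [e, haa, add_self R] using hop

theorem tau_ne_zero {d : G} (hd : d ∈ D) : tau ρ d ≠ 0 := by
  intro h0
  have hmem : d ∈ Cfsg.pCore 2 G := by
    rw [← R.faithful, rho_eq R, h0, add_zero]
  haveI := Cores.pCore_normal (G := G) 2
  have hle : Subgroup.closure D ≤ Cfsg.pCore 2 G := (Subgroup.closure_le _).2 fun e he => by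
    obtain ⟨g, rfl⟩ := (Classes.of_class hD).2 d hd e he
    exact (Cores.pCore_normal (G := G) 2).conj_mem d hmem g
  rw [(grp R hD).2.2] at hle
  have hc : d ∈ Subgroup.center G := by
    refine Subgroup.mem_center_iff.2 fun g => ?_
    obtain ⟨u, hu⟩ := (R.mem g).1 (hle (Subgroup.mem_top g))
    obtain ⟨v, hv⟩ := (R.mem d).1 hmem
    rw [← hu, ← hv, ← R.emb_add, ← R.emb_add, add_comm]
  rw [R.center, Subgroup.mem_bot] at hc
  exact Basic.ne_one (grp R hD).1 hd hc

theorem exists_two : ∃ a ∈ D, ∃ b ∈ D, a ≠ b := by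
  obtain ⟨d, hd, -⟩ := hD.2.1
  by_contra hc
  push Not at hc
  have h : Subgroup.centralizer ({d} : Set G) = ⊤ := by
    rw [eq_top_iff, ← (grp R hD).2.2, Subgroup.closure_le]
    intro e he
    rw [SetLike.mem_coe, Subgroup.mem_centralizer_singleton_iff, hc d hd e he]
  have hcen : d ∈ Subgroup.center G := Subgroup.mem_center_iff.2 fun u =>
    Subgroup.mem_centralizer_singleton_iff.1 (h ▸ Subgroup.mem_top u)
  rw [R.center, Subgroup.mem_bot] at hcen
  exact Basic.ne_one (grp R hD).1 hd hcen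

theorem exists_noncomm {d : G} (hd : d ∈ D) : ∃ e ∈ D, ¬ Commute d e :=
  Classes.exists_noncomm (grp R hD) (Classes.of_class hD).2 (exists_two R hD) hd

/-- Two commuting members with different images have disjoint images. -/
theorem sep {d k : G} (hd : d ∈ D) (hk : k ∈ D) (hc : Commute d k) (hne : ρ d ≠ ρ k)
    {A B : AddMonoid.End V} (h : tau ρ d * A = tau ρ k * B) : tau ρ d * A = 0 := by
  have hG := grp R hD
  obtain ⟨m, hm, hmd, hmk⟩ : ∃ m ∈ D, ¬ Commute m d ∧ Commute m k := by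
    by_contra hcon
    push Not at hcon
    apply hne
    rw [rho_eq_iff R]
    refine ((Classes.sameComm_iff_mem hG hd).1 ⟨hk, ?_⟩).2
    have hsub : {x | x ∈ D ∧ Commute x k} ⊆ {x | x ∈ D ∧ Commute x d} := fun x hx =>
      ⟨hx.1, by_contra fun h => hcon x hx.1 h hx.2⟩
    have hcard : {x | x ∈ D ∧ Commute x d}.ncard = {x | x ∈ D ∧ Commute x k}.ncard := by
      obtain ⟨g, rfl⟩ := (Classes.of_class hD).2 d hd k hk
      rw [← Set.ncard_image_of_injective _ (MulAut.conj g).injective]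
      congr 1
      ext x
      constructor
      · rintro ⟨y, ⟨hy, hyd⟩, rfl⟩
        exact ⟨hG.2.1 g y hy, Basic.commute_conj.2 hyd⟩
      · rintro ⟨hx, hxk⟩
        refine ⟨g⁻¹ * x * g, ⟨Classes.inv_conj_mem hG g hx, ?_⟩, by simp [mul_assoc]⟩
        have := (Basic.commute_conj (g := g⁻¹)).2 hxk
        simpa [mul_assoc] using this
    have heq := Set.eq_of_subset_of_ncard_le hsub hcard.le (Set.toFinite _)
    intro e he
    constructor
    · intro h
      exact ((Set.ext_iff.1 heq e).1 ⟨he, h.symm⟩).2.symm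
    · intro h
      exact ((Set.ext_iff.1 heq e).2 ⟨he, h.symm⟩).2.symm
  have h1 : tau ρ m * (tau ρ d * A) = 0 := by
    rw [h, ← mul_assoc, tau_comm R hD hk hm hmk.symm, zero_mul]
  calc tau ρ d * A = tau ρ d * tau ρ m * tau ρ d * A := by
        rw [tau_braid R hD hd hm fun h => hmd h.symm]
    _ = tau ρ d * (tau ρ m * (tau ρ d * A)) := by simp only [mul_assoc]
    _ = 0 := by rw [h1, mul_zero]

/-- The vector version of `sep`. -/
theorem sep' {d k : G} (hd : d ∈ D) (hk : k ∈ D) (hc : Commute d k) (hne : ρ d ≠ ρ k) {u v : V}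
    (h : tau ρ d u = tau ρ k v) : tau ρ d u = 0 := by
  have hG := grp R hD
  obtain ⟨m, hm, hmd, hmk⟩ : ∃ m ∈ D, ¬ Commute m d ∧ Commute m k := by
    by_contra hcon
    push Not at hcon
    apply hne
    rw [rho_eq_iff R]
    refine ((Classes.sameComm_iff_mem hG hd).1 ⟨hk, ?_⟩).2
    have hsub : {x | x ∈ D ∧ Commute x k} ⊆ {x | x ∈ D ∧ Commute x d} := fun x hx =>
      ⟨hx.1, by_contra fun h => hcon x hx.1 h hx.2⟩
    have hcard : {x | x ∈ D ∧ Commute x d}.ncard = {x | x ∈ D ∧ Commute x k}.ncard := by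
      obtain ⟨g, rfl⟩ := (Classes.of_class hD).2 d hd k hk
      rw [← Set.ncard_image_of_injective _ (MulAut.conj g).injective]
      congr 1
      ext x
      constructor
      · rintro ⟨y, ⟨hy, hyd⟩, rfl⟩
        exact ⟨hG.2.1 g y hy, Basic.commute_conj.2 hyd⟩
      · rintro ⟨hx, hxk⟩
        refine ⟨g⁻¹ * x * g, ⟨Classes.inv_conj_mem hG g hx, ?_⟩, by simp [mul_assoc]⟩
        have := (Basic.commute_conj (g := g⁻¹)).2 hxk
        simpa [mul_assoc] using this
    have heq := Set.eq_of_subset_of_ncard_le hsub hcard.le (Set.toFinite _)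
    intro e he
    constructor
    · intro h
      exact ((Set.ext_iff.1 heq e).1 ⟨he, h.symm⟩).2.symm
    · intro h
      exact ((Set.ext_iff.1 heq e).2 ⟨he, h.symm⟩).2.symm
  have h1 : tau ρ m (tau ρ d u) = 0 := by
    rw [h]
    exact DFunLike.congr_fun (tau_comm R hD hk hm hmk.symm) v
  have h2 : tau ρ d (tau ρ m (tau ρ d u)) = tau ρ d u :=
    DFunLike.congr_fun (tau_braid R hD hd hm fun h => hmd h.symm) u
  rw [← h2, h1, map_zero]

/-- Only zero is killed by every member. -/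
theorem eq_zero_of_killed {v : V} (h : ∀ d ∈ D, tau ρ d v = 0) : v = 0 := by
  have htop : Subgroup.centralizer ({emb v} : Set G) = ⊤ := by
    rw [eq_top_iff, ← (grp R hD).2.2, Subgroup.closure_le]
    intro d hd
    rw [SetLike.mem_coe, Subgroup.mem_centralizer_singleton_iff]
    have h1 : ρ d v = v := by
      have h2 : ρ d v + v = 0 := h d hd
      rw [← eq_neg_iff_add_eq_zero] at h2
      rw [h2, neg_eq_iff_add_eq_zero, R.two]
    have h2 := R.conj d v
    rw [h1] at h2
    exact (mul_inv_eq_iff_eq_mul.1 h2.symm)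
  have hcen : emb v ∈ Subgroup.center G := Subgroup.mem_center_iff.2 fun u =>
    Subgroup.mem_centralizer_singleton_iff.1 (htop ▸ Subgroup.mem_top u)
  rw [R.center, Subgroup.mem_bot, ← emb_zero R] at hcen
  exact R.emb_inj hcen

end Cfsg.Agent.ThreeTransp.Unique
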