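import Cfsg.Agent.Lib.ThreeTransp.UniqueImage

/-!
Two classes of 3-transpositions with the same image modulo the 2-core are equal.
-/

set_option autoImplicit false
set_option linter.unusedSectionVars false

namespace Cfsg.Agent.ThreeTransp.Unique

open Cfsg.Agent.ThreeTransp

variable {G : Type*} [Group G] {V : Type*} [AddCommGroup V]
variable {ρ : G →* AddMonoid.End V} {emb : V → G} (R : Rep ρ emb)
variable [Finite G] {D E : Set G} (hD : Cfsg.IsThreeTranspositionClass D)
  (hE : Cfsg.IsThreeTranspositionClass E)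

attribute [local instance] Cores.pCore_normal

include R

theorem tau_apply (g : G) (v : V) : tau ρ g v = ρ g v + v := rfl

theorem add_eq_zero' {u v : V} : u + v = 0 ↔ u = v := by
  constructor
  · intro h
    calc u = u + (v + v) := by rw [R.two, add_zero]
      _ = v := by rw [← add_assoc, h, zero_add]
  · rintro rfl; exact R.two _

theorem rho_apply (g : G) (v : V) : ρ g v = v + tau ρ g v := by
  rw [tau_apply R, add_comm (ρ g v), ← add_assoc, R.two, zero_add]

theorem rho_mul_apply (g h : G) (v : V) : ρ (g * h) v = ρ g (ρ h v) := by rw [map_mul]; rfl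

/-- Moving an element of the 2-core across. -/
theorem emb_mul_comm (g : G) (v : V) : g * emb v = emb (ρ g v) * g := by
  rw [R.conj, inv_mul_cancel_right]

theorem mul_emb_mul {a b : G} (hb : b * b = 1) (q r : V) :
    (a * emb q) * (b * emb r) = (a * b) * emb (ρ b q + r) := by
  rw [R.emb_add, R.conj, inv_eq_of_mul_eq_one_left hb,
    show a * b * (b * emb q * b * emb r) = a * (b * b) * emb q * (b * emb r) by group, hb, mul_one]

include hD

theorem lift_rho {d : G} (q : V) : ρ (d * emb q) = ρ d := by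
  rw [map_mul, (R.faithful _).2 (emb_mem R q), mul_one]

theorem conj_fibre {d : G} (hd : d ∈ D) (v : V) :
    emb v * d * (emb v)⁻¹ = d * emb (tau ρ d v) := by
  rw [tau_apply R, R.emb_add, R.conj, emb_inv R, Classes.inv (grp R hD) hd,
    show d * (d * emb v * d * emb v) = (d * d) * emb v * d * emb v by group,
    Classes.sq (grp R hD) hd, one_mul]

include hE

theorem lift_tau {d : G} {q : V} (hd : d ∈ D) (hq : d * emb q ∈ E) : tau ρ d q = 0 := by
  have dd := Classes.sq (grp R hD) hd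
  have h := Classes.sq (grp R hE) hq
  rw [mul_emb_mul R dd, dd, one_mul, ← emb_zero R] at h
  exact R.emb_inj h

theorem lift_commute_iff {d f : G} {q r : V} (hd : d ∈ D) (hf : f ∈ D) (hq : d * emb q ∈ E)
    (hr : f * emb r ∈ E) : Commute (d * emb q) (f * emb r) ↔ Commute d f := by
  constructor
  · intro h
    refine commute_lift R hD hd hf ?_
    have h1 := h.map ρ
    rwa [lift_rho R hD, lift_rho R hD] at h1
  · intro h
    refine commute_lift R hE hq hr ?_
    rw [lift_rho R hD, lift_rho R hD]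
    exact h.map ρ

/-- The braid relation in the second class. -/
theorem shift_eq {d f : G} {q r : V} (hd : d ∈ D) (hf : f ∈ D) (hq : d * emb q ∈ E)
    (hr : f * emb r ∈ E) (hdf : ¬ Commute d f) :
    q + tau ρ d (tau ρ f q) = r + tau ρ f (tau ρ d r) := by
  have hGD := grp R hD
  have dd := Classes.sq hGD hd
  have ff := Classes.sq hGD hf
  have h3 := Basic.cube_of_not_commute (grp R hE).1 hq hr
    (fun h => hdf ((lift_commute_iff R hD hE hd hf hq hr).1 h))
  rw [mul_emb_mul R ff] at h3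
  obtain ⟨x, hx⟩ : ∃ x, x = ρ f q + r := ⟨_, rfl⟩
  rw [← hx] at h3
  obtain ⟨g, hg⟩ : ∃ g, g = d * f := ⟨_, rfl⟩
  have g3 : g ^ 3 = 1 := hg ▸ Basic.cube_of_not_commute hGD.1 hd hf hdf
  have gi : g⁻¹ = f * d := by
    rw [hg, mul_inv_rev, Classes.inv hGD hd, Classes.inv hGD hf]
  rw [← hg] at h3
  have e2 : (g * emb x) ^ 3 =
      g ^ 3 * ((g ^ 2)⁻¹ * emb x * g ^ 2) * (g⁻¹ * emb x * g) * emb x := by
    simp only [pow_succ, pow_zero, one_mul]; group
  have e3 : (g ^ 2)⁻¹ * emb x * g ^ 2 = emb (ρ g x) := by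
    rw [R.conj, show (g ^ 2)⁻¹ = g from inv_eq_of_mul_eq_one_right (by rw [← pow_succ, g3]),
      show g ^ 2 = g⁻¹ from eq_inv_of_mul_eq_one_left (by rw [← pow_succ, g3])]
  have e4 : g⁻¹ * emb x * g = emb (ρ g⁻¹ x) := by rw [R.conj, inv_inv]
  rw [e2, g3, one_mul, e3, e4, ← R.emb_add, ← R.emb_add, ← emb_zero R] at h3
  have h4 := R.emb_inj h3
  rw [gi, hg, rho_mul_apply R, rho_mul_apply R] at h4
  have Tq := lift_tau R hD hE hd hq
  have Fr := lift_tau R hD hE hf hr
  have FF : ∀ v, tau ρ f (tau ρ f v) = 0 := fun v => DFunLike.congr_fun (tau_sq R hD hf) v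
  have FTF : ∀ v, tau ρ f (tau ρ d (tau ρ f v)) = tau ρ f v :=
    fun v => DFunLike.congr_fun (tau_braid R hD hf hd fun h => hdf h.symm) v
  have hn : ∀ (n : ℤ) (v : V), n • v = if n % 2 = 0 then 0 else v := fun n v => by
    conv_lhs => rw [← Int.emod_add_mul_ediv n 2, add_zsmul, mul_zsmul, two_zsmul, R.two,
      add_zero]
    rcases Int.emod_two_eq_zero_or_one n with h | h <;> simp [h]
  rw [← add_eq_zero' R, ← h4, hx]
  simp only [rho_apply R, map_add, map_zero, Tq, Fr, FF, FTF]
  abel_nf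
  simp [hn]

theorem perp_shift {k f : G} {s r : V} (hk : k ∈ D) (hf : f ∈ D) (hs : k * emb s ∈ E)
    (hr : f * emb r ∈ E) (hkf : Commute k f) : tau ρ k r = tau ρ f s := by
  have kk := Classes.sq (grp R hD) hk
  have ff := Classes.sq (grp R hD) hf
  have h := ((lift_commute_iff R hD hE hk hf hs hr).2 hkf).eq
  rw [mul_emb_mul R ff, mul_emb_mul R kk, hkf.eq] at h
  have h1 := R.emb_inj (mul_left_cancel h)
  rw [tau_apply R, tau_apply R]
  calc ρ k r + r = (ρ k r + s) + (r + s) := by
        rw [add_add_add_comm, add_comm s s, R.two, add_zero]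
    _ = ρ f s + s := by rw [← h1, ← add_assoc, add_assoc (ρ f s), R.two, add_zero]

theorem perp_kill {k f : G} {s r : V} (hk : k ∈ D) (hf : f ∈ D) (hs : k * emb s ∈ E)
    (hr : f * emb r ∈ E) (hkf : Commute k f) : tau ρ k r = 0 := by
  by_cases h : ρ k = ρ f
  · rw [(tau_eq_iff R k f).2 h]; exact lift_tau R hD hE hf hr
  · exact sep' R hD hk hf hkf h (perp_shift R hD hE hk hf hs hr hkf)

theorem shift_kill_perp {d f k : G} {q s : V} (hd : d ∈ D) (hk : k ∈ D) (hq : d * emb q ∈ E)
    (hs : k * emb s ∈ E) (hkd : Commute k d) : tau ρ k (q + tau ρ d (tau ρ f q)) = 0 := by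
  rw [map_add, perp_kill R hD hE hk hd hs hq hkd, zero_add]
  exact DFunLike.congr_fun (tau_comm R hD hd hk hkd.symm) _

theorem shift_kill {d f : G} {q : V} (hd : d ∈ D) (hq : d * emb q ∈ E) :
    tau ρ d (q + tau ρ d (tau ρ f q)) = 0 := by
  rw [map_add, lift_tau R hD hE hd hq, zero_add]
  exact DFunLike.congr_fun (tau_sq R hD hd) _

/-- Two commuting members not commuting with a third give the same value. -/
theorem shift_indep {d k f : G} {q s r : V} (hd : d ∈ D) (hk : k ∈ D) (hf : f ∈ D)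
    (hq : d * emb q ∈ E) (hs : k * emb s ∈ E) (hr : f * emb r ∈ E) (hdk : Commute d k)
    (hdf : ¬ Commute d f) (hkf : ¬ Commute k f) :
    q + tau ρ d (tau ρ f q) = s + tau ρ k (tau ρ f s) := by
  have h1 := shift_eq R hD hE hd hf hq hr hdf
  have h2 := shift_eq R hD hE hk hf hs hr hkf
  have hu : (q + tau ρ d (tau ρ f q)) + (s + tau ρ k (tau ρ f s)) =
      tau ρ f (tau ρ d r + tau ρ k r) := by
    rw [h1, h2, add_add_add_comm, R.two, zero_add, map_add]
  have hK : tau ρ k (tau ρ f (tau ρ d r + tau ρ k r)) = 0 := by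
    rw [← hu, map_add, shift_kill_perp R hD hE hd hk hq hs hdk.symm,
      shift_kill R hD hE hk hs, add_zero]
  have hF : tau ρ f (tau ρ k (tau ρ f (tau ρ d r + tau ρ k r))) =
      tau ρ f (tau ρ d r + tau ρ k r) :=
    DFunLike.congr_fun (tau_braid R hD hf hk fun h => hkf h.symm) _
  rw [← add_eq_zero' R, hu, ← hF, hK, map_zero]

/-- The classes agree when some lift is in the image of the map of its member. -/
theorem eq_of_range {d : G} {q : V} (hd : d ∈ D) (hq : d * emb q ∈ E)
    (h : ∃ v, tau ρ d v = q) : E = D := by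
  obtain ⟨v, rfl⟩ := h
  have hmem := fibre_mem R hD hd v
  ext x
  constructor
  · intro hx
    obtain ⟨g, rfl⟩ := (Classes.of_class hE).2 _ hq x hx
    exact (grp R hD).2.1 g _ hmem
  · intro hx
    obtain ⟨g, rfl⟩ := (Classes.of_class hD).2 _ hmem x hx
    exact (grp R hE).2.1 g _ hq

/-- The case where two commuting members have a common noncommuting one. -/
theorem range_of_triple (hl : ∀ t ∈ D, ∃ q, t * emb q ∈ E) {d k f : G} {q : V} (hd : d ∈ D)
    (hk : k ∈ D) (hf : f ∈ D) (hq : d * emb q ∈ E) (hdk : Commute d k) (hne : ρ d ≠ ρ k)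
    (hdf : ¬ Commute d f) (hkf : ¬ Commute k f) : ∃ v, tau ρ d v = q := by
  obtain ⟨r, hr⟩ := hl f hf
  obtain ⟨s, hs⟩ := hl k hk
  obtain ⟨c, hc⟩ : ∃ c, c = q + tau ρ d (tau ρ f q) := ⟨_, rfl⟩
  have hc2 : c = s + tau ρ k (tau ρ f s) :=
    hc.trans (shift_indep R hD hE hd hk hf hq hs hr hdk hdf hkf)
  have hc3 : c = r + tau ρ f (tau ρ d r) := hc.trans (shift_eq R hD hE hd hf hq hr hdf)
  have h0 : c = 0 := by
    refine eq_zero_of_killed R hD fun t ht => ?_
    obtain ⟨w, hw⟩ := hl t ht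
    by_cases htd : Commute t d
    · rw [hc]; exact shift_kill_perp R hD hE hd ht hq hw htd
    by_cases htf : Commute t f
    · rw [hc3]; exact shift_kill_perp R hD hE hf ht hr hw htf
    by_cases htk : Commute t k
    · rw [hc2]; exact shift_kill_perp R hD hE hk ht hs hw htk
    have ndt : ¬ Commute d t := fun h => htd h.symm
    have nkt : ¬ Commute k t := fun h => htk h.symm
    have hi := shift_indep R hD hE hd hk ht hq hs hw hdk ndt nkt
    have e1 : (q + tau ρ d (tau ρ t q)) + c = tau ρ d (tau ρ t q + tau ρ f q) := by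
      rw [hc, add_add_add_comm, R.two, zero_add, map_add]
    have e2 : (s + tau ρ k (tau ρ t s)) + c = tau ρ k (tau ρ t s + tau ρ f s) := by
      rw [hc2, add_add_add_comm, R.two, zero_add, map_add]
    have h1 := sep' R hD hd hk hdk hne (e1.symm.trans ((congrArg (· + c) hi).trans e2))
    rw [← e1, add_eq_zero' R] at h1
    rw [← h1, shift_eq R hD hE hd ht hq hw ndt]
    exact shift_kill R hD hE ht hw
  exact ⟨tau ρ f q, ((add_eq_zero' R).1 (hc ▸ h0)).symm⟩

/-- The case where any two commuting members have the same image. -/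
theorem range_of_width_one {d : G} {q : V} (hd : d ∈ D) (hq : d * emb q ∈ E)
    (hW : ∀ x ∈ D, ∀ y ∈ D, ∀ f ∈ D, Commute x y → ρ x ≠ ρ y → ¬ Commute x f → Commute y f) :
    ∃ v, tau ρ d v = q := by
  classical
  have hGD := grp R hD
  have dd := Classes.sq hGD hd
  have di := Classes.inv hGD hd
  have Tq := lift_tau R hD hE hd hq
  haveI : (threeRad G).Normal := threeRad_normal
  obtain ⟨mk, hmk⟩ : ∃ m : G →* G ⧸ threeRad G, m = QuotientGroup.mk' _ := ⟨_, rfl⟩
  have hone : ∀ x, mk x = 1 ↔ x ∈ threeRad G := fun x => hmk ▸ QuotientGroup.eq_one_iff x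
  have hedge : ∀ x ∈ D, ∀ y ∈ D, ¬ Commute x y → x * y ∈ threeRad G := by
    intro x hx y hy hxy
    refine mul_mem_threeRad R hD hx hy fun k hk => ?_
    constructor
    · rintro ⟨h1, h2⟩
      exact ⟨fun h => hxy (commute_congr R hD hy hx h h2.symm).symm,
        (hW x hx k hk y hy h2 h1.symm hxy).symm⟩
    · rintro ⟨h1, h2⟩
      exact ⟨fun h => hxy (commute_congr R hD hx hy h h2.symm),
        (hW y hy k hk x hx h2 h1.symm fun h => hxy h.symm).symm⟩
  have hcomm : ∀ x ∈ D, ∀ y ∈ D, Commute (mk x) (mk y) := by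
    intro x hx y hy
    by_cases h : Commute x y
    · exact h.map mk
    · have h1 := (hone _).2 (hedge x hx y hy h)
      rw [map_mul] at h1
      rw [eq_inv_of_mul_eq_one_left h1]
      exact (Commute.refl _).inv_left
  have hall : ∀ t ∈ D, d * t ∈ threeRad G := by
    intro t ht
    obtain ⟨g, rfl⟩ := (Classes.of_class hD).2 d hd t ht
    have hg : Commute (mk g) (mk d) := by
      have h : g ∈ Subgroup.closure D := hGD.2.2 ▸ Subgroup.mem_top g
      clear ht
      induction h using Subgroup.closure_induction with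
      | mem t ht => exact hcomm t ht d hd
      | one => rw [map_one]; exact Commute.one_left _
      | mul x y _ _ hx hy => rw [map_mul]; exact hx.mul_left hy
      | inv x _ hx => rw [map_inv]; exact hx.inv_left
    rw [← hone, map_mul, map_mul, map_mul, map_inv, hg.eq, mul_inv_cancel_right, ← map_mul, dd,
      map_one]
  -- only zero is fixed by the 3-radical
  have hfix : ∀ v : V, (∀ p ∈ threeRad G, ρ p v = v) → v = 0 := by
    have step : ∀ v : V, (∀ p ∈ threeRad G, ρ p v = v) → tau ρ d v = 0 → v = 0 := by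
      intro v hv h0
      refine eq_zero_of_killed R hD fun t ht => ?_
      rw [tau_apply R, add_eq_zero' R]
      rcases closure_congr hD hd hall t with h | h
      · exact hv t h
      · have e : t = d * (d * t) := by rw [← mul_assoc, dd, one_mul]
        rw [e, rho_mul_apply R, hv _ h]
        rw [tau_apply R, add_eq_zero' R] at h0
        exact h0
    intro v hv
    refine step v hv (step _ (fun p hp => ?_) (DFunLike.congr_fun (tau_sq R hD hd) v))
    have hpd : d * p * d ∈ threeRad G := by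
      have h := (threeRad_normal (G := G)).conj_mem p hp d
      rwa [di] at h
    have e : ρ p (ρ d v) = ρ d v := by
      calc ρ p (ρ d v) = ρ (d * (d * p * d)) v := by
            rw [← rho_mul_apply R, show d * (d * p * d) = (d * d) * p * d by group, dd, one_mul]
        _ = ρ d v := by rw [rho_mul_apply R, hv _ hpd]
    rw [tau_apply R, map_add, e, hv p hp]
  -- summing over the 3-core of the image
  obtain ⟨π, hπ⟩ : ∃ m : V →+ V ⧸ AddMonoidHom.range (tau ρ d),
      m = QuotientAddGroup.mk' _ := ⟨_, rfl⟩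
  have hπ0 : ∀ v, π v = 0 ↔ ∃ w, tau ρ d w = v := fun v => by
    rw [hπ]; exact (QuotientAddGroup.eq_zero_iff v).trans AddMonoidHom.mem_range
  let σ : (G ⧸ Cfsg.pCore 2 G) →* AddMonoid.End V :=
    QuotientGroup.lift _ ρ fun x hx => (R.faithful x).2 hx
  have hσ : ∀ g, σ (red g) = ρ g := fun g => QuotientGroup.lift_mk' _ _ g
  haveI : (Cfsg.pCore 3 (G ⧸ Cfsg.pCore 2 G)).Normal := Cores.pCore_normal 3
  haveI : Fintype (Cfsg.pCore 3 (G ⧸ Cfsg.pCore 2 G)) := Fintype.ofFinite _
  let C : Subgroup (Cfsg.pCore 3 (G ⧸ Cfsg.pCore 2 G)) :=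
    (Subgroup.centralizer {red d}).subgroupOf _
  let ι : Cfsg.pCore 3 (G ⧸ Cfsg.pCore 2 G) → Cfsg.pCore 3 (G ⧸ Cfsg.pCore 2 G) :=
    fun p => ⟨red d * p * (red d)⁻¹, Subgroup.Normal.conj_mem inferInstance _ p.2 _⟩
  have hιC : ∀ p, ι p = p ↔ p ∈ C := fun p => by
    rw [Subgroup.mem_subgroupOf, Subgroup.mem_centralizer_singleton_iff, Subtype.ext_iff]
    exact mul_inv_eq_iff_eq_mul.trans eq_comm
  have hιι : ∀ p, ι (ι p) = p := fun p => Subtype.ext (by
    show red d * (red d * p * (red d)⁻¹) * (red d)⁻¹ = p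
    have h1 : red d * red d = 1 := by rw [← map_mul, dd, map_one]
    rw [inv_eq_of_mul_eq_one_left h1, show red d * (red d * p * red d) * red d =
      (red d * red d) * p * (red d * red d) by group, h1, one_mul, mul_one])
  have hsum : ∑ p : Cfsg.pCore 3 (G ⧸ Cfsg.pCore 2 G), σ p q = 0 := by
    refine hfix _ fun g hg => ?_
    rw [map_sum]
    refine Fintype.sum_equiv (Equiv.mulLeft ⟨red g, hg⟩) _ _ fun p => ?_
    show ρ g (σ p q) = σ (red g * p) q
    rw [map_mul, hσ]; rfl
  have hpair : ∀ p : Cfsg.pCore 3 (G ⧸ Cfsg.pCore 2 G), π (σ p q) + π (σ (ι p) q) = 0 := by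
    intro p
    obtain ⟨g, hg⟩ := QuotientGroup.mk'_surjective _ (p : G ⧸ Cfsg.pCore 2 G)
    have e : σ (ι p) q = ρ d (σ p q) := by
      show σ (red d * p * (red d)⁻¹) q = _
      rw [← hg, ← map_inv, ← map_mul, ← map_mul, hσ, hσ, di, rho_mul_apply R, rho_mul_apply R,
        rho_apply R d q, Tq, add_zero]
    rw [e, ← map_add, hπ0]
    exact ⟨σ p q, by rw [tau_apply R, add_comm]⟩
  have hfixed : ∀ p : Cfsg.pCore 3 (G ⧸ Cfsg.pCore 2 G), ι p = p → π (σ p q) = π q := by
    intro p hp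
    obtain ⟨g, hg⟩ := QuotientGroup.mk'_surjective _ (p : G ⧸ Cfsg.pCore 2 G)
    have hc : red d * red g * (red d)⁻¹ = red g := by rw [hg]; exact congrArg Subtype.val hp
    have hρ : ρ (g * d * g⁻¹) = ρ d := by
      rw [← red_eq_iff R, map_mul, map_mul, map_inv]
      exact mul_inv_eq_of_eq_mul (mul_inv_eq_iff_eq_mul.1 hc).symm
    have hgD := hGD.2.1 g d hd
    obtain ⟨x, hxQ, hx⟩ := Classes.sameComm_exists_conj hGD hd
      ((Classes.sameComm_iff_mem hGD hd).2 ⟨hgD, (rho_eq_iff R d _).1 hρ.symm⟩)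
      (exists_noncomm R hD hd)
    obtain ⟨v, rfl⟩ := (R.mem x).1 hxQ
    have hgE := (grp R hE).2.1 g _ hq
    have e1 : g * (d * emb q) * g⁻¹ = d * emb (tau ρ d v + ρ g q) := by
      rw [R.emb_add, R.conj g q, ← mul_assoc d, ← conj_fibre R hD hd, hx]
      group
    have hρ' : ρ (g * (d * emb q) * g⁻¹) = ρ (d * emb q) := by
      rw [e1, lift_rho R hD, lift_rho R hD]
    obtain ⟨y, hyQ, hy⟩ := Classes.sameComm_exists_conj (grp R hE) hq
      ((Classes.sameComm_iff_mem (grp R hE) hq).2 ⟨hgE, (rho_eq_iff R _ _).1 hρ'.symm⟩)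
      (exists_noncomm R hE hq)
    obtain ⟨w, rfl⟩ := (R.mem y).1 hyQ
    have e2 : emb w * (d * emb q) * (emb w)⁻¹ = d * emb (tau ρ d w + q) := by
      rw [R.emb_add, ← mul_assoc d, ← conj_fibre R hD hd, emb_inv R,
        show emb w * (d * emb q) * emb w = emb w * d * (emb q * emb w) by group,
        ← R.emb_add, add_comm, R.emb_add]
      group
    rw [e2, e1] at hy
    have h3 := R.emb_inj (mul_left_cancel hy)
    rw [← hg, hσ, ← sub_eq_zero, ← map_sub, hπ0]
    refine ⟨w - v, ?_⟩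
    rw [map_sub, sub_eq_sub_iff_add_eq_add, add_comm (ρ g q)]
    exact h3
  have hnon : ∑ p with ¬ p ∈ C, π (σ p q) = 0 := by
    refine Finset.sum_involution (fun p _ => ι p) (fun p _ => hpair p) ?_ ?_ (fun p _ => hιι p)
    · intro p hp _
      exact fun h => (Finset.mem_filter.1 hp).2 ((hιC p).1 h)
    · intro p hp
      refine Finset.mem_filter.2 ⟨Finset.mem_univ _, fun h => (Finset.mem_filter.1 hp).2 ?_⟩
      rw [← hιC] at h ⊢
      rw [hιι] at h
      exact h.symm
  have hfixsum : ∑ p with p ∈ C, π (σ p q) = Nat.card C • π q := by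
    rw [Finset.sum_congr rfl fun p hp => hfixed p ((hιC p).2 (Finset.mem_filter.1 hp).2),
      Finset.sum_const, Nat.card_eq_fintype_card, Fintype.card_subtype]
  have htot := congrArg π hsum
  rw [map_sum, map_zero, ← Finset.sum_filter_add_sum_filter_not Finset.univ (· ∈ C), hnon,
    add_zero, hfixsum] at htot
  haveI : Fact (Nat.Prime 3) := ⟨Nat.prime_three⟩
  obtain ⟨n, hn⟩ := IsPGroup.iff_card.1
    ((Cores.pCore_isPGroup 3 (G := G ⧸ Cfsg.pCore 2 G)).to_subgroup C)
  obtain ⟨m, hm⟩ : Odd (Nat.card C) := hn ▸ Odd.pow (by decide)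
  rw [hm, add_nsmul, mul_comm 2 m, mul_nsmul', two_nsmul, ← map_add, R.two, map_zero, nsmul_zero,
    one_nsmul, zero_add] at htot
  exact (hπ0 q).1 htot

/-- A self-centralising elementary abelian 2-core leaves room for one class only. -/
theorem class_unique : E = D := by
  obtain ⟨d0, hd0, e0, he0, h0⟩ := exists_common R hD hE
  have hl : ∀ t ∈ D, ∃ q, t * emb q ∈ E := by
    intro t ht
    obtain ⟨g, rfl⟩ := (Classes.of_class hD).2 d0 hd0 t ht
    obtain ⟨q, hq⟩ := (R.mem ((g * d0 * g⁻¹)⁻¹ * (g * e0 * g⁻¹))).1 ((rho_eq_iff R _ _).1 (by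
      simp only [map_mul, h0]))
    exact ⟨q, by rw [hq, mul_inv_cancel_left]; exact (grp R hE).2.1 g e0 he0⟩
  by_cases hT : ∃ x ∈ D, ∃ y ∈ D, ∃ f ∈ D,
      Commute x y ∧ ρ x ≠ ρ y ∧ ¬ Commute x f ∧ ¬ Commute y f
  · obtain ⟨x, hx, y, hy, f, hf, h1, h2, h3, h4⟩ := hT
    obtain ⟨q, hq⟩ := hl x hx
    exact eq_of_range R hD hE hx hq (range_of_triple R hD hE hl hx hy hf hq h1 h2 h3 h4)
  · push Not at hT
    obtain ⟨q, hq⟩ := hl d0 hd0
    exact eq_of_range R hD hE hd0 hq (range_of_width_one R hD hE hd0 hq hT)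

end Cfsg.Agent.ThreeTransp.Unique
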