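import Cfsg.Agent.Lib.ThreeTransp.UniqueQuot

/-!
Two classes of 3-transpositions of the same group have a common image modulo the 2-core.
-/

set_option autoImplicit false
set_option linter.unusedSectionVars false

namespace Cfsg.Agent.ThreeTransp.Unique

open Cfsg.Agent.ThreeTransp

/-- The relation between the maps attached to a pair of noncommuting members. -/
theorem zeta_rel {A : Type*} [Ring A] (h2 : ∀ x : A, x + x = 0) {Z F T : A} (zz : Z * Z = 0)
    (fz : F * Z = Z * F) (tz : T * Z = Z * T) (ff : F * F = 0) (tt : T * T = 0)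
    (ftf : F * T * F = F) (tft : T * F * T = T)
    (h : (Z + F + Z * F) * (Z + (T + F * T + T * F + F) + Z * (T + F * T + T * F + F)) *
      (Z + F + Z * F) = Z + F + Z * F) :
    Z = Z * (F * T + T * F) := by
  have ne : ∀ x : A, -x = x := fun x => neg_eq_of_add_eq_zero_left (h2 x)
  have hn : ∀ (n : ℕ) (x : A), n • x = if n % 2 = 0 then 0 else x := fun n x => by
    conv_lhs => rw [← Nat.mod_add_div n 2, add_nsmul, mul_nsmul, two_nsmul, h2, nsmul_zero,
      add_zero]
    rcases Nat.mod_two_eq_zero_or_one n with h | h <;> simp [h]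
  have hz : ∀ (n : ℤ) (x : A), n • x = if n % 2 = 0 then 0 else x := fun n x => by
    conv_lhs => rw [← Int.emod_add_mul_ediv n 2, add_zsmul, mul_zsmul, two_zsmul, h2,
      add_zero]
    rcases Int.emod_two_eq_zero_or_one n with h | h <;> simp [h]
  have fz' : ∀ x, F * (Z * x) = Z * (F * x) := fun x => by rw [← mul_assoc, fz, mul_assoc]
  have tz' : ∀ x, T * (Z * x) = Z * (T * x) := fun x => by rw [← mul_assoc, tz, mul_assoc]
  have zz' : ∀ x, Z * (Z * x) = 0 := fun x => by rw [← mul_assoc, zz, zero_mul]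
  have ff' : ∀ x, F * (F * x) = 0 := fun x => by rw [← mul_assoc, ff, zero_mul]
  have tt' : ∀ x, T * (T * x) = 0 := fun x => by rw [← mul_assoc, tt, zero_mul]
  have ftf0 : F * (T * F) = F := by rw [← mul_assoc, ftf]
  have tft0 : T * (F * T) = T := by rw [← mul_assoc, tft]
  have ftf' : ∀ x, F * (T * (F * x)) = F * x := fun x => by
    rw [← mul_assoc T, ← mul_assoc F, ← mul_assoc, mul_assoc (F * T) F, ← mul_assoc (F * T) F, ftf]
  have tft' : ∀ x, T * (F * (T * x)) = T * x := fun x => by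
    rw [← mul_assoc F, ← mul_assoc T, ← mul_assoc, tft]
  have key : Z + Z * (F * T + T * F) =
      (Z + F + Z * F) * (Z + (T + F * T + T * F + F) + Z * (T + F * T + T * F + F)) *
        (Z + F + Z * F) + (Z + F + Z * F) := by
    simp only [mul_add, add_mul, mul_assoc, fz, tz, fz', tz', zz, zz', ff, ff', tt, tt', ftf0, tft0,
      ftf', tft', mul_zero, zero_mul, add_zero, zero_add]
    abel_nf
    simp [hn, hz]
  rw [h, h2, add_eq_zero_iff_eq_neg, ne] at key
  exact key

variable {G : Type*} [Group G] {V : Type*} [AddCommGroup V]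
variable {ρ : G →* AddMonoid.End V} {emb : V → G} (R : Rep ρ emb)
variable [Finite G] {D E : Set G} (hD : Cfsg.IsThreeTranspositionClass D)
  (hE : Cfsg.IsThreeTranspositionClass E)

include R hD hE

theorem conj_mem' {d e : G} (hd : d ∈ D) (he : e ∈ E) : e * d * e ∈ D := by
  have h := (grp R hD).2.1 e d hd
  rwa [Classes.inv (grp R hE) he] at h

theorem rho_commute_of_commute {x y : G} (h : Commute (tau ρ x) (tau ρ y)) :
    Commute (ρ x) (ρ y) := by
  rw [rho_eq R x, rho_eq R y]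
  exact (Commute.one_left _).add_left ((Commute.one_right _).add_right h)

theorem no_odd {d e : G} (hd : d ∈ D) (he : e ∈ E) (hne : ∀ t ∈ D, ρ t ≠ ρ e) {n : ℕ} (hn : Odd n) :
    (ρ d * ρ e) ^ n ≠ 1 := by
  obtain ⟨m, rfl⟩ := hn
  intro h
  rw [← map_mul] at h
  have dd := Classes.sq (grp R hD) hd
  have di := Classes.inv (grp R hD) hd
  have ei := Classes.inv (grp R hE) he
  obtain ⟨x, hx⟩ : ∃ x, x = d * e := ⟨_, rfl⟩
  rw [← hx] at h
  have hc : d * x * d⁻¹ = x⁻¹ := by rw [hx, mul_inv_rev, ei, di, ← mul_assoc, dd, one_mul]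
  have h1 : x ^ m * d * (x ^ m)⁻¹ = x ^ (2 * m) * d := by
    have h2 : d * (x ^ m)⁻¹ * d⁻¹ = x ^ m := by
      rw [← inv_pow, ← conj_pow, ← hc]
      congr 1
      rw [di, show d * (d * x * d) * d = (d * d) * x * (d * d) by group, dd, one_mul, mul_one]
    rw [di] at h2
    have h3 : d * (x ^ m)⁻¹ = x ^ m * d := by
      calc d * (x ^ m)⁻¹ = d * (x ^ m)⁻¹ * d * d := by rw [mul_assoc _ d d, dd, mul_one]
        _ = x ^ m * d := by rw [h2]
    rw [mul_assoc, h3, ← mul_assoc, two_mul, pow_add]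
  refine hne (x ^ m * d * (x ^ m)⁻¹) ((grp R hD).2.1 _ _ hd) ?_
  rw [h1, map_mul, map_pow]
  have h4 : ρ x ^ (2 * m) = ρ x⁻¹ := by
    calc ρ x ^ (2 * m) = ρ x ^ (2 * m) * (ρ x * ρ x⁻¹) := by
          rw [← map_mul ρ x, mul_inv_cancel, map_one, mul_one]
      _ = ρ x⁻¹ := by rw [← mul_assoc, ← pow_succ, h, one_mul]
  rw [h4, ← map_mul, hx, mul_inv_rev, ei, di, mul_assoc, dd, mul_one]

theorem symm_pair {d e : G} (hd : d ∈ D) (he : e ∈ E) (h : Commute d (e * d * e)) :
    Commute e (d * e * d) := by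
  have hGD := grp R hD
  have hGE := grp R hE
  have hed : d * e * d ∈ E := conj_mem' R hE hD he hd
  rw [← Basic.sq_prod_eq_one_iff (Classes.sq hGE he) (Classes.sq hGE hed)]
  have h1 := (Basic.sq_prod_eq_one_iff (Classes.sq hGD hd)
    (Classes.sq hGD (conj_mem' R hD hE hd he))).2 h
  have h2 : e * (d * e * d) = (d * (e * d * e))⁻¹ := by
    simp [mul_assoc, Classes.inv hGD hd, Classes.inv hGE he]
  rw [h2, inv_pow, h1, inv_one]

theorem comm_pair {d e : G} (hd : d ∈ D) (he : e ∈ E) (h : Commute d (e * d * e)) :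
    tau ρ d * tau ρ e * tau ρ d = 0 := by
  have h1 := tau_comm R hD (conj_mem' R hD hE hd he) hd h.symm
  rw [tau_conj' R hE he d, rho_eq R e] at h1
  have e1 : tau ρ d * ((1 + tau ρ e) * tau ρ d * (1 + tau ρ e)) =
      (tau ρ d * tau ρ d + tau ρ d * tau ρ e * tau ρ d) * (1 + tau ρ e) := by noncomm_ring
  rw [e1, tau_sq R hD hd, zero_add] at h1
  calc tau ρ d * tau ρ e * tau ρ d
      = tau ρ d * tau ρ e * tau ρ d * (ρ e * ρ e) := by rw [rho_sq R hE he, mul_one]
    _ = 0 := by rw [← mul_assoc, rho_eq R e, h1, zero_mul]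

theorem exists_pair : ∃ d ∈ D, ∃ e ∈ E, ¬ Commute d (e * d * e) := by
  by_contra hcon
  push Not at hcon
  have hGE := grp R hE
  obtain ⟨e, he, -⟩ := hE.2.1
  have step : ∀ d ∈ D, ∀ x ∈ E, ¬ Commute e x → ¬ Commute e (d * x * d) := by
    intro d hd x hx hex hc
    have hxd : d * x * d ∈ E := conj_mem' R hE hD hx hd
    have c1 := tau_comm R hE hxd he hc.symm
    have c2 := tau_comm R hE he hxd hc
    rw [tau_conj' R hD hd x] at c1 c2
    obtain ⟨a, ha⟩ : ∃ a, a = tau ρ e := ⟨_, rfl⟩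
    obtain ⟨b, hb⟩ : ∃ b, b = tau ρ x := ⟨_, rfl⟩
    obtain ⟨t, ht⟩ : ∃ t, t = tau ρ d := ⟨_, rfl⟩
    have hinv : ρ d * ρ d = 1 := rho_sq R hD hd
    rw [← ha, ← hb] at c1 c2
    have hd1 : ρ d = 1 + t := ht ▸ rho_eq R d
    have d1 : a * b = a * t * b := by
      rw [← add_eq_zero R]
      calc a * b + a * t * b = a * (1 + t) * b := by noncomm_ring
        _ = a * (1 + t) * b * (ρ d * ρ d) := by rw [hinv, mul_one]
        _ = (a * (ρ d * b * ρ d)) * ρ d := by simp only [hd1, mul_assoc]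
        _ = 0 := by rw [c1, zero_mul]
    have d2 : b * a = b * t * a := by
      rw [← add_eq_zero R]
      calc b * a + b * t * a = b * (1 + t) * a := by noncomm_ring
        _ = (ρ d * ρ d) * (b * (1 + t) * a) := by rw [hinv, one_mul]
        _ = ρ d * ((ρ d * b * ρ d) * a) := by simp only [hd1, mul_assoc]
        _ = 0 := by rw [c2, mul_zero]
    have d3 : t * b * t = 0 := ht ▸ hb ▸ comm_pair R hD hE hd hx (hcon d hd x hx)
    have d4 : a * b * a = a := ha ▸ hb ▸ tau_braid R hE he hx hex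
    refine tau_ne_zero R hE he (ha ▸ ?_)
    calc a = a * b * a := d4.symm
      _ = a * (b * t * a) := by rw [mul_assoc, d2]
      _ = a * b * t * a := by simp only [mul_assoc]
      _ = a * (t * b * t) * a := by rw [d1]; simp only [mul_assoc]
      _ = 0 := by rw [d3, mul_zero, zero_mul]
  have inv : ∀ g ∈ Subgroup.closure D, ∀ x : G,
      (x ∈ E ∧ ¬ Commute e x) ↔ (g * x * g⁻¹ ∈ E ∧ ¬ Commute e (g * x * g⁻¹)) := by
    intro g hg
    induction hg using Subgroup.closure_induction with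
    | mem d hd =>
      intro x
      rw [Classes.inv (grp R hD) hd]
      constructor
      · exact fun ⟨h1, h2⟩ => ⟨conj_mem' R hE hD h1 hd, step d hd x h1 h2⟩
      · intro ⟨h1, h2⟩
        have e1 : d * (d * x * d) * d = x := by
          rw [show d * (d * x * d) * d = (d * d) * x * (d * d) by group,
            Classes.sq (grp R hD) hd, one_mul, mul_one]
        exact e1 ▸ ⟨conj_mem' R hE hD h1 hd, step d hd _ h1 h2⟩
    | one => intro x; simp
    | mul g k _ _ h1 h2 =>
      intro x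
      rw [h2 x, h1 (k * x * k⁻¹), show g * (k * x * k⁻¹) * g⁻¹ = g * k * x * (g * k)⁻¹ by group]
    | inv g _ h1 =>
      intro x
      rw [h1 (g⁻¹ * x * g⁻¹⁻¹), show g * (g⁻¹ * x * g⁻¹⁻¹) * g⁻¹ = x by group]
  obtain ⟨x, hx, hex⟩ := exists_noncomm R hE he
  obtain ⟨g, hg⟩ := (Classes.of_class hE).2 x hx e he
  have h := ((inv g ((grp R hD).2.2 ▸ Subgroup.mem_top g) x).1 ⟨hx, hex⟩).2
  rw [hg] at h
  exact h (Commute.refl e)

theorem pair_core {d e : G} (hd : d ∈ D) (he : e ∈ E) (hP : ¬ Commute d (e * d * e))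
    (hne : ∀ t ∈ D, ∀ u ∈ E, ρ t ≠ ρ u) :
    (e * d) * (e * d) ∈ threeRad G ∧ ∃ f ∈ D,
      (∀ t ∈ D, Commute f t → Commute (ρ t) (ρ e)) ∧
      (∀ t ∈ D, ¬ Commute f t → Commute t (e * t * e) → Commute (ρ t) (ρ e)) := by
  have hGD := grp R hD
  have hGE := grp R hE
  have dd := Classes.sq hGD hd
  have ee := Classes.sq hGE he
  obtain ⟨d1, hd1⟩ : ∃ x, x = e * d * e := ⟨_, rfl⟩
  rw [← hd1] at hP
  have hd1D : d1 ∈ D := hd1 ▸ conj_mem' R hD hE hd he
  obtain ⟨f, hf⟩ : ∃ x, x = d * d1 * d := ⟨_, rfl⟩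
  have hfD : f ∈ D := hf ▸ Classes.conj_mem hGD hd hd1D
  have hf' : f = d1 * d * d1 := hf ▸ Basic.braid hGD.1 hd hd1D hP
  have ff := Classes.sq hGD hfD
  have hefe : e * f * e = f := by
    rw [hf]
    calc e * (d * d1 * d) * e = (e * d * e) * (e * d1 * e) * (e * d * e) := by
          simp [mul_assoc, WidthOne.mul_mul_cancel_left ee]
      _ = d1 * d * d1 := by
          rw [← hd1, show e * d1 * e = d by
            rw [hd1, show e * (e * d * e) * e = (e * e) * d * (e * e) by group, ee, one_mul, mul_one]]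
      _ = d * d1 * d := (hf' ▸ hf : d1 * d * d1 = d * d1 * d)
  have hef : Commute e f := by
    calc e * f = e * f * e * e := by rw [mul_assoc _ e e, ee, mul_one]
      _ = f * e := by rw [hefe]
  obtain ⟨hn1, -, htri, -, -, -⟩ := Classes.triangle hGD hd hd1D hP
  rw [← hf] at hn1 htri
  have hfdf : f * d * f = d1 := by
    rw [← Basic.braid hGD.1 hd hfD hn1, htri]
  have hdfd : d * f * d = d1 := htri
  obtain ⟨z, hz⟩ : ∃ x, x = e * f := ⟨_, rfl⟩
  have zf : Commute z f := hz ▸ hef.mul_left (Commute.refl f)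
  have zz : z * z = 1 := by
    rw [hz, hef.symm.mul_mul_mul_comm, ee, ff, one_mul]
  have hzf : z * f = e := by rw [hz, mul_assoc, ff, mul_one]
  have hzdz : z * d * z = d := by
    calc z * d * z = e * (f * d * f) * e := by
          rw [hz]; nth_rewrite 2 [hef.eq]; simp [mul_assoc]
      _ = d := by
          rw [hfdf, hd1, show e * (e * d * e) * e = (e * e) * d * (e * e) by group, ee, one_mul,
            mul_one]
  have zd : Commute z d := by
    calc z * d = z * d * z * z := by rw [mul_assoc _ z z, zz, mul_one]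
      _ = d * z := by rw [hzdz]
  have hded : d * e * d = z * d1 := by
    rw [← hzf, ← hdfd, ← mul_assoc d z, ← zd.eq]; simp [mul_assoc]
  have hP' : ¬ Commute e (d * e * d) := fun hc => hP (hd1 ▸ symm_pair R hE hD he hd hc)
  -- the operators
  obtain ⟨T, hT⟩ : ∃ x, x = tau ρ d := ⟨_, rfl⟩
  obtain ⟨F, hF⟩ : ∃ x, x = tau ρ f := ⟨_, rfl⟩
  obtain ⟨Z, hZ⟩ : ∃ x, x = tau ρ z := ⟨_, rfl⟩
  obtain ⟨a, ha⟩ : ∃ x, x = tau ρ e := ⟨_, rfl⟩
  have tcomm : ∀ x y : G, Commute x y → tau ρ x * tau ρ y = tau ρ y * tau ρ x := fun x y h =>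
    (((h.map ρ).add_left (Commute.one_left _)).add_right (Commute.one_right _)).eq
  have FF : F * F = 0 := hF ▸ tau_sq R hD hfD
  have TT : T * T = 0 := hT ▸ tau_sq R hD hd
  have FTF : F * T * F = F := hF ▸ hT ▸ tau_braid R hD hfD hd fun h => hn1 h.symm
  have TFT : T * F * T = T := hF ▸ hT ▸ tau_braid R hD hd hfD hn1
  have ZF : F * Z = Z * F := hF ▸ hZ ▸ tcomm f z zf.symm
  have ZT : T * Z = Z * T := hT ▸ hZ ▸ tcomm d z zd.symm
  have ZZ : Z * Z = 0 := by
    rw [hZ, tau, mul_add, add_mul, mul_one, one_mul, ← map_mul, zz, map_one, add_comm 1 (ρ z)]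
    exact add_self R _
  have tmul : ∀ x y : G, tau ρ (x * y) = tau ρ x + tau ρ y + tau ρ x * tau ρ y := by
    intro x y
    conv_lhs => rw [tau, map_mul, rho_eq R x, rho_eq R y]
    calc (1 + tau ρ x) * (1 + tau ρ y) + 1
        = tau ρ x + tau ρ y + tau ρ x * tau ρ y + (1 + 1) := by noncomm_ring
      _ = _ := by rw [add_self R, add_zero]
  have aeq : a = Z + F + Z * F := by rw [ha, ← hzf, tmul, hZ, hF]
  have Seq : tau ρ d1 = T + F * T + T * F + F := by
    rw [← hfdf, tau_conj' R hD hfD d, rho_eq R f, ← hT, ← hF]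
    calc (1 + F) * T * (1 + F) = T + F * T + T * F + F * T * F := by noncomm_ring
      _ = _ := by rw [FTF]
  have Beq : tau ρ (d * e * d) =
      Z + (T + F * T + T * F + F) + Z * (T + F * T + T * F + F) := by
    rw [hded, tmul, Seq, hZ]
  have hbr := tau_braid R hE he (conj_mem' R hE hD he hd) hP'
  rw [Beq, ← ha, aeq] at hbr
  have hZP : Z = Z * (F * T + T * F) :=
    zeta_rel (add_self R) ZZ ZF ZT FF TT FTF TFT hbr
  have hPZ : Z = (F * T + T * F) * Z := by
    conv_lhs => rw [hZP]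
    rw [add_mul, mul_add, mul_assoc F, ZT, ← mul_assoc F, ZF, mul_assoc T, ZF, ← mul_assoc T, ZT]
    simp only [mul_assoc]
  obtain ⟨γ, hγ⟩ : ∃ x, x = Z * F := ⟨_, rfl⟩
  have hγ0 : γ ≠ 0 := by
    intro h0
    have h1 : Z = 0 := by
      rw [hZP, mul_add, ← mul_assoc, ← hγ, h0, zero_mul, zero_add, ← mul_assoc, ← ZT, mul_assoc,
        ← hγ, h0, mul_zero]
    apply hne f hfD e he
    rw [← tau_eq_iff R, ← hF, ← ha, aeq, h1, zero_mul, zero_add, add_zero]
  -- the K-lemma
  have hK : ∀ k ∈ D, Commute d k → ρ k ≠ ρ d → Commute f k := by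
    intro k hk hdk hkd
    by_contra hfk
    obtain ⟨K, hKe⟩ : ∃ x, x = tau ρ k := ⟨_, rfl⟩
    have KT : K * T = 0 := hKe ▸ hT ▸ tau_comm R hD hd hk hdk
    have TK : T * K = 0 := hKe ▸ hT ▸ tau_comm R hD hk hd hdk.symm
    have KK : K * K = 0 := hKe ▸ tau_sq R hD hk
    have FKF : F * K * F = F := hKe ▸ hF ▸ tau_braid R hD hfD hk hfk
    have ZK : Z * K = Z * (T * (F * K)) := by
      conv_lhs => rw [hZP]
      rw [mul_assoc, add_mul, mul_assoc F, TK, mul_zero, zero_add, mul_assoc]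
    have KZ : K * Z = K * (F * (T * Z)) := by
      conv_lhs => rw [hPZ]
      rw [← mul_assoc, mul_add, ← mul_assoc K T, KT, zero_mul, add_zero]
      simp only [mul_assoc]
    have ZKZ : Z * K * Z = 0 := by
      calc Z * K * Z = Z * (T * (F * (K * Z))) := by rw [ZK]; simp only [mul_assoc]
        _ = Z * (T * (F * K * F) * (T * Z)) := by rw [KZ]; simp only [mul_assoc]
        _ = Z * (T * F * T * Z) := by rw [FKF]; simp only [mul_assoc]
        _ = 0 := by rw [TFT, ZT, ← mul_assoc, ZZ, zero_mul]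
    obtain ⟨k2, hk2⟩ : ∃ x, x = z * k * z := ⟨_, rfl⟩
    have hk2D : k2 ∈ D := by
      have := hGD.2.1 z k hk
      rw [inv_eq_of_mul_eq_one_left zz] at this
      exact hk2 ▸ this
    have K2 : tau ρ k2 = K + Z * K + K * Z := by
      have h := tau_conj R z k
      rw [inv_eq_of_mul_eq_one_left zz, ← hk2, rho_eq R z, ← hZ, ← hKe] at h
      rw [h]
      calc (1 + Z) * K * (1 + Z) = K + Z * K + K * Z + Z * K * Z := by noncomm_ring
        _ = _ := by rw [ZKZ, add_zero]
    have hcom : Commute k k2 := commute_lift R hD hk hk2D (rho_commute_of_commute R hD hE (by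
      show tau ρ k * tau ρ k2 = tau ρ k2 * tau ρ k
      rw [K2, ← hKe]
      simp only [mul_add, add_mul, mul_assoc, KK, mul_zero]
      simp [← mul_assoc, KK]))
    have w0 : K * γ = 0 := by
      by_cases heq : ρ k = ρ k2
      · have h1 : Z * K = K * Z := by
          rw [← tau_eq_iff R, K2, ← hKe, add_assoc, eq_comm, add_eq_left] at heq
          exact (add_eq_zero R).1 heq
        have h2 : tau ρ k * Z = tau ρ d * (Z * (F * K)) := by
          rw [← hKe, ← hT, ← h1, ZK, ← mul_assoc, ← ZT, mul_assoc]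
        have h3 := sep R hD hk hd hdk.symm hkd h2
        rw [hγ, ← mul_assoc, hKe, h3, zero_mul]
      · rw [hKe]
        refine sep R hD hk hk2D hcom heq (A := γ) (B := γ) ?_
        rw [K2, ← hKe, hγ, add_mul, add_mul, ← mul_assoc (Z * K), ZKZ, zero_mul, add_zero,
          mul_assoc K Z, ← mul_assoc Z Z, ZZ, zero_mul, mul_zero, add_zero]
    apply hγ0
    calc γ = F * K * F * Z := by rw [FKF, ZF, hγ]
      _ = F * (K * γ) := by rw [mul_assoc, ZF, ← hγ, mul_assoc]
      _ = 0 := by rw [w0, mul_zero]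
  have hsub : {k | k ∈ D ∧ ρ k ≠ ρ d ∧ Commute d k} ⊆ {k | k ∈ D ∧ ρ k ≠ ρ f ∧ Commute f k} :=
    fun k ⟨hk, h1, h2⟩ => ⟨hk, fun h => hn1 ((commute_congr R hD hfD hd h h2.symm).symm),
      hK k hk h2 h1⟩
  have hiff : ∀ k ∈ D, (ρ k ≠ ρ d ∧ Commute d k) ↔ (ρ k ≠ ρ f ∧ Commute f k) := by
    have hcard : {k | k ∈ D ∧ ρ k ≠ ρ f ∧ Commute f k}.ncard ≤
        {k | k ∈ D ∧ ρ k ≠ ρ d ∧ Commute d k}.ncard := by
      obtain ⟨g, hg⟩ := (Classes.of_class hD).2 f hfD d hd
      refine Set.ncard_le_ncard_of_injOn (fun x => g * x * g⁻¹) ?_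
        (fun x _ y _ h => mul_left_cancel (mul_right_cancel h)) (Set.toFinite _)
      rintro x ⟨hx, h1, h2⟩
      refine ⟨hGD.2.1 g x hx, fun h => h1 ?_, hg ▸ Basic.commute_conj.2 h2⟩
      have h3 := congrArg (fun y => ρ g⁻¹ * y * ρ g) h
      simp only [← hg, ← map_mul] at h3
      simpa [mul_assoc] using h3
    intro k hk
    have h := Set.ext_iff.1 (Set.eq_of_subset_of_ncard_le hsub hcard (Set.toFinite _)) k
    simpa [hk] using h
  refine ⟨?_, f, hfD, ?_, ?_⟩
  · have h := mul_mem_threeRad R hD hd hfD hiff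
    have e2 : d * f = (e * d) * (e * d) := by
      rw [hf, ← mul_assoc, ← mul_assoc, dd, one_mul, hd1]; simp only [mul_assoc]
    exact e2 ▸ h
  · intro t ht hft
    by_cases heq : ρ t = ρ f
    · rw [heq]; exact hef.symm.map ρ
    have hdt := ((hiff t ht).2 ⟨heq, hft⟩).2
    obtain ⟨U, hU⟩ : ∃ x, x = tau ρ t := ⟨_, rfl⟩
    have UF : U * F = 0 := hU ▸ hF ▸ tau_comm R hD hfD ht hft
    have FU : F * U = 0 := hU ▸ hF ▸ tau_comm R hD ht hfD hft.symm
    have UT : U * T = 0 := hU ▸ hT ▸ tau_comm R hD hd ht hdt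
    have TU : T * U = 0 := hU ▸ hT ▸ tau_comm R hD ht hd hdt.symm
    have ZU : Z * U = 0 := by
      rw [hZP, mul_assoc, add_mul, mul_assoc, mul_assoc, FU, TU, mul_zero, mul_zero, add_zero,
        mul_zero]
    have UZ : U * Z = 0 := by
      rw [hPZ, ← mul_assoc, mul_add, ← mul_assoc, ← mul_assoc, UF, UT, zero_mul, zero_mul,
        add_zero, zero_mul]
    apply rho_commute_of_commute R hD hE
    show tau ρ t * tau ρ e = tau ρ e * tau ρ t
    rw [← hU, ← ha, aeq, add_mul, add_mul, mul_add, mul_add, ← mul_assoc U, UZ, UF, zero_mul,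
      mul_assoc Z F, FU, ZU, mul_zero]
  · intro t ht hft hc
    obtain ⟨t1, ht1⟩ : ∃ x, x = e * t * e := ⟨_, rfl⟩
    rw [← ht1] at hc
    have ht1D : t1 ∈ D := ht1 ▸ conj_mem' R hD hE ht he
    by_cases heq : ρ t = ρ t1
    · rw [ht1, map_mul, map_mul] at heq
      have := congrArg (ρ e * ·) heq
      simp only [← mul_assoc, rho_sq R hE he, one_mul] at this
      exact this.symm
    exfalso
    obtain ⟨U, hU⟩ : ∃ x, x = tau ρ t := ⟨_, rfl⟩
    have FUF : F * U * F = F := hU ▸ hF ▸ tau_braid R hD hfD ht hft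
    have aUa : a * U * a = 0 :=
      hU ▸ ha ▸ comm_pair R hE hD he ht (symm_pair R hD hE ht he (ht1 ▸ hc))
    have aF : a * F = γ := by
      rw [aeq, add_mul, add_mul, FF, mul_assoc, FF, mul_zero, add_zero, add_zero, hγ]
    have aγ : a * γ = 0 := by
      rw [hγ, ← ZF, ← mul_assoc, aF, hγ, mul_assoc, ZF, ← mul_assoc, ZZ, zero_mul]
    have h1 : tau ρ t * γ = tau ρ t1 * γ := by
      rw [ht1, tau_conj' R hE he t, rho_eq R e, ← ha, ← hU, mul_assoc, add_mul 1 a γ, one_mul,
        aγ, add_zero, mul_assoc, add_mul, one_mul]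
      have : a * (U * γ) = 0 := by
        rw [← aF, ← mul_assoc U, ← mul_assoc a, ← mul_assoc a, aUa, zero_mul]
      rw [this, add_zero]
    have h2 := sep R hD ht ht1D hc heq h1
    apply hγ0
    calc γ = F * U * F * Z := by rw [FUF, ZF, hγ]
      _ = F * (U * γ) := by rw [mul_assoc, ZF, ← hγ, mul_assoc]
      _ = 0 := by rw [hU, h2, mul_zero]

/-- Some member of each class has the same image. -/
theorem exists_common : ∃ d ∈ D, ∃ e ∈ E, ρ d = ρ e := by
  by_contra hcon
  push Not at hcon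
  haveI : (threeRad G).Normal := threeRad_normal
  obtain ⟨d, hd, e, he, hP⟩ := exists_pair R hD hE
  obtain ⟨-, f, -, hperp, hnon⟩ := pair_core R hD hE hd he hP hcon
  have ee := Classes.sq (grp R hE) he
  have hsq : ∀ t ∈ D, (e * t) * (e * t) ∈ threeRad G := by
    intro t ht
    have small : Commute (ρ t) (ρ e) → (e * t) * (e * t) ∈ threeRad G := fun hc => by
      refine mem_threeRad_of_rho_one R ?_
      rw [map_mul, map_mul, hc.mul_mul_mul_comm, rho_sq R hE he, rho_sq R hD ht, one_mul]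
    by_cases hft : Commute f t
    · exact small (hperp t ht hft)
    by_cases hc : Commute t (e * t * e)
    · exact small (hnon t ht hft hc)
    exact (pair_core R hD hE ht he hc hcon).1
  obtain ⟨mk, hmk⟩ : ∃ m : G →* G ⧸ threeRad G, m = QuotientGroup.mk' _ := ⟨_, rfl⟩
  have hone : ∀ x, mk x = 1 ↔ x ∈ threeRad G := fun x => hmk ▸ QuotientGroup.eq_one_iff x
  have hcen : ∀ g, Commute (mk g) (mk e) := by
    intro g
    have hg : g ∈ Subgroup.closure D := (grp R hD).2.2 ▸ Subgroup.mem_top g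
    induction hg using Subgroup.closure_induction with
    | mem t ht =>
      refine ((Basic.sq_prod_eq_one_iff ?_ ?_).1 ?_).symm
      · rw [← map_mul, ee, map_one]
      · rw [← map_mul, Classes.sq (grp R hD) ht, map_one]
      · rw [pow_two, ← map_mul, ← map_mul, hone]; exact hsq t ht
    | one => rw [map_one]; exact Commute.one_left _
    | mul x y _ _ hx hy => rw [map_mul]; exact hx.mul_left hy
    | inv x _ hx => rw [map_inv]; exact hx.inv_left
  have hall : ∀ x ∈ E, e * x ∈ threeRad G := by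
    intro x hx
    obtain ⟨g, rfl⟩ := (Classes.of_class hE).2 e he x hx
    rw [← hone, map_mul, map_mul, map_mul, map_inv, (hcen g).eq, mul_inv_cancel_right, ← map_mul,
      ee, map_one]
  rcases closure_congr hE he hall d with h | h
  · exact not_mem_threeRad R hD hd h
  · obtain ⟨n, hn, hn1⟩ := threeRad_odd R (Subgroup.inv_mem _ h)
    rw [mul_inv_rev, Classes.inv (grp R hE) he, Classes.inv (grp R hD) hd, map_mul] at hn1
    exact no_odd R hD hE hd he (fun t ht => hcon t ht e he) hn hn1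

end Cfsg.Agent.ThreeTransp.Unique
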