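import Cfsg.Agent.Lib.ThreeTransp.UniqueBasic

/-!
The image of a class of 3-transpositions modulo its 2-core, and the 3-radical of that image.
-/

set_option autoImplicit false
set_option linter.unusedSectionVars false

namespace Cfsg.Agent.ThreeTransp.Unique

open Cfsg.Agent.ThreeTransp

variable {G : Type*} [Group G] {V : Type*} [AddCommGroup V]
variable {ρ : G →* AddMonoid.End V} {emb : V → G} (R : Rep ρ emb)
variable [Finite G] {D : Set G} (hD : Cfsg.IsThreeTranspositionClass D)

attribute [local instance] Cores.pCore_normal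

/-- Reduction modulo the 2-core. -/
abbrev red : G →* G ⧸ Cfsg.pCore 2 G := QuotientGroup.mk' _

/-- The preimage of the 3-core modulo the 2-core. -/
def threeRad (G : Type*) [Group G] [Finite G] : Subgroup G :=
  (Cfsg.pCore 3 (G ⧸ Cfsg.pCore 2 G)).comap (QuotientGroup.mk' (Cfsg.pCore 2 G))

instance threeRad_normal : (threeRad G).Normal := Subgroup.Normal.comap inferInstance _

include R

theorem red_eq_iff (x y : G) : red x = red y ↔ ρ x = ρ y :=
  QuotientGroup.eq.trans (rho_eq_iff R x y).symm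

theorem mem_threeRad_of_rho_one {x : G} (h : ρ x = 1) : x ∈ threeRad G := by
  show red x ∈ Cfsg.pCore 3 _
  rw [(red_eq_iff R x 1).2 (by rw [h, map_one]), map_one]
  exact one_mem _

theorem threeRad_odd {x : G} (hx : x ∈ threeRad G) : ∃ n : ℕ, Odd n ∧ ρ x ^ n = 1 := by
  obtain ⟨k, hk⟩ := Cores.pCore_isPGroup 3 (G := G ⧸ Cfsg.pCore 2 G) ⟨_, hx⟩
  have hk' : (red x) ^ 3 ^ k = 1 := congrArg Subtype.val hk
  refine ⟨3 ^ k, Odd.pow (by decide), ?_⟩
  rw [← map_pow, ← map_one ρ, ← red_eq_iff R, map_pow, hk', map_one]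

include hD

theorem rho_ne_one {d : G} (hd : d ∈ D) : ρ d ≠ 1 := fun h => tau_ne_zero R hD hd (by
  rw [tau, h, add_self R])

theorem not_mem_threeRad {d : G} (hd : d ∈ D) : d ∉ threeRad G := fun h => by
  obtain ⟨n, ⟨m, rfl⟩, hn⟩ := threeRad_odd R h
  rw [pow_succ, pow_mul, pow_two, rho_sq R hD hd, one_pow, one_mul] at hn
  exact rho_ne_one R hD hd hn

/-- The image is a class of 3-transpositions. -/
theorem red_grp : Cfsg.IsThreeTranspositionGroup (red '' D) := by
  have hG := grp R hD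
  refine ⟨⟨?_, ?_⟩, ?_, ?_⟩
  · rintro _ ⟨d, hd, rfl⟩
    haveI : Fact (Nat.Prime 2) := ⟨Nat.prime_two⟩
    refine orderOf_eq_prime ?_ fun h => rho_ne_one R hD hd ?_
    · rw [pow_two, ← map_mul, Classes.sq hG hd, map_one]
    · rw [← map_one (red (G := G)), red_eq_iff R] at h
      rw [h, map_one]
  · rintro _ ⟨d, hd, rfl⟩ _ ⟨e, he, rfl⟩
    rw [← map_mul, ← map_pow, ← map_pow]
    rcases hG.1.2 d hd e he with h | h <;> simp [h]
  · rintro q _ ⟨d, hd, rfl⟩
    obtain ⟨g, rfl⟩ := QuotientGroup.mk'_surjective _ q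
    exact ⟨g * d * g⁻¹, hG.2.1 g d hd, by rw [map_mul, map_mul, map_inv]⟩
  · rw [← MonoidHom.map_closure, hG.2.2,
      Subgroup.map_top_of_surjective _ (QuotientGroup.mk'_surjective _)]

/-- Equal punctured commuting sets in the image give a product in the 3-radical. -/
theorem mul_mem_threeRad {d f : G} (hd : d ∈ D) (hf : f ∈ D)
    (h : ∀ k ∈ D, (ρ k ≠ ρ d ∧ Commute d k) ↔ (ρ k ≠ ρ f ∧ Commute f k)) :
    d * f ∈ threeRad G := by
  show red (d * f) ∈ Cfsg.pCore 3 _
  rw [map_mul]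
  refine Classes.mul_mem_pCore_three (red_grp R hD) ⟨d, hd, rfl⟩ ⟨⟨f, hf, rfl⟩, ?_⟩
  rintro _ ⟨k, hk, rfl⟩
  have key : ∀ a ∈ D, Commute (red a) (red k) ↔ Commute a k := fun a ha =>
    ⟨fun hc => commute_lift R hD ha hk (by
      have h1 : red (a * k) = red (k * a) := by rw [map_mul, map_mul]; exact hc.eq
      rw [red_eq_iff R, map_mul, map_mul] at h1
      exact h1), fun hc => hc.map _⟩
  rw [key d hd, key f hf, ne_eq, ne_eq, red_eq_iff R, red_eq_iff R]
  exact h k hk

omit R in
/-- If every conjugate of `x` is congruent to `x` modulo `N`, a generated group is small. -/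
theorem closure_congr {N : Subgroup G} [N.Normal] {x : G} (hx : x ∈ D)
    (h : ∀ t ∈ D, x * t ∈ N) (g : G) : g ∈ N ∨ x * g ∈ N := by
  have hG := (Classes.of_class hD).1
  have hg : g ∈ Subgroup.closure D := hG.2.2 ▸ Subgroup.mem_top g
  refine Basic.closure_subset_of_left_stable (S := {g | g ∈ N ∨ x * g ∈ N})
    (fun t ht => Classes.sq hG ht) (Or.inl N.one_mem) ?_ hg
  intro t ht s hs
  rcases hs with hs | hs
  · right
    rw [← mul_assoc]
    exact N.mul_mem (h t ht) hs
  · left
    rw [show t * s = (t * x) * (x * s) by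
      rw [mul_assoc, ← mul_assoc x, Classes.sq hG hx, one_mul]]
    refine N.mul_mem ?_ hs
    have h2 := N.inv_mem (h t ht)
    rwa [mul_inv_rev, Classes.inv hG hx, Classes.inv hG ht] at h2

end Cfsg.Agent.ThreeTransp.Unique
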