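import Mathlib
import Cfsg.Agent.Lib.ThreeTransp.UnitaryPoints
import Cfsg.Agent.Lib.ThreeTransp.UnitaryClass

/-!
The neighbourhood of a point of the unitary space of dimension seven over the field with four
elements has odd index.
-/

set_option autoImplicit false
set_option linter.unusedSectionVars false

namespace Cfsg.Agent.ThreeTransp.UnitarySeven

open Matrix Cfsg.Agent.Classical.Unitary
open Cfsg.Agent.Forms
open Cfsg.Agent.GroupStructure3.ThreeTransUnitary
open Cfsg.Agent.ThreeTransp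

variable {F : Type*} [Field F] [Fintype F]

theorem H_embed (a b : Fin 5 → F) (a₅ b₅ a₆ b₆ : Fin 1 → F) :
    Cfsg.hermForm 7 F 2 (Fin.append (Fin.append a a₅) a₆) (Fin.append (Fin.append b b₅) b₆) =
      Cfsg.hermForm 5 F 2 a b + a₅ 0 * b₅ 0 ^ 2 + a₆ 0 * b₆ 0 ^ 2 := by
  rw [H_append (k := 6) (l := 1), H_append (k := 5) (l := 1)]
  simp [Cfsg.hermForm]

variable (hF : Fintype.card F = 2 ^ 2)
include hF

/-- The elements fixing the last two coordinates are in the neighbourhood of their sum. -/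
theorem emb_mem_near (s : Cfsg.SU 5 F 2) (v : Fin 7 → F)
    (hv : ∀ y : Fin 5 → F, Cfsg.hermForm 7 F 2 (Fin.append (Fin.append y (0 : Fin 1 → F)) (0 : Fin 1 → F)) v = 0) :
    emb (emb s) ∈ UnitaryPoints.near hF v := by
  suffices h : tvGroup F 2 5 ≤
      (UnitaryPoints.near hF v).comap ((emb (m := 6)).comp (emb (m := 5))) from
    h (by rw [tvGroup_eq_top hF (by omega) (by omega)]; exact Subgroup.mem_top s)
  refine (Subgroup.closure_le _).2 ?_
  rintro t ⟨w, c, hw, hc, ht⟩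
  show emb (emb t) ∈ UnitaryPoints.near hF v
  by_cases h0 : c = 0
  · have : emb (emb t) = 1 := by
      have : t = 1 := SU_ext fun x => by
        rw [ht, HermStd.transvection_mulVec, h0, zero_mul, zero_smul, add_zero, mat_one, one_mulVec]
      rw [this, map_one, map_one]
    rw [this]; exact one_mem _
  have hc1 : c = 1 := by
    have h1 : c * (1 + c) = 0 := by linear_combination hc
    linear_combination (mul_eq_zero.1 h1).resolve_left h0 - two_zero hF
  have hw7 : Cfsg.hermForm 7 F 2 (Fin.append (Fin.append w (0 : Fin 1 → F)) (0 : Fin 1 → F)) (Fin.append (Fin.append w (0 : Fin 1 → F)) (0 : Fin 1 → F))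
      = 0 := by
    rw [H_embed, hw]; simp
  refine Subgroup.subset_closure ⟨_, hw7, hv w, SU_ext fun x => ?_⟩
  rw [tr_mulVec, ← append_eta (m := 6) x, emb_mulVec,
    ← append_eta (m := 5) (fun i => x (Fin.castAdd 1 i)), emb_mulVec, ht,
    HermStd.transvection_mulVec, H_embed, hc1]
  simp only [Pi.zero_apply, one_mul, zero_pow two_ne_zero, mul_zero, add_zero]
  funext i
  induction i using Fin.addCases with
  | left i =>
    induction i using Fin.addCases with
    | left i => simp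
    | right j => simp
  | right j => simp

theorem near_conj {n : ℕ} (k : Cfsg.SU n F 2) {v : Fin n → F} {a : F} (ha : a ≠ 0)
    {v' : Fin n → F} (h : mat k *ᵥ v = a • v') :
    (UnitaryPoints.near hF v).map (MulAut.conj k).toMonoidHom = UnitaryPoints.near hF v' := by
  rw [UnitaryPoints.near, UnitaryPoints.near, MonoidHom.map_closure]
  congr 1
  ext g
  constructor
  · rintro ⟨_, ⟨w, hw, hwv, rfl⟩, rfl⟩
    have hkw : Cfsg.hermForm n F 2 (mat k *ᵥ w) (mat k *ᵥ w) = 0 := by rw [SU_H, hw]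
    refine ⟨mat k *ᵥ w, hkw, ?_, tr_conj hF k hw hkw rfl⟩
    have h1 := SU_H k w v
    rw [h, H_smul_right, hwv] at h1
    exact (mul_eq_zero.1 h1).resolve_left (pow_ne_zero _ ha)
  · rintro ⟨w, hw, hwv, rfl⟩
    have hkw : Cfsg.hermForm n F 2 (mat k⁻¹ *ᵥ w) (mat k⁻¹ *ᵥ w) = 0 := by rw [SU_H, hw]
    have hk : mat k *ᵥ (mat k⁻¹ *ᵥ w) = w := by
      rw [← mul_mulVec, mul_inv_cancel, mat_one, one_mulVec]
    refine ⟨tr hF hkw, ⟨_, hkw, ?_, rfl⟩, tr_conj hF k hkw hw hk⟩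
    rw [← SU_H k, hk, h, H_smul_right, hwv, mul_zero]

theorem exists_scalar {v : Fin 7 → F} (hv : v = Pi.single 5 1 + Pi.single 6 1) {a : F}
    (ha : a ≠ 0) : ∃ k : Cfsg.SU 7 F 2, mat k *ᵥ v = a • v := by
  refine ⟨suMk (Matrix.diagonal ![a, 1, 1, 1, 1, a, a]) ?_
    (diag_preserves hF _ fun i => by fin_cases i <;> simp [cube hF ha]), ?_⟩
  · rw [Matrix.det_diagonal]
    simp [Fin.prod_univ_succ]
    linear_combination cube hF ha
  · rw [suMk_mulVec, hv]
    funext i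
    rw [Matrix.mulVec_diagonal]
    fin_cases i <;> simp

theorem stab_le {v : Fin 7 → F} (hv : v = Pi.single 5 1 + Pi.single 6 1) (g : Cfsg.SU 7 F 2)
    (hg : mat g *ᵥ v = v) : g ∈ UnitaryPoints.near hF v := by
  obtain ⟨ω, h3, hω, hω0⟩ := UnitaryPoints.exists_omega hF
  obtain ⟨u, hu⟩ : ∃ u : Fin 7 → F, u = ω • Pi.single 5 1 + ω ^ 2 • Pi.single 6 1 := ⟨_, rfl⟩
  have h2 := two_zero hF
  have hvv : Cfsg.hermForm 7 F 2 v v = 0 := by
    rw [hv]
    simp [H_add_left, H_add_right hF, H_single_single hF]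
    linear_combination h2
  have huu : Cfsg.hermForm 7 F 2 u u = 0 := by
    rw [hu]
    simp [H_add_left, H_add_right hF, H_smul_left, H_smul_right, H_single_single hF]
    linear_combination (1 + (ω ^ 3 + 1)) * h3 + h2
  have huv : Cfsg.hermForm 7 F 2 u v = 1 := by
    rw [hu, hv]
    simp [H_add_left, H_add_right hF, H_smul_left, H_smul_right, H_single_single hF]
    linear_combination hω - h2
  obtain ⟨k, hk, hku⟩ := UnitaryPoints.near_transitive hF (by omega) hvv huu huv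
    (w := mat g *ᵥ u) (by rw [SU_H, huu]) (by
      have h := SU_H g u v
      rw [hg] at h
      rw [h, huv])
  obtain ⟨m, hm⟩ : ∃ m, m = k⁻¹ * g := ⟨_, rfl⟩
  have hmv : mat m *ᵥ v = v := by
    rw [hm, mul_mulVec, hg, inv_mulVec k (UnitaryPoints.near_fix hF hk)]
  have hmu : mat m *ᵥ u = u := by rw [hm, mul_mulVec, inv_mulVec k hku]
  have e5 : (Pi.single 5 1 : Fin 7 → F) = u + ω ^ 2 • v := by
    rw [hu, hv]
    match_scalars
    · linear_combination -hω + h2
    · linear_combination -(ω ^ 2) * h2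
  have e6 : (Pi.single 6 1 : Fin 7 → F) = v + Pi.single 5 1 := by
    rw [hv]
    linear_combination (norm := module) -(h2 • (Pi.single 5 1 : Fin 7 → F))
  have h5 : mat m *ᵥ (Pi.single 5 1 : Fin 7 → F) = Pi.single 5 1 := by
    rw [e5, Matrix.mulVec_add, Matrix.mulVec_smul, hmu, hmv]
  have h6 : mat m *ᵥ (Pi.single 6 1 : Fin 7 → F) = Pi.single 6 1 := by
    rw [e6, Matrix.mulVec_add, hmv, h5]
  obtain ⟨m', hm'⟩ := exists_emb_eq (m := 6) hF m (by
    rw [show (Fin.natAdd 6 (0 : Fin 1) : Fin 7) = 6 from rfl]; exact h6)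
  have e5' : (Pi.single 5 1 : Fin 7 → F) =
      Fin.append (Pi.single (Fin.natAdd 5 (0 : Fin 1)) 1 : Fin 6 → F) (0 : Fin 1 → F) := by
    funext i; fin_cases i <;> simp [Fin.append, Fin.addCases, Pi.single_apply, Fin.ext_iff]
  obtain ⟨s, hs⟩ := exists_emb_eq (m := 5) hF m' (by
    have := h5
    rw [e5', ← hm', emb_mulVec] at this
    funext i
    have hi := congrFun this (Fin.castAdd 1 i)
    rwa [Fin.append_left, Fin.append_left] at hi)
  have : g = k * m := by rw [hm, mul_inv_cancel_left]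
  rw [this, ← hm', ← hs]
  refine mul_mem hk (emb_mem_near hF s v fun y => ?_)
  rw [hv, H_add_right hF, H_single_right hF, H_single_right hF]
  simp [Fin.append, Fin.addCases]

theorem near_index {v : Fin 7 → F} (hv0 : v ≠ 0) (hv : Cfsg.hermForm 7 F 2 v v = 0) :
    Odd (UnitaryPoints.near hF v).index := by
  obtain ⟨v₀, hv₀⟩ : ∃ v₀ : Fin 7 → F, v₀ = Pi.single 5 1 + Pi.single 6 1 := ⟨_, rfl⟩
  have hv₀0 : v₀ ≠ 0 := fun e => by
    have h := congrFun e 5
    simp [hv₀] at h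
  have hvv₀ : Cfsg.hermForm 7 F 2 v₀ v₀ = 0 := by
    rw [hv₀]
    simp [H_add_left, H_add_right hF, H_single_single hF]
    linear_combination two_zero hF
  obtain ⟨k, a, hk⟩ := exists_su_point hF hv₀0 hv0 hvv₀ hv
  have ha : a ≠ 0 := by
    rintro rfl
    rw [zero_smul] at hk
    exact mat_mulVec_ne_zero k hv₀0 hk
  rw [← near_conj hF k ha hk]
  refine (congrArg Odd (Subgroup.index_map_equiv (UnitaryPoints.near hF v₀) (MulAut.conj k))).mpr ?_
  let : MulAction (Cfsg.SU 7 F 2) (Fin 7 → F) :=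
    { smul := fun g x => mat g *ᵥ x
      one_smul := fun x => by show mat 1 *ᵥ x = x; rw [mat_one, one_mulVec]
      mul_smul := fun g h x => mul_mulVec g h x }
  have hst : MulAction.stabilizer (Cfsg.SU 7 F 2) v₀ = UnitaryPoints.near hF v₀ := by
    ext g
    exact ⟨fun h => stab_le hF hv₀ g h, fun h => UnitaryPoints.near_fix hF h⟩
  have horb : MulAction.orbit (Cfsg.SU 7 F 2) v₀ =
      {x | x ≠ 0 ∧ Cfsg.hermForm 7 F 2 x x = 0} := by
    ext x
    constructor
    · rintro ⟨g, rfl⟩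
      exact ⟨mat_mulVec_ne_zero g hv₀0,
        show Cfsg.hermForm 7 F 2 (mat g *ᵥ v₀) (mat g *ᵥ v₀) = 0 by rw [SU_H, hvv₀]⟩
    · rintro ⟨hx0, hx⟩
      obtain ⟨g, b, hg⟩ := exists_su_point hF hv₀0 hx0 hvv₀ hx
      have hb : b ≠ 0 := by
        rintro rfl
        rw [zero_smul] at hg
        exact mat_mulVec_ne_zero g hv₀0 hg
      obtain ⟨c, hc⟩ := exists_scalar hF hv₀ (inv_ne_zero hb)
      refine ⟨g * c, ?_⟩
      show mat (g * c) *ᵥ v₀ = x
      rw [mul_mulVec, hc, Matrix.mulVec_smul, hg, inv_smul_smul₀ hb]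
  rw [← hst, MulAction.index_stabilizer, horb]
  have hcnt := Cfsg.Agent.Classical.UnitaryCount.cnt_zero_eq (n := 7) hF
  have hset : {x : Fin 7 → F | x ≠ 0 ∧ Cfsg.hermForm 7 F 2 x x = 0}.ncard + 1 =
      Cfsg.Agent.Classical.UnitaryCount.cnt F 2 7 0 := by
    have hins : {x : Fin 7 → F | Cfsg.hermForm 7 F 2 x x = 0} =
        insert 0 {x : Fin 7 → F | x ≠ 0 ∧ Cfsg.hermForm 7 F 2 x x = 0} := by
      ext x
      by_cases hx : x = 0
      · simp [hx, H_zero_left]
      · simp [hx]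
    rw [Cfsg.Agent.Classical.UnitaryCount.cnt, ← Set.coe_setOf, Nat.card_coe_set_eq, hins,
      Set.ncard_insert_of_notMem (by simp)]
  rw [hcnt] at hset
  rw [show {x : Fin 7 → F | x ≠ 0 ∧ Cfsg.hermForm 7 F 2 x x = 0}.ncard = 8127 by
    norm_num [Nat.even_iff] at hset ⊢; omega]
  decide

theorem bad_pairs : ∀ r, 2 ≤ r → 2 * r ≤ 7 → ∃ σ τ, UnitaryClass.BadPair hF 7 r σ τ := by
  intro r h2 h7
  obtain rfl | rfl : r = 2 ∨ r = 3 := by omega
  · exact ⟨Equiv.swap 0 1 * Equiv.swap 2 3, Equiv.swap 1 2 * Equiv.swap 3 4,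
      by decide, by decide, by decide, by decide, by decide, by decide,
      UnitaryClass.rank_perm hF _ !![1, 0; 1, 0; 0, 1; 0, 1; 0, 0; 0, 0; 0, 0]
        !![1, 0, 0, 0, 0, 0, 0; 0, 0, 1, 0, 0, 0, 0] (by decide) (by decide),
      UnitaryClass.rank_perm hF _ !![0, 0; 1, 0; 1, 0; 0, 1; 0, 1; 0, 0; 0, 0]
        !![0, 1, 0, 0, 0, 0, 0; 0, 0, 0, 1, 0, 0, 0] (by decide) (by decide)⟩
  · exact ⟨Equiv.swap 0 1 * Equiv.swap 2 3 * Equiv.swap 4 5,
      Equiv.swap 1 2 * Equiv.swap 3 4 * Equiv.swap 5 6,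
      by decide, by decide, by decide, by decide, by decide, by decide,
      UnitaryClass.rank_perm hF _
        !![1, 0, 0; 1, 0, 0; 0, 1, 0; 0, 1, 0; 0, 0, 1; 0, 0, 1; 0, 0, 0]
        !![1, 0, 0, 0, 0, 0, 0; 0, 0, 1, 0, 0, 0, 0; 0, 0, 0, 0, 1, 0, 0] (by decide) (by decide),
      UnitaryClass.rank_perm hF _
        !![0, 0, 0; 1, 0, 0; 1, 0, 0; 0, 1, 0; 0, 1, 0; 0, 0, 1; 0, 0, 1]
        !![0, 1, 0, 0, 0, 0, 0; 0, 0, 0, 1, 0, 0, 0; 0, 0, 0, 0, 0, 1, 0] (by decide) (by decide)⟩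

end Cfsg.Agent.ThreeTransp.UnitarySeven
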